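import Mathlib

/-!
# Adic completions versus inverse limits of a system of groups receiving maps from a module
-/
set_option autoImplicit false
universe u

namespace Groth.Agent.Lib.Helper1.FFAdic

theorem isAdicComplete_of_finite {A : Type u} [CommRing A] [IsNoetherianRing A] (I : Ideal A)
    [IsAdicComplete I A]
    (H : Type u) [AddCommGroup H] [Module A H] [Module.Finite A H] : IsAdicComplete I H := by
  have hH : IsHausdorff I H := by
    refine ⟨fun x hx => ?_⟩
    have h := Ideal.iInf_pow_smul_eq_bot_of_le_jacobson (M := H) I (IsAdicComplete.le_jacobson_bot I)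
    have : x ∈ (⨅ i : ℕ, I ^ i • ⊤ : Submodule A H) := by
      rw [Submodule.mem_iInf]; intro n
      have := hx n
      rwa [SModEq.zero] at this
    rw [h] at this
    exact (Submodule.mem_bot A).mp this
  have hP : IsPrecomplete I H := by
    rw [← AdicCompletion.of_surjective_iff]
    intro y
    obtain ⟨z, rfl⟩ := AdicCompletion.ofTensorProduct_surjective_of_finite I H y
    induction z using TensorProduct.induction_on with
    | zero => exact ⟨0, by simp⟩
    | tmul r m =>
      obtain ⟨a, rfl⟩ := AdicCompletion.of_surjective I A r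
      refine ⟨a • m, ?_⟩
      rw [AdicCompletion.ofTensorProduct_tmul, map_smul]
      apply AdicCompletion.ext
      intro n
      simp
      rfl
    | add z w hz hw =>
      obtain ⟨a, ha⟩ := hz; obtain ⟨b, hb⟩ := hw
      exact ⟨a + b, by rw [map_add, map_add, ha, hb]⟩
  exact { toIsHausdorff := hH, toIsPrecomplete := hP }

section Lim

variable {A : Type u} [CommRing A] (I : Ideal A) {H : Type u} [AddCommGroup H] [Module A H]
  {E : ℕ → Type u} [∀ n, AddCommGroup (E n)]
  (π : ∀ n, H →+ E n) (τ : ∀ n, E (n + 1) →+ E n)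
  (L : AddSubgroup (∀ n, E n))

/-- `π n` descends to `H / I^(n+1) H`. -/
def barπ (hc : ∀ n x, x ∈ (I ^ (n + 1) • ⊤ : Submodule A H) → π n x = 0) (n : ℕ) :
    (H ⧸ (I ^ (n + 1) • ⊤ : Submodule A H)) →+ E n :=
  QuotientAddGroup.lift (I ^ (n + 1) • ⊤ : Submodule A H).toAddSubgroup (π n)
    (fun x hx => AddMonoidHom.mem_ker.mpr (hc n x hx))

lemma barπ_mk (hc : ∀ n x, x ∈ (I ^ (n + 1) • ⊤ : Submodule A H) → π n x = 0) (n : ℕ) (x : H) :
    barπ I π hc n (Submodule.Quotient.mk x) = π n x := rfl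

/-- the comparison map from the adic completion to the limit. -/
def Φ (hπτ : ∀ n x, τ n (π (n + 1) x) = π n x)
    (hL : ∀ y, y ∈ L ↔ ∀ n, τ n (y (n + 1)) = y n)
    (hc : ∀ n x, x ∈ (I ^ (n + 1) • ⊤ : Submodule A H) → π n x = 0) :
    AdicCompletion I H →+ L where
  toFun z := ⟨fun n => barπ I π hc n (z.val (n + 1)), (hL _).mpr (fun n => by
    obtain ⟨w, hw⟩ := Submodule.Quotient.mk_surjective _ (z.val (n + 1 + 1))
    have h1 : z.val (n + 1) = Submodule.Quotient.mk w := by
      rw [← z.property (Nat.le_succ (n + 1)), ← hw]; rfl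
    rw [h1, ← hw, barπ_mk, barπ_mk, hπτ])⟩
  map_zero' := by
    apply Subtype.ext; funext n
    change barπ I π hc n ((0 : AdicCompletion I H).val (n + 1)) = 0
    rw [AdicCompletion.val_zero_apply, map_zero]
  map_add' z w := by
    apply Subtype.ext; funext n
    change barπ I π hc n ((z + w).val (n + 1)) =
      barπ I π hc n (z.val (n + 1)) + barπ I π hc n (w.val (n + 1))
    rw [AdicCompletion.val_add_apply, map_add]

lemma Φ_apply (hπτ : ∀ n x, τ n (π (n + 1) x) = π n x)
    (hL : ∀ y, y ∈ L ↔ ∀ n, τ n (y (n + 1)) = y n)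
    (hc : ∀ n x, x ∈ (I ^ (n + 1) • ⊤ : Submodule A H) → π n x = 0)
    (z : AdicCompletion I H) (n : ℕ) :
    (Φ I π τ L hπτ hL hc z).1 n = barπ I π hc n (z.val (n + 1)) := rfl

lemma Φ_of (hπτ : ∀ n x, τ n (π (n + 1) x) = π n x)
    (hL : ∀ y, y ∈ L ↔ ∀ n, τ n (y (n + 1)) = y n)
    (hc : ∀ n x, x ∈ (I ^ (n + 1) • ⊤ : Submodule A H) → π n x = 0) (x : H) (n : ℕ) :
    (Φ I π τ L hπτ hL hc (AdicCompletion.of I H x)).1 n = π n x := rfl

lemma down (hπτ : ∀ n x, τ n (π (n + 1) x) = π n x)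
    (y : ∀ n, E n) (hy : ∀ n, τ n (y (n + 1)) = y n) (n k : ℕ) (hnk : n ≤ k) (w : H)
    (hw : π k w = y k) : π n w = y n := by
  induction k, hnk using Nat.le_induction with
  | base => exact hw
  | succ k hk ih =>
    apply ih
    rw [← hπτ, hw, hy]

theorem Φ_bijective (hπτ : ∀ n x, τ n (π (n + 1) x) = π n x)
    (hL : ∀ y, y ∈ L ↔ ∀ n, τ n (y (n + 1)) = y n)
    (hc : ∀ n x, x ∈ (I ^ (n + 1) • ⊤ : Submodule A H) → π n x = 0)
    (c : ℕ) (ha : ∀ n, c ≤ n → ∀ x, π n x = 0 → x ∈ (I ^ (n - c) • ⊤ : Submodule A H))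
    (hb : ∀ y ∈ L, ∀ n, ∃ x, π n x = y n) :
    Function.Bijective (Φ I π τ L hπτ hL hc) := by
  constructor
  · rw [injective_iff_map_eq_zero]
    intro z hz
    apply AdicCompletion.ext
    intro m
    rw [AdicCompletion.val_zero_apply]
    have h0 : (Φ I π τ L hπτ hL hc z).1 (m + c) = 0 := by rw [hz]; rfl
    rw [Φ_apply] at h0
    obtain ⟨w, hw⟩ := Submodule.Quotient.mk_surjective _ (z.val (m + c + 1))
    rw [← hw, barπ_mk] at h0
    have h1 := ha (m + c) (by omega) w h0
    rw [Nat.add_sub_cancel] at h1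
    rw [← z.property (show m ≤ m + c + 1 by omega), ← hw]
    exact (Submodule.Quotient.mk_eq_zero _).mpr h1
  · intro y
    have hy := (hL y.1).mp y.2
    choose x hx using hb y.1 y.2
    have hdiff : ∀ m m', m ≤ m' → x (m' + c) - x (m + c) ∈ (I ^ m • ⊤ : Submodule A H) := by
      intro m m' hmm
      have h1 : π (m + c) (x (m' + c)) = y.1 (m + c) :=
        down π τ hπτ y.1 hy (m + c) (m' + c) (by omega) _ (hx _)
      have h2 : π (m + c) (x (m' + c) - x (m + c)) = 0 := by
        rw [map_sub, h1, hx, sub_self]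
      have h3 := ha (m + c) (by omega) _ h2
      rwa [Nat.add_sub_cancel] at h3
    let z : AdicCompletion I H := ⟨fun m => Submodule.Quotient.mk (x (m + c)), by
      intro m m' hmm
      change Submodule.Quotient.mk (x (m' + c)) = Submodule.Quotient.mk (x (m + c))
      rw [Submodule.Quotient.eq]
      exact hdiff m m' hmm⟩
    refine ⟨z, Subtype.ext (funext fun n => ?_)⟩
    rw [Φ_apply]
    change barπ I π hc n (Submodule.Quotient.mk (x (n + 1 + c))) = y.1 n
    rw [barπ_mk]
    exact down π τ hπτ y.1 hy n (n + 1 + c) (by omega) _ (hx _)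

/-- if `H` is adically complete, the canonical map to the limit is bijective. -/
theorem toLim_bijective [IsAdicComplete I H] (hπτ : ∀ n x, τ n (π (n + 1) x) = π n x)
    (hL : ∀ y, y ∈ L ↔ ∀ n, τ n (y (n + 1)) = y n)
    (hc : ∀ n x, x ∈ (I ^ (n + 1) • ⊤ : Submodule A H) → π n x = 0)
    (c : ℕ) (ha : ∀ n, c ≤ n → ∀ x, π n x = 0 → x ∈ (I ^ (n - c) • ⊤ : Submodule A H))
    (hb : ∀ y ∈ L, ∀ n, ∃ x, π n x = y n)
    (f : H →+ L) (hf : ∀ x n, (f x).1 n = π n x) : Function.Bijective f := by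
  have h1 := Φ_bijective I π τ L hπτ hL hc c ha hb
  have h2 := AdicCompletion.of_bijective I H
  have h3 : (f : H → L) = (Φ I π τ L hπτ hL hc) ∘ (AdicCompletion.of I H) := by
    funext x
    apply Subtype.ext; funext n
    rw [hf]; rfl
  rw [h3]
  exact h1.comp h2

end Lim

end Groth.Agent.Lib.Helper1.FFAdic
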