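import Mathlib
import Groth.Agent.Lib.Helper17.DevStep
import Groth.Agent.Lib.Helper17.DevNilp
import Groth.Agent.Lib.Helper17.DevTF
import Groth.Agent.Lib.Helper3.ModBasis
import Groth.Agent.Lib.Helper3.QCSec

/-!
# Artin–Rees for coherent modules: `J^n G` avoids the sections supported off an open `V`
-/

set_option autoImplicit false
set_option linter.style.haveILetI false
universe u
open CategoryTheory CategoryTheory.Limits AlgebraicGeometry Opposite TopologicalSpace

namespace Groth.Agent.Lib.Helper1.ARees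

open Groth.Agent.Lib.Helper3 Groth.Agent.Lib.Helper3.QCSec Groth.Agent.Lib.Helper17
  Groth.Agent.Lib.Helper17.DevBasic

variable {X : Scheme.{u}}

/-- a quasi-coherent module whose sections vanish on the members of an affine cover is zero. -/
theorem isZero_of_sections_cover (K : X.Modules) [K.IsQuasicoherent] {ι : Type*}
    (U : ι → X.Opens) (hU : ∀ i, IsAffineOpen (U i)) (hcov : ∀ x : X, ∃ i, x ∈ U i)
    (h : ∀ i (s : Γ(K, U i)), s = 0) : IsZero K := by
  apply ModBasis.isZero_of_zero_on_basis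
  intro W x hx
  obtain ⟨i, hi⟩ := hcov x
  obtain ⟨f, hfW, hxf⟩ := (hU i).exists_basicOpen_le (V := W) ⟨x, hx⟩ hi
  refine ⟨X.basicOpen f, hxf, hfW, fun t => ?_⟩
  have hloc := isLocSec_of_isQuasicoherent K (hU i) f (X.basicOpen f) rfl (X.basicOpen_le f)
  obtain ⟨n, s, hs⟩ := hloc.surj t
  rw [h i s, res_zero] at hs
  have hu : IsUnit (rres X (X.basicOpen_le f) f) :=
    RingedSpace.isUnit_res_basicOpen X.toRingedSpace f
  have hu' := hu.pow n
  obtain ⟨v, hv⟩ := hu'
  have : t = (↑v⁻¹ : Γ(X, X.basicOpen f)) • ((rres X (X.basicOpen_le f) f) ^ n • t) := by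
    rw [← hv, smul_smul, Units.inv_mul, one_smul]
  rw [this, ← hs, smul_zero]

/-- pure algebra: Artin–Rees kills a submodule annihilated by a power of the ideal. -/
theorem exists_pow_inf_eq_bot {A : Type*} [CommRing A] [IsNoetherianRing A] {M : Type*}
    [AddCommGroup M] [Module A M] [Module.Finite A M] (I : Ideal A) (N : Submodule A M) (m₀ : ℕ)
    (hN : ∀ a ∈ I ^ m₀, ∀ x ∈ N, a • x = 0) :
    ∃ k : ℕ, ∀ n : ℕ, k + m₀ ≤ n → (I ^ n • (⊤ : Submodule A M)) ⊓ N = ⊥ := by
  obtain ⟨k, hk⟩ := Ideal.exists_pow_inf_eq_pow_smul I N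
  refine ⟨k, fun n hn => ?_⟩
  rw [eq_bot_iff]
  have h1 : (I ^ n • (⊤ : Submodule A M)) ⊓ N ≤ I ^ (n - k) • N := by
    rw [hk n (by omega)]
    exact Submodule.smul_mono le_rfl inf_le_right
  refine h1.trans ?_
  have h2 : I ^ (n - k) ≤ I ^ m₀ := Ideal.pow_le_pow_right (by omega)
  refine (Submodule.smul_mono_left h2).trans ?_
  rw [Submodule.smul_le]
  intro a ha x hx
  rw [hN a ha x hx]
  exact Submodule.zero_mem _

section Main

variable [IsNoetherian X] (G : X.Modules) (V : X.Opens)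

/-- the vanishing ideal of the complement of `V`. -/
noncomputable def JV : X.IdealSheafData :=
  Scheme.IdealSheafData.vanishingIdeal ⟨(V : Set X)ᶜ, V.isOpen.isClosed_compl⟩

/-- the composite `J^n G → G → G/tors`. -/
noncomputable def cmp (n : ℕ) : kernel (DevStep.proj (JV V ^ n) G) ⟶ DevTF.tf V G :=
  kernel.ι (DevStep.proj (JV V ^ n) G) ≫ cokernel.π (kernel.ι (DevTF.un V G))

theorem sections_eq_zero (hG : Coh.IsCoh G) (m₀ : ℕ)
    (hm₀ : ClSub.KilledByIdeal (JV V ^ m₀) (DevTF.tors V G)) (U : X.affineOpens) :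
    ∃ k : ℕ, ∀ n : ℕ, k + m₀ ≤ n → ∀ s : Γ(kernel (cmp G V n), U.1), s = 0 := by
  haveI := hG.1
  haveI := hG.2
  haveI : IsNoetherianRing Γ(X, U.1) := IsLocallyNoetherian.component_noetherian U
  haveI : Module.Finite Γ(X, U.1) Γ(G, U.1) := QCProps.finite_sections G U.2
  set N : Submodule Γ(X, U.1) Γ(G, U.1) :=
    LinearMap.range (QCProps.appₗ (kernel.ι (DevTF.un V G)) U.1) with hN
  have hkill : ∀ a ∈ ((JV V).ideal U) ^ m₀, ∀ x ∈ N, a • x = 0 := by
    rintro a ha x ⟨τ, rfl⟩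
    rw [← map_smul]
    rw [killed_iff] at hm₀
    have : a • τ = 0 := hm₀ U a (by rw [Scheme.IdealSheafData.ideal_pow]; exact ha) τ
    rw [this, map_zero]
  obtain ⟨k, hk⟩ := exists_pow_inf_eq_bot ((JV V).ideal U) N m₀ hkill
  refine ⟨k, fun n hn s => ?_⟩
  apply QCExact.injective_sections (kernel.ι (cmp G V n)) U.1
  apply QCExact.injective_sections (kernel.ι (DevStep.proj (JV V ^ n) G)) U.1
  rw [map_zero, map_zero]
  set t := (kernel.ι (cmp G V n)).app U.1 s with ht
  set m := (kernel.ι (DevStep.proj (JV V ^ n) G)).app U.1 t with hm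
  have h1 : (DevStep.proj (JV V ^ n) G).app U.1 m = 0 := by
    have := congrArg (fun φ => (Scheme.Modules.Hom.app φ U.1).hom t)
      (kernel.condition (DevStep.proj (JV V ^ n) G))
    exact this
  have h1' : m ∈ ((JV V).ideal U) ^ n • (⊤ : Submodule Γ(X, U.1) Γ(G, U.1)) := by
    have := DevStep.mem_smul_top_of_proj_app_eq_zero (JV V ^ n) G U m h1
    rwa [Scheme.IdealSheafData.ideal_pow] at this
  have h2 : (cokernel.π (kernel.ι (DevTF.un V G))).app U.1 m = 0 := by
    have := congrArg (fun φ => (Scheme.Modules.Hom.app φ U.1).hom s)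
      (kernel.condition (cmp G V n))
    exact this
  obtain ⟨τ, hτ⟩ := QCExact.exact_sections _ (DevTF.shortExact_tf V G).exact U.1 m h2
  have h2' : m ∈ N := ⟨τ, hτ⟩
  have hmem : m ∈ (((JV V).ideal U) ^ n • (⊤ : Submodule Γ(X, U.1) Γ(G, U.1))) ⊓ N := ⟨h1', h2'⟩
  rw [hk n hn] at hmem
  exact (Submodule.mem_bot _).mp hmem

theorem support_tors_subset : CohB1.support (DevTF.tors V G) ⊆ (V : Set X)ᶜ :=
  fun x hx hxV => DevTF.notMem_support_tors V G x hxV hx

/-- **Artin–Rees**: for `n` large, `J^n G` meets the sections supported off `V` trivially. -/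
theorem exists_pow_mono (hG : Coh.IsCoh G) : ∃ n₀ : ℕ, ∀ n : ℕ, n₀ ≤ n → Mono (cmp G V n) := by
  haveI := hG.1
  haveI := hG.2
  have hT : Coh.IsCoh (DevTF.tors V G) := DevTF.isCoh_tors V G hG
  obtain ⟨m₀, hm₀⟩ := DevNilp.exists_pow_killed (DevTF.tors V G) hT
    ⟨(V : Set X)ᶜ, V.isOpen.isClosed_compl⟩ (support_tors_subset G V)
  obtain ⟨ι, hι, U, hU, -, hcov⟩ := QCSec.exists_finite_affine_cover (X := X) ⊤
    (by rw [Opens.coe_top]; exact isCompact_univ)
  letI := Fintype.ofFinite ι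
  choose k hk using fun i => sections_eq_zero G V hG m₀ hm₀ ⟨U i, hU i⟩
  refine ⟨(∑ i, k i) + m₀, fun n hn => ?_⟩
  haveI : (DevTF.tf V G).IsQuasicoherent := (DevTF.isCoh_tf V G hG).1
  haveI : (kernel (DevStep.proj (JV V ^ n) G)).IsQuasicoherent :=
    QCProps.isQuasicoherent_kernel _
  haveI : (kernel (cmp G V n)).IsQuasicoherent := QCProps.isQuasicoherent_kernel _
  have hz : IsZero (kernel (cmp G V n)) := by
    refine isZero_of_sections_cover _ U hU (fun x => ?_) (fun i s => ?_)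
    · have hx : x ∈ (⨆ i, U i : X.Opens) := hcov (Opens.mem_top x)
      obtain ⟨i, hi⟩ := Opens.mem_iSup.mp hx
      exact ⟨i, hi⟩
    · refine hk i n ?_ s
      have : k i ≤ ∑ i, k i := Finset.single_le_sum (fun _ _ => Nat.zero_le _) (Finset.mem_univ i)
      omega
  exact Preadditive.mono_of_kernel_zero (hz.eq_of_src _ _)

/-- packaged form: a coherent subsheaf `F' ⊆ G`, equal to `G` over `V`, mapping injectively to
`G/tors`. -/
theorem exists_sub_avoiding_tors (hG : Coh.IsCoh G) :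
    ∃ (F' : X.Modules) (ι : F' ⟶ G), Mono ι ∧ Coh.IsCoh F' ∧
      Mono (ι ≫ cokernel.π (kernel.ι (DevTF.un V G))) ∧
      CohB1.support (cokernel ι) ⊆ (V : Set X)ᶜ := by
  haveI := hG.1
  haveI := hG.2
  obtain ⟨n₀, hn₀⟩ := exists_pow_mono G V hG
  set n := n₀ + 1 with hn
  refine ⟨kernel (DevStep.proj (JV V ^ n) G), kernel.ι _, inferInstance,
    isCoh_kernel _ hG inferInstance, hn₀ n (by omega), ?_⟩
  let m : cokernel (kernel.ι (DevStep.proj (JV V ^ n) G)) ⟶ DevStep.quot (JV V ^ n) G :=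
    Abelian.factorThruCoimage (DevStep.proj (JV V ^ n) G)
  haveI : Mono m := inferInstanceAs (Mono (Abelian.factorThruCoimage _))
  refine (support_subset_of_mono m).trans ?_
  refine (SuppKill.support_subset_of_kill _ (JV V ^ n)
    ((killed_iff _ _).mp (DevStep.killed_quot (JV V ^ n) G))).trans ?_
  rw [Scheme.IdealSheafData.support_pow _ n (by omega), JV,
    Scheme.IdealSheafData.coe_support_vanishingIdeal]
  rfl

end Main

end Groth.Agent.Lib.Helper1.ARees
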