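import Mathlib

set_option linter.style.haveILetI false
set_option autoImplicit false

open KaehlerDifferential

namespace Groth.Agent.Lib.Helper1.DerLoc

variable {B B' : Type*} [CommRing B] [CommRing B'] (ρ : B →+* B') (g : B)
  {N : Type*} [AddCommGroup N] [Module B' N]

/-- Uniqueness of the extension of a derivation to a localization. -/
theorem ext_of_isLocalization (hloc : letI := ρ.toAlgebra; IsLocalization.Away g B')
    (δ₁ δ₂ : B' →+ N)
    (h₁ : ∀ x y, δ₁ (x * y) = x • δ₁ y + y • δ₁ x)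
    (h₂ : ∀ x y, δ₂ (x * y) = x • δ₂ y + y • δ₂ x)
    (h : ∀ b, δ₁ (ρ b) = δ₂ (ρ b)) : δ₁ = δ₂ := by
  letI := ρ.toAlgebra
  ext x
  obtain ⟨⟨b, ⟨_, n, rfl⟩⟩, hx⟩ := IsLocalization.surj (Submonoid.powers g) x
  have hu : IsUnit (ρ (g ^ n)) :=
    IsLocalization.map_units B' (⟨g ^ n, n, rfl⟩ : Submonoid.powers g)
  have e1 := h₁ x (ρ (g ^ n))
  have e2 := h₂ x (ρ (g ^ n))
  have hx' : x * ρ (g ^ n) = ρ b := hx
  rw [hx'] at e1 e2
  rw [h (g ^ n)] at e1
  rw [h b, e2] at e1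
  have : ρ (g ^ n) • δ₂ x = ρ (g ^ n) • δ₁ x := by
    simpa using e1
  obtain ⟨u, hu⟩ := hu
  rw [← hu] at this
  have := congrArg (fun z => (↑u⁻¹ : B') • z) this
  simp only [smul_smul, Units.inv_mul, one_smul] at this
  exact this.symm

theorem exists_of_isLocalization (hloc : letI := ρ.toAlgebra; IsLocalization.Away g B')
    (δ : B →+ N) (hδ : ∀ a b, δ (a * b) = ρ a • δ b + ρ b • δ a) :
    ∃ δ' : B' →+ N, (∀ x y, δ' (x * y) = x • δ' y + y • δ' x) ∧ ∀ b, δ' (ρ b) = δ b := by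
  letI := ρ.toAlgebra
  letI : Module B N := Module.compHom N ρ
  haveI : IsScalarTower B B' N := IsScalarTower.of_algebraMap_smul (fun r x => rfl)
  let D : Derivation ℤ B N := Derivation.mk' δ.toIntLinearMap (fun a b => by
    change δ (a * b) = ρ a • δ b + ρ b • δ a
    exact hδ a b)
  let l : Ω[B⁄ℤ] →ₗ[B] N := D.liftKaehlerDifferential
  haveI : IsLocalization (Submonoid.powers g) B' := hloc
  have hunit : ∀ x : Submonoid.powers g, IsUnit (algebraMap B (Module.End B N) x) := by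
    rintro ⟨_, n, rfl⟩
    rw [Module.End.isUnit_iff]
    have hu : IsUnit (ρ (g ^ n)) :=
      IsLocalization.map_units B' (⟨g ^ n, n, rfl⟩ : Submonoid.powers g)
    obtain ⟨u, hu⟩ := hu
    refine ⟨fun a b hab => ?_, fun a => ⟨(↑u⁻¹ : B') • a, ?_⟩⟩
    · change ρ (g ^ n) • a = ρ (g ^ n) • b at hab
      rw [← hu] at hab
      have := congrArg (fun z => (↑u⁻¹ : B') • z) hab
      simpa [smul_smul] using this
    · change ρ (g ^ n) • ((↑u⁻¹ : B') • a) = a
      rw [← hu, smul_smul, Units.mul_inv, one_smul]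
  let l₁ : Ω[B'⁄ℤ] →ₗ[B] N :=
    IsLocalizedModule.lift (Submonoid.powers g) (KaehlerDifferential.map ℤ ℤ B B') l hunit
  let l₂ : Ω[B'⁄ℤ] →ₗ[B'] N := LinearMap.extendScalarsOfIsLocalization (Submonoid.powers g) B' l₁
  let D' : Derivation ℤ B' N := l₂.compDer (KaehlerDifferential.D ℤ B')
  refine ⟨(D' : B' →ₗ[ℤ] N).toAddMonoidHom, fun x y => ?_, fun b => ?_⟩
  · change D' (x * y) = x • D' y + y • D' x
    exact D'.leibniz x y
  · change l₁ (KaehlerDifferential.D ℤ B' (algebraMap B B' b)) = δ b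
    rw [← KaehlerDifferential.map_D ℤ ℤ B B']
    have := IsLocalizedModule.lift_apply (Submonoid.powers g) (KaehlerDifferential.map ℤ ℤ B B') l hunit
      (KaehlerDifferential.D ℤ B b)
    rw [this]
    exact D.liftKaehlerDifferential_comp_D b

end Groth.Agent.Lib.Helper1.DerLoc
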