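import Mathlib
import Groth.Agent.Lib.Helper1.DerLoc
import Groth.Prelude.Def_Omega3

set_option linter.style.haveILetI false
set_option autoImplicit false
universe u
open CategoryTheory AlgebraicGeometry TopologicalSpace Opposite

namespace Groth.Agent.Lib.Helper1.DerAff

variable {X : Scheme.{u}} (F : X.Modules)

/-- restriction of sections of a module, as an additive map -/
noncomputable abbrev resM {W W' : X.Opens} (h : W' ≤ W) : Γ(F, W) →+ Γ(F, W') :=
  (F.presheaf.map (homOfLE h).op).hom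

/-- restriction of functions as ring hom -/
noncomputable abbrev resR (X : Scheme.{u}) {W W' : X.Opens} (h : W' ≤ W) : Γ(X, W) →+* Γ(X, W') :=
  (X.presheaf.map (homOfLE h).op).hom

theorem resM_smul {W W' : X.Opens} (h : W' ≤ W) (r : Γ(X, W)) (m : Γ(F, W)) :
    resM F h (r • m) = resR X h r • resM F h m :=
  Scheme.Modules.map_smul F (homOfLE h) r m

theorem resM_resM {W W' W'' : X.Opens} (h : W' ≤ W) (h' : W'' ≤ W') (m : Γ(F, W)) :
    resM F h' (resM F h m) = resM F (h'.trans h) m := by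
  change (F.presheaf.map (homOfLE h).op ≫ F.presheaf.map (homOfLE h').op) m = _
  rw [← Functor.map_comp]
  rfl

theorem resR_resR {W W' W'' : X.Opens} (h : W' ≤ W) (h' : W'' ≤ W') (m : Γ(X, W)) :
    resR X h' (resR X h m) = resR X (h'.trans h) m := by
  change (X.presheaf.map (homOfLE h).op ≫ X.presheaf.map (homOfLE h').op) m = _
  rw [← Functor.map_comp]
  rfl

theorem resM_refl {W : X.Opens} (m : Γ(F, W)) : resM F (le_refl W) m = m := by
  change (F.presheaf.map (𝟙 _)) m = m
  rw [F.presheaf.map_id]; rfl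

theorem resR_refl {W : X.Opens} (m : Γ(X, W)) : resR X (le_refl W) m = m := by
  change (X.presheaf.map (𝟙 _)) m = m
  rw [X.presheaf.map_id]; rfl

theorem resM_injective_of_le {W W' : X.Opens} (h : W' ≤ W) (h' : W ≤ W') :
    Function.Injective (resM F h) := by
  intro a b hab
  have := congrArg (resM F h') hab
  rwa [resM_resM, resM_resM, resM_refl, resM_refl] at this

/-- sections of a module agree if they agree on a family of opens covering. -/
theorem eq_of_forall_basicOpen [IsAffine X] {W : X.Opens} (a b : Γ(F, W))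
    (h : ∀ (g : Γ(X, ⊤)) (hg : X.basicOpen g ≤ W), resM F hg a = resM F hg b) : a = b := by
  let Fs : TopCat.Sheaf Ab X := ⟨F.presheaf, F.isSheaf⟩
  refine Fs.eq_of_locally_eq' (fun i : {g : Γ(X, ⊤) // X.basicOpen g ≤ W} => X.basicOpen i.1) W
    (fun i => homOfLE i.2) ?_ a b (fun i => h i.1 i.2)
  intro x hx
  obtain ⟨_, ⟨_, ⟨g, rfl⟩, rfl⟩, hxg, hgW⟩ := (isBasis_basicOpen X).exists_subset_of_mem_open hx W.isOpen
  exact Opens.mem_iSup.mpr ⟨⟨g, hgW⟩, hxg⟩

section Construction

variable [IsAffine X] (δ : Γ(X, ⊤) →+ Γ(F, ⊤)) (hδ : ∀ a b, δ (a * b) = a • δ b + b • δ a)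

theorem isLocalization_basicOpen_top (g : Γ(X, ⊤)) :
    letI := (resR X (X.basicOpen_le g)).toAlgebra
    IsLocalization.Away g Γ(X, X.basicOpen g) :=
  (isAffineOpen_top X).isLocalization_basicOpen g

include hδ in
theorem exists_loc (g : Γ(X, ⊤)) : ∃ δ' : Γ(X, X.basicOpen g) →+ Γ(F, X.basicOpen g),
    (∀ x y, δ' (x * y) = x • δ' y + y • δ' x) ∧
      ∀ b, δ' (resR X (X.basicOpen_le g) b) = resM F (X.basicOpen_le g) (δ b) :=
  DerLoc.exists_of_isLocalization (resR X (X.basicOpen_le g)) g (isLocalization_basicOpen_top g)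
    ((resM F (X.basicOpen_le g)).comp δ) (by
      intro a b
      simp only [AddMonoidHom.comp_apply, hδ, map_add, resM_smul])

/-- the localized derivation on a basic open -/
noncomputable def loc (g : Γ(X, ⊤)) : Γ(X, X.basicOpen g) →+ Γ(F, X.basicOpen g) :=
  Classical.choose (exists_loc F δ hδ g)

theorem loc_mul (g : Γ(X, ⊤)) (x y : Γ(X, X.basicOpen g)) :
    loc F δ hδ g (x * y) = x • loc F δ hδ g y + y • loc F δ hδ g x :=
  (Classical.choose_spec (exists_loc F δ hδ g)).1 x y

theorem loc_res (g : Γ(X, ⊤)) (b : Γ(X, ⊤)) :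
    loc F δ hδ g (resR X (X.basicOpen_le g) b) = resM F (X.basicOpen_le g) (δ b) :=
  (Classical.choose_spec (exists_loc F δ hδ g)).2 b

theorem loc_compat (g g' : Γ(X, ⊤)) (h : X.basicOpen g' ≤ X.basicOpen g) (s : Γ(X, X.basicOpen g)) :
    resM F h (loc F δ hδ g s) = loc F δ hδ g' (resR X h s) := by
  letI : Module Γ(X, X.basicOpen g) Γ(F, X.basicOpen g') := Module.compHom _ (resR X h)
  have key := DerLoc.ext_of_isLocalization (N := Γ(F, X.basicOpen g'))
    (resR X (X.basicOpen_le g)) g (isLocalization_basicOpen_top g)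
    ((resM F h).comp (loc F δ hδ g)) ((loc F δ hδ g').comp (resR X h).toAddMonoidHom)
    (by
      intro x y
      simp only [AddMonoidHom.comp_apply, loc_mul, map_add, resM_smul]
      rfl)
    (by
      intro x y
      simp only [AddMonoidHom.comp_apply, RingHom.toAddMonoidHom_eq_coe, AddMonoidHom.coe_coe,
        map_mul, loc_mul]
      rfl)
    (by
      intro b
      simp only [AddMonoidHom.comp_apply, RingHom.toAddMonoidHom_eq_coe, AddMonoidHom.coe_coe]
      rw [loc_res, resM_resM, resR_resR, loc_res])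
  exact DFunLike.congr_fun key s

theorem existsUnique_glue (W : X.Opens) (s : Γ(X, W)) :
    ∃! t : Γ(F, W), ∀ (g : Γ(X, ⊤)) (h : X.basicOpen g ≤ W),
      resM F h t = loc F δ hδ g (resR X h s) := by
  let Fs : TopCat.Sheaf Ab X := ⟨F.presheaf, F.isSheaf⟩
  have hcover : W ≤ ⨆ i : {g : Γ(X, ⊤) // X.basicOpen g ≤ W}, X.basicOpen i.1 := by
    intro x hx
    obtain ⟨_, ⟨_, ⟨g, rfl⟩, rfl⟩, hxg, hgW⟩ :=
      (isBasis_basicOpen X).exists_subset_of_mem_open hx W.isOpen
    exact Opens.mem_iSup.mpr ⟨⟨g, hgW⟩, hxg⟩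
  have hcompat : TopCat.Presheaf.IsCompatible Fs.1
      (fun i : {g : Γ(X, ⊤) // X.basicOpen g ≤ W} => X.basicOpen i.1)
      (fun i => loc F δ hδ i.1 (resR X i.2 s)) := by
    intro i j
    have hle : X.basicOpen (i.1 * j.1) ≤ X.basicOpen i.1 ⊓ X.basicOpen j.1 :=
      (X.basicOpen_mul i.1 j.1).le
    have hge : X.basicOpen i.1 ⊓ X.basicOpen j.1 ≤ X.basicOpen (i.1 * j.1) :=
      (X.basicOpen_mul i.1 j.1).ge
    apply resM_injective_of_le F hle hge
    change resM F hle (resM F inf_le_left _) = resM F hle (resM F inf_le_right _)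
    rw [resM_resM, resM_resM, loc_compat, loc_compat, resR_resR, resR_resR]
  obtain ⟨t, ht, htu⟩ := Fs.existsUnique_gluing' _ W (fun i => homOfLE i.2) hcover _ hcompat
  exact ⟨t, fun g h => ht ⟨g, h⟩, fun t' ht' => htu t' (fun i => ht' i.1 i.2)⟩

/-- the extended derivation on every open -/
noncomputable def ext (W : X.Opens) (s : Γ(X, W)) : Γ(F, W) :=
  (existsUnique_glue F δ hδ W s).choose

theorem ext_spec (W : X.Opens) (s : Γ(X, W)) (g : Γ(X, ⊤)) (h : X.basicOpen g ≤ W) :
    resM F h (ext F δ hδ W s) = loc F δ hδ g (resR X h s) :=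
  (existsUnique_glue F δ hδ W s).choose_spec.1 g h

theorem ext_unique (W : X.Opens) (s : Γ(X, W)) (t : Γ(F, W))
    (ht : ∀ (g : Γ(X, ⊤)) (h : X.basicOpen g ≤ W), resM F h t = loc F δ hδ g (resR X h s)) :
    t = ext F δ hδ W s :=
  (existsUnique_glue F δ hδ W s).choose_spec.2 t ht

theorem ext_add (W : X.Opens) (a b : Γ(X, W)) :
    ext F δ hδ W (a + b) = ext F δ hδ W a + ext F δ hδ W b := by
  symm
  apply ext_unique
  intro g h
  rw [map_add, ext_spec, ext_spec, map_add, map_add]

theorem ext_mul (W : X.Opens) (a b : Γ(X, W)) :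
    ext F δ hδ W (a * b) = a • ext F δ hδ W b + b • ext F δ hδ W a := by
  symm
  apply ext_unique
  intro g h
  rw [map_add, resM_smul, resM_smul, ext_spec, ext_spec, map_mul, loc_mul]

theorem ext_map {W W' : X.Opens} (e : W' ≤ W) (s : Γ(X, W)) :
    ext F δ hδ W' (resR X e s) = resM F e (ext F δ hδ W s) := by
  symm
  apply ext_unique
  intro g h
  rw [resM_resM, ext_spec, resR_resR]

theorem ext_top (b : Γ(X, ⊤)) : ext F δ hδ ⊤ b = δ b := by
  symm
  apply ext_unique
  intro g h
  exact (loc_res F δ hδ g b).symm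

theorem ext_basicOpen (g : Γ(X, ⊤)) (s : Γ(X, X.basicOpen g)) :
    ext F δ hδ (X.basicOpen g) s = loc F δ hδ g s := by
  have := ext_spec F δ hδ (X.basicOpen g) s g le_rfl
  rwa [resM_refl, resR_refl] at this

end Construction

section Der

variable {S : Scheme.{u}} (f : X ⟶ S)

/-- A derivation on an affine scheme is determined by its value on global sections. -/
theorem der_ext_of_app_top [IsAffine X] (D₁ D₂ : OmegaSh.Der f F) (h : D₁.app ⊤ = D₂.app ⊤) :
    D₁ = D₂ := by
  have key : ∀ (W : X.Opens) (s : Γ(X, W)), D₁.app W s = D₂.app W s := by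
    intro W s
    apply eq_of_forall_basicOpen
    intro g hg
    have e1 : resM F hg (D₁.app W s) = D₁.app (X.basicOpen g) (resR X hg s) :=
      (D₁.d_map (homOfLE hg).op s).symm
    have e2 : resM F hg (D₂.app W s) = D₂.app (X.basicOpen g) (resR X hg s) :=
      (D₂.d_map (homOfLE hg).op s).symm
    rw [e1, e2]
    have := DerLoc.ext_of_isLocalization (N := Γ(F, X.basicOpen g))
      (resR X (X.basicOpen_le g)) g (isLocalization_basicOpen_top g)
      (D₁.app (X.basicOpen g)) (D₂.app (X.basicOpen g))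
      (fun x y => D₁.d_mul x y) (fun x y => D₂.d_mul x y)
      (by
        intro b
        have e1 : D₁.app (X.basicOpen g) (resR X (X.basicOpen_le g) b) =
            resM F (X.basicOpen_le g) (D₁.app ⊤ b) := D₁.d_map (homOfLE (X.basicOpen_le g)).op b
        have e2 : D₂.app (X.basicOpen g) (resR X (X.basicOpen_le g) b) =
            resM F (X.basicOpen_le g) (D₂.app ⊤ b) := D₂.d_map (homOfLE (X.basicOpen_le g)).op b
        rw [e1, e2, h])
    exact DFunLike.congr_fun this _
  apply PresheafOfModules.Derivation.ext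
  funext U
  ext s
  exact key U.unop s

variable [IsAffine X] [IsAffine S] (δ : Γ(X, ⊤) →+ Γ(F, ⊤))
  (hδ : ∀ a b, δ (a * b) = a • δ b + b • δ a) (hδ0 : ∀ c : Γ(S, ⊤), δ (f.appTop c) = 0)

include hδ0 in
theorem ext_app (V : S.Opens) (c : Γ(S, V)) : ext F δ hδ (f ⁻¹ᵁ V) (f.app V c) = 0 := by
  let Fs : TopCat.Sheaf Ab X := ⟨F.presheaf, F.isSheaf⟩
  have hpre : ∀ a : Γ(S, ⊤), X.basicOpen (f.appTop a) = f ⁻¹ᵁ S.basicOpen a := fun a =>
    (Scheme.preimage_basicOpen f a).symm
  have hle : ∀ i : {a : Γ(S, ⊤) // S.basicOpen a ≤ V}, X.basicOpen (f.appTop i.1) ≤ f ⁻¹ᵁ V := by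
    intro i
    rw [hpre]
    exact f.preimage_mono i.2
  refine Fs.eq_of_locally_eq' (fun i : {a : Γ(S, ⊤) // S.basicOpen a ≤ V} =>
      X.basicOpen (f.appTop i.1)) (f ⁻¹ᵁ V) (fun i => homOfLE (hle i)) ?_ _ _ (fun i => ?_)
  · intro x hx
    obtain ⟨_, ⟨_, ⟨a, rfl⟩, rfl⟩, hxa, haV⟩ :=
      (isBasis_basicOpen S).exists_subset_of_mem_open (show f x ∈ V from hx) V.isOpen
    refine Opens.mem_iSup.mpr ⟨⟨a, haV⟩, ?_⟩
    change x ∈ X.basicOpen (f.appTop a)
    rw [hpre]
    exact hxa
  · obtain ⟨a, ha⟩ := i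
    change resM F (hle ⟨a, ha⟩) (ext F δ hδ (f ⁻¹ᵁ V) (f.app V c)) = resM F (hle ⟨a, ha⟩) 0
    rw [map_zero, ext_spec]
    -- the twisted derivation on `Γ(S, D(a))`
    have hle' : X.basicOpen (f.appTop a) ≤ f ⁻¹ᵁ S.basicOpen a := (hpre a).le
    let r : Γ(S, S.basicOpen a) →+* Γ(X, X.basicOpen (f.appTop a)) :=
      (f.appLE (S.basicOpen a) (X.basicOpen (f.appTop a)) hle').hom
    have hr : resR X (hle ⟨a, ha⟩) (f.app V c) = r (resR S ha c) := by
      change (f.app V ≫ X.presheaf.map (homOfLE (hle ⟨a, ha⟩)).op) c =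
        (S.presheaf.map (homOfLE ha).op ≫ f.appLE _ _ hle') c
      rw [Scheme.Hom.map_appLE]
      rfl
    rw [hr]
    letI : Module Γ(S, S.basicOpen a) Γ(F, X.basicOpen (f.appTop a)) := Module.compHom _ r
    have key := DerLoc.ext_of_isLocalization (N := Γ(F, X.basicOpen (f.appTop a)))
      (resR S (S.basicOpen_le a)) a ((isAffineOpen_top S).isLocalization_basicOpen a)
      ((loc F δ hδ (f.appTop a)).comp r.toAddMonoidHom) 0
      (by
        intro x y
        simp only [AddMonoidHom.comp_apply, RingHom.toAddMonoidHom_eq_coe, AddMonoidHom.coe_coe,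
          map_mul, loc_mul]
        rfl)
      (by intro x y; simp)
      (by
        intro b
        simp only [AddMonoidHom.comp_apply, RingHom.toAddMonoidHom_eq_coe, AddMonoidHom.coe_coe,
          AddMonoidHom.zero_apply]
        have : r (resR S (S.basicOpen_le a) b) =
            resR X (X.basicOpen_le (f.appTop a)) (f.appTop b) := by
          change (S.presheaf.map (homOfLE (S.basicOpen_le a)).op ≫ f.appLE _ _ hle') b =
            (f.app ⊤ ≫ X.presheaf.map (homOfLE (X.basicOpen_le (f.appTop a))).op) b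
          rw [Scheme.Hom.map_appLE]
          rfl
        rw [this, loc_res, hδ0, map_zero])
    exact DFunLike.congr_fun key _

/-- The derivation of sheaves extending a derivation of global sections on an affine scheme. -/
noncomputable def derOfGlobal : OmegaSh.Der f F where
  d {U} := AddMonoidHom.mk' (fun s => ext F δ hδ U.unop s) (ext_add F δ hδ U.unop)
  d_mul {U} a b := ext_mul F δ hδ U.unop a b
  d_map {_ _} i s := ext_map F δ hδ i.unop.le s
  d_app {V} c := ext_app F f δ hδ hδ0 V.unop c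

theorem derOfGlobal_app_top : (derOfGlobal F f δ hδ hδ0).app ⊤ = δ := by
  ext b
  exact ext_top F δ hδ b

end Der

end Groth.Agent.Lib.Helper1.DerAff
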