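import Mathlib
import Groth.Agent.Lib.Helper1.DerAff

set_option linter.style.haveILetI false
set_option autoImplicit false
universe u
open CategoryTheory AlgebraicGeometry TopologicalSpace Opposite

namespace Groth.Agent.Lib.Helper1.DerRes

variable {X' X Y : Scheme.{u}} (j : X' ⟶ X) (f : X ⟶ Y)

theorem pushforward_smul {G' : X'.Modules} (W : X.Opens) (r : Γ(X, W))
    (m : Γ((Scheme.Modules.pushforward j).obj G', W)) :
    r • m = (show Γ(G', j ⁻¹ᵁ W) from (j.app W r • (show Γ(G', j ⁻¹ᵁ W) from m))) := rfl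

/-- pushforward of a derivation -/
noncomputable def pushDer {G' : X'.Modules} (D' : OmegaSh.Der (j ≫ f) G') :
    OmegaSh.Der f ((Scheme.Modules.pushforward j).obj G') where
  d {W} := (D'.app (j ⁻¹ᵁ W.unop)).comp (j.app W.unop).hom.toAddMonoidHom
  d_mul {W} a b := by
    change D'.app (j ⁻¹ᵁ W.unop) (j.app W.unop (a * b)) = _
    rw [map_mul]
    exact D'.d_mul _ _
  d_map {W W'} i s := by
    change D'.app (j ⁻¹ᵁ W'.unop) (j.app W'.unop (X.presheaf.map i s)) =
      G'.presheaf.map ((Opens.map j.base).map i.unop).op (D'.app (j ⁻¹ᵁ W.unop) (j.app W.unop s))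
    have h1 : j.app W'.unop (X.presheaf.map i s) =
        X'.presheaf.map ((Opens.map j.base).map i.unop).op (j.app W.unop s) :=
      congr($(j.naturality i) s)
    rw [h1]
    exact D'.d_map ((Opens.map j.base).map i.unop).op _
  d_app {V} c := by
    change D'.app (j ⁻¹ᵁ (f ⁻¹ᵁ V.unop)) (j.app (f ⁻¹ᵁ V.unop) (f.app V.unop c)) = 0
    exact D'.d_app (X := V) c

theorem pushDer_app {G' : X'.Modules} (D' : OmegaSh.Der (j ≫ f) G') (W : X.Opens) (s : Γ(X, W)) :
    (pushDer j f D').app W s = D'.app (j ⁻¹ᵁ W) (j.app W s) := rfl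

section Restrict

variable [IsOpenImmersion j]

/-- restriction of a derivation along an open immersion -/
noncomputable def restrictDer {G : X.Modules} (D : OmegaSh.Der f G) :
    OmegaSh.Der (j ≫ f) (G.restrict j) where
  d {W'} := (D.app (j ''ᵁ W'.unop)).comp (j.appIso W'.unop).inv.hom.toAddMonoidHom
  d_mul {W'} a b := by
    change D.app (j ''ᵁ W'.unop) ((j.appIso W'.unop).inv (a * b)) = _
    rw [map_mul]
    exact D.d_mul _ _
  d_map {W W'} i s := by
    change D.app (j ''ᵁ W'.unop) ((j.appIso W'.unop).inv (X'.presheaf.map i s)) =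
      G.presheaf.map (j.opensFunctor.op.map i) (D.app (j ''ᵁ W.unop) ((j.appIso W.unop).inv s))
    have h1 : (j.appIso W'.unop).inv (X'.presheaf.map i s) =
        X.presheaf.map (j.opensFunctor.op.map i) ((j.appIso W.unop).inv s) :=
      congr($(j.appIso_inv_naturality i) s)
    rw [h1]
    exact D.d_map (j.opensFunctor.op.map i) _
  d_app {V} c := by
    change D.app (j ''ᵁ (j ⁻¹ᵁ (f ⁻¹ᵁ V.unop)))
      ((j.appIso (j ⁻¹ᵁ (f ⁻¹ᵁ V.unop))).inv (j.app (f ⁻¹ᵁ V.unop) (f.app V.unop c))) = 0
    have h1 : (j.appIso (j ⁻¹ᵁ (f ⁻¹ᵁ V.unop))).inv (j.app (f ⁻¹ᵁ V.unop) (f.app V.unop c)) =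
        X.presheaf.map (homOfLE (j.image_preimage_le (f ⁻¹ᵁ V.unop))).op
          (f.app V.unop c) :=
      congr($(j.app_appIso_inv (f ⁻¹ᵁ V.unop)) (f.app V.unop c))
    rw [h1]
    have h2 := D.d_map (homOfLE (j.image_preimage_le (f ⁻¹ᵁ V.unop))).op (f.app V.unop c)
    have h3 : D.d (X := op (f ⁻¹ᵁ V.unop)) (f.app V.unop c) = 0 := D.d_app (X := V) c
    rw [h3, map_zero] at h2
    exact h2

theorem restrictDer_app {G : X.Modules} (D : OmegaSh.Der f G) (W' : X'.Opens) (s : Γ(X', W')) :
    (restrictDer j f D).app W' s = D.app (j ''ᵁ W') ((j.appIso W').inv s) := rfl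

theorem pushDer_injective {G' : X'.Modules} (D₁ D₂ : OmegaSh.Der (j ≫ f) G')
    (h : pushDer j f D₁ = pushDer j f D₂) : D₁ = D₂ := by
  apply PresheafOfModules.Derivation.ext
  funext W'
  ext s'
  change D₁.app W'.unop s' = D₂.app W'.unop s'
  have key : ∀ D : OmegaSh.Der (j ≫ f) G',
      (pushDer j f D).app (j ''ᵁ W'.unop) ((j.appIso W'.unop).inv s') =
        G'.presheaf.map (eqToHom (j.preimage_image_eq W'.unop)).op (D.app W'.unop s') := by
    intro D
    rw [pushDer_app]
    have h1 : j.app (j ''ᵁ W'.unop) ((j.appIso W'.unop).inv s') =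
        X'.presheaf.map (eqToHom (j.preimage_image_eq W'.unop)).op s' :=
      congr($(j.appIso_inv_app W'.unop) s')
    rw [h1]
    exact D.d_map (eqToHom (j.preimage_image_eq W'.unop)).op s'
  have h2 := key D₁
  rw [h, key D₂] at h2
  have hinj : Function.Injective (G'.presheaf.map (eqToHom (j.preimage_image_eq W'.unop)).op) := by
    have : IsIso (G'.presheaf.map (eqToHom (j.preimage_image_eq W'.unop)).op) := inferInstance
    exact ((ConcreteCategory.isIso_iff_bijective _).mp this).1
  exact (hinj h2).symm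

theorem postcomp_homEquiv {Ω' : X.Modules} (d : OmegaSh.Der f Ω') {G' : X'.Modules}
    (α' : Ω'.restrict j ⟶ G') :
    d.postcomp (((Scheme.Modules.restrictAdjunction j).homEquiv Ω' G') α').val =
      pushDer j f ((restrictDer j f d).postcomp α'.val) := by
  apply PresheafOfModules.Derivation.ext
  funext W
  ext s
  rw [Adjunction.homEquiv_unit]
  change ((Scheme.Modules.pushforward j).map α').app W.unop
      (((Scheme.Modules.restrictAdjunction j).unit.app Ω').app W.unop (d.app W.unop s)) =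
    α'.app (j ⁻¹ᵁ W.unop) (d.app (j ''ᵁ (j ⁻¹ᵁ W.unop))
      ((j.appIso (j ⁻¹ᵁ W.unop)).inv (j.app W.unop s)))
  rw [Scheme.Modules.restrictAdjunction_unit_app_app, Scheme.Modules.pushforward_map_app]
  have h1 : (j.appIso (j ⁻¹ᵁ W.unop)).inv (j.app W.unop s) =
      X.presheaf.map (homOfLE (j.image_preimage_le W.unop)).op s :=
    congr($(j.app_appIso_inv W.unop) s)
  rw [h1]
  have h2 := d.d_map (homOfLE (j.image_preimage_le W.unop)).op s
  congr 1
  exact h2.symm

theorem isUniversal_restrictDer {Ω' : X.Modules} (d : OmegaSh.Der f Ω')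
    (hd : OmegaSh.IsUniversal d) : OmegaSh.IsUniversal (restrictDer j f d) := by
  intro G' D'
  obtain ⟨α, hα, hαu⟩ := hd _ (pushDer j f D')
  let e := (Scheme.Modules.restrictAdjunction j).homEquiv Ω' G'
  refine ⟨e.symm α, ?_, ?_⟩
  · apply pushDer_injective j f
    rw [← postcomp_homEquiv, Equiv.apply_symm_apply]
    exact hα
  · intro β' hβ'
    have : e β' = α := by
      apply hαu
      rw [postcomp_homEquiv, hβ']
    rw [← this, Equiv.symm_apply_apply]

end Restrict

end Groth.Agent.Lib.Helper1.DerRes
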