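import Mathlib
import Groth.Agent.Lib.Helper1.DerRes

set_option linter.style.haveILetI false
set_option autoImplicit false
universe u
open CategoryTheory AlgebraicGeometry TopologicalSpace Opposite

namespace Groth.Agent.Lib.Helper1.DerBase

variable {X V Y : Scheme.{u}} (g : X ⟶ V) (h : V ⟶ Y) {G : X.Modules}

/-- a `V`-derivation is a `Y`-derivation -/
noncomputable def compRight (D : OmegaSh.Der g G) : OmegaSh.Der (g ≫ h) G where
  d {W} := D.d (X := W)
  d_mul a b := D.d_mul a b
  d_map i s := D.d_map i s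
  d_app {W} c := by
    change D.d (X := op (g ⁻¹ᵁ (h ⁻¹ᵁ W.unop))) (g.app (h ⁻¹ᵁ W.unop) (h.app W.unop c)) = 0
    exact D.d_app (X := op (h ⁻¹ᵁ W.unop)) (h.app W.unop c)

theorem compRight_app (D : OmegaSh.Der g G) (W : X.Opens) (s : Γ(X, W)) :
    (compRight g h D).app W s = D.app W s := rfl

/-- a `Y`-derivation is a `V`-derivation if `V ⟶ Y` is an open immersion -/
noncomputable def ofComp [IsOpenImmersion h] (D : OmegaSh.Der (g ≫ h) G) : OmegaSh.Der g G where
  d {W} := D.d (X := W)
  d_mul a b := D.d_mul a b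
  d_map i s := D.d_map i s
  d_app {W} c := by
    have h0 : D.d (X := op (g ⁻¹ᵁ (h ⁻¹ᵁ (h ''ᵁ W.unop))))
        (g.app (h ⁻¹ᵁ (h ''ᵁ W.unop)) (h.app (h ''ᵁ W.unop) ((h.appIso W.unop).inv c))) = 0 :=
      D.d_app (X := op (h ''ᵁ W.unop)) ((h.appIso W.unop).inv c)
    have h1 : h.app (h ''ᵁ W.unop) ((h.appIso W.unop).inv c) =
        V.presheaf.map (eqToHom (h.preimage_image_eq W.unop)).op c :=
      congr($(h.appIso_inv_app W.unop) c)
    have hle : g ⁻¹ᵁ (h ⁻¹ᵁ (h ''ᵁ W.unop)) = g ⁻¹ᵁ W.unop := by rw [h.preimage_image_eq]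
    have h2 : g.app (h ⁻¹ᵁ (h ''ᵁ W.unop)) (V.presheaf.map (eqToHom (h.preimage_image_eq W.unop)).op c) =
        X.presheaf.map (eqToHom hle).op (g.app W.unop c) :=
      congr($(g.naturality (eqToHom (h.preimage_image_eq W.unop)).op) c)
    rw [h1, h2] at h0
    have h3 := D.d_map (eqToHom hle).op (g.app W.unop c)
    rw [h3] at h0
    have hinj : Function.Injective (G.val.map (eqToHom hle).op) := by
      have : IsIso (G.presheaf.map (eqToHom hle).op) := inferInstance
      exact ((ConcreteCategory.isIso_iff_bijective (G.presheaf.map (eqToHom hle).op)).mp this).1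
    apply hinj
    exact h0.trans (map_zero _).symm

theorem ofComp_app [IsOpenImmersion h] (D : OmegaSh.Der (g ≫ h) G) (W : X.Opens) (s : Γ(X, W)) :
    (ofComp g h D).app W s = D.app W s := rfl

theorem isUniversal_ofComp [IsOpenImmersion h] {Ω' : X.Modules} (d : OmegaSh.Der (g ≫ h) Ω')
    (hd : OmegaSh.IsUniversal d) : OmegaSh.IsUniversal (ofComp g h d) := by
  intro G D
  obtain ⟨α, hα, hαu⟩ := hd G (compRight g h D)
  refine ⟨α, ?_, ?_⟩
  · apply PresheafOfModules.Derivation.ext
    funext W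
    ext s
    exact congr($(PresheafOfModules.Derivation.congr_d hα (X := W) s))
  · intro β hβ
    apply hαu
    apply PresheafOfModules.Derivation.ext
    funext W
    ext s
    exact congr($(PresheafOfModules.Derivation.congr_d hβ (X := W) s))

/-- transport along an equality of morphisms -/
noncomputable def congr {f f' : X ⟶ Y} (e : f = f') (D : OmegaSh.Der f G) : OmegaSh.Der f' G :=
  e ▸ D

theorem congr_app {f f' : X ⟶ Y} (e : f = f') (D : OmegaSh.Der f G) (W : X.Opens) (s : Γ(X, W)) :
    (congr e D).app W s = D.app W s := by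
  subst e; rfl

theorem isUniversal_congr {f f' : X ⟶ Y} (e : f = f') {Ω' : X.Modules} (d : OmegaSh.Der f Ω')
    (hd : OmegaSh.IsUniversal d) : OmegaSh.IsUniversal (congr e d) := by
  subst e; exact hd

end Groth.Agent.Lib.Helper1.DerBase
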