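import Mathlib
import Groth.Agent.Lib.Helper1.DerBase

set_option linter.style.haveILetI false
set_option autoImplicit false
universe u
open CategoryTheory AlgebraicGeometry TopologicalSpace Opposite

namespace Groth.Agent.Lib.Helper1.DerSpec

open Groth.Agent.Lib.Helper1.DerAff

variable {B : CommRingCat.{u}}

theorem smul_top (G : (Spec B).Modules) (b : B) (x : Γ(G, ⊤)) :
    b • x = ((Scheme.ΓSpecIso B).inv b) • x := by
  rw [Scheme.Modules.smul_Spec_def]
  congr 1

/-- `M → Γ(tilde M, ⊤)` as an additive map into the sections -/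
noncomputable def toTop (N : ModuleCat.{u} B) : N →+ Γ(tilde N, ⊤) :=
  (tilde.toOpen N ⊤).hom.toAddMonoidHom

theorem toTop_smul (N : ModuleCat.{u} B) (r : B) (m : N) :
    toTop N (r • m) = ((Scheme.ΓSpecIso B).inv r) • toTop N m := by
  rw [← smul_top]
  exact (tilde.toOpen N ⊤).hom.map_smul r m

variable {A : CommRingCat.{u}} (φ : A ⟶ B)

/-- the module of differentials -/
noncomputable abbrev M : ModuleCat.{u} B := CommRingCat.KaehlerDifferential φ

theorem kd_add (a b : B) : CommRingCat.KaehlerDifferential.d (f := φ) (a + b) =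
    CommRingCat.KaehlerDifferential.d (f := φ) a + CommRingCat.KaehlerDifferential.d (f := φ) b :=
  (CommRingCat.KaehlerDifferential.D φ).d_add a b

theorem kd_mul (a b : B) : CommRingCat.KaehlerDifferential.d (f := φ) (a * b) =
    a • CommRingCat.KaehlerDifferential.d (f := φ) b +
      b • CommRingCat.KaehlerDifferential.d (f := φ) a :=
  (CommRingCat.KaehlerDifferential.D φ).d_mul a b

theorem kd_map (a : A) : CommRingCat.KaehlerDifferential.d (f := φ) (φ a) = 0 :=
  (CommRingCat.KaehlerDifferential.D φ).d_map a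

/-- the global derivation into `Γ(tilde Ω, ⊤)` -/
noncomputable def δ : Γ(Spec B, ⊤) →+ Γ(tilde (M φ), ⊤) :=
  AddMonoidHom.mk' (fun s => toTop (M φ)
    (CommRingCat.KaehlerDifferential.d (f := φ) ((Scheme.ΓSpecIso B).hom s)))
    (by intro a b; rw [map_add, kd_add, map_add])

theorem δ_apply (s : Γ(Spec B, ⊤)) : δ φ s = toTop (M φ)
    (CommRingCat.KaehlerDifferential.d (f := φ) ((Scheme.ΓSpecIso B).hom s)) := rfl

theorem δ_mul (a b : Γ(Spec B, ⊤)) : δ φ (a * b) = a • δ φ b + b • δ φ a := by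
  simp only [δ_apply, map_mul, kd_mul, map_add, toTop_smul]
  simp

theorem δ_app (c : Γ(Spec A, ⊤)) : δ φ ((Spec.map φ).appTop c) = 0 := by
  rw [δ_apply]
  have : (Scheme.ΓSpecIso B).hom ((Spec.map φ).appTop c) = φ ((Scheme.ΓSpecIso A).hom c) :=
    congr($(Scheme.ΓSpecIso_naturality φ) c)
  rw [this, kd_map, map_zero]

/-- the universal derivation of `Spec B ⟶ Spec A` -/
noncomputable def dTilde : OmegaSh.Der (Spec.map φ) (tilde (M φ)) :=
  derOfGlobal (tilde (M φ)) (Spec.map φ) (δ φ) (δ_mul φ) (δ_app φ)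

theorem dTilde_app_top (s : Γ(Spec B, ⊤)) : (dTilde φ).app ⊤ s = δ φ s := by
  rw [dTilde, derOfGlobal_app_top]

/-- the derivation of `B` induced by a sheaf derivation -/
noncomputable def globalDer (G : (Spec B).Modules) (D : OmegaSh.Der (Spec.map φ) G) :
    (moduleSpecΓFunctor.obj G).Derivation φ :=
  ModuleCat.Derivation.mk (M := moduleSpecΓFunctor.obj G)
    (fun b => (D.app ⊤ ((Scheme.ΓSpecIso B).inv b) : Γ(G, ⊤)))
    (by intro b b'; exact (congrArg (D.app ⊤) (map_add _ b b')).trans (map_add _ _ _))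
    (by
      intro b b'
      have := D.d_mul (X := op ⊤) ((Scheme.ΓSpecIso B).inv b) ((Scheme.ΓSpecIso B).inv b')
      refine ((congrArg (D.app ⊤) (map_mul _ b b')).trans this).trans ?_
      exact congrArg₂ (· + ·) (smul_top G b _).symm (smul_top G b' _).symm)
    (by
      intro a
      have h1 : (Scheme.ΓSpecIso B).inv (φ a) = (Spec.map φ).appTop ((Scheme.ΓSpecIso A).inv a) :=
        congr($(Scheme.ΓSpecIso_inv_naturality φ) a)
      rw [h1]
      exact D.d_app (X := op ⊤) ((Scheme.ΓSpecIso A).inv a))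

theorem globalDer_d (G : (Spec B).Modules) (D : OmegaSh.Der (Spec.map φ) G) (b : B) :
    (globalDer φ G D).d b = D.app ⊤ ((Scheme.ΓSpecIso B).inv b) := rfl

theorem homEquiv_apply (N : ModuleCat.{u} B) (G : (Spec B).Modules) (α : tilde N ⟶ G) (m : N) :
    ((tilde.adjunction.homEquiv N G) α) m = α.app ⊤ (toTop N m) := by
  have := Adjunction.homEquiv_unit tilde.adjunction (X := N) (Y := G) (f := α)
  exact congr($this m)

theorem postcomp_eq_iff (G : (Spec B).Modules) (D : OmegaSh.Der (Spec.map φ) G)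
    (α : tilde (M φ) ⟶ G) :
    (dTilde φ).postcomp α.val = D ↔
      (tilde.adjunction.homEquiv (M φ) G) α = (globalDer φ G D).desc := by
  constructor
  · intro h
    apply CommRingCat.KaehlerDifferential.ext
    intro b
    rw [ModuleCat.Derivation.desc_d, globalDer_d, homEquiv_apply, ← h]
    change α.app ⊤ _ = α.app ⊤ ((dTilde φ).app ⊤ ((Scheme.ΓSpecIso B).inv b))
    rw [dTilde_app_top, δ_apply]
    congr 3
    exact (congr($((Scheme.ΓSpecIso B).inv_hom_id) b)).symm
  · intro h
    apply der_ext_of_app_top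
    ext s
    change α.app ⊤ ((dTilde φ).app ⊤ s) = D.app ⊤ s
    rw [dTilde_app_top, δ_apply, ← homEquiv_apply, h, ModuleCat.Derivation.desc_d, globalDer_d]
    congr 1
    exact congr($((Scheme.ΓSpecIso B).hom_inv_id) s)

theorem isUniversal_dTilde : OmegaSh.IsUniversal (dTilde φ) := by
  intro G D
  let e := tilde.adjunction.homEquiv (M φ) G
  refine ⟨e.symm (globalDer φ G D).desc, ?_, ?_⟩
  · exact (postcomp_eq_iff φ G D _).mpr (Equiv.apply_symm_apply e _)
  · intro β hβ
    have h2 := (postcomp_eq_iff φ G D β).mp hβ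
    exact (Equiv.symm_apply_apply e β).symm.trans (congrArg e.symm h2)

end Groth.Agent.Lib.Helper1.DerSpec
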