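import Mathlib
import Groth.Prelude.Def_Omega4
import Groth.Agent.Lib.Helper17.PbStalk
import Groth.Agent.Lib.Helper1.DerSpec

set_option linter.style.haveILetI false
set_option autoImplicit false
universe u
open CategoryTheory AlgebraicGeometry TopologicalSpace Opposite

namespace Groth.Agent.Lib.Helper1.PbSect

variable {R : CommRingCat.{u}}

theorem Γmap_apply {G G' : (Spec R).Modules} (α : G ⟶ G') (x : Γ(G, ⊤)) :
    (moduleSpecΓFunctor.map α).hom x = α.app ⊤ x := rfl

/-- Global sections is fully faithful on quasi-coherent sources. -/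
theorem Γmap_bijective (G G' : (Spec R).Modules) [G.IsQuasicoherent] :
    Function.Bijective (fun α : G ⟶ G' => moduleSpecΓFunctor.map α) := by
  have hiso : IsIso G.fromTildeΓ := inferInstance
  let c : (tilde.functor R).obj (moduleSpecΓFunctor.obj G) ⟶ G := G.fromTildeΓ
  have hc : IsIso c := hiso
  have key : ∀ α : G ⟶ G', moduleSpecΓFunctor.map α =
      tilde.adjunction.homEquiv (moduleSpecΓFunctor.obj G) G' (c ≫ α) := by
    intro α
    refine Eq.trans ?_ (Adjunction.homEquiv_unit tilde.adjunction _ _ _).symm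
    rw [Functor.map_comp]
    have := tilde.adjunction.right_triangle_components G
    exact ((Category.id_comp _).symm.trans (congrArg (· ≫ moduleSpecΓFunctor.map α) this.symm)).trans
      (Category.assoc _ _ _)
  have : (fun α : G ⟶ G' => moduleSpecΓFunctor.map α) =
      (tilde.adjunction.homEquiv (moduleSpecΓFunctor.obj G) G') ∘ (fun α => c ≫ α) := funext key
  rw [this]
  refine (Equiv.bijective _).comp ?_
  exact ⟨fun a b h => (cancel_epi c).mp h, fun b => ⟨inv c ≫ b, by simp⟩⟩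

theorem map_map_any {Z : Scheme.{u}} (M : Z.Modules) {A B C : Z.Opensᵒᵖ} (a : A ⟶ B) (b : B ⟶ C)
    (c : A ⟶ C) (y : M.presheaf.obj A) :
    M.presheaf.map b (M.presheaf.map a y) = M.presheaf.map c y := by
  rw [← ConcreteCategory.comp_apply, ← Functor.map_comp]
  rfl

theorem pushforward_smul {X' Y' : Scheme.{u}} (h : Y' ⟶ X') (G : Y'.Modules) (W : X'.Opens)
    (r : Γ(X', W)) (x : Γ((Scheme.Modules.pushforward h).obj G, W)) :
    r • x = (show Γ(G, h ⁻¹ᵁ W) from (h.app W r) • (show Γ(G, h ⁻¹ᵁ W) from x)) := rfl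

variable {X Y : Scheme.{u}} (f : Y ⟶ X) (F : X.Modules)
  {U : X.Opens} (hU : IsAffineOpen U) {V : Y.Opens} (hV : IsAffineOpen V) (e : V ≤ f ⁻¹ᵁ U)

noncomputable def pushIso :
    Scheme.Modules.pushforward hV.fromSpec ⋙ Scheme.Modules.pushforward f ≅
    Scheme.Modules.pushforward (Spec.map (f.appLE U V e)) ⋙
      Scheme.Modules.pushforward hU.fromSpec :=
  Scheme.Modules.pushforwardComp _ _ ≪≫
    Scheme.Modules.pushforwardCongr (hU.SpecMap_appLE_fromSpec f hV e).symm ≪≫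
   (Scheme.Modules.pushforwardComp _ _).symm

include hU hV in
theorem preimage_eq (W : X.Opens) :
    (Spec.map (f.appLE U V e)) ⁻¹ᵁ (hU.fromSpec ⁻¹ᵁ W) = hV.fromSpec ⁻¹ᵁ (f ⁻¹ᵁ W) := by
  rw [← Scheme.Hom.comp_preimage, ← Scheme.Hom.comp_preimage,
        hU.SpecMap_appLE_fromSpec f hV e]

theorem pushIso_hom_app_app (T : (Spec Γ(Y, V)).Modules) (W : X.Opens) :
    (((pushIso f hU hV e).hom.app T).app W) =
      T.presheaf.map (eqToHom (preimage_eq f hU hV e W)).op := by
  rfl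

noncomputable def Φ (T : (Spec Γ(Y, V)).Modules) :
    (((Scheme.Modules.pullback f).obj F).restrict hV.fromSpec ⟶ T) ≃
    (F.restrict hU.fromSpec ⟶ (Scheme.Modules.pushforward (Spec.map (f.appLE U V e))).obj T) :=
  ((Scheme.Modules.restrictAdjunction hV.fromSpec).homEquiv _ _).trans <|
  ((Scheme.Modules.pullbackPushforwardAdjunction f).homEquiv _ _).trans <|
  (((pushIso f hU hV e).app T).homToEquiv).trans <|
  ((Scheme.Modules.restrictAdjunction hU.fromSpec).homEquiv _ _).symm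


include hU hV in
theorem preimage_eq' (W : (Spec Γ(X, U)).Opens) :
    hV.fromSpec ⁻¹ᵁ (f ⁻¹ᵁ (hU.fromSpec ''ᵁ W)) = (Spec.map (f.appLE U V e)) ⁻¹ᵁ W := by
  rw [← preimage_eq f hU hV e, Scheme.Hom.preimage_image_eq]

theorem Φ_app (T : (Spec Γ(Y, V)).Modules)
    (α : ((Scheme.Modules.pullback f).obj F).restrict hV.fromSpec ⟶ T)
    (W : (Spec Γ(X, U)).Opens) (m : Γ(F, hU.fromSpec ''ᵁ W)) :
    (Φ f F hU hV e T α).app W m =
      T.presheaf.map (eqToHom (preimage_eq' f hU hV e W).symm).op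
        (α.app (hV.fromSpec ⁻¹ᵁ (f ⁻¹ᵁ (hU.fromSpec ''ᵁ W)))
          (((Scheme.Modules.pullback f).obj F).presheaf.map
            (homOfLE (hV.fromSpec.image_preimage_le _)).op
            (OmegaSh.pullSect f F (hU.fromSpec ''ᵁ W) m))) := by
  suffices h : (Φ f F hU hV e T α).app W =
      OmegaSh.pullSect f F (hU.fromSpec ''ᵁ W) ≫
        ((Scheme.Modules.pullback f).obj F).presheaf.map
            (homOfLE (hV.fromSpec.image_preimage_le _)).op ≫
        α.app (hV.fromSpec ⁻¹ᵁ (f ⁻¹ᵁ (hU.fromSpec ''ᵁ W))) ≫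
        T.presheaf.map (eqToHom (preimage_eq' f hU hV e W).symm).op from congr($h m)
  simp only [Φ, Equiv.trans_apply, Adjunction.homEquiv_unit, Adjunction.homEquiv_counit, Iso.homToEquiv_apply]
  have hres : ∀ {A B : X.Modules} (β : A ⟶ B) (W : (Spec Γ(X, U)).Opens),
      ((Scheme.Modules.restrictFunctor hU.fromSpec).map β).app W = β.app (hU.fromSpec ''ᵁ W) :=
    fun _ _ => rfl
  rw [Scheme.Modules.Hom.comp_app, hres, Scheme.Modules.Hom.comp_app, Scheme.Modules.Hom.comp_app,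
    Scheme.Modules.pushforward_map_app, Scheme.Modules.Hom.comp_app,
    Scheme.Modules.pushforward_map_app, Scheme.Modules.restrictAdjunction_counit_app_app,
    Scheme.Modules.restrictAdjunction_unit_app_app, Iso.app_hom, pushIso_hom_app_app]
  ext x
  exact map_map_any _ _ _ _ _

theorem Φ_app' (T : (Spec Γ(Y, V)).Modules)
    (α : ((Scheme.Modules.pullback f).obj F).restrict hV.fromSpec ⟶ T)
    (W : (Spec Γ(X, U)).Opens) (W₂ : (Spec Γ(Y, V)).Opens)
    (h₁ : hV.fromSpec ''ᵁ W₂ ≤ f ⁻¹ᵁ (hU.fromSpec ''ᵁ W))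
    (h₂ : (Spec.map (f.appLE U V e)) ⁻¹ᵁ W ≤ W₂) (m : Γ(F, hU.fromSpec ''ᵁ W)) :
    (Φ f F hU hV e T α).app W m =
      T.presheaf.map (homOfLE h₂).op
        (α.app W₂
          (((Scheme.Modules.pullback f).obj F).presheaf.map (homOfLE h₁).op
            (OmegaSh.pullSect f F (hU.fromSpec ''ᵁ W) m))) := by
  rw [Φ_app]
  have hle : hV.fromSpec ⁻¹ᵁ (f ⁻¹ᵁ (hU.fromSpec ''ᵁ W)) ≤ W₂ :=
    (preimage_eq' f hU hV e W).le.trans h₂
  have nat := congr($(α.mapPresheaf.naturality (homOfLE hle).op)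
    (((Scheme.Modules.pullback f).obj F).presheaf.map (homOfLE h₁).op
            (OmegaSh.pullSect f F (hU.fromSpec ''ᵁ W) m)))
  have e1 : ((Scheme.Modules.pullback f).obj F).presheaf.map
      (homOfLE (hV.fromSpec.image_preimage_le _)).op
            (OmegaSh.pullSect f F (hU.fromSpec ''ᵁ W) m) =
      (((Scheme.Modules.pullback f).obj F).restrict hV.fromSpec).presheaf.map (homOfLE hle).op
        (((Scheme.Modules.pullback f).obj F).presheaf.map (homOfLE h₁).op
            (OmegaSh.pullSect f F (hU.fromSpec ''ᵁ W) m)) := by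
    exact (map_map_any _ _ _ _ _).symm
  rw [e1]
  refine (congrArg (T.presheaf.map (eqToHom (preimage_eq' f hU hV e W).symm).op) nat).trans ?_
  exact map_map_any _ _ _ _ _

/-- `θ`: pull a section of `F` over `U` back along `f` and restrict to `V ≤ f⁻¹U`. -/
noncomputable def pullRes : Γ(F, U) →+ Γ((Scheme.Modules.pullback f).obj F, V) :=
  (((Scheme.Modules.pullback f).obj F).presheaf.map (homOfLE e).op).hom.comp
    (OmegaSh.pullSect f F U).hom

theorem pullRes_apply (m : Γ(F, U)) :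
    pullRes f F e m = ((Scheme.Modules.pullback f).obj F).presheaf.map (homOfLE e).op
      (OmegaSh.pullSect f F U m) := rfl

theorem pullRes_smul (a : Γ(X, U)) (m : Γ(F, U)) :
    pullRes f F e (a • m) = (f.appLE U V e).hom a • pullRes f F e m := by
  rw [pullRes_apply, pullRes_apply, OmegaSh.pullSect_smul, Scheme.Modules.map_smul]
  rfl

theorem pullRes_res {U' : X.Opens} (hUU' : U ≤ U') {V' : Y.Opens} (hV' : V' ≤ V)
    (h₁ : V' ≤ f ⁻¹ᵁ U') (n : Γ(F, U')) :
    ((Scheme.Modules.pullback f).obj F).presheaf.map (homOfLE h₁).op (OmegaSh.pullSect f F U' n) =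
      ((Scheme.Modules.pullback f).obj F).presheaf.map (homOfLE hV').op
        (pullRes f F e (F.presheaf.map (homOfLE hUU').op n)) := by
  rw [pullRes_apply, OmegaSh.pullSect_map, OmegaSh.resM_resM, OmegaSh.resM_resM]
  rfl

section Chart

open Groth.Agent.Lib.Helper3

variable {Z : Scheme.{u}} {W : Z.Opens} (hW : IsAffineOpen W) (M : Z.Modules)

/-- `Γ(M|_{Spec}, ⊤) → Γ(M, W)` -/
noncomputable def cMap : Γ(M.restrict hW.fromSpec, ⊤) →+ Γ(M, W) :=
  (M.presheaf.map (homOfLE (QS.le_image_top hW)).op).hom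

/-- `Γ(M, W) → Γ(M|_{Spec}, ⊤)` -/
noncomputable def cInv : Γ(M, W) →+ Γ(M.restrict hW.fromSpec, ⊤) :=
  (M.presheaf.map (homOfLE (QS.image_le hW ⊤)).op).hom

theorem cMap_cInv (m : Γ(M, W)) : cMap hW M (cInv hW M m) = m :=
  (map_map_any _ _ _ (𝟙 _) _).trans (by rw [M.presheaf.map_id]; rfl)

theorem cInv_cMap (n : Γ(M.restrict hW.fromSpec, ⊤)) : cInv hW M (cMap hW M n) = n :=
  (map_map_any _ _ _ (𝟙 _) _).trans (by rw [M.presheaf.map_id]; rfl)

theorem cMap_smul (a : Γ(Z, W)) (n : Γ(M.restrict hW.fromSpec, ⊤)) :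
    cMap hW M (a • n) = a • cMap hW M n :=
  (QCTilde.chartSectionsEquiv hW M).map_smul a n

theorem cInv_smul (a : Γ(Z, W)) (m : Γ(M, W)) :
    cInv hW M (a • m) = a • cInv hW M m := by
  have h := cMap_smul hW M a (cInv hW M m)
  rw [cMap_cInv] at h
  have h2 := congrArg (cInv hW M) h
  rw [cInv_cMap] at h2
  exact h2.symm

end Chart

section TQ

variable {B : CommRingCat.{u}} (Q : ModuleCat.{u} B)

/-- `Q → Γ(Q~, ⊤)` -/
noncomputable def tq : Q →+ Γ(tilde Q, ⊤) := Groth.Agent.Lib.Helper1.DerSpec.toTop Q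

theorem tq_smul (b : B) (q : Q) : tq Q (b • q) = b • tq Q q :=
  (tilde.toOpen Q ⊤).hom.map_smul b q

theorem tq_bijective : Function.Bijective (tq Q) :=
  (ConcreteCategory.isIso_iff_bijective (tilde.toOpen Q ⊤)).mp inferInstance

end TQ

/-- Global sections is fully faithful on quasi-coherent sources, linear-map version. -/
theorem existsUnique_hom_of_linear {R : CommRingCat.{u}} (G G' : (Spec R).Modules)
    [G.IsQuasicoherent] (l : Γ(G, ⊤) →ₗ[R] Γ(G', ⊤)) :
    ∃! α : G ⟶ G', ∀ x, α.app ⊤ x = l x := by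
  obtain ⟨α, hα⟩ := (Γmap_bijective G G').2 (ModuleCat.ofHom
    (X := moduleSpecΓFunctor.obj G) (Y := moduleSpecΓFunctor.obj G') l)
  refine ⟨α, fun x => ?_, fun β hβ => ?_⟩
  · exact congr($hα x)
  · apply (Γmap_bijective G G').1
    refine Eq.trans ?_ hα.symm
    ext x
    exact hβ x


theorem smul_pushforward_Spec {A B : CommRingCat.{u}} (φ : A ⟶ B) (T : (Spec B).Modules)
    (a : A) (y : Γ((Scheme.Modules.pushforward (Spec.map φ)).obj T, ⊤)) :
    a • y = (show Γ(T, (Spec.map φ) ⁻¹ᵁ ⊤) from (φ.hom a) • (show Γ(T, (Spec.map φ) ⁻¹ᵁ ⊤) from y)) := by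
  rw [Scheme.Modules.smul_Spec_def, Scheme.Modules.smul_Spec_def, pushforward_smul]
  have h1 := congr($(Scheme.ΓSpecIso_inv_naturality φ) a)
  have h2 : (Spec.map φ).app ⊤ ((Spec A).presheaf.map (⊤ : (Spec A).Opens).leTop.op
      ((Scheme.ΓSpecIso A).inv a)) =
      (Spec B).presheaf.map (Opens.leTop ((Spec.map φ) ⁻¹ᵁ ⊤)).op
        ((Scheme.ΓSpecIso B).inv (φ.hom a)) := by
    have e1 : (Spec A).presheaf.map (⊤ : (Spec A).Opens).leTop.op = 𝟙 _ := (Spec A).presheaf.map_id _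
    have e2 : (Spec B).presheaf.map (Opens.leTop ((Spec.map φ) ⁻¹ᵁ ⊤)).op = 𝟙 _ :=
      (Spec B).presheaf.map_id _
    rw [e1, e2]
    exact h1.symm
  exact congrArg (fun r => (show Γ(T, (Spec.map φ) ⁻¹ᵁ ⊤) from
    r • (show Γ(T, (Spec.map φ) ⁻¹ᵁ ⊤) from y))) h2

section Main

/-- restriction `Γ(T, ⊤) → Γ((Spec φ)_* T, ⊤)` (an identity in disguise). -/
noncomputable def resT {A B : CommRingCat.{u}} (φ : A ⟶ B) (T : (Spec B).Modules) :
    Γ(T, ⊤) →+ Γ((Scheme.Modules.pushforward (Spec.map φ)).obj T, ⊤) :=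
  (T.presheaf.map (homOfLE (le_top : (Spec.map φ) ⁻¹ᵁ ⊤ ≤ ⊤)).op).hom

theorem resT_smul {A B : CommRingCat.{u}} (φ : A ⟶ B) (T : (Spec B).Modules) (a : A)
    (y : Γ(T, ⊤)) : resT φ T (φ.hom a • y) = a • resT φ T y := by
  rw [smul_pushforward_Spec]
  exact Scheme.Modules.map_smul_Spec _ (φ.hom a) y

theorem resT_injective {A B : CommRingCat.{u}} (φ : A ⟶ B) (T : (Spec B).Modules) :
    Function.Injective (resT φ T) := by
  intro a b h
  have h2 := congrArg (T.presheaf.map (homOfLE (le_top : ⊤ ≤ (Spec.map φ) ⁻¹ᵁ ⊤)).op) h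
  have e1 : ∀ y : Γ(T, ⊤), T.presheaf.map (homOfLE (le_top : ⊤ ≤ (Spec.map φ) ⁻¹ᵁ ⊤)).op
      (resT φ T y) = y := fun y =>
    (map_map_any _ _ _ (𝟙 _) _).trans (by rw [T.presheaf.map_id]; rfl)
  rwa [e1, e1] at h2

theorem keyrel (T : (Spec Γ(Y, V)).Modules)
    (α : ((Scheme.Modules.pullback f).obj F).restrict hV.fromSpec ⟶ T)
    (n : Γ(F.restrict hU.fromSpec, ⊤)) :
    (Φ f F hU hV e T α).app ⊤ n = resT (f.appLE U V e) T
      (α.app ⊤ (cInv hV _ (pullRes f F e (cMap hU F n)))) := by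
  refine (Φ_app' f F hU hV e T α ⊤ ⊤ ?_ le_top n).trans ?_
  · exact (Groth.Agent.Lib.Helper3.QS.image_le hV ⊤).trans
      (e.trans (f.preimage_mono (Groth.Agent.Lib.Helper3.QS.le_image_top hU)))
  · refine congrArg (fun z => T.presheaf.map (homOfLE le_top).op (α.app ⊤ z)) ?_
    exact pullRes_res f F e (Groth.Agent.Lib.Helper3.QS.le_image_top hU)
      (Groth.Agent.Lib.Helper3.QS.image_le hV ⊤) _ n

variable [F.IsQuasicoherent]

theorem app_top_smul {R : CommRingCat.{u}} {G G' : (Spec R).Modules} (α : G ⟶ G') (r : R)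
    (x : Γ(G, ⊤)) : α.app ⊤ (r • x) = r • α.app ⊤ x :=
  (moduleSpecΓFunctor.map α).hom.map_smul r x

include hU hV in
/-- **Sections of a pullback over an affine open**: the universal property of
`Γ(f^*F, V) = Γ(Y,V) ⊗_{Γ(X,U)} Γ(F,U)` with respect to `pullRes`. -/
theorem existsUnique_lift (Q : ModuleCat.{u} Γ(Y, V)) (g : Γ(F, U) →+ Q)
    (hg : ∀ (a : Γ(X, U)) (m : Γ(F, U)), g (a • m) = (f.appLE U V e).hom a • g m) :
    ∃! g' : Γ((Scheme.Modules.pullback f).obj F, V) →ₗ[Γ(Y, V)] Q,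
      ∀ m, g' (pullRes f F e m) = g m := by
  haveI : ((Scheme.Modules.pullback f).obj F).IsQuasicoherent :=
    Groth.Agent.Lib.Helper17.PbStalk.isQuasicoherent_pullback f F
  let N := (Scheme.Modules.pullback f).obj F
  let T : (Spec Γ(Y, V)).Modules := tilde Q
  let l₁ : Γ(F.restrict hU.fromSpec, ⊤) →ₗ[Γ(X, U)]
      Γ((Scheme.Modules.pushforward (Spec.map (f.appLE U V e))).obj T, ⊤) :=
    { toFun := fun n => resT (f.appLE U V e) T (tq Q (g (cMap hU F n)))
      map_add' := fun a b => by simp only [map_add]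
      map_smul' := fun a n => by
        rw [cMap_smul, hg, tq_smul, resT_smul]
        rfl }
  obtain ⟨α', hα', hα'u⟩ := existsUnique_hom_of_linear (F.restrict hU.fromSpec) _ l₁
  let α := (Φ f F hU hV e T).symm α'
  have hΦ : Φ f F hU hV e T α = α' := Equiv.apply_symm_apply _ _
  have hinj := (tq_bijective Q).1
  have hsurj := (tq_bijective Q).2
  let inv : Γ(T, ⊤) → Q := fun y => (hsurj y).choose
  have hinv : ∀ y, tq Q (inv y) = y := fun y => (hsurj y).choose_spec
  let g' : Γ(N, V) →ₗ[Γ(Y, V)] Q :=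
    { toFun := fun x => inv (α.app ⊤ (cInv hV N x))
      map_add' := fun a b => by
        apply hinj
        rw [hinv, map_add, map_add, map_add, hinv, hinv]
      map_smul' := fun b x => by
        apply hinj
        rw [hinv, cInv_smul, app_top_smul, RingHom.id_apply, tq_smul, hinv] }
  have hg' : ∀ x, tq Q (g' x) = α.app ⊤ (cInv hV N x) := fun x => hinv _
  refine ⟨g', fun m => ?_, fun g'' hg'' => ?_⟩
  · apply hinj
    apply resT_injective (f.appLE U V e) T
    rw [hg']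
    have h1 := keyrel f F hU hV e T α (cInv hU F m)
    rw [hΦ, hα', cMap_cInv] at h1
    have h2 : l₁ (cInv hU F m) = resT (f.appLE U V e) T (tq Q (g (cMap hU F (cInv hU F m)))) := rfl
    rw [h2, cMap_cInv] at h1
    exact h1.symm
  · let l₂ : Γ(N.restrict hV.fromSpec, ⊤) →ₗ[Γ(Y, V)] Γ(T, ⊤) :=
      { toFun := fun y => tq Q (g'' (cMap hV N y))
        map_add' := fun a b => by simp only [map_add]
        map_smul' := fun b y => by
          rw [cMap_smul, map_smul, tq_smul]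
          rfl }
    obtain ⟨α₂, hα₂, -⟩ := existsUnique_hom_of_linear (N.restrict hV.fromSpec) T l₂
    have h3 : Φ f F hU hV e T α₂ = α' := by
      apply hα'u
      intro n
      rw [keyrel, hα₂]
      change resT (f.appLE U V e) T (tq Q (g'' (cMap hV N (cInv hV N _)))) = _
      rw [cMap_cInv, hg'']
      rfl
    have h4 : α₂ = α := by
      apply (Φ f F hU hV e T).injective
      rw [h3, hΦ]
    ext x
    apply hinj
    rw [hg', ← h4, hα₂]
    change _ = tq Q (g'' (cMap hV N (cInv hV N x)))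
    rw [cMap_cInv]

include hU hV in
/-- `Γ(f^*F, V)` is generated over `Γ(Y, V)` by pulled-back sections. -/
theorem span_range_pullRes :
    Submodule.span Γ(Y, V) (Set.range (pullRes f F e)) = ⊤ := by
  set S := Submodule.span Γ(Y, V) (Set.range (pullRes f F e)) with hS
  obtain ⟨g₀, -, hu⟩ := existsUnique_lift f F hU hV e
    (ModuleCat.of Γ(Y, V) (Γ((Scheme.Modules.pullback f).obj F, V) ⧸ S)) 0
    (fun a m => by simp)
  have h1 := hu S.mkQ (fun m => by
    change S.mkQ _ = 0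
    rw [Submodule.mkQ_apply, Submodule.Quotient.mk_eq_zero]
    exact Submodule.subset_span ⟨m, rfl⟩)
  have h2 := hu 0 (fun m => rfl)
  have h3 : S.mkQ = 0 := h1.trans h2.symm
  rw [eq_top_iff]
  intro x _
  have := congr($h3 x)
  rwa [Submodule.mkQ_apply, LinearMap.zero_apply, Submodule.Quotient.mk_eq_zero] at this

include hU hV in
/-- `IsBaseChange` form, for any compatible choice of instances. -/
theorem isBaseChange_pullRes [Algebra Γ(X, U) Γ(Y, V)]
    (halg : ∀ a, algebraMap Γ(X, U) Γ(Y, V) a = (f.appLE U V e).hom a)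
    [Module Γ(X, U) Γ((Scheme.Modules.pullback f).obj F, V)]
    [IsScalarTower Γ(X, U) Γ(Y, V) Γ((Scheme.Modules.pullback f).obj F, V)]
    (l : Γ(F, U) →ₗ[Γ(X, U)] Γ((Scheme.Modules.pullback f).obj F, V))
    (hl : ∀ m, l m = pullRes f F e m) : IsBaseChange Γ(Y, V) l := by
  apply IsBaseChange.of_lift_unique
  intro Q _ _ _ _ g
  letI : AddCommGroup Q := Module.addCommMonoidToAddCommGroup Γ(Y, V)
  obtain ⟨g', hg', hu⟩ := existsUnique_lift f F hU hV e (ModuleCat.of Γ(Y, V) Q)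
    g.toAddMonoidHom (fun a m => by
      change g (a • m) = _
      rw [map_smul, ← halg, algebraMap_smul]
      rfl)
  refine ⟨g', ?_, fun g'' hg'' => ?_⟩
  · ext m
    change g' (l m) = g m
    rw [hl]
    exact hg' m
  · apply hu
    intro m
    have := congr($hg'' m)
    change g'' (l m) = g m at this
    rwa [hl] at this

end Main

end Groth.Agent.Lib.Helper1.PbSect
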