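import Mathlib
import Groth.Agent.Lib.Helper1.PbSect
import Groth.Agent.Lib.Helper3.QCPush

set_option autoImplicit false
set_option linter.style.haveILetI false
set_option linter.unusedSectionVars false
universe u
open CategoryTheory CategoryTheory.Limits AlgebraicGeometry TopologicalSpace Opposite

/-! morphisms out of a quasi-coherent module on an affine scheme from linear maps on global
sections. -/

namespace Groth.Agent.Lib.Helper1.AffHom

open Groth.Agent.Lib.Helper1.PbSect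

variable {X : Scheme.{u}} [IsAffine X]

theorem toSpecΓ_app_inv (r : Γ(X, ⊤)) :
    X.toSpecΓ.app ⊤ ((Scheme.ΓSpecIso Γ(X, ⊤)).inv r) = r := by
  have h := Scheme.toSpecΓ_appTop X
  have h2 : X.toSpecΓ.app ⊤ = (Scheme.ΓSpecIso Γ(X, ⊤)).hom := h
  rw [h2]
  exact congr($((Scheme.ΓSpecIso Γ(X, ⊤)).inv_hom_id) r)

/-- sections of the pushforward to `Spec Γ(X, ⊤)`, as sections over `X`. -/
noncomputable def toX (N : X.Modules) :
    Γ((Scheme.Modules.pushforward X.toSpecΓ).obj N, ⊤) →+ Γ(N, ⊤) := AddMonoidHom.id _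

theorem toX_smul (N : X.Modules) (r : Γ(X, ⊤))
    (x : Γ((Scheme.Modules.pushforward X.toSpecΓ).obj N, ⊤)) :
    toX N (r • x) = r • toX N x := by
  rw [Scheme.Modules.smul_Spec_def, pushforward_smul]
  have : X.toSpecΓ.app ⊤ (((Spec Γ(X, ⊤)).presheaf.map (⊤ : (Spec Γ(X, ⊤)).Opens).leTop.op)
      ((Scheme.ΓSpecIso Γ(X, ⊤)).inv r)) = r := by
    have e : ((Spec Γ(X, ⊤)).presheaf.map (⊤ : (Spec Γ(X, ⊤)).Opens).leTop.op) = 𝟙 _ :=
      (Spec Γ(X, ⊤)).presheaf.map_id _
    rw [e]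
    exact toSpecΓ_app_inv r
  have h2 : ∀ (r' : Γ(X, ⊤)) (y : Γ(N, ⊤)), r' = r → (r' • y : Γ(N, ⊤)) = r • y := by
    intro r' y h; rw [h]
  exact h2 _ (toX N x) this

theorem exists_hom_of_linear (Mq G : X.Modules) [Mq.IsQuasicoherent]
    (l : Γ(Mq, ⊤) →ₗ[Γ(X, ⊤)] Γ(G, ⊤)) : ∃ α : Mq ⟶ G, ∀ x, α.app ⊤ x = l x := by
  let φ : X ⟶ Spec Γ(X, ⊤) := X.toSpecΓ
  haveI : IsIso φ := inferInstanceAs (IsIso X.isoSpec.hom)
  haveI : ((Scheme.Modules.pushforward φ).obj Mq).IsQuasicoherent :=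
    Groth.Agent.Lib.Helper3.QCSec.isQuasicoherent_pushforward φ Mq
  let l' : Γ((Scheme.Modules.pushforward φ).obj Mq, ⊤) →ₗ[Γ(X, ⊤)]
      Γ((Scheme.Modules.pushforward φ).obj G, ⊤) :=
    { toFun := fun x => l (toX Mq x)
      map_add' := fun x y => (congrArg l (map_add (toX Mq) x y)).trans (map_add l _ _)
      map_smul' := fun r x => by
        rw [toX_smul, map_smul]
        exact (toX_smul G r _).symm }
  obtain ⟨α', hα', -⟩ := existsUnique_hom_of_linear _ _ l'
  refine ⟨(Scheme.Modules.pushforward φ).preimage α', fun x => ?_⟩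
  have h1 : ((Scheme.Modules.pushforward φ).map ((Scheme.Modules.pushforward φ).preimage α')).app ⊤
      = ((Scheme.Modules.pushforward φ).preimage α').app (φ ⁻¹ᵁ ⊤) :=
    Scheme.Modules.pushforward_map_app _ _ _
  rw [Functor.map_preimage] at h1
  have h2 := congr($h1 x)
  exact h2.symm.trans (hα' x)

end Groth.Agent.Lib.Helper1.AffHom
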