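import Mathlib
import Groth.Agent.Lib.Helper1.ARees
import Groth.Agent.Lib.Helper17.DevKey
import Groth.Agent.Lib.Helper17.DevTest
import Groth.Agent.Lib.Helper17.DevPow

/-!
# Dévissage with only two of the three implications (kernels of epis, extensions)
-/

set_option autoImplicit false
set_option linter.style.haveILetI false
universe u
open CategoryTheory CategoryTheory.Limits AlgebraicGeometry Opposite TopologicalSpace

namespace Groth.Agent.Lib.Helper1.Dev12

open Groth.Agent.Lib.Helper3 Groth.Agent.Lib.Helper17 Groth.Agent.Lib.Helper17.DevBasic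
  Groth.Agent.Lib.Helper17.DevTF Groth.Agent.Lib.Helper17.StalkExact
  Groth.Agent.Lib.Helper17.DevGM Groth.Agent.Lib.Helper17.DevKey

variable {X : Scheme.{u}}

/-- torsion-freeness at `y`: quasi-coherent subsheaves with zero stalk at `y` vanish. -/
def TFy (G : X.Modules) (y : X) : Prop :=
  ∀ (K : X.Modules) (k : K ⟶ G), Mono k → K.IsQuasicoherent → y ∉ CohB1.support K → IsZero K

theorem tfy_A (Z : Closeds X) (y : X) (hy : closure {y} = (Z : Set X)) :
    TFy (DevTest.A (Scheme.IdealSheafData.vanishingIdeal Z)) y := by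
  intro K k hk hK hyK
  haveI := hk
  exact DevTest.isZero_of_mono_of_notMem Z y hy hK k hyK

theorem tfy_of_isZero {G : X.Modules} (hG : IsZero G) (y : X) : TFy G y := by
  intro K k hk _ _
  haveI := hk
  exact IsZero.of_mono k hG

theorem tfy_biprod {A B : X.Modules} [B.IsQuasicoherent] {y : X} (hA : TFy A y) (hB : TFy B y) :
    TFy (A ⊞ B : X.Modules) y := by
  intro K k hk hK hyK
  haveI := hk
  haveI := hK
  haveI : (kernel (k ≫ biprod.snd)).IsQuasicoherent := QCProps.isQuasicoherent_kernel _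
  have hm : Mono (kernel.ι (k ≫ biprod.snd) ≫ k ≫ (biprod.fst : A ⊞ B ⟶ A)) := by
    apply Preadditive.mono_of_cancel_zero
    intro W g hg
    have h1 : (g ≫ kernel.ι (k ≫ biprod.snd) ≫ k) ≫ (biprod.fst : A ⊞ B ⟶ A) = 0 := by
      simpa [Category.assoc] using hg
    have h2 : (g ≫ kernel.ι (k ≫ biprod.snd) ≫ k) ≫ (biprod.snd : A ⊞ B ⟶ B) = 0 := by
      have := kernel.condition (k ≫ (biprod.snd : A ⊞ B ⟶ B))
      simp only [Category.assoc]
      rw [this, comp_zero]
    have h3 : g ≫ kernel.ι (k ≫ biprod.snd) ≫ k = 0 := by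
      apply biprod.hom_ext
      · rw [h1, zero_comp]
      · rw [h2, zero_comp]
    have h4 : (g ≫ kernel.ι (k ≫ biprod.snd)) ≫ k = 0 := by rw [Category.assoc]; exact h3
    have h5 : g ≫ kernel.ι (k ≫ biprod.snd) = 0 := by
      rw [← cancel_mono k, h4, zero_comp]
    rw [← cancel_mono (kernel.ι (k ≫ biprod.snd)), h5, zero_comp]
  have hz : IsZero (kernel (k ≫ (biprod.snd : A ⊞ B ⟶ B))) :=
    hA _ _ hm inferInstance (fun h => hyK (support_subset_of_mono (kernel.ι _) h))
  have hm2 : Mono (k ≫ (biprod.snd : A ⊞ B ⟶ B)) :=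
    Preadditive.mono_of_kernel_zero (hz.eq_of_src _ _)
  exact hB K _ hm2 hK hyK

theorem tfy_pow {A : X.Modules} (hA : Coh.IsCoh A) {y : X} (hAy : TFy A y) :
    ∀ n, TFy (DevPow.pow A n) y
  | 0 => tfy_of_isZero (DevPow.isZero_pow_zero A) y
  | n + 1 => by
    haveI := (DevPow.isCoh_pow A hA n).1
    exact tfy_biprod hAy (tfy_pow hA hAy n)

section Steps

variable [IsNoetherian X] (P : X.Modules → Prop)
  (hiso : ∀ M N : X.Modules, Nonempty (M ≅ N) → P M → P N)
  (ha1 : ∀ S : ShortComplex X.Modules, S.ShortExact → Coh.IsCoh S.X₁ → Coh.IsCoh S.X₂ →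
    Coh.IsCoh S.X₃ → P S.X₂ → P S.X₃ → P S.X₁)
  (ha2 : ∀ S : ShortComplex X.Modules, S.ShortExact → Coh.IsCoh S.X₁ → Coh.IsCoh S.X₂ →
    Coh.IsCoh S.X₃ → P S.X₁ → P S.X₃ → P S.X₂)
  (Z : Set X) (y : X)
  (IH : ∀ F' : X.Modules, Coh.IsCoh F' → CohB1.support F' ⊆ Z → y ∉ CohB1.support F' → P F')

include ha1 ha2 IH

/-- forward step with a torsion-free source. -/
theorem step12 (G : X.Modules) (hG : Coh.IsCoh G) (hGs : CohB1.support G ⊆ Z) (hGP : P G)
    (hGtf : TFy G y)
    (F : X.Modules) (hF : Coh.IsCoh F) (hFs : CohB1.support F ⊆ Z)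
    (ψ : G.presheaf.stalk y →ₗ[X.presheaf.stalk y] F.presheaf.stalk y)
    (hψ : Function.Injective ψ) :
    ∃ C : X.Modules, Coh.IsCoh C ∧ CohB1.support C ⊆ Z ∧
      Module.length (X.presheaf.stalk y) (C.presheaf.stalk y) +
        Module.length (X.presheaf.stalk y) (G.presheaf.stalk y) =
        Module.length (X.presheaf.stalk y) (F.presheaf.stalk y) ∧
      (Function.Surjective ψ → y ∉ CohB1.support C) ∧ (P C → P F) := by
  obtain ⟨D⟩ := exists_gmData G F hG hF y ψ
  haveI := D.mono_ι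
  haveI := hF.1
  haveI := hG.1
  have hT : Coh.IsCoh (tors D.V F) := isCoh_tors D.V F hF
  have hFbar : Coh.IsCoh (tf D.V F) := isCoh_tf D.V F hF
  haveI := hFbar.1
  have hG' : Coh.IsCoh D.G' := isCoh_of_mono D.ι D.qc hG
  haveI := hG'.1
  have hQ : Coh.IsCoh (cokernel D.ι) := isCoh_cokernel D.ι D.qc hG
  have hK : Coh.IsCoh (kernel D.φ') := isCoh_kernel D.φ' hG' hFbar.1
  have sT : CohB1.support (tors D.V F) ⊆ Z := (support_subset_of_mono (kernel.ι _)).trans hFs
  have sFbar : CohB1.support (tf D.V F) ⊆ Z := (support_subset_of_epi (cokernel.π _)).trans hFs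
  have sQ : CohB1.support (cokernel D.ι) ⊆ Z := (support_subset_of_epi (cokernel.π _)).trans hGs
  have yT : y ∉ CohB1.support (tors D.V F) := notMem_support_tors D.V F y D.hy
  have yQ : y ∉ CohB1.support (cokernel D.ι) := notMem_support_cokernel D.ι y D.bij.2
  have yK : y ∉ CohB1.support (kernel D.φ') :=
    notMem_support_kernel D.φ' y (D.stalkLin_φ'_injective hψ)
  have zK : IsZero (kernel D.φ') := hGtf _ (kernel.ι D.φ' ≫ D.ι) inferInstance hK.1 yK
  haveI : Mono D.φ' := Preadditive.mono_of_kernel_zero (zK.eq_of_src _ _)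
  have hC : Coh.IsCoh (cokernel D.φ') := isCoh_cokernel D.φ' hG'.1 hFbar
  have sC : CohB1.support (cokernel D.φ') ⊆ Z := (support_subset_of_epi (cokernel.π _)).trans sFbar
  have l3 := length_stalk_add _ (shortExact_tf D.V F) y
  have l4 := length_stalk_add _ (shortExact_of_mono D.ι) y
  have l2 := length_stalk_add _ (shortExact_of_mono D.φ') y
  dsimp only at l2 l3 l4
  rw [length_eq_zero_of_notMem yT, zero_add] at l3
  rw [length_eq_zero_of_notMem yQ, add_zero] at l4
  refine ⟨cokernel D.φ', hC, sC, ?_, ?_, ?_⟩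
  · rw [l3, l2, l4, add_comm]
  · intro hsurj
    exact notMem_support_cokernel D.φ' y (D.stalkLin_φ'_surjective hsurj)
  · intro hPC
    have pG' : P D.G' := ha1 _ (shortExact_of_mono D.ι) hG' hG hQ hGP (IH _ hQ sQ yQ)
    have pFbar : P (tf D.V F) := ha2 _ (shortExact_of_mono D.φ') hG' hFbar hC pG' hPC
    exact ha2 _ (shortExact_tf D.V F) hT hF hFbar (IH _ hT sT yT) pFbar

/-- reverse step: from `P F` and a generic isomorphism `G_y ≅ F_y` with `G` torsion-free,
deduce `P G` (uses Artin–Rees). -/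
theorem revInj (G : X.Modules) (hG : Coh.IsCoh G) (hGs : CohB1.support G ⊆ Z)
    (hGtf : TFy G y)
    (F : X.Modules) (hF : Coh.IsCoh F) (hFs : CohB1.support F ⊆ Z) (hFP : P F)
    (ψ : G.presheaf.stalk y →ₗ[X.presheaf.stalk y] F.presheaf.stalk y)
    (hψ : Function.Bijective ψ) : P G := by
  obtain ⟨D⟩ := exists_gmData G F hG hF y ψ
  haveI := D.mono_ι
  haveI := hF.1
  haveI := hG.1
  have hFbar : Coh.IsCoh (tf D.V F) := isCoh_tf D.V F hF
  haveI := hFbar.1
  have hG' : Coh.IsCoh D.G' := isCoh_of_mono D.ι D.qc hG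
  haveI := hG'.1
  have hQ : Coh.IsCoh (cokernel D.ι) := isCoh_cokernel D.ι D.qc hG
  have hK : Coh.IsCoh (kernel D.φ') := isCoh_kernel D.φ' hG' hFbar.1
  have sFbar : CohB1.support (tf D.V F) ⊆ Z := (support_subset_of_epi (cokernel.π _)).trans hFs
  have sQ : CohB1.support (cokernel D.ι) ⊆ Z := (support_subset_of_epi (cokernel.π _)).trans hGs
  have yQ : y ∉ CohB1.support (cokernel D.ι) := notMem_support_cokernel D.ι y D.bij.2
  have yK : y ∉ CohB1.support (kernel D.φ') :=
    notMem_support_kernel D.φ' y (D.stalkLin_φ'_injective hψ.1)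
  have zK : IsZero (kernel D.φ') := hGtf _ (kernel.ι D.φ' ≫ D.ι) inferInstance hK.1 yK
  haveI : Mono D.φ' := Preadditive.mono_of_kernel_zero (zK.eq_of_src _ _)
  have hC : Coh.IsCoh (cokernel D.φ') := isCoh_cokernel D.φ' hG'.1 hFbar
  have sC : CohB1.support (cokernel D.φ') ⊆ Z := (support_subset_of_epi (cokernel.π _)).trans sFbar
  have yC : y ∉ CohB1.support (cokernel D.φ') :=
    notMem_support_cokernel D.φ' y (D.stalkLin_φ'_surjective hψ.2)
  -- Artin–Rees: `P (tf F)`
  obtain ⟨F', ι, hι, hF', hmono, hsupp⟩ := ARees.exists_sub_avoiding_tors F D.V hF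
  haveI := hι
  haveI := hmono
  haveI := hF'.1
  have hQ' : Coh.IsCoh (cokernel ι) := isCoh_cokernel ι hF'.1 hF
  have sQ' : CohB1.support (cokernel ι) ⊆ Z := (support_subset_of_epi (cokernel.π _)).trans hFs
  have yQ' : y ∉ CohB1.support (cokernel ι) := fun h => hsupp h D.hy
  have pF' : P F' := ha1 _ (shortExact_of_mono ι) hF' hF hQ' hFP (IH _ hQ' sQ' yQ')
  set c := ι ≫ cokernel.π (kernel.ι (un D.V F)) with hc
  have hC' : Coh.IsCoh (cokernel c) := isCoh_cokernel c hF'.1 hFbar
  have sC' : CohB1.support (cokernel c) ⊆ Z := (support_subset_of_epi (cokernel.π _)).trans sFbar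
  have yC' : y ∉ CohB1.support (cokernel c) := by
    let e : cokernel ι ⟶ cokernel c :=
      cokernel.desc ι (cokernel.π (kernel.ι (un D.V F)) ≫ cokernel.π c) (by
        rw [← Category.assoc]
        exact cokernel.condition c)
    haveI : Epi e := by
      have h1 : cokernel.π ι ≫ e = cokernel.π (kernel.ι (un D.V F)) ≫ cokernel.π c :=
        cokernel.π_desc _ _ _
      have h2 : Epi (cokernel.π ι ≫ e) := by rw [h1]; infer_instance
      exact epi_of_epi (cokernel.π ι) e
    exact fun h => yQ' (support_subset_of_epi e h)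
  have pFbar : P (tf D.V F) := ha2 _ (shortExact_of_mono c) hF' hFbar hC' pF' (IH _ hC' sC' yC')
  have pG' : P D.G' := ha1 _ (shortExact_of_mono D.φ') hG' hFbar hC pFbar (IH _ hC sC yC)
  exact ha2 _ (shortExact_of_mono D.ι) hG' hG hQ pG' (IH _ hQ sQ yQ)

/-- key step with a torsion-free test module of length one. -/
theorem key12 (hgen : ∀ x ∈ Z, y ⤳ x)
    (G : X.Modules) (hG : Coh.IsCoh G) (hGs : CohB1.support G ⊆ Z) (hGP : P G)
    (hGtf : TFy G y)
    (hGl : Module.length (X.presheaf.stalk y) (G.presheaf.stalk y) = 1)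
    (F : X.Modules) (hF : Coh.IsCoh F) (hFs : CohB1.support F ⊆ Z) : P F := by
  have hfin := length_ne_top F hF Z y hgen hFs
  obtain ⟨n, hn⟩ := ENat.ne_top_iff_exists.mp hfin
  induction n using Nat.strong_induction_on generalizing F with
  | _ n ih =>
    by_cases hy : y ∈ CohB1.support F
    swap
    · exact IH F hF hFs hy
    haveI : Nontrivial (F.presheaf.stalk y) := not_subsingleton_iff_nontrivial.mp hy
    obtain ⟨ψ, hψ⟩ := DevLen.exists_injective_of_length_one hGl hfin
    obtain ⟨C, hC, sC, hlen, -, hPC⟩ := step12 P ha1 ha2 Z y IH G hG hGs hGP hGtf F hF hFs ψ hψ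
    rw [hGl] at hlen
    obtain ⟨k, hk, hkn⟩ := DevLen.lt_of_add_eq hlen hn.symm
    exact hPC (ih k hkn C hC sC (by rw [hk]; exact ENat.coe_ne_top k) hk.symm)

end Steps

end Groth.Agent.Lib.Helper1.Dev12
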