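import Mathlib
import Groth.Agent.Lib.Helper17.DevPow

/-!
# `pow A n` (iterated biproduct) is the coproduct of `n` copies of `A`
-/

set_option autoImplicit false
universe u
open CategoryTheory CategoryTheory.Limits AlgebraicGeometry

namespace Groth.Agent.Lib.Helper1.PowIso

open Groth.Agent.Lib.Helper17

variable {X : Scheme.{u}}

theorem isZero_sigma_empty (A : X.Modules) : IsZero (∐ fun _ : Fin 0 => A) := by
  rw [IsZero.iff_id_eq_zero]
  apply Sigma.hom_ext
  intro i
  exact i.elim0

noncomputable def succIso (A : X.Modules) (n : ℕ) :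
    (∐ fun _ : Fin (n + 1) => A) ≅ (A ⊞ ∐ fun _ : Fin n => A : X.Modules) := by
  let f : Fin (n + 1) → X.Modules := fun _ => A
  let c₁ : Cofan (fun i : Fin n => f i.succ) := colimit.cocone _
  let c₂ : BinaryCofan (f 0) c₁.pt := (BinaryBiproduct.bicone (f 0) c₁.pt).toCocone
  have t₁ : IsColimit c₁ := colimit.isColimit _
  have t₂ : IsColimit c₂ := BinaryBiproduct.isColimit (f 0) c₁.pt
  exact (colimit.isColimit (Discrete.functor f)).coconePointUniqueUpToIso
    (extendCofanIsColimit f t₁ t₂)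

theorem nonempty_iso (A : X.Modules) : ∀ n : ℕ, Nonempty (DevPow.pow A n ≅ ∐ fun _ : Fin n => A)
  | 0 => ⟨(DevPow.isZero_pow_zero A).iso (isZero_sigma_empty A)⟩
  | n + 1 => by
    obtain ⟨e⟩ := nonempty_iso A n
    exact ⟨(biprod.mapIso (Iso.refl A) e) ≪≫ (succIso A n).symm⟩

end Groth.Agent.Lib.Helper1.PowIso
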