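import Mathlib
import Groth.Agent.Lib.Helper17.DevStep
import Groth.Agent.Lib.Helper17.DevInt
import Groth.Agent.Lib.Helper17.SuppKill
import Groth.Agent.S0019

/-!
# Direct images of coherent modules along the closed immersion of `V(J)`
-/

set_option autoImplicit false
set_option linter.style.haveILetI false
universe u
open CategoryTheory CategoryTheory.Limits AlgebraicGeometry Opposite TopologicalSpace

namespace Groth.Agent.Lib.Helper1.PushInt

open Groth.Agent.Lib.Helper3 Groth.Agent.Lib.Helper17 Groth.Agent.Lib.Helper17.DevBasic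

variable {X Z : Scheme.{u}}

theorem nontrivial_stalk_push (i : Z ⟶ X) [IsClosedImmersion i] (H : Z.Modules) (ξ : Z)
    (h : Nontrivial (H.presheaf.stalk ξ)) :
    Nontrivial (((Scheme.Modules.pushforward i).obj H).presheaf.stalk (i ξ)) := by
  have hind : Topology.IsInducing i.base := i.isEmbedding.isInducing
  haveI : IsIso (TopCat.Presheaf.stalkPushforward AddCommGrpCat.{u} i.base H.presheaf ξ) :=
    TopCat.Presheaf.stalkPushforward.stalkPushforward_iso_of_isInducing _ (f := i.base) hind
      H.presheaf ξ
  let e := asIso (TopCat.Presheaf.stalkPushforward AddCommGrpCat.{u} i.base H.presheaf ξ)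
  have h2 : Nontrivial ((i.base _* H.presheaf).stalk (i.base ξ)) :=
    (e.addCommGroupIsoToAddEquiv.toEquiv.nontrivial_congr).mpr h
  exact h2

variable (J : X.IdealSheafData) (H : J.subscheme.Modules)

theorem killed_push :
    ClSub.KilledByIdeal J ((Scheme.Modules.pushforward J.subschemeι).obj H) := by
  rw [killed_iff]
  intro U a ha m
  have h0 : (J.subschemeι.app U.1).hom a = 0 := by
    rw [← DevStep.ker_app_eq J U] at ha
    exact ha
  show ((J.subschemeι.app U.1).hom a • (show Γ(H, J.subschemeι ⁻¹ᵁ U.1) from m)) = 0
  rw [h0, zero_smul]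

theorem isCoh_push [IsLocallyNoetherian X] (hH : Coh.IsCoh H) :
    Coh.IsCoh ((Scheme.Modules.pushforward J.subschemeι).obj H) :=
  Groth.Agent.S0019.result J.subschemeι H hH

theorem support_push_subset [IsLocallyNoetherian X] (hH : Coh.IsCoh H) :
    CohB1.support ((Scheme.Modules.pushforward J.subschemeι).obj H) ⊆ (J.support : Set X) := by
  haveI := (isCoh_push J H hH).1
  exact SuppKill.support_subset_of_kill _ J ((killed_iff _ _).mp (killed_push J H))

end Groth.Agent.Lib.Helper1.PushInt
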