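import Mathlib
import Groth.Agent.Lib.Helper1.Dev12
import Groth.Agent.Lib.Helper1.PowIso
import Groth.Agent.Lib.Helper1.PushInt
import Groth.Agent.Lib.Helper17.DevEngine
import Groth.Agent.Lib.Helper17.DevSS

/-!
# Dévissage with two implications and roots of powers
-/

set_option autoImplicit false
set_option linter.style.haveILetI false
universe u
open CategoryTheory CategoryTheory.Limits AlgebraicGeometry Opposite TopologicalSpace

namespace Groth.Agent.Lib.Helper1.Dev12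

open Groth.Agent.Lib.Helper3 Groth.Agent.Lib.Helper17 Groth.Agent.Lib.Helper17.DevBasic

theorem ses_zero_left {X : Scheme.{u}} {M : X.Modules} (hM : IsZero M) (G : X.Modules) :
    (ShortComplex.mk (0 : M ⟶ G) (𝟙 G) zero_comp).ShortExact := by
  refine ShortComplex.ShortExact.mk' ?_ ?_ (by dsimp; infer_instance)
  · exact (ShortComplex.exact_iff_mono _ rfl).2 (by dsimp; infer_instance)
  · exact ⟨fun g h _ => hM.eq_of_tgt g h⟩

theorem key10865 (X : Scheme.{u}) [IsNoetherian X] [Nonempty X]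
    (K : ObjectProperty X.Modules) [K.IsClosedUnderIsomorphisms]
    (ha : ∀ S : ShortComplex X.Modules, S.ShortExact → Coh.IsCoh S.X₁ → Coh.IsCoh S.X₂ → Coh.IsCoh S.X₃ →
      (K S.X₂ → K S.X₃ → K S.X₁) ∧ (K S.X₁ → K S.X₃ → K S.X₂))
    (hb : ∀ (F : X.Modules) (d : ℕ), 1 ≤ d → Coh.IsCoh F → K (∐ fun _ : Fin d => F) → K F)
    (hgen : ∀ (Z : Scheme.{u}) (i : Z ⟶ X) [IsClosedImmersion i] [IsIntegral Z],
      ∃ H : Z.Modules, Coh.IsCoh H ∧ Nontrivial (H.presheaf.stalk (genericPoint Z)) ∧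
        K ((Scheme.Modules.pushforward i).obj H))
    (F : X.Modules) (hF : Coh.IsCoh F) : K F := by
  have ha1 : ∀ S : ShortComplex X.Modules, S.ShortExact → Coh.IsCoh S.X₁ → Coh.IsCoh S.X₂ →
      Coh.IsCoh S.X₃ → K S.X₂ → K S.X₃ → K S.X₁ := fun S hS h1 h2 h3 => (ha S hS h1 h2 h3).1
  have ha2 : ∀ S : ShortComplex X.Modules, S.ShortExact → Coh.IsCoh S.X₁ → Coh.IsCoh S.X₂ →
      Coh.IsCoh S.X₃ → K S.X₁ → K S.X₃ → K S.X₂ := fun S hS h1 h2 h3 => (ha S hS h1 h2 h3).2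
  have hiso : ∀ M N : X.Modules, Nonempty (M ≅ N) → K M → K N := fun M N ⟨e⟩ h => K.prop_of_iso e h
  -- some coherent member of `K`
  obtain ⟨G₀, hG₀, hKG₀⟩ : ∃ G₀ : X.Modules, Coh.IsCoh G₀ ∧ K G₀ := by
    obtain ⟨x⟩ := ‹Nonempty X›
    let Z₀ : Closeds X := ⟨closure {x}, isClosed_closure⟩
    have hirr : IsIrreducible (Z₀ : Set X) := isIrreducible_singleton.closure
    haveI := DevInt.isIntegral_sub Z₀ hirr
    obtain ⟨H, hH, -, hK⟩ := hgen (DevInt.sub Z₀) (DevInt.subι Z₀)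
    exact ⟨_, PushInt.isCoh_push _ H hH, hK⟩
  have h0 : ∀ M : X.Modules, IsZero M → K M := fun M hM =>
    ha1 _ (ses_zero_left hM G₀) (isCoh_of_isZero hM) hG₀ hG₀ hKG₀ hKG₀
  refine DevEngine.engine X K hiso Set.univ h0
    (fun S hS h1 h2 h3 _ p1 p3 => ha2 S hS h1 h2 h3 p1 p3) ?_ F hF (Set.subset_univ _)
  intro Z hZ hirr _ IH F hF hFs _
  obtain ⟨y, hy⟩ := QuasiSober.sober hirr hZ
  set Zc : Closeds X := ⟨Z, hZ⟩ with hZc
  have hy' : closure {y} = (Zc : Set X) := hy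
  have hy'' : closure {y} = Z := hy
  have hyZ : y ∈ Z := hy'' ▸ subset_closure (Set.mem_singleton y)
  have hgenZ : ∀ x ∈ Z, y ⤳ x := fun x hx => specializes_iff_mem_closure.mpr (hy''.symm ▸ hx)
  have IH' : ∀ F' : X.Modules, Coh.IsCoh F' → CohB1.support F' ⊆ Z → y ∉ CohB1.support F' →
      K F' := fun F' hF' hs hn => IH F' hF' hs (fun h => hn (h ▸ hyZ))
  set J := Scheme.IdealSheafData.vanishingIdeal Zc with hJ
  have hJs : (J.support : Set X) = Z := by
    rw [hJ, Scheme.IdealSheafData.coe_support_vanishingIdeal]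
    rfl
  -- the test module from `hgen`
  haveI hint := DevInt.isIntegral_sub Zc hirr
  obtain ⟨H, hH, hHnt, hKG⟩ := hgen (DevInt.sub Zc) (DevInt.subι Zc)
  set G := (Scheme.Modules.pushforward (DevInt.subι Zc)).obj H with hGdef
  have hG : Coh.IsCoh G := PushInt.isCoh_push J H hH
  have hGs : CohB1.support G ⊆ Z := (PushInt.support_push_subset J H hH).trans hJs.le
  have hGk : ClSub.KilledByIdeal J G := PushInt.killed_push J H
  have hGy : y ∈ CohB1.support G := by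
    have hξ : DevInt.subι Zc (genericPoint (DevInt.sub Zc)) = y := DevInt.subι_genericPoint Zc y hy'
    have := PushInt.nontrivial_stalk_push (DevInt.subι Zc) H (genericPoint (DevInt.sub Zc)) hHnt
    rw [hξ] at this
    exact not_subsingleton_iff_nontrivial.mpr this
  -- `i_* O_Z`
  have hA : Coh.IsCoh (DevTest.A J) := DevTest.isCoh_A _
  have hAs : CohB1.support (DevTest.A J) ⊆ Z := by rw [DevTest.support_A, hJs]
  have hAl := DevTest.length_stalk_A Zc y hy'
  have hAtf : TFy (DevTest.A J) y := tfy_A Zc y hy'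
  have hfin := DevKey.length_ne_top G hG Z y hgenZ hGs
  obtain ⟨r, hr⟩ := ENat.ne_top_iff_exists.mp hfin
  have hr0 : r ≠ 0 := by
    rintro rfl
    rw [Nat.cast_zero] at hr
    exact hGy (Module.length_eq_zero_iff.mp hr.symm)
  obtain ⟨r', rfl⟩ := Nat.exists_eq_succ_of_ne_zero hr0
  have hB := DevPow.isCoh_pow _ hA (r' + 1)
  have hBs := (DevPow.support_pow_subset (DevTest.A J) (r' + 1)).trans hAs
  have hBl := DevPow.length_pow (DevTest.A J) y (r' + 1)
  rw [hAl, mul_one] at hBl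
  have hBtf : TFy (DevPow.pow (DevTest.A J) (r' + 1)) y := tfy_pow hA hAtf (r' + 1)
  haveI := hG.1
  haveI := hG.2
  haveI := hB.1
  haveI := hB.2
  haveI := CohStalk.finite_stalk G y
  haveI := CohStalk.finite_stalk (DevPow.pow (DevTest.A J) (r' + 1)) y
  obtain ⟨ψ⟩ := DevSS.nonempty_linearEquiv_of_killed
    (DevPow.stalk_smul_eq_zero Zc y hy' _ (DevPow.killed_pow _ _ (DevTest.killed_A _) (r' + 1)))
    (DevPow.stalk_smul_eq_zero Zc y hy' G hGk)
    (hBl.trans hr)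
  have hKB : K (DevPow.pow (DevTest.A J) (r' + 1)) :=
    revInj K ha1 ha2 Z y IH' _ hB hBs hBtf G hG hGs hKG ψ.toLinearMap ψ.bijective
  obtain ⟨e⟩ := PowIso.nonempty_iso (DevTest.A J) (r' + 1)
  have hKA : K (DevTest.A J) := hb _ (r' + 1) (by omega) hA (K.prop_of_iso e hKB)
  exact key12 K ha1 ha2 Z y IH' hgenZ _ hA hAs hKA hAtf hAl F hF hFs

end Groth.Agent.Lib.Helper1.Dev12
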