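import Mathlib
import Groth.Prelude.Def_Dual3
import Groth.Agent.Lib.Helper1.Dev12Main
import Groth.Agent.Lib.Helper17.DevKeyExt
import Groth.Agent.Lib.Helper17.DevTest2

/-!
# Dévissage with extensions and roots only (irreducible support)
-/

set_option autoImplicit false
set_option linter.style.haveILetI false
universe u
open CategoryTheory CategoryTheory.Limits AlgebraicGeometry Opposite TopologicalSpace

namespace Groth.Agent.Lib.Helper1.Dev9522

open Groth.Agent.Lib.Helper3 Groth.Agent.Lib.Helper17 Groth.Agent.Lib.Helper17.DevBasic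
  Groth.Agent.Lib.Helper17.DevTF Groth.Agent.Lib.Helper17.StalkExact
  Groth.Agent.Lib.Helper17.DevGM Groth.Agent.Lib.Helper17.DevKey Groth.Agent.Lib.Helper1.Dev12

variable {X : Scheme.{u}}

/-- a morphism vanishing on sections over all affine opens is zero. -/
theorem eq_zero_of_app_affine {M N : X.Modules} (φ : M ⟶ N)
    (h : ∀ (U : X.affineOpens) (s : Γ(M, U.1)), φ.app U.1 s = 0) : φ = 0 := by
  apply Scheme.Modules.hom_ext
  intro W
  ext s
  show φ.app W s = 0
  refine ModBasis.eq_zero_of_locally_zero N W _ (fun x hx => ?_)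
  obtain ⟨V, hV, hxV, hVW⟩ := Opens.isBasis_iff_nbhd.mp X.isBasis_affineOpens hx
  refine ⟨V, hVW, hxV, ?_⟩
  show N.presheaf.map (homOfLE hVW).op (φ.app W s) = 0
  rw [← ModBasic.app_res φ hVW s]
  exact h ⟨V, hV⟩ _

theorem app_eq_zero_of_mem_smul {G N : X.Modules} (φ : G ⟶ N) (U : X.Opens)
    (I : Ideal Γ(X, U)) (h : ∀ r ∈ I, ∀ g : Γ(G, U), φ.app U (r • g) = 0)
    (x : Γ(G, U)) (hx : x ∈ I • (⊤ : Submodule Γ(X, U) Γ(G, U))) : φ.app U x = 0 := by
  refine Submodule.smul_induction_on (p := fun x => φ.app U x = 0) hx ?_ ?_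
  · intro r hr g _
    exact h r hr g
  · intro a b ha hb
    rw [map_add, ha, hb, add_zero]

/-- sections of `J · G` over affine opens lie in `J(U) · G(U)`. -/
theorem idealMulι_app_mem (J : X.IdealSheafData) (G : X.Modules) [G.IsQuasicoherent]
    (U : X.affineOpens) (s : Γ((Dual3.idealMul J).obj G, U.1)) :
    (Dual3.idealMulι J G).app U.1 s ∈ J.ideal U • (⊤ : Submodule Γ(X, U.1) Γ(G, U.1)) := by
  apply DevStep.mem_smul_top_of_proj_app_eq_zero J G U
  have := congrArg (fun φ => (Scheme.Modules.Hom.app φ U.1).hom s)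
    (kernel.condition (DevStep.proj J G))
  exact this

/-- a morphism from a module with no support on `V'` dies in `j_* j^*`. -/
theorem comp_un_eq_zero (V' : X.Opens) {N G : X.Modules} (k : N ⟶ G)
    (h : ∀ x ∈ V', x ∉ CohB1.support N) : k ≫ un V' G = 0 := by
  apply Scheme.Modules.hom_ext
  intro U
  ext s
  show (un V' G).app U (k.app U s) = 0
  have h1 : (un V' G).app U (k.app U s) =
      G.presheaf.map (homOfLE (V'.ι.image_preimage_le U)).op (k.app U s) := rfl
  rw [h1, ← ModBasic.app_res k _ s]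
  haveI : Subsingleton Γ(N, V'.ι ''ᵁ (V'.ι ⁻¹ᵁ U)) :=
    QCOpen.subsingleton_sections_of_stalks N _
      (fun x hx => not_not.mp (h x (Scheme.Opens.ι_image_le _ _ hx)))
  rw [Subsingleton.elim (N.presheaf.map (homOfLE (V'.ι.image_preimage_le U)).op s) 0, map_zero]
  rfl

/-- a nonzero-at-`ξ` subsheaf of `i_* O_Z` has stalk of length one at the generic point. -/
theorem length_sub_A (Z : Closeds X) (ξ : X) (hξ : closure {ξ} = (Z : Set X))
    (A' : X.Modules) (a : A' ⟶ DevTest.A (Scheme.IdealSheafData.vanishingIdeal Z)) [Mono a]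
    (hA'ξ : ξ ∈ CohB1.support A') :
    Module.length (X.presheaf.stalk ξ) (A'.presheaf.stalk ξ) = 1 := by
  haveI := DevTest.isSimpleModule_stalk_A Z ξ hξ
  haveI : Nontrivial (A'.presheaf.stalk ξ) := not_subsingleton_iff_nontrivial.mp hA'ξ
  have hinj := stalkLin_injective a ξ
  have hsurj : Function.Surjective (stalkLin a ξ) := by
    rw [← LinearMap.range_eq_top]
    rcases eq_bot_or_eq_top (LinearMap.range (stalkLin a ξ)) with h | h
    · exfalso
      rw [LinearMap.range_eq_bot] at h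
      obtain ⟨x, y, hxy⟩ := exists_pair_ne (A'.presheaf.stalk ξ)
      apply hxy
      apply hinj
      rw [h, LinearMap.zero_apply, LinearMap.zero_apply]
    · exact h
  rw [(LinearEquiv.ofBijective (stalkLin a ξ) ⟨hinj, hsurj⟩).length_eq]
  exact DevTest.length_stalk_A Z ξ hξ

theorem support_pow_le (I : X.IdealSheafData) (n : ℕ) :
    ((I ^ n).support : Set X) ⊆ (I.support : Set X) := by
  rcases Nat.eq_zero_or_pos n with rfl | hn
  · rw [pow_zero, Scheme.IdealSheafData.one_eq_top, Scheme.IdealSheafData.support_top]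
    exact Set.empty_subset _
  · rw [Scheme.IdealSheafData.support_pow I n (by omega)]

theorem tfy_of_mono {A' A : X.Modules} (a : A' ⟶ A) [Mono a] {y : X} (hA : TFy A y) :
    TFy A' y := by
  intro K k hk hK hyK
  haveI := hk
  exact hA K (k ≫ a) inferInstance hK hyK

theorem sub_of_test [IsNoetherian X] (P : X.Modules → Prop)
    (hP : ∀ M N : X.Modules, Nonempty (M ≅ N) → P M → P N)
    (hext : ∀ S : ShortComplex X.Modules, S.ShortExact → Coh.IsCoh S.X₁ → Coh.IsCoh S.X₂ →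
      Coh.IsCoh S.X₃ → P S.X₁ → P S.X₃ → P S.X₂)
    (h₂ : ∀ (F : X.Modules) (r : ℕ), Coh.IsCoh F → 1 ≤ r → P (∐ fun _ : Fin r => F) → P F)
    (Z : Closeds X) (ξ : X) (hξ : closure {ξ} = (Z : Set X))
    (IH : ∀ F' : X.Modules, Coh.IsCoh F' → CohB1.support F' ⊆ (Z : Set X) →
      ξ ∉ CohB1.support F' → P F')
    (G : X.Modules) (hG : Coh.IsCoh G) (hGs : CohB1.support G ⊆ (Z : Set X))
    (hGξ : ξ ∈ CohB1.support G)
    (hGm : ∀ a ∈ IsLocalRing.maximalIdeal (X.presheaf.stalk ξ),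
      ∀ m : ↑(G.presheaf.stalk ξ), a • m = 0)
    (hG4 : ∀ J : X.IdealSheafData, ξ ∉ (J.support : Set X) →
        ∃ (G' : X.Modules) (ι' : G' ⟶ (Dual3.idealMul J).obj G), Mono ι' ∧ Coh.IsQCoh G' ∧
          IsIso ((TopCat.Presheaf.stalkFunctor _ ξ).map
            (ι' ≫ Dual3.idealMulι J G).mapPresheaf) ∧ P G')
    (A' : X.Modules) (hA'q : A'.IsQuasicoherent)
    (a : A' ⟶ DevTest.A (Scheme.IdealSheafData.vanishingIdeal Z)) (ha : Mono a)
    (hA'ξ : ξ ∈ CohB1.support A') : P A' := by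
  haveI : Mono a := ha
  have hξZ : ξ ∈ (Z : Set X) := hξ ▸ subset_closure (Set.mem_singleton ξ)
  have hgenZ : ∀ x ∈ (Z : Set X), ξ ⤳ x := fun x hx =>
    specializes_iff_mem_closure.mpr (hξ.symm ▸ hx)
  have hAs : CohB1.support (DevTest.A (Scheme.IdealSheafData.vanishingIdeal Z)) ⊆ (Z : Set X) := by
    rw [DevTest.support_A, Scheme.IdealSheafData.coe_support_vanishingIdeal]
  -- properties of `A'`
  have hA' : Coh.IsCoh A' := isCoh_of_mono a hA'q (DevTest.isCoh_A (Scheme.IdealSheafData.vanishingIdeal Z))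
  have hA's : CohB1.support A' ⊆ (Z : Set X) := (support_subset_of_mono a).trans hAs
  have hA'tf : TFy A' ξ := tfy_of_mono a (tfy_A Z ξ hξ)
  have hA'k : ClSub.KilledByIdeal (Scheme.IdealSheafData.vanishingIdeal Z) A' := killed_of_mono (Scheme.IdealSheafData.vanishingIdeal Z) a (DevTest.killed_A (Scheme.IdealSheafData.vanishingIdeal Z))
  have hA'l := length_sub_A Z ξ hξ A' a hA'ξ
  -- the rank of `G`
  have hfin := length_ne_top G hG (Z : Set X) ξ hgenZ hGs
  obtain ⟨r, hr⟩ := ENat.ne_top_iff_exists.mp hfin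
  have hr0 : r ≠ 0 := by
    rintro rfl
    rw [Nat.cast_zero] at hr
    exact hGξ (Module.length_eq_zero_iff.mp hr.symm)
  obtain ⟨r', rfl⟩ := Nat.exists_eq_succ_of_ne_zero hr0
  have hB := DevPow.isCoh_pow _ hA' (r' + 1)
  have hBs := (DevPow.support_pow_subset A' (r' + 1)).trans hA's
  have hBl := DevPow.length_pow A' ξ (r' + 1)
  rw [hA'l, mul_one] at hBl
  have hBtf : TFy (DevPow.pow A' (r' + 1)) ξ := tfy_pow hA' hA'tf (r' + 1)
  haveI := hG.1
  haveI := hG.2
  haveI := hB.1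
  haveI := hB.2
  haveI := CohStalk.finite_stalk G ξ
  haveI := CohStalk.finite_stalk (DevPow.pow A' (r' + 1)) ξ
  obtain ⟨ψ⟩ := DevSS.nonempty_linearEquiv_of_killed hGm
    (DevPow.stalk_smul_eq_zero Z ξ hξ _ (DevPow.killed_pow _ _ hA'k (r' + 1)))
    (hr.symm.trans hBl.symm)
  set B := DevPow.pow A' (r' + 1) with hBdef
  obtain ⟨D⟩ := exists_gmData G B hG hB ξ ψ.toLinearMap
  haveI := D.mono_ι
  have hBbar : Coh.IsCoh (tf D.V B) := isCoh_tf D.V B hB
  haveI := hBbar.1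
  have hG'' : Coh.IsCoh D.G' := isCoh_of_mono D.ι D.qc hG
  haveI := hG''.1
  have hQ : Coh.IsCoh (cokernel D.ι) := isCoh_cokernel D.ι D.qc hG
  have yQ : ξ ∉ CohB1.support (cokernel D.ι) := notMem_support_cokernel D.ι ξ D.bij.2
  have hN : Coh.IsCoh (kernel D.φ') := isCoh_kernel D.φ' hG'' hBbar.1
  have yN : ξ ∉ CohB1.support (kernel D.φ') :=
    notMem_support_kernel D.φ' ξ (D.stalkLin_φ'_injective ψ.injective)
  -- the open set `V'` off the support of the kernel
  have hNcl : IsClosed (CohB1.support (kernel D.φ')) := Groth.Agent.S0020.result X _ hN.2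
  set V' : X.Opens := ⟨(CohB1.support (kernel D.φ'))ᶜ, hNcl.isOpen_compl⟩ with hV'
  have hξV' : ξ ∈ V' := yN
  have hNun : (kernel.ι D.φ' ≫ D.ι) ≫ un V' G = 0 :=
    comp_un_eq_zero V' _ (fun x hx => hx)
  -- Artin–Rees
  obtain ⟨n₂, hn₂⟩ := ARees.exists_pow_mono G V' hG
  -- the ideal killing the cokernel of `D.ι`
  have hQcl : IsClosed (CohB1.support (cokernel D.ι)) := Groth.Agent.S0020.result X _ hQ.2
  obtain ⟨a₁, ha₁⟩ := DevNilp.exists_pow_killed (cokernel D.ι) hQ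
    ⟨CohB1.support (cokernel D.ι), hQcl⟩ le_rfl
  set J₁ := Scheme.IdealSheafData.vanishingIdeal
    (⟨CohB1.support (cokernel D.ι), hQcl⟩ : Closeds X) with hJ₁
  set J₂ := ARees.JV V' with hJ₂
  set J := J₁ ^ a₁ * J₂ ^ n₂ with hJ
  have hJξ : ξ ∉ (J.support : Set X) := by
    rw [hJ, Scheme.IdealSheafData.support_mul]
    rintro (h | h)
    · have h1 := support_pow_le J₁ a₁ h
      rw [hJ₁, Scheme.IdealSheafData.coe_support_vanishingIdeal] at h1
      exact yQ h1
    · have h1 := support_pow_le J₂ n₂ h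
      rw [hJ₂, ARees.JV, Scheme.IdealSheafData.coe_support_vanishingIdeal] at h1
      exact h1 hξV'
  obtain ⟨G', ι', hι', hG'q, hiso, hPG'⟩ := hG4 J hJξ
  haveI := hι'
  haveI : G'.IsQuasicoherent := hG'q
  haveI : Mono (Dual3.idealMulι J G) := inferInstanceAs (Mono (kernel.ι _))
  set m : G' ⟶ G := ι' ≫ Dual3.idealMulι J G with hm
  haveI : Mono m := mono_comp _ _
  have hG' : Coh.IsCoh G' := isCoh_of_mono m hG'q hG
  have hmem : ∀ (U : X.affineOpens) (s : Γ(G', U.1)),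
      m.app U.1 s ∈ J.ideal U • (⊤ : Submodule Γ(X, U.1) Γ(G, U.1)) :=
    fun U s => idealMulι_app_mem J G U (ι'.app U.1 s)
  have hJle : ∀ (U : X.affineOpens) (r : Γ(X, U.1)), r ∈ J.ideal U →
      r ∈ (J₁ ^ a₁).ideal U ∧ r ∈ (J₂ ^ n₂).ideal U := by
    intro U r hr
    have : r ∈ (J₁ ^ a₁).ideal U * (J₂ ^ n₂).ideal U := hr
    exact Ideal.mul_le_inf this
  -- `m` lands in `D.G'`
  have h7a : m ≫ cokernel.π D.ι = 0 := by
    apply eq_zero_of_app_affine
    intro U s
    show (cokernel.π D.ι).app U.1 (m.app U.1 s) = 0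
    refine app_eq_zero_of_mem_smul (cokernel.π D.ι) U.1 (J.ideal U) ?_ _ (hmem U s)
    intro r hr g
    rw [Scheme.Modules.Hom.app_smul]
    exact (killed_iff _ _).mp ha₁ U r (hJle U r hr).1 _
  set g : G' ⟶ D.G' := Abelian.monoLift D.ι m h7a with hg
  have hgm : g ≫ D.ι = m := Abelian.monoLift_comp D.ι m h7a
  -- `m` lands in `J₂^n₂ G`
  have h7b : m ≫ DevStep.proj (J₂ ^ n₂) G = 0 := by
    apply eq_zero_of_app_affine
    intro U s
    show (DevStep.proj (J₂ ^ n₂) G).app U.1 (m.app U.1 s) = 0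
    refine app_eq_zero_of_mem_smul (DevStep.proj (J₂ ^ n₂) G) U.1 (J.ideal U) ?_ _ (hmem U s)
    intro r hr g
    exact DevStep.proj_app_smul_eq_zero (J₂ ^ n₂) G U r (hJle U r hr).2 g
  set m₂ : G' ⟶ kernel (DevStep.proj (J₂ ^ n₂) G) := kernel.lift _ m h7b with hm₂
  have hm₂m : m₂ ≫ kernel.ι (DevStep.proj (J₂ ^ n₂) G) = m := kernel.lift_ι _ _ _
  haveI hcm : Mono (ARees.cmp G V' n₂) := hn₂ n₂ le_rfl
  -- `θ` is a monomorphism
  set θ : G' ⟶ tf D.V B := g ≫ D.φ' with hθ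
  haveI : Mono θ := by
    apply Preadditive.mono_of_cancel_zero
    intro W k₀ hk₀
    have h1 : (k₀ ≫ g) ≫ D.φ' = 0 := by rw [Category.assoc]; exact hk₀
    have h2 : kernel.lift D.φ' (k₀ ≫ g) h1 ≫ kernel.ι D.φ' = k₀ ≫ g := kernel.lift_ι _ _ _
    have h3 : (k₀ ≫ m) ≫ un V' G = 0 := by
      rw [← hgm, ← Category.assoc k₀ g D.ι, ← h2]
      simp only [Category.assoc]
      rw [← Category.assoc (kernel.ι D.φ') D.ι (un V' G), hNun, comp_zero]
    have h4 : (k₀ ≫ m) ≫ cokernel.π (kernel.ι (un V' G)) = 0 := by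
      have h5 : kernel.lift (un V' G) (k₀ ≫ m) h3 ≫ kernel.ι (un V' G) = k₀ ≫ m :=
        kernel.lift_ι _ _ _
      rw [← h5, Category.assoc, cokernel.condition, comp_zero]
    have h6 : (k₀ ≫ m₂) ≫ ARees.cmp G V' n₂ = 0 := by
      rw [ARees.cmp, ← Category.assoc, Category.assoc k₀ m₂, hm₂m]
      exact h4
    have h7 : k₀ ≫ m₂ = 0 := by
      rw [← cancel_mono (ARees.cmp G V' n₂), h6, zero_comp]
    have h8 : k₀ ≫ m = 0 := by
      rw [← hm₂m, ← Category.assoc, h7, zero_comp]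
    rw [← cancel_mono m, h8, zero_comp]
  -- `θ` is surjective on the stalk at `ξ`
  have hbij_m : Function.Bijective (stalkLin m ξ) :=
    (ConcreteCategory.isIso_iff_bijective (QS.stalkMap m ξ)).mp hiso
  have hsurj_g : Function.Surjective (stalkLin g ξ) := by
    intro b
    obtain ⟨x, hx⟩ := hbij_m.2 (stalkLin D.ι ξ b)
    refine ⟨x, D.bij.1 ?_⟩
    rw [← hx, ← stalkLin_comp_apply]
    exact stalkLin_congr hgm ξ x
  have hsurj_θ : Function.Surjective (stalkLin θ ξ) := by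
    intro c
    obtain ⟨b, rfl⟩ := D.stalkLin_φ'_surjective ψ.surjective c
    obtain ⟨x, rfl⟩ := hsurj_g b
    exact ⟨x, stalkLin_comp_apply g D.φ' ξ x⟩
  have hC : Coh.IsCoh (cokernel θ) := isCoh_cokernel θ hG'q hBbar
  have sBbar : CohB1.support (tf D.V B) ⊆ (Z : Set X) :=
    (support_subset_of_epi (cokernel.π _)).trans hBs
  have sC : CohB1.support (cokernel θ) ⊆ (Z : Set X) :=
    (support_subset_of_epi (cokernel.π _)).trans sBbar
  have yC : ξ ∉ CohB1.support (cokernel θ) := notMem_support_cokernel θ ξ hsurj_θ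
  have pBbar : P (tf D.V B) :=
    hext _ (shortExact_of_mono θ) hG' hBbar hC hPG' (IH _ hC sC yC)
  -- `B` is torsion-free, so `B ≅ tf B`
  have hz : IsZero (tors D.V B) :=
    hBtf _ (kernel.ι (un D.V B)) inferInstance (isCoh_tors D.V B hB).1
      (notMem_support_tors D.V B ξ D.hy)
  haveI : Mono (cokernel.π (kernel.ι (un D.V B))) :=
    (shortExact_tf D.V B).exact.mono_g (hz.eq_of_src _ _)
  haveI : IsIso (cokernel.π (kernel.ι (un D.V B))) := isIso_of_mono_of_epi _
  have pB : P B := hP _ _ ⟨(asIso (cokernel.π (kernel.ι (un D.V B)))).symm⟩ pBbar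
  obtain ⟨e⟩ := PowIso.nonempty_iso A' (r' + 1)
  exact h₂ A' (r' + 1) hA' (by omega) (hP _ _ ⟨e⟩ pB)

end Groth.Agent.Lib.Helper1.Dev9522
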