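import Mathlib
import Groth.Prelude
import Groth.Agent.Lib.Helper1.Dev9522
import Groth.Agent.Lib.Helper27.ModSections
import Groth.Agent.Lib.Helper3.QCProps

/-!
# Sections of subobjects of an `O_X`-module
-/

set_option autoImplicit false
set_option linter.style.haveILetI false
universe u
open CategoryTheory CategoryTheory.Limits AlgebraicGeometry TopologicalSpace Opposite

namespace Groth.Agent.Lib.Helper1.ARSub

open Groth.Agent.Lib.Helper3 Groth.Agent.Lib.Helper27

variable {X : Scheme.{u}} {F : X.Modules}

/-- the sections of `F` over `U` coming from the subobject `P`. -/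
def SecIm (P : Subobject F) (U : X.Opens) : Set Γ(F, U) := Set.range (P.arrow.app U)

theorem secIm_mk {A : X.Modules} (f : A ⟶ F) [Mono f] (U : X.Opens) :
    SecIm (Subobject.mk f) U = Set.range (f.app U) := by
  ext s
  constructor
  · rintro ⟨t, rfl⟩
    refine ⟨(Subobject.underlyingIso f).hom.app U t, ?_⟩
    have h := congrArg (fun φ => (Scheme.Modules.Hom.app φ U).hom t)
      (Subobject.underlyingIso_hom_comp_eq_mk f)
    exact h
  · rintro ⟨a, rfl⟩
    refine ⟨(Subobject.underlyingIso f).inv.app U a, ?_⟩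
    have h := congrArg (fun φ => (Scheme.Modules.Hom.app φ U).hom a)
      (Subobject.underlyingIso_arrow f)
    exact h

theorem secIm_mono {P Q : Subobject F} (h : P ≤ Q) (U : X.Opens) : SecIm P U ⊆ SecIm Q U := by
  rintro _ ⟨t, rfl⟩
  refine ⟨(Subobject.ofLE P Q h).app U t, ?_⟩
  have h2 := congrArg (fun φ => (Scheme.Modules.Hom.app φ U).hom t) (Subobject.ofLE_arrow h)
  exact h2

theorem le_of_secIm {P Q : Subobject F}
    (h : ∀ U : X.affineOpens, SecIm P U.1 ⊆ SecIm Q U.1) : P ≤ Q := by
  have h0 : P.arrow ≫ cokernel.π Q.arrow = 0 := by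
    apply Dev9522.eq_zero_of_app_affine
    intro U s
    obtain ⟨t, ht⟩ := h U ⟨s, rfl⟩
    show (cokernel.π Q.arrow).app U.1 (P.arrow.app U.1 s) = 0
    rw [← ht]
    have h2 := congrArg (fun φ => (Scheme.Modules.Hom.app φ U.1).hom t)
      (cokernel.condition Q.arrow)
    exact h2
  exact Subobject.le_of_comm (Abelian.monoLift Q.arrow P.arrow h0) (Abelian.monoLift_comp _ _ _)

/-- the kernel description of the intersection. -/
noncomputable abbrev infK (P Q : Subobject F) : X.Modules := kernel (P.arrow ≫ cokernel.π Q.arrow)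

noncomputable abbrev infKι (P Q : Subobject F) : infK P Q ⟶ F :=
  kernel.ι (P.arrow ≫ cokernel.π Q.arrow) ≫ P.arrow

instance (P Q : Subobject F) : Mono (infKι P Q) := mono_comp _ _

theorem mk_infKι (P Q : Subobject F) : Subobject.mk (infKι P Q) = P ⊓ Q := by
  apply le_antisymm
  · apply le_inf
    · exact Subobject.mk_le_of_comm (kernel.ι _) rfl
    · have h0 : infKι P Q ≫ cokernel.π Q.arrow = 0 := by
        rw [Category.assoc, kernel.condition]
      exact Subobject.mk_le_of_comm (Abelian.monoLift Q.arrow (infKι P Q) h0)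
        (Abelian.monoLift_comp _ _ _)
  · have h1 : Subobject.ofLE (P ⊓ Q) P inf_le_left ≫ (P.arrow ≫ cokernel.π Q.arrow) = 0 := by
      rw [← Category.assoc, Subobject.ofLE_arrow, ← Subobject.ofLE_arrow (inf_le_right : P ⊓ Q ≤ Q),
        Category.assoc, cokernel.condition, comp_zero]
    refine Subobject.le_mk_of_comm (kernel.lift _ _ h1) ?_
    rw [← Category.assoc, kernel.lift_ι, Subobject.ofLE_arrow]

theorem secIm_inf (P Q : Subobject F) (U : X.Opens) :
    SecIm (P ⊓ Q) U = SecIm P U ∩ SecIm Q U := by
  apply Set.Subset.antisymm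
  · exact Set.subset_inter (secIm_mono inf_le_left U) (secIm_mono inf_le_right U)
  · rintro s ⟨⟨α, hα⟩, ⟨β, hβ⟩⟩
    rw [← mk_infKι, secIm_mk]
    set g := P.arrow ≫ cokernel.π Q.arrow with hg
    have hgα : g.app U α = 0 := by
      show (cokernel.π Q.arrow).app U (P.arrow.app U α) = 0
      rw [hα, ← hβ]
      have h2 := congrArg (fun φ => (Scheme.Modules.Hom.app φ U).hom β)
        (cokernel.condition Q.arrow)
      exact h2
    -- left exactness of sections
    let Fn : X.Modules ⥤ Ab := Scheme.Modules.toPresheaf X ⋙ (evaluation _ _).obj (op U)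
    have i1 : PreservesFiniteLimits (Scheme.Modules.toPresheaf X) :=
      PreservesLimits.preservesFiniteLimits _
    have i2 : PreservesFiniteLimits ((evaluation (Opens ↥X)ᵒᵖ Ab).obj (op U)) :=
      PreservesLimits.preservesFiniteLimits _
    have : PreservesFiniteLimits Fn := comp_preservesFiniteLimits _ _
    have : Fn.PreservesZeroMorphisms := ⟨fun M N => rfl⟩
    let S : ShortComplex X.Modules := ShortComplex.mk (kernel.ι g) g (kernel.condition g)
    have hS : S.Exact := ShortComplex.exact_kernel g
    have hmono : Mono S.f := by dsimp [S]; infer_instance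
    have hex : (S.map Fn).Exact := hS.map_of_mono_of_preservesKernel Fn hmono inferInstance
    have hfe := (ShortComplex.ab_exact_iff_function_exact (S.map Fn)).mp hex
    obtain ⟨κ, hκ⟩ := (hfe α).mp hgα
    refine ⟨κ, ?_⟩
    show P.arrow.app U ((kernel.ι g).app U κ) = s
    rw [← hα]
    exact congrArg (P.arrow.app U) hκ

theorem isQuasicoherent_inf (P Q : Subobject F) [F.IsQuasicoherent]
    [(Subobject.underlying.obj P).IsQuasicoherent] [(Subobject.underlying.obj Q).IsQuasicoherent] :
    (Subobject.underlying.obj (P ⊓ Q)).IsQuasicoherent := by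
  haveI : (cokernel Q.arrow).IsQuasicoherent := QCProps.isQuasicoherent_cokernel Q.arrow
  haveI : (infK P Q).IsQuasicoherent := QCProps.isQuasicoherent_kernel _
  have e : infK P Q ≅ Subobject.underlying.obj (P ⊓ Q) :=
    (Subobject.underlyingIso (infKι P Q)).symm ≪≫ eqToIso (by rw [mk_infKι])
  exact (SheafOfModules.isQuasicoherent X.ringCatSheaf).prop_of_iso e inferInstance

end Groth.Agent.Lib.Helper1.ARSub
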