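import Mathlib
import Groth.Agent.Lib.Helper1.Dev9522
import Groth.Agent.Lib.Helper17.DevNilp
import Groth.Agent.Lib.Helper27.ModSections

/-!
# Sections of `J · G` over affine opens, and maps out of `I^n G` vanishing off `V(I)`
-/

set_option autoImplicit false
set_option linter.style.haveILetI false
universe u
open CategoryTheory CategoryTheory.Limits AlgebraicGeometry Opposite TopologicalSpace

namespace Groth.Agent.Lib.Helper1.IdealMulSec

open Groth.Agent.Lib.Helper3 Groth.Agent.Lib.Helper17 Groth.Agent.Lib.Helper17.DevBasic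
  Groth.Agent.Lib.Helper17.StalkExact Groth.Agent.Lib.Helper27

variable {X : Scheme.{u}}

theorem proj_app_eq_zero_of_mem (J : X.IdealSheafData) (G : X.Modules) [G.IsQuasicoherent]
    (U : X.affineOpens) (x : Γ(G, U.1))
    (hx : x ∈ J.ideal U • (⊤ : Submodule Γ(X, U.1) Γ(G, U.1))) :
    (DevStep.proj J G).app U.1 x = 0 :=
  Dev9522.app_eq_zero_of_mem_smul (DevStep.proj J G) U.1 (J.ideal U)
    (fun r hr g => DevStep.proj_app_smul_eq_zero J G U r hr g) x hx

/-- on affine opens, every element of `J(U)·G(U)` is a section of `J·G`. -/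
theorem exists_of_mem_smul (J : X.IdealSheafData) (G : X.Modules) [G.IsQuasicoherent]
    (U : X.affineOpens) (x : Γ(G, U.1))
    (hx : x ∈ J.ideal U • (⊤ : Submodule Γ(X, U.1) Γ(G, U.1))) :
    ∃ s : Γ((Dual3.idealMul J).obj G, U.1), (Dual3.idealMulι J G).app U.1 s = x := by
  have hS : (ShortComplex.mk (kernel.ι (DevStep.proj J G)) (DevStep.proj J G)
      (kernel.condition _)).ShortExact :=
    ShortComplex.ShortExact.mk' (ShortComplex.exact_kernel _) (by dsimp; infer_instance)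
      (by dsimp; infer_instance)
  obtain ⟨s, hs⟩ := ((ModSections.sections_left_exact _ hS U.1).2 x).mp
    (proj_app_eq_zero_of_mem J G U x hx)
  exact ⟨s, hs⟩

theorem idealMulι_app_injective (J : X.IdealSheafData) (G : X.Modules) (W : X.Opens) :
    Function.Injective ((Dual3.idealMulι J G).app W) :=
  (QCProps.mono_iff_app_injective (kernel.ι (DevStep.proj J G))).mp inferInstance W

/-- `J' ≤ J` implies `J'·G ⊆ J·G`. -/
theorem exists_le {J' J : X.IdealSheafData} (h : J' ≤ J) (G : X.Modules) [G.IsQuasicoherent] :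
    ∃ ι : (Dual3.idealMul J').obj G ⟶ (Dual3.idealMul J).obj G,
      ι ≫ Dual3.idealMulι J G = Dual3.idealMulι J' G := by
  have h0 : Dual3.idealMulι J' G ≫ DevStep.proj J G = 0 := by
    apply Dev9522.eq_zero_of_app_affine
    intro U s
    exact proj_app_eq_zero_of_mem J G U _
      (Submodule.smul_mono (h U) le_rfl (Dev9522.idealMulι_app_mem J' G U s))
  exact ⟨kernel.lift _ _ h0, kernel.lift_ι _ _ _⟩

/-- if `I'` kills the values of `ψ : J·G → F`, then `ψ` vanishes on `(I' * J)·G`. -/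
theorem comp_eq_zero_of_killed (I' J : X.IdealSheafData) (G F : X.Modules) [G.IsQuasicoherent]
    (ψ : (Dual3.idealMul J).obj G ⟶ F)
    (hk : ∀ (U : X.affineOpens) (a : Γ(X, U.1)), a ∈ I'.ideal U →
      ∀ t : Γ((Dual3.idealMul J).obj G, U.1), a • ψ.app U.1 t = 0)
    (ι : (Dual3.idealMul (I' * J)).obj G ⟶ (Dual3.idealMul J).obj G)
    (hι : ι ≫ Dual3.idealMulι J G = Dual3.idealMulι (I' * J) G) : ι ≫ ψ = 0 := by
  apply Dev9522.eq_zero_of_app_affine
  intro U s
  show ψ.app U.1 (ι.app U.1 s) = 0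
  have h1 : (Dual3.idealMulι J G).app U.1 (ι.app U.1 s) ∈
      (I'.ideal U * J.ideal U) • (⊤ : Submodule Γ(X, U.1) Γ(G, U.1)) := by
    have h2 := Dev9522.idealMulι_app_mem (I' * J) G U s
    rw [← hι] at h2
    exact h2
  rw [mul_smul] at h1
  have key : ∃ t : Γ((Dual3.idealMul J).obj G, U.1),
      (Dual3.idealMulι J G).app U.1 t = (Dual3.idealMulι J G).app U.1 (ι.app U.1 s) ∧
        ψ.app U.1 t = 0 := by
    refine Submodule.smul_induction_on
      (p := fun x => ∃ t : Γ((Dual3.idealMul J).obj G, U.1),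
        (Dual3.idealMulι J G).app U.1 t = x ∧ ψ.app U.1 t = 0) h1 ?_ ?_
    · intro a ha x hx
      obtain ⟨t', ht'⟩ := exists_of_mem_smul J G U x hx
      refine ⟨a • t', ?_, ?_⟩
      · rw [Scheme.Modules.Hom.app_smul, ht']
      · rw [Scheme.Modules.Hom.app_smul]
        exact hk U a ha t'
    · rintro x y ⟨tx, hx1, hx2⟩ ⟨ty, hy1, hy2⟩
      exact ⟨tx + ty, by rw [map_add, hx1, hy1], by rw [map_add, hx2, hy2, add_zero]⟩
  obtain ⟨t, ht1, ht2⟩ := key
  rw [← idealMulι_app_injective J G U.1 ht1]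
  exact ht2

/-- a morphism `I^n G → F` vanishing off `V(I)` vanishes on `I^N G` for some `N`. -/
theorem key9516 (X : Scheme.{u}) [IsNoetherian X] (F G : X.Modules)
    (hF : Coh.IsQCoh F) (hG : Coh.IsCoh G) (I : X.IdealSheafData)
    (U : X.Opens) (hU : (U : Set X) = (I.support : Set X)ᶜ) (n : ℕ)
    (ψ : (Dual3.idealMul (I ^ n)).obj G ⟶ F)
    (hψ : (Scheme.Modules.restrictFunctor U.ι).map ψ = 0) :
    ∃ (N : ℕ) (ι : (Dual3.idealMul (I ^ N)).obj G ⟶ (Dual3.idealMul (I ^ n)).obj G),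
      ι ≫ Dual3.idealMulι (I ^ n) G = Dual3.idealMulι (I ^ N) G ∧ ι ≫ ψ = 0 := by
  haveI := hG.1
  haveI : F.IsQuasicoherent := hF
  have hIG : Coh.IsCoh ((Dual3.idealMul (I ^ n)).obj G) :=
    isCoh_kernel (DevStep.proj (I ^ n) G) hG inferInstance
  haveI := hIG.1
  haveI : (cokernel ψ).IsQuasicoherent := QCProps.isQuasicoherent_cokernel ψ
  haveI hKq : (Abelian.image ψ).IsQuasicoherent := QCProps.isQuasicoherent_kernel (cokernel.π ψ)
  have hK : Coh.IsCoh (Abelian.image ψ) := isCoh_of_epi (Abelian.factorThruImage ψ) hIG hKq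
  have hKs : CohB1.support (Abelian.image ψ) ⊆ (I.support : Set X) := by
    intro x hx
    by_contra hxI
    have hxU : x ∈ U := by
      have : x ∈ (U : Set X) := by rw [hU]; exact hxI
      exact this
    apply hx
    suffices hz : ∀ k : (Abelian.image ψ).presheaf.stalk x, k = 0 from
      ⟨fun k k' => by rw [hz k, hz k']⟩
    intro k
    obtain ⟨g, rfl⟩ := stalkLin_surjective (Abelian.factorThruImage ψ) x k
    apply stalkLin_injective (Abelian.image.ι ψ) x
    rw [map_zero, stalkLin_apply, stalkLin_apply, ← QS.stalkMap_comp_apply, Abelian.image.fac]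
    obtain ⟨W, hxW, t, rfl⟩ := TopCat.Presheaf.exists_germ_eq
      ((Dual3.idealMul (I ^ n)).obj G).presheaf g
    rw [QS.stalkMap_germ]
    have hVW : U.ι ''ᵁ (U.ι ⁻¹ᵁ W) ≤ W := U.ι.image_preimage_le W
    have hxV : x ∈ U.ι ''ᵁ (U.ι ⁻¹ᵁ W) := by
      rw [Scheme.Hom.image_preimage_eq_opensRange_inf, Scheme.Opens.opensRange_ι]
      exact ⟨hxU, hxW⟩
    rw [← TopCat.Presheaf.germ_res_apply F.presheaf (homOfLE hVW) x hxV, ← ModBasic.app_res ψ hVW t]
    have h0 : ψ.app (U.ι ''ᵁ (U.ι ⁻¹ᵁ W))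
        (((Dual3.idealMul (I ^ n)).obj G).presheaf.map (homOfLE hVW).op t) = 0 :=
      congrArg (fun φ => (Scheme.Modules.Hom.app φ (U.ι ⁻¹ᵁ W)).hom
        (((Dual3.idealMul (I ^ n)).obj G).presheaf.map (homOfLE hVW).op t)) hψ
    rw [h0, map_zero]
  obtain ⟨m, hm⟩ := DevNilp.exists_pow_killed (Abelian.image ψ) hK I.support hKs
  have hle : I ^ m ≤ Scheme.IdealSheafData.vanishingIdeal I.support ^ m := by
    intro V
    exact Ideal.pow_right_mono
      ((Scheme.IdealSheafData.le_support_iff_le_vanishingIdeal.mp le_rfl) V) m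
  have hm' : ClSub.KilledByIdeal (I ^ m) (Abelian.image ψ) := DevNilp.killed_mono hle hm
  have hle2 : I ^ m * I ^ n ≤ I ^ n := fun V => Ideal.mul_le_right (I := (I ^ m).ideal V) (J := (I ^ n).ideal V)
  obtain ⟨ι, hι⟩ := exists_le hle2 G
  refine ⟨m + n, ?_⟩
  rw [pow_add]
  refine ⟨ι, hι, ?_⟩
  apply comp_eq_zero_of_killed (I ^ m) (I ^ n) G F ψ ?_ ι hι
  intro V a ha t
  have h1 : ψ.app V.1 t =
      (Abelian.image.ι ψ).app V.1 ((Abelian.factorThruImage ψ).app V.1 t) := by
    conv_lhs => rw [← Abelian.image.fac ψ]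
    rfl
  rw [h1, ← Scheme.Modules.Hom.app_smul, (killed_iff _ _).mp hm' V a ha _, map_zero]

end Groth.Agent.Lib.Helper1.IdealMulSec
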