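import Mathlib
import Groth.Prelude
import Groth.Agent.Lib.Helper1.ARSub1
import Groth.Agent.Lib.Helper1.IdealMulSec
import Groth.Agent.Lib.Helper3.QCExact
import Groth.Agent.Lib.Helper3.QCSec

/-!
# Artin–Rees for subobjects of a coherent module
-/

set_option autoImplicit false
set_option linter.style.haveILetI false
universe u
open CategoryTheory CategoryTheory.Limits AlgebraicGeometry TopologicalSpace Opposite

namespace Groth.Agent.Lib.Helper1.ARSub

open Groth.Agent.Lib.Helper3 Groth.Agent.Lib.Helper27 Groth.Agent.Lib.Helper17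
  Groth.Agent.Lib.Helper1.IdealMulSec

theorem ar_upgrade {R M : Type*} [CommRing R] [AddCommGroup M] [Module R M] (I : Ideal R)
    (N : Submodule R M) (k : ℕ)
    (hk : ∀ n ≥ k, I ^ n • (⊤ : Submodule R M) ⊓ N = I ^ (n - k) • (I ^ k • ⊤ ⊓ N))
    (c n : ℕ) (hc : k ≤ c) (hn : c ≤ n) :
    I ^ n • (⊤ : Submodule R M) ⊓ N = I ^ (n - c) • (I ^ c • ⊤ ⊓ N) := by
  rw [hk n (hc.trans hn), hk c hc, ← Submodule.mul_smul, ← pow_add]
  congr 2
  omega

theorem ar_le {R M : Type*} [CommRing R] [AddCommGroup M] [Module R M] (I : Ideal R)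
    (N : Submodule R M) (c n : ℕ) (hn : c ≤ n) :
    I ^ (n - c) • (I ^ c • (⊤ : Submodule R M) ⊓ N) ≤ I ^ n • (⊤ : Submodule R M) ⊓ N := by
  apply le_inf
  · refine (Submodule.smul_mono le_rfl inf_le_left).trans ?_
    rw [← Submodule.mul_smul, ← pow_add, Nat.sub_add_cancel hn]
  · exact Submodule.smul_le_right.trans inf_le_right

variable {X : Scheme.{u}} {F : X.Modules}

theorem secIm_eq_range (P : Subobject F) (U : X.Opens) :
    SecIm P U = ↑(LinearMap.range (ModSections.appₗ P.arrow U)) := rfl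

theorem secIm_idealMul (J : X.IdealSheafData) (M : X.Modules) [M.IsQuasicoherent] (m : M ⟶ F)
    [Mono m] (U : X.affineOpens) :
    SecIm (Subobject.mk (Dual3.idealMulι J M ≫ m)) U.1 =
      ↑(J.ideal U • LinearMap.range (ModSections.appₗ m U.1)) := by
  rw [secIm_mk, ← Submodule.map_top, ← Submodule.map_smul'']
  ext s
  constructor
  · rintro ⟨t, rfl⟩
    exact ⟨(Dual3.idealMulι J M).app U.1 t, Dev9522.idealMulι_app_mem J M U t, rfl⟩
  · rintro ⟨y, hy, rfl⟩
    obtain ⟨t, ht⟩ := exists_of_mem_smul J M U y hy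
    exact ⟨t, congrArg (m.app U.1) ht⟩

theorem secIm_idealMul_self (J : X.IdealSheafData) [F.IsQuasicoherent] (U : X.affineOpens) :
    SecIm (Subobject.mk (Dual3.idealMulι J F)) U.1 =
      ↑(J.ideal U • (⊤ : Submodule Γ(X, U.1) Γ(F, U.1))) := by
  rw [secIm_mk]
  ext s
  constructor
  · rintro ⟨t, rfl⟩
    exact Dev9522.idealMulι_app_mem J F U t
  · intro hs
    exact exists_of_mem_smul J F U s hs

theorem key9517 (X : Scheme.{u}) [IsNoetherian X] (F G : X.Modules) (hF : Coh.IsCoh F)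
    (hG : Coh.IsQCoh G) (ι : G ⟶ F) [Mono ι] (I : X.IdealSheafData) :
    ∃ c : ℕ, ∀ n : ℕ, c ≤ n →
      Subobject.mk (Dual3.idealMulι (I ^ (n - c))
          (Subobject.underlying.obj (Subobject.mk (Dual3.idealMulι (I ^ c) F) ⊓ Subobject.mk ι)) ≫
        (Subobject.mk (Dual3.idealMulι (I ^ c) F) ⊓ Subobject.mk ι).arrow) =
      Subobject.mk (Dual3.idealMulι (I ^ n) F) ⊓ Subobject.mk ι := by
  haveI := hF.1
  haveI := hF.2
  haveI : G.IsQuasicoherent := hG
  have hqA : ∀ k : ℕ, (Subobject.underlying.obj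
      (Subobject.mk (Dual3.idealMulι (I ^ k) F))).IsQuasicoherent := by
    intro k
    haveI : ((Dual3.idealMul (I ^ k)).obj F).IsQuasicoherent :=
      QCProps.isQuasicoherent_kernel (DevStep.proj (I ^ k) F)
    exact (SheafOfModules.isQuasicoherent X.ringCatSheaf).prop_of_iso
      (Subobject.underlyingIso (Dual3.idealMulι (I ^ k) F)).symm inferInstance
  haveI hqB : (Subobject.underlying.obj (Subobject.mk ι)).IsQuasicoherent :=
    (SheafOfModules.isQuasicoherent X.ringCatSheaf).prop_of_iso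
      (Subobject.underlyingIso ι).symm inferInstance
  have hqAB : ∀ k : ℕ, (Subobject.underlying.obj
      (Subobject.mk (Dual3.idealMulι (I ^ k) F) ⊓ Subobject.mk ι)).IsQuasicoherent := by
    intro k
    haveI := hqA k
    exact isQuasicoherent_inf _ _
  -- sections of the pieces
  have hAB : ∀ (k : ℕ) (U : X.affineOpens),
      LinearMap.range (ModSections.appₗ
        (Subobject.mk (Dual3.idealMulι (I ^ k) F) ⊓ Subobject.mk ι).arrow U.1) =
      (I.ideal U) ^ k • (⊤ : Submodule Γ(X, U.1) Γ(F, U.1)) ⊓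
        LinearMap.range (ModSections.appₗ ι U.1) := by
    intro k U
    apply SetLike.coe_injective
    rw [← secIm_eq_range, secIm_inf, secIm_idealMul_self, Submodule.coe_inf, secIm_mk]
    rfl
  have hL : ∀ (c n : ℕ) (U : X.affineOpens),
      SecIm (Subobject.mk (Dual3.idealMulι (I ^ (n - c))
          (Subobject.underlying.obj (Subobject.mk (Dual3.idealMulι (I ^ c) F) ⊓ Subobject.mk ι)) ≫
        (Subobject.mk (Dual3.idealMulι (I ^ c) F) ⊓ Subobject.mk ι).arrow)) U.1 =
      ↑((I.ideal U) ^ (n - c) • ((I.ideal U) ^ c • (⊤ : Submodule Γ(X, U.1) Γ(F, U.1)) ⊓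
        LinearMap.range (ModSections.appₗ ι U.1))) := by
    intro c n U
    haveI := hqAB c
    rw [secIm_idealMul, hAB c U]
    rfl
  -- a finite affine cover and the Artin–Rees constants
  obtain ⟨κ, hκ, U, hU, -, hcov⟩ := QCSec.exists_finite_affine_cover (X := X) ⊤
    (by rw [Opens.coe_top]; exact isCompact_univ)
  have hk : ∀ i : κ, ∃ k : ℕ, ∀ n ≥ k,
      (I.ideal ⟨U i, hU i⟩) ^ n • (⊤ : Submodule Γ(X, U i) Γ(F, U i)) ⊓
          LinearMap.range (ModSections.appₗ ι (U i)) =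
        (I.ideal ⟨U i, hU i⟩) ^ (n - k) • ((I.ideal ⟨U i, hU i⟩) ^ k • ⊤ ⊓
          LinearMap.range (ModSections.appₗ ι (U i))) := by
    intro i
    haveI : IsNoetherianRing Γ(X, U i) := IsLocallyNoetherian.component_noetherian ⟨U i, hU i⟩
    haveI : Module.Finite Γ(X, U i) Γ(F, U i) := QCProps.finite_sections F (hU i)
    exact Ideal.exists_pow_inf_eq_pow_smul _ _
  choose k hk using hk
  obtain ⟨c, hc⟩ := (Set.finite_range k).bddAbove
  refine ⟨c, fun n hn => ?_⟩
  have hle : Subobject.mk (Dual3.idealMulι (I ^ (n - c))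
          (Subobject.underlying.obj (Subobject.mk (Dual3.idealMulι (I ^ c) F) ⊓ Subobject.mk ι)) ≫
        (Subobject.mk (Dual3.idealMulι (I ^ c) F) ⊓ Subobject.mk ι).arrow) ≤
      Subobject.mk (Dual3.idealMulι (I ^ n) F) ⊓ Subobject.mk ι := by
    apply le_of_secIm
    intro V
    rw [hL c n V, secIm_eq_range, hAB n V]
    exact ar_le _ _ c n hn
  haveI := hqAB n
  haveI : Epi (Subobject.ofLE _ _ hle) := by
    apply QCExact.epi_of_surjective_on_affine_cover
    intro x
    have hx : x ∈ ⨆ i, U i := hcov (Opens.mem_top x)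
    rw [Opens.mem_iSup] at hx
    obtain ⟨i, hxi⟩ := hx
    refine ⟨U i, hU i, hxi, ?_⟩
    intro t
    have hmem : (Subobject.mk (Dual3.idealMulι (I ^ n) F) ⊓ Subobject.mk ι).arrow.app (U i) t ∈
        SecIm (Subobject.mk (Dual3.idealMulι (I ^ n) F) ⊓ Subobject.mk ι) (U i) := ⟨t, rfl⟩
    rw [secIm_eq_range, hAB n ⟨U i, hU i⟩,
      ar_upgrade _ _ (k i) (hk i) c n (hc ⟨i, rfl⟩) hn, ← hL c n ⟨U i, hU i⟩] at hmem
    obtain ⟨t', ht'⟩ := hmem
    refine ⟨t', ?_⟩
    apply (QCProps.mono_iff_app_injective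
      (Subobject.mk (Dual3.idealMulι (I ^ n) F) ⊓ Subobject.mk ι).arrow).mp inferInstance (U i)
    rw [← ht']
    have h2 := congrArg (fun φ => (Scheme.Modules.Hom.app φ (U i)).hom t')
      (Subobject.ofLE_arrow hle)
    exact h2
  haveI : IsIso (Subobject.ofLE _ _ hle) := isIso_of_mono_of_epi _
  exact Subobject.eq_of_comm (asIso (Subobject.ofLE _ _ hle)) (Subobject.ofLE_arrow hle)

end Groth.Agent.Lib.Helper1.ARSub
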