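import Mathlib
import Groth.Prelude.Def_FlatMod2

set_option autoImplicit false
set_option linter.style.haveILetI false
universe u v
open CategoryTheory CategoryTheory.Limits AlgebraicGeometry TensorProduct

namespace Groth.Agent.Lib.Helper1.TildeFlat

section alg

variable {R S M M' : Type*} [CommRing R] [CommRing S] [Algebra R S]
  [AddCommGroup M] [Module R M] [Module S M] [IsScalarTower R S M]
  [AddCommGroup M'] [Module R M'] [Module S M'] [IsScalarTower R S M']

/-- flatness over `R` passes to a localization over an `R`-algebra `S` -/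
theorem flat_of_isLocalizedModule_tower (p : Submonoid S) (f : M →ₗ[S] M')
    [IsLocalizedModule p f] [Module.Flat R M] : Module.Flat R M' := by
  rw [Module.Flat.iff_lTensor_injectiveₛ]
  intro P _ _ N
  have h := (Module.Flat.iff_lTensor_injectiveₛ (R := R) (M := M)).1 inferInstance (P := P) N
  rw [← AlgebraTensorModule.coe_lTensor (A := S)] at h ⊢
  rw [← IsLocalizedModule.map_lTensor (S := p) (f := N.subtype) (g := f)]
  exact IsLocalizedModule.map_injective p _ _ _ h

/-- flatness over `R` can be checked on localizations at the maximal ideals of an `R`-algebra `S`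
(existential packaging of `Module.flat_of_isLocalized_maximal`) -/
theorem flat_of_forall_maximal_tower
    (H : ∀ (P : Ideal S) [P.IsMaximal], ∃ (N : Type v) (_ : AddCommGroup N) (_ : Module R N)
      (_ : Module S N) (_ : IsScalarTower R S N) (f : M →ₗ[S] N),
      IsLocalizedModule P.primeCompl f ∧ Module.Flat R N) : Module.Flat R M := by
  choose N i1 i2 i3 i4 f hf hflat using H
  exact @Module.flat_of_isLocalized_maximal R S _ _ _ M _ _ _ _ N
    (fun P _ => (i1 P).toAddCommMonoid) i2 i3 i4 f hf hflat

end alg

section geo

variable {R S : CommRingCat.{u}} (φ : R ⟶ S) (N : ModuleCat.{u} S)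

theorem isFlatOverAt_tilde_iff (x : PrimeSpectrum.Top S) :
    letI : Module R ((tilde N).presheaf.stalk x) := Module.compHom _ φ.hom
    FlatMod.IsFlatOverAt (Spec.map φ) (tilde N) x ↔ Module.Flat R ((tilde N).presheaf.stalk x) := by
  letI i0 : Module R ((tilde N).presheaf.stalk x) := Module.compHom _ φ.hom
  unfold FlatMod.IsFlatOverAt
  set p : PrimeSpectrum.Top R := (Spec.map φ).base x with hp
  haveI ip : p.asIdeal.IsPrime := p.isPrime
  letI i1 : Algebra R ((Spec R).presheaf.stalk p) := (StructureSheaf.toStalk R p).hom.toAlgebra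
  haveI i2 : IsLocalization.AtPrime ((Spec R).presheaf.stalk p) p.asIdeal :=
    inferInstanceAs (IsLocalization.AtPrime ((structurePresheafInCommRingCat R).stalk p) p.asIdeal)
  letI i5 : Module ((Spec S).presheaf.stalk x) ((tilde N).presheaf.stalk x) := FlatMod.moduleStalk (tilde N) x
  letI i3 := FlatMod.moduleStalkOver (Spec.map φ) (tilde N) x
  haveI i4 : IsScalarTower R ((Spec R).presheaf.stalk p) ((tilde N).presheaf.stalk x) := by
    refine IsScalarTower.of_algebraMap_smul fun r n => ?_
    change ((Spec.map φ).stalkMap x).hom (StructureSheaf.toStalk R p r) • n = (show ((Spec S).presheaf.stalk x) from StructureSheaf.toStalk S x (φ.hom r)) • n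
    congr 1
    exact stalkMap_toStalk_apply φ x r
  exact Module.flat_iff_of_isLocalization ((Spec R).presheaf.stalk p) p.asIdeal.primeCompl _

theorem isFlatOver_tilde_iff_gen :
    FlatMod.IsFlatOver (Spec.map φ) (tilde N) ↔
      (letI : Module R N := Module.compHom N φ.hom; Module.Flat R N) := by
  letI a0 : Algebra R S := φ.hom.toAlgebra
  letI a1 : Module R N := Module.compHom N φ.hom
  haveI a2 : IsScalarTower R S N := IsScalarTower.of_algebraMap_smul fun r n => rfl
  constructor
  · intro h
    apply flat_of_forall_maximal_tower (R := R) (S := S) (M := N)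
    intro P hP
    obtain ⟨x, rfl⟩ : ∃ x : PrimeSpectrum.Top S, x.asIdeal = P := ⟨⟨P, hP.isPrime⟩, rfl⟩
    letI i0 : Module R ((tilde N).presheaf.stalk x) := Module.compHom _ φ.hom
    refine ⟨(tilde N).presheaf.stalk x, inferInstance, i0, inferInstance,
      IsScalarTower.of_algebraMap_smul fun r n => rfl, (tilde.toStalk N x).hom,
      inferInstanceAs (IsLocalizedModule x.asIdeal.primeCompl (tilde.toStalk N x).hom), ?_⟩
    exact (isFlatOverAt_tilde_iff φ N x).1 (h x)
  · intro h (x' : PrimeSpectrum.Top S)
    refine (isFlatOverAt_tilde_iff φ N x').2 ?_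
    haveI ip : x'.asIdeal.IsPrime := x'.isPrime
    letI i0 : Module R ((tilde N).presheaf.stalk x') := Module.compHom _ φ.hom
    haveI : IsScalarTower R S ((tilde N).presheaf.stalk x') :=
      IsScalarTower.of_algebraMap_smul fun r n => rfl
    exact flat_of_isLocalizedModule_tower (R := R) (S := S)
      (PrimeSpectrum.asIdeal x').primeCompl (tilde.toStalk N x').hom

theorem flat_congr_module {A M : Type*} [CommRing A] [AddCommGroup M] (i1 i2 : Module A M)
    (h : ∀ (a : A) (m : M), i1.smul a m = i2.smul a m) :
    @Module.Flat A M _ _ i1 ↔ @Module.Flat A M _ _ i2 := by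
  have : i1 = i2 := by
    apply Module.ext'
    exact h
  rw [this]

theorem isFlatOver_tilde_iff (A B : Type u) [CommRing A] [CommRing B] [Algebra A B]
    (M : Type u) [AddCommGroup M] [Module B M] [Module A M] [IsScalarTower A B M] :
    FlatMod.IsFlatOver (Spec.map (CommRingCat.ofHom (algebraMap A B))) (tilde (ModuleCat.of B M)) ↔
      Module.Flat A M := by
  rw [isFlatOver_tilde_iff_gen]
  apply flat_congr_module
  intro a m
  exact algebraMap_smul B a m

end geo

end Groth.Agent.Lib.Helper1.TildeFlat
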