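import Mathlib
import Groth.Agent.Lib.Helper8.LocalCriterion3

/-!
# Fibrewise criterion of flatness: auxiliary lemmas

* `rTensor_subtype_map_injective`: if `M` is an `S`-module flat over `R` then `JS ⊗[S] M → S ⊗[S] M`
  is injective for every ideal `J` of `R` (i.e. `Tor₁^S(S/JS, M) = 0`).
* `flat_of_faithfullyFlat_module`: if `M` is faithfully flat over `S` and flat over `R` then `S` is
  flat over `R`.
* `faithfullyFlat_of_flat_of_finite`: a nonzero finite module over a local `S`-algebra `S'`
  (local hom) which is flat over the local ring `S` is faithfully flat over `S`.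
-/

set_option autoImplicit false

namespace Groth.Agent.Lib.Helper1.FibreFlat

open TensorProduct

section

variable {R S M : Type*} [CommRing R] [CommRing S] [Algebra R S] [AddCommGroup M] [Module R M]
  [Module S M] [IsScalarTower R S M]

/-- auxiliary: `J → JS`. -/
def toMap (J : Ideal R) : J →+ (J.map (algebraMap R S) : Ideal S) where
  toFun a := ⟨algebraMap R S a, Ideal.mem_map_of_mem _ a.2⟩
  map_zero' := Subtype.ext (map_zero _)
  map_add' a b := Subtype.ext (map_add _ _ _)

@[simp] theorem coe_toMap (J : Ideal R) (a : J) :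
    ((toMap (S := S) J a : (J.map (algebraMap R S) : Ideal S)) : S) = algebraMap R S a := rfl

/-- the additive map `J ⊗[R] M → JS ⊗[S] M`. -/
noncomputable def extMap (J : Ideal R) :
    J ⊗[R] M →+ (J.map (algebraMap R S) : Ideal S) ⊗[S] M :=
  TensorProduct.liftAddHom
    ((LinearMap.toAddMonoidHom'.comp
      (TensorProduct.mk S (J.map (algebraMap R S) : Ideal S) M).toAddMonoidHom).comp (toMap J))
    (by
      intro r a x
      change (toMap (S := S) J (r • a)) ⊗ₜ[S] x = (toMap (S := S) J a) ⊗ₜ[S] (r • x)
      rw [← algebraMap_smul S r x, ← TensorProduct.smul_tmul]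
      congr 1
      apply Subtype.ext
      simp [Algebra.smul_def])

theorem extMap_tmul (J : Ideal R) (a : J) (x : M) :
    extMap (S := S) J (a ⊗ₜ[R] x) = (toMap (S := S) J a) ⊗ₜ[S] x := rfl

theorem extMap_surjective (J : Ideal R) :
    Function.Surjective (extMap (S := S) (M := M) J) := by
  intro t
  induction t using TensorProduct.induction_on with
  | zero => exact ⟨0, map_zero _⟩
  | add t t' ht ht' =>
    obtain ⟨a, rfl⟩ := ht
    obtain ⟨b, rfl⟩ := ht'
    exact ⟨a + b, map_add _ _ _⟩
  | tmul i x =>
    obtain ⟨i, hi⟩ := i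
    revert x
    have hi' : i ∈ Submodule.span S (algebraMap R S '' (J : Set R)) := hi
    refine Submodule.span_induction
      (p := fun i hi => ∀ x : M, ∃ t', extMap (S := S) J t' =
        (⟨i, hi⟩ : (J.map (algebraMap R S) : Ideal S)) ⊗ₜ[S] x) ?_ ?_ ?_ ?_ hi'
    · rintro _ ⟨a, ha, rfl⟩ x
      exact ⟨(⟨a, ha⟩ : J) ⊗ₜ x, rfl⟩
    · intro x
      exact ⟨0, by rw [map_zero]; exact (TensorProduct.zero_tmul _ _).symm⟩
    · intro i j hi hj hi' hj' x
      obtain ⟨a, ha⟩ := hi' x
      obtain ⟨b, hb⟩ := hj' x
      refine ⟨a + b, ?_⟩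
      rw [map_add, ha, hb, ← TensorProduct.add_tmul]
      rfl
    · intro s i hi hi' x
      obtain ⟨a, ha⟩ := hi' (s • x)
      refine ⟨a, ?_⟩
      rw [ha, ← TensorProduct.smul_tmul]
      rfl

/-- `Tor₁^S(S/JS, M) = 0` if `M` is `R`-flat. -/
theorem rTensor_subtype_map_injective [Module.Flat R M] (J : Ideal R) :
    Function.Injective
      (LinearMap.rTensor M (Submodule.subtype (J.map (algebraMap R S) : Ideal S))) := by
  have hflat : Function.Injective (LinearMap.rTensor M J.subtype) :=
    Module.Flat.iff_rTensor_injective'.mp inferInstance J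
  have key : ∀ t' : J ⊗[R] M,
      TensorProduct.lid S M
        (LinearMap.rTensor M (Submodule.subtype (J.map (algebraMap R S) : Ideal S))
          (extMap (S := S) J t')) =
      TensorProduct.lid R M (LinearMap.rTensor M J.subtype t') := by
    intro t'
    induction t' using TensorProduct.induction_on with
    | zero => simp
    | tmul a x => simp [extMap_tmul]
    | add a b ha hb => simp only [map_add, ha, hb]
  rw [injective_iff_map_eq_zero]
  intro t ht
  obtain ⟨t', rfl⟩ := extMap_surjective (S := S) J t
  have h1 := key t'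
  rw [ht, map_zero] at h1
  have h0 : t' = 0 := by
    apply hflat
    apply (TensorProduct.lid R M).injective
    rw [← h1, map_zero, map_zero]
  rw [h0, map_zero]

/-- If `M` is faithfully flat over `S` and flat over `R`, then `S` is flat over `R`. -/
theorem flat_of_faithfullyFlat_module {R S M : Type*} [CommRing R] [CommRing S] [Algebra R S]
    [AddCommGroup M] [Module R M] [Module S M] [IsScalarTower R S M]
    [Module.Flat R M] [Module.FaithfullyFlat S M] : Module.Flat R S := by
  rw [Module.Flat.iff_lTensor_preserves_injective_linearMap]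
  intro N N' _ _ _ _ f hf
  have h1 : Function.Injective (f.lTensor M) :=
    Module.Flat.lTensor_preserves_injective_linearMap f hf
  have h2 : Function.Injective ((f.baseChange S).lTensor M) :=
    (Groth.Agent.Lib.Helper8.lTensor_baseChange_injective_iff f).mpr h1
  have h3 : Function.Injective (f.baseChange S) :=
    (Module.FaithfullyFlat.lTensor_injective_iff_injective S M _).mp h2
  have h4 : ⇑(f.baseChange S) = ⇑(f.lTensor S) := LinearMap.baseChange_eq_ltensor _
  rwa [h4] at h3

end

/-- A nonzero module, finite over a local ring `S'` and flat over the local ring `S`, with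
`S → S'` local, is faithfully flat over `S`. -/
theorem faithfullyFlat_of_flat_of_finite {S S' M : Type*} [CommRing S] [CommRing S']
    [IsLocalRing S] [IsLocalRing S'] [Algebra S S'] [IsLocalHom (algebraMap S S')]
    [AddCommGroup M] [Module S' M] [Module S M] [IsScalarTower S S' M]
    [Module.Finite S' M] [Nontrivial M] [Module.Flat S M] : Module.FaithfullyFlat S M := by
  rw [Module.FaithfullyFlat.iff_flat_and_proper_ideal]
  refine ⟨inferInstance, fun J hJtop htop => ?_⟩
  have hJle : J ≤ IsLocalRing.maximalIdeal S := IsLocalRing.le_maximalIdeal hJtop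
  have h2 : ((J.map (algebraMap S S')) • (⊤ : Submodule S' M)) = ⊤ := by
    apply Submodule.restrictScalars_injective S
    rw [Ideal.smul_restrictScalars, Submodule.restrictScalars_top, htop]
  have h3 : (⊤ : Submodule S' M) = ⊥ := by
    apply Submodule.eq_bot_of_le_smul_of_le_jacobson_bot (J.map (algebraMap S S')) ⊤
      Module.Finite.fg_top
    · rw [h2]
    · rw [IsLocalRing.jacobson_eq_maximalIdeal ⊥ bot_ne_top]
      exact (Ideal.map_mono hJle).trans (IsLocalRing.map_maximalIdeal_le _)
  have : Subsingleton M := by
    rw [← Submodule.subsingleton_iff S']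
    exact subsingleton_of_bot_eq_top h3.symm
  exact not_subsingleton M this

end Groth.Agent.Lib.Helper1.FibreFlat
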