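import Mathlib
import Groth.Prelude.Def_OmegaPn
import Groth.Agent.Lib.Helper3.ModBasic

set_option autoImplicit false
set_option linter.style.haveILetI false
universe u
open CategoryTheory CategoryTheory.Limits AlgebraicGeometry TopologicalSpace Opposite

namespace Groth.Agent.Lib.Helper1.PbComp

variable {X Y Z : Scheme.{u}} (f : X ⟶ Y) (g : Y ⟶ Z) (M : Z.Modules)

/-- the unit of the composite adjunction vs. the unit of the adjunction of the composite. -/
theorem unit_comp :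
    (Scheme.Modules.pullbackPushforwardAdjunction g).unit.app M ≫
      (Scheme.Modules.pushforward g).map
        ((Scheme.Modules.pullbackPushforwardAdjunction f).unit.app
          ((Scheme.Modules.pullback g).obj M)) ≫
      (Scheme.Modules.pushforwardComp f g).hom.app _ =
    (Scheme.Modules.pullbackPushforwardAdjunction (f ≫ g)).unit.app M ≫
      (Scheme.Modules.pushforward (f ≫ g)).map ((Scheme.Modules.pullbackComp f g).inv.app M) := by
  have h := unit_conjugateEquiv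
    ((Scheme.Modules.pullbackPushforwardAdjunction g).comp
      (Scheme.Modules.pullbackPushforwardAdjunction f))
    (Scheme.Modules.pullbackPushforwardAdjunction (f ≫ g)) (Scheme.Modules.pullbackComp f g).inv M
  rw [Scheme.Modules.conjugateEquiv_pullbackComp_inv, Adjunction.comp_unit_app] at h
  simpa using h

theorem pullSect_pullSect (U : Z.Opens) (s : Γ(M, U)) :
    OmegaSh.pullSect f ((Scheme.Modules.pullback g).obj M) (g ⁻¹ᵁ U) (OmegaSh.pullSect g M U s) =
      ((Scheme.Modules.pullbackComp f g).inv.app M).app ((f ≫ g) ⁻¹ᵁ U)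
        (OmegaSh.pullSect (f ≫ g) M U s) := by
  have h := unit_comp f g M
  have h2 := congr($(congrArg (fun k => Scheme.Modules.Hom.app k U) h) s)
  exact h2

end Groth.Agent.Lib.Helper1.PbComp

namespace Groth.Agent.Lib.Helper1.PbComp

open Groth.Agent.Lib.Helper3

variable {N N' X : Scheme.{u}} (t : N' ⟶ N) (p₁ p₂ : N ⟶ X) (q₁ q₂ : N' ⟶ X)
  (h₁ : t ≫ p₁ = q₁) (h₂ : t ≫ p₂ = q₂) (F : X.Modules)

/-- `p₁_* p₂^* F ⟶ q₁_* q₂^* F` for `t ≫ pᵢ = qᵢ`. -/
noncomputable def transfer : (Scheme.Modules.pushforward p₁).obj ((Scheme.Modules.pullback p₂).obj F) ⟶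
    (Scheme.Modules.pushforward q₁).obj ((Scheme.Modules.pullback q₂).obj F) :=
  (Scheme.Modules.pushforward p₁).map
      ((Scheme.Modules.pullbackPushforwardAdjunction t).unit.app _ ≫
        (Scheme.Modules.pushforward t).map ((Scheme.Modules.pullbackComp t p₂).hom.app F ≫
          (Scheme.Modules.pullbackCongr h₂).hom.app F)) ≫
    (Scheme.Modules.pushforwardComp t p₁).hom.app _ ≫ (Scheme.Modules.pushforwardCongr h₁).hom.app _

theorem transfer_app (U U' : X.Opens) (e : p₁ ⁻¹ᵁ U ≤ p₂ ⁻¹ᵁ U') (e' : q₁ ⁻¹ᵁ U ≤ q₂ ⁻¹ᵁ U')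
    (s : Γ(F, U')) :
    (transfer t p₁ p₂ q₁ q₂ h₁ h₂ F).app U
        (((Scheme.Modules.pullback p₂).obj F).presheaf.map (homOfLE e).op
          (OmegaSh.pullSect p₂ F U' s)) =
      ((Scheme.Modules.pullback q₂).obj F).presheaf.map (homOfLE e').op
        (OmegaSh.pullSect q₂ F U' s) := by
  subst h₁
  subst h₂
  set c := (Scheme.Modules.pullbackComp t p₂).hom.app F with hc
  have h3 : c.app ((t ≫ p₂) ⁻¹ᵁ U')
      (OmegaSh.pullSect t ((Scheme.Modules.pullback p₂).obj F) (p₂ ⁻¹ᵁ U')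
        (OmegaSh.pullSect p₂ F U' s)) = OmegaSh.pullSect (t ≫ p₂) F U' s := by
    rw [pullSect_pullSect]
    have : ((Scheme.Modules.pullbackComp t p₂).inv.app F ≫ c) = 𝟙 _ := by
      rw [hc]; exact (Iso.inv_hom_id_app _ _)
    exact congr($(congrArg (fun k => Scheme.Modules.Hom.app k ((t ≫ p₂) ⁻¹ᵁ U')) this) _)
  have h4 : OmegaSh.pullSect t ((Scheme.Modules.pullback p₂).obj F) (p₁ ⁻¹ᵁ U)
      (((Scheme.Modules.pullback p₂).obj F).presheaf.map (homOfLE e).op
          (OmegaSh.pullSect p₂ F U' s)) =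
      ((Scheme.Modules.pullback t).obj ((Scheme.Modules.pullback p₂).obj F)).presheaf.map
        (homOfLE (t.preimage_mono e)).op
        (OmegaSh.pullSect t ((Scheme.Modules.pullback p₂).obj F) (p₂ ⁻¹ᵁ U')
          (OmegaSh.pullSect p₂ F U' s)) := OmegaSh.pullSect_map t _ e _
  have step1 : c.app (t ⁻¹ᵁ p₁ ⁻¹ᵁ U)
      (OmegaSh.pullSect t ((Scheme.Modules.pullback p₂).obj F) (p₁ ⁻¹ᵁ U)
        (((Scheme.Modules.pullback p₂).obj F).presheaf.map (homOfLE e).op
          (OmegaSh.pullSect p₂ F U' s))) =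
      ((Scheme.Modules.pullback (t ≫ p₂)).obj F).presheaf.map (homOfLE e').op
        (OmegaSh.pullSect (t ≫ p₂) F U' s) := by
    rw [h4]
    exact (ModBasic.app_res c _ _).trans (congrArg _ h3)
  have h5 : ∀ y : Γ((Scheme.Modules.pullback (t ≫ p₂)).obj F, t ⁻¹ᵁ p₁ ⁻¹ᵁ U),
      ((Scheme.Modules.pullbackCongr (rfl : t ≫ p₂ = t ≫ p₂)).hom.app F).app
      (t ⁻¹ᵁ p₁ ⁻¹ᵁ U) y = y := fun y => rfl
  have h6 : ∀ y : Γ((Scheme.Modules.pullback (t ≫ p₂)).obj F, t ⁻¹ᵁ p₁ ⁻¹ᵁ U),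
      ((Scheme.Modules.pullback (t ≫ p₂)).obj F).presheaf.map
        (eqToHom (rfl : (t ≫ p₁) ⁻¹ᵁ U = (t ≫ p₁) ⁻¹ᵁ U)).op y = y := fun y =>
    congr($(((Scheme.Modules.pullback (t ≫ p₂)).obj F).presheaf.map_id _) y)
  exact (h6 _).trans ((h5 _).trans step1)

end Groth.Agent.Lib.Helper1.PbComp
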