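import Mathlib
import Groth.Prelude.Def_FlatMod2
import Groth.Agent.Lib.Helper3.QcohStalk
import Groth.Agent.Lib.Helper1.TildeFlat

set_option autoImplicit false
set_option linter.style.haveILetI false
universe u
open CategoryTheory CategoryTheory.Limits AlgebraicGeometry TensorProduct Opposite

namespace Groth.Agent.Lib.Helper1.FlatAffine

open Groth.Agent.Lib.Helper3 Groth.Agent.Lib.Helper1.TildeFlat

variable {X S : Scheme.{u}} (f : X ⟶ S) (F : X.Modules) [F.IsQuasicoherent]
  {U : X.Opens} {V : S.Opens} (hU : IsAffineOpen U) (hV : IsAffineOpen V) (hUV : U ≤ f ⁻¹ᵁ V)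

theorem germ_appLE (x : X) (hx : x ∈ U) (a : Γ(S, V)) :
    X.presheaf.germ U x hx ((f.appLE V U hUV).hom a) =
      (f.stalkMap x).hom (S.presheaf.germ V (f x) (hUV hx) a) := by
  rw [Scheme.Hom.germ_stalkMap_apply, Scheme.Hom.appLE]
  exact TopCat.Presheaf.germ_res_apply X.presheaf (homOfLE hUV) x hx _

include hU hV in
/-- at a point of `U`: flat over the stalk of `S` iff flat over the sections of `S` over `V` -/
theorem isFlatOverAt_iff (x : X) (hx : x ∈ U) :
    letI i1 : Algebra Γ(X, U) (X.presheaf.stalk x) :=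
      TopCat.Presheaf.algebra_section_stalk X.presheaf (U := U) ⟨x, hx⟩
    letI i2 : Module Γ(X, U) (F.presheaf.stalk x) :=
      Module.compHom _ (algebraMap Γ(X, U) (X.presheaf.stalk x))
    letI i3 : Module Γ(S, V) (F.presheaf.stalk x) := Module.compHom _ (f.appLE V U hUV).hom
    FlatMod.IsFlatOverAt f F x ↔ Module.Flat Γ(S, V) (F.presheaf.stalk x) := by
  letI i1 : Algebra Γ(X, U) (X.presheaf.stalk x) :=
    TopCat.Presheaf.algebra_section_stalk X.presheaf (U := U) ⟨x, hx⟩
  letI i2 : Module Γ(X, U) (F.presheaf.stalk x) :=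
    Module.compHom _ (algebraMap Γ(X, U) (X.presheaf.stalk x))
  letI i3 : Module Γ(S, V) (F.presheaf.stalk x) := Module.compHom _ (f.appLE V U hUV).hom
  unfold FlatMod.IsFlatOverAt
  letI j1 : Algebra Γ(S, V) (S.presheaf.stalk (f x)) :=
    TopCat.Presheaf.algebra_section_stalk S.presheaf (U := V) ⟨f x, hUV hx⟩
  haveI j2 : IsLocalization.AtPrime (S.presheaf.stalk (f x))
      (hV.primeIdealOf ⟨f x, hUV hx⟩).asIdeal := hV.isLocalization_stalk ⟨f x, hUV hx⟩
  letI j3 := FlatMod.moduleStalkOver f F x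
  haveI j4 : IsScalarTower Γ(S, V) (S.presheaf.stalk (f x)) (F.presheaf.stalk x) := by
    refine IsScalarTower.of_algebraMap_smul fun r n => ?_
    change (f.stalkMap x).hom (S.presheaf.germ V (f x) (hUV hx) r) • n =
      X.presheaf.germ U x hx ((f.appLE V U hUV).hom r) • n
    rw [germ_appLE]
  exact Module.flat_iff_of_isLocalization (S.presheaf.stalk (f x))
    (hV.primeIdealOf ⟨f x, hUV hx⟩).asIdeal.primeCompl _

include hU hV in
/-- sections over affine opens are flat iff all stalks at points of `U` are flat over `S` -/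
theorem flat_sections_iff :
    (letI : Module Γ(S, V) Γ(F, U) := Module.compHom _ (f.appLE V U hUV).hom
     Module.Flat Γ(S, V) Γ(F, U)) ↔ ∀ x ∈ U, FlatMod.IsFlatOverAt f F x := by
  letI a0 : Algebra Γ(S, V) Γ(X, U) := (f.appLE V U hUV).hom.toAlgebra
  letI a1 : Module Γ(S, V) Γ(F, U) := Module.compHom _ (f.appLE V U hUV).hom
  haveI a2 : IsScalarTower Γ(S, V) Γ(X, U) Γ(F, U) :=
    IsScalarTower.of_algebraMap_smul fun r n => rfl
  constructor
  · intro h x hx
    refine (isFlatOverAt_iff f F hU hV hUV x hx).2 ?_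
    letI i1 : Algebra Γ(X, U) (X.presheaf.stalk x) :=
      TopCat.Presheaf.algebra_section_stalk X.presheaf (U := U) ⟨x, hx⟩
    letI i2 : Module Γ(X, U) (F.presheaf.stalk x) :=
      Module.compHom _ (algebraMap Γ(X, U) (X.presheaf.stalk x))
    letI i3 : Module Γ(S, V) (F.presheaf.stalk x) := Module.compHom _ (f.appLE V U hUV).hom
    haveI i4 : IsScalarTower Γ(S, V) Γ(X, U) (F.presheaf.stalk x) :=
      IsScalarTower.of_algebraMap_smul fun r n => rfl
    let g : Γ(F, U) →ₗ[Γ(X, U)] F.presheaf.stalk x :=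
      { toFun := F.presheaf.germ U x hx
        map_add' := map_add _
        map_smul' := fun r m => QS.germ_smul F x hx r m }
    haveI := QS.isLocalizedModule_germ hU F x hx (fun r y => rfl) g (fun m => rfl)
    exact flat_of_isLocalizedModule_tower (R := Γ(S, V)) (S := Γ(X, U))
      (hU.primeIdealOf ⟨x, hx⟩).asIdeal.primeCompl g
  · intro h
    apply flat_of_forall_maximal_tower (R := Γ(S, V)) (S := Γ(X, U)) (M := Γ(F, U))
    intro P hP
    obtain ⟨x, hx, rfl⟩ : ∃ x, ∃ hx : x ∈ U, (hU.primeIdealOf ⟨x, hx⟩).asIdeal = P := by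
      have hx : hU.fromSpec ⟨P, hP.isPrime⟩ ∈ U := by
        have : hU.fromSpec ⟨P, hP.isPrime⟩ ∈ Set.range hU.fromSpec := ⟨_, rfl⟩
        rw [hU.range_fromSpec] at this
        exact this
      refine ⟨hU.fromSpec ⟨P, hP.isPrime⟩, hx, ?_⟩
      have : hU.primeIdealOf ⟨hU.fromSpec ⟨P, hP.isPrime⟩, hx⟩ = ⟨P, hP.isPrime⟩ :=
        hU.fromSpec.isOpenEmbedding.injective (hU.fromSpec_primeIdealOf _)
      rw [this]
    letI i1 : Algebra Γ(X, U) (X.presheaf.stalk x) :=
      TopCat.Presheaf.algebra_section_stalk X.presheaf (U := U) ⟨x, hx⟩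
    letI i2 : Module Γ(X, U) (F.presheaf.stalk x) :=
      Module.compHom _ (algebraMap Γ(X, U) (X.presheaf.stalk x))
    letI i3 : Module Γ(S, V) (F.presheaf.stalk x) := Module.compHom _ (f.appLE V U hUV).hom
    let g : Γ(F, U) →ₗ[Γ(X, U)] F.presheaf.stalk x :=
      { toFun := F.presheaf.germ U x hx
        map_add' := map_add _
        map_smul' := fun r m => QS.germ_smul F x hx r m }
    refine ⟨F.presheaf.stalk x, inferInstance, i3, i2,
      IsScalarTower.of_algebraMap_smul fun r n => rfl, g,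
      QS.isLocalizedModule_germ hU F x hx (fun r y => rfl) g (fun m => rfl), ?_⟩
    exact (isFlatOverAt_iff f F hU hV hUV x hx).1 (h x hx)

end Groth.Agent.Lib.Helper1.FlatAffine
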