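import Mathlib
import Groth.Agent.Lib.Helper17.FibreStalkMap
import Groth.Agent.Lib.Helper17.FibreCritSch
import Groth.Agent.Lib.Helper17.PbStalk
import Groth.Agent.Lib.Helper17.FinLocFreeSec
import Groth.Agent.Lib.Helper17.LocFreeOps
import Groth.Agent.Lib.Helper17.SepFG
import Groth.Agent.Lib.Helper3.LocFreeCrit

set_option autoImplicit false
set_option linter.style.haveILetI false
universe u
open CategoryTheory CategoryTheory.Limits AlgebraicGeometry TopologicalSpace Opposite TensorProduct

namespace Groth.Agent.Lib.Helper1.FibreLocFree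

open Groth.Agent.Lib.Helper3 Groth.Agent.Lib.Helper17

/-- flatness of a base change along a surjection `A → B`, read on the quotient. -/
theorem flat_quot_of_flat_baseChange {A B M N : Type u} [CommRing A] [CommRing B] [Algebra A B]
    [AddCommGroup M] [Module A M] [AddCommGroup N] [Module A N] [Module B N]
    [IsScalarTower A B N] (hsurj : Function.Surjective (algebraMap A B)) (γ : M →ₗ[A] N)
    (hγ : IsBaseChange B γ) [Module.Flat B N] :
    Module.Flat (A ⧸ RingHom.ker (algebraMap A B))
      (M ⧸ (RingHom.ker (algebraMap A B) • (⊤ : Submodule A M))) := by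
  set I := RingHom.ker (algebraMap A B) with hI
  let e : (A ⧸ I) ≃+* B := RingHom.quotientKerEquivOfSurjective hsurj
  letI : Algebra B (A ⧸ I) := e.symm.toRingHom.toAlgebra
  haveI : IsScalarTower A B (A ⧸ I) := IsScalarTower.of_algebraMap_eq (fun a => by
    change Ideal.Quotient.mk I a = e.symm (algebraMap A B a)
    rw [RingEquiv.eq_symm_apply]
    rfl)
  have hδ : IsBaseChange (A ⧸ I) (TensorProduct.mk B (A ⧸ I) N 1) :=
    TensorProduct.isBaseChange B N (A ⧸ I)
  have hc := IsBaseChange.comp hγ hδ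
  have e1 : (A ⧸ I) ⊗[A] M ≃ₗ[A ⧸ I] (A ⧸ I) ⊗[B] N := hc.equiv
  haveI : Module.Flat (A ⧸ I) ((A ⧸ I) ⊗[B] N) := inferInstance
  have h1 : Module.Flat (A ⧸ I) ((A ⧸ I) ⊗[A] M) := Module.Flat.of_linearEquiv e1
  exact (FibreCritSch.flat_quot_iff I).mp h1

theorem free_stalk_of_flat_fibre {X S : Scheme.{u}} [IsLocallyNoetherian X]
    [IsLocallyNoetherian S] (f : X ⟶ S) (F : X.Modules) [F.IsQuasicoherent] [F.IsFiniteType]
    (s : S) (y : f.fiber s)
    (hfl : FlatMod.IsFlatOverAt f F ((f.fiberι s).base y))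
    (hy : FlatMod.IsFlatAt ((Scheme.Modules.pullback (f.fiberι s)).obj F) y) :
    Module.Free (X.presheaf.stalk ((f.fiberι s).base y))
      (F.presheaf.stalk ((f.fiberι s).base y)) := by
  obtain ⟨hsurj, hker⟩ := FibreStalkMap.stalkMap_fiberι f s y
  letI algAB : Algebra (X.presheaf.stalk ((f.fiberι s).base y)) ((f.fiber s).presheaf.stalk y) :=
    ((f.fiberι s).stalkMap y).hom.toAlgebra
  letI modAN : Module (X.presheaf.stalk ((f.fiberι s).base y))
      (((Scheme.Modules.pullback (f.fiberι s)).obj F).presheaf.stalk y) :=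
    Module.compHom _ ((f.fiberι s).stalkMap y).hom
  obtain ⟨hst, γ, hγ⟩ := PbStalk.exists_isBaseChange_stalk (f.fiberι s) F y
  haveI := hst
  haveI : Module.Flat ((f.fiber s).presheaf.stalk y)
      (((Scheme.Modules.pullback (f.fiberι s)).obj F).presheaf.stalk y) := hy
  have h1 := flat_quot_of_flat_baseChange (A := X.presheaf.stalk ((f.fiberι s).base y))
    (B := (f.fiber s).presheaf.stalk y) hsurj γ hγ
  have hker' : RingHom.ker (algebraMap (X.presheaf.stalk ((f.fiberι s).base y))
      ((f.fiber s).presheaf.stalk y)) =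
      Ideal.map (f.stalkMap ((f.fiberι s).base y)).hom
        (IsLocalRing.maximalIdeal (S.presheaf.stalk (f.base ((f.fiberι s).base y)))) := hker
  rw [hker'] at h1
  by_cases hM : Subsingleton (F.presheaf.stalk ((f.fiberι s).base y))
  · exact Module.Free.of_subsingleton _ _
  rw [not_subsingleton_iff_nontrivial] at hM
  letI algRA : Algebra (S.presheaf.stalk (f.base ((f.fiberι s).base y)))
      (X.presheaf.stalk ((f.fiberι s).base y)) :=
    (f.stalkMap ((f.fiberι s).base y)).hom.toAlgebra
  letI modRM : Module (S.presheaf.stalk (f.base ((f.fiberι s).base y)))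
      (F.presheaf.stalk ((f.fiberι s).base y)) :=
    FlatMod.moduleStalkOver f F ((f.fiberι s).base y)
  haveI l1 : IsLocalHom (algebraMap (S.presheaf.stalk (f.base ((f.fiberι s).base y)))
      (X.presheaf.stalk ((f.fiberι s).base y))) :=
    inferInstanceAs (IsLocalHom (f.stalkMap ((f.fiberι s).base y)).hom)
  haveI l2 : IsLocalHom (algebraMap (X.presheaf.stalk ((f.fiberι s).base y))
      (X.presheaf.stalk ((f.fiberι s).base y))) :=
    inferInstanceAs (IsLocalHom (RingHom.id (X.presheaf.stalk ((f.fiberι s).base y))))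
  haveI t1 : IsScalarTower (S.presheaf.stalk (f.base ((f.fiberι s).base y)))
      (X.presheaf.stalk ((f.fiberι s).base y)) (F.presheaf.stalk ((f.fiberι s).base y)) :=
    ⟨fun r a m => mul_smul ((f.stalkMap ((f.fiberι s).base y)).hom r) a m⟩
  haveI := FibreCritSch.finite_stalk F ((f.fiberι s).base y)
  have key := (FibreCritSch.fibre_criterion_iff
    (R := S.presheaf.stalk (f.base ((f.fiberι s).base y)))
    (S := X.presheaf.stalk ((f.fiberι s).base y))
    (S' := X.presheaf.stalk ((f.fiberι s).base y))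
    (M := F.presheaf.stalk ((f.fiberι s).base y))).mp ⟨hfl, h1⟩
  haveI := key.2
  exact Module.free_of_flat_of_isLocalRing


open Groth.Agent.Lib.Helper3.FreeBasis Groth.Agent.Lib.Helper3.QCSec

/-- the open set of points near which `F` is free of finite rank. -/
def freeOpen {X : Scheme.{u}} (F : X.Modules) : X.Opens where
  carrier := {x | ∃ (U : X.Opens) (n : ℕ) (e : Fin n → Γ(F, U)), x ∈ U ∧ IsBasis F U e}
  is_open' := by
    rw [isOpen_iff_forall_mem_open]
    rintro x ⟨U, n, e, hxU, he⟩
    exact ⟨U, fun z hz => ⟨U, n, e, hz, he⟩, U.2, hxU⟩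

theorem mem_freeOpen_iff {X : Scheme.{u}} (F : X.Modules) (x : X) :
    x ∈ freeOpen F ↔ ∃ (U : X.Opens) (n : ℕ) (e : Fin n → Γ(F, U)), x ∈ U ∧ IsBasis F U e :=
  Iff.rfl

theorem isFinLocFree_restrict_freeOpen {X : Scheme.{u}} (F : X.Modules) :
    FlatMod.IsFinLocFree (F.restrict (freeOpen F).ι) := by
  rw [LocFreeCrit.isFinLocFree_restrict_iff]
  rintro x ⟨U, n, e, hxU, he⟩
  exact ⟨U, n, e, hxU, fun z hz => ⟨U, n, e, hz, he⟩, he⟩

theorem mem_freeOpen_of_free_stalk {X : Scheme.{u}} (F : X.Modules) [F.IsQuasicoherent]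
    [SheafOfModules.IsFinitePresentation (R := X.ringCatSheaf) F] (x : X)
    (h : Module.Free (X.presheaf.stalk x) (F.presheaf.stalk x)) : x ∈ freeOpen F := by
  obtain ⟨U, hU, hxU⟩ := QCProps.exists_affine_nbhd x
  haveI := QCProps.finitePresentation_sections F hU
  have h1 := (LocFreeCrit.free_stalk_iff_mem_freeLocus F hU x hxU).mp h
  obtain ⟨g, r, e, hxg, he⟩ := LocFreeCrit.exists_isBasis_of_mem_freeLocus F hU x hxU h1
  exact ⟨X.basicOpen g, r, e, hxg, he⟩

/-- if the fibre over `s` lies in the free locus then the fibre module is locally free. -/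
theorem isFinLocFree_fibre_of_subset {X S : Scheme.{u}} (f : X ⟶ S) (F : X.Modules) (s : S)
    (h : ∀ x : X, f.base x = s → x ∈ freeOpen F) :
    FlatMod.IsFinLocFree ((Scheme.Modules.pullback (f.fiberι s)).obj F) := by
  have hrange : Set.range (f.fiberι s).base ⊆ Set.range (freeOpen F).ι.base := by
    rintro _ ⟨y, rfl⟩
    rw [Scheme.Opens.range_ι]
    apply h
    have h1 : (f.fiberι s).base y ∈ Set.range (f.fiberι s).base := ⟨y, rfl⟩
    rw [Scheme.Hom.range_fiberι] at h1
    exact h1
  let j : f.fiber s ⟶ (freeOpen F : Scheme.{u}) :=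
    IsOpenImmersion.lift (freeOpen F).ι (f.fiberι s) hrange
  have hj : j ≫ (freeOpen F).ι = f.fiberι s := IsOpenImmersion.lift_fac _ _ _
  have h1 : FlatMod.IsFinLocFree ((Scheme.Modules.pullback (freeOpen F).ι).obj F) :=
    LocFreeOps.isFinLocFree_of_iso
      ((Scheme.Modules.restrictFunctorIsoPullback (freeOpen F).ι).app F)
      (isFinLocFree_restrict_freeOpen F)
  have h2 := LocFreeOps.isFinLocFree_pullback j _ h1
  exact LocFreeOps.isFinLocFree_of_iso ((SepFG.compIso j (freeOpen F).ι (f.fiberι s) hj).app F) h2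

/-- conversely, for a coherent module flat over the base along the fibre. -/
theorem subset_freeOpen_of_isFinLocFree_fibre {X S : Scheme.{u}} [IsLocallyNoetherian X]
    [IsLocallyNoetherian S] (f : X ⟶ S) (F : X.Modules) [F.IsQuasicoherent]
    [SheafOfModules.IsFinitePresentation (R := X.ringCatSheaf) F] (s : S)
    (hfl : ∀ x : X, f.base x = s → FlatMod.IsFlatOverAt f F x)
    (hlf : FlatMod.IsFinLocFree ((Scheme.Modules.pullback (f.fiberι s)).obj F))
    (x : X) (hx : f.base x = s) : x ∈ freeOpen F := by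
  have h1 : x ∈ Set.range (f.fiberι s).base := by
    rw [Scheme.Hom.range_fiberι]
    exact hx
  obtain ⟨y, rfl⟩ := h1
  haveI : ((Scheme.Modules.pullback (f.fiberι s)).obj F).IsQuasicoherent :=
    PbStalk.isQuasicoherent_pullback _ F
  have hflat := FinLocFreeSec.isFlat_of_isFinLocFree _ hlf
  exact mem_freeOpen_of_free_stalk F _
    (free_stalk_of_flat_fibre f F s y (hfl _ hx) (hflat y))

end Groth.Agent.Lib.Helper1.FibreLocFree
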