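import Groth.Agent.Lib.Helper1.ModSub2
import Groth.Agent.Lib.Helper17.HomDescent
import Groth.Agent.Lib.Helper17.PbFinite
import Groth.Agent.Lib.Helper17.RightExactStage

/-!
# Descent of finitely presented modules along a cofiltered limit to a Noetherian stage

`S = lim S_i` with affine transition maps, `S_{i₀}` Noetherian: every quasi-coherent module of finite
presentation on `S` is the pullback of a finitely presented quasi-coherent module on some `S_j`.
(EGA IV 8.5.2 (ii), Noetherian stage.)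
-/

set_option autoImplicit false
set_option linter.style.haveILetI false
universe u
open CategoryTheory CategoryTheory.Limits AlgebraicGeometry TopologicalSpace Opposite

namespace Groth.Agent.Lib.Helper1.ModDescNoeth

open Groth.Agent.Lib.Helper3 Groth.Agent.Lib.Helper17

/-- on a locally Noetherian scheme a quasi-coherent module of finite type is finitely presented. -/
theorem isFinitePresentation_of_noeth {X : Scheme.{u}} [IsLocallyNoetherian X] (M : X.Modules)
    [M.IsQuasicoherent] [M.IsFiniteType] :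
    SheafOfModules.IsFinitePresentation (R := X.ringCatSheaf) M := by
  rw [QCProps.isFinitePresentation_iff_finitePresentation_sections]
  intro U hU
  haveI : IsNoetherianRing Γ(X, U) := IsLocallyNoetherian.component_noetherian ⟨U, hU⟩
  haveI := QCProps.finite_sections M hU
  exact Module.finitePresentation_of_finite _ _

variable {I : Type u} [SmallCategory I] [IsCofiltered I] (D : I ⥤ Scheme.{u}) (c : Cone D)
  (hc : IsLimit c) [hA : ∀ (i j : I) (f : i ⟶ j), IsAffineHom (D.map f)] (i₀ : I)

include hc in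
theorem exists_descent [CompactSpace (D.obj i₀)] [QuasiSeparatedSpace (D.obj i₀)]
    [IsLocallyNoetherian (D.obj i₀)] (F : c.pt.Modules)
    [SheafOfModules.IsFinitePresentation (R := c.pt.ringCatSheaf) F] :
    ∃ (j : I) (φ : j ⟶ i₀) (Fj : (D.obj j).Modules), Fj.IsQuasicoherent ∧
      SheafOfModules.IsFinitePresentation (R := (D.obj j).ringCatSheaf) Fj ∧
      Nonempty ((Scheme.Modules.pullback (c.π.app j)).obj Fj ≅ F) := by
  haveI : ∀ {i j : I} (f : i ⟶ j), IsAffineHom (D.map f) := fun f => hA _ _ f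
  haveI hπaff := isAffineHom_π_app D c hc i₀
  haveI : F.IsQuasicoherent := inferInstance
  haveI : F.IsFiniteType := inferInstance
  obtain ⟨B₀, β₀, hB₀q, hB₀ft, hβ₀⟩ := ModSub.exists_epi_pullback (c.π.app i₀) F
  haveI := hB₀q; haveI := hB₀ft; haveI := hβ₀
  haveI hB₀fp : SheafOfModules.IsFinitePresentation (R := (D.obj i₀).ringCatSheaf) B₀ :=
    isFinitePresentation_of_noeth B₀
  haveI : ((Scheme.Modules.pullback (c.π.app i₀)).obj B₀).IsQuasicoherent :=
    PbStalk.isQuasicoherent_pullback _ _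
  haveI : ((Scheme.Modules.pullback (c.π.app i₀)).obj B₀).IsFiniteType :=
    PbFinite.isFiniteType_pullback _ _
  haveI : (kernel β₀ : c.pt.Modules).IsQuasicoherent := QCProps.isQuasicoherent_kernel β₀
  haveI : (kernel β₀ : c.pt.Modules).IsFiniteType := PbFinite.isFiniteType_kernel_of_epi β₀
  obtain ⟨B₁, β₁, hB₁q, hB₁ft, hβ₁⟩ := ModSub.exists_epi_pullback (c.π.app i₀) (kernel β₀)
  haveI := hB₁q; haveI := hB₁ft; haveI := hβ₁
  haveI hB₁fp : SheafOfModules.IsFinitePresentation (R := (D.obj i₀).ringCatSheaf) B₁ :=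
    isFinitePresentation_of_noeth B₁
  let γ : (Scheme.Modules.pullback (c.π.app i₀)).obj B₁ ⟶
      (Scheme.Modules.pullback (c.π.app i₀)).obj B₀ := β₁ ≫ kernel.ι β₀
  obtain ⟨j, φ, γj, hγj⟩ := HomDescent.exists_hom_pullback_eq D c hc i₀ B₁ B₀ γ
  haveI : ((Scheme.Modules.pullback (D.map φ)).obj B₁).IsQuasicoherent :=
    PbStalk.isQuasicoherent_pullback _ _
  haveI : ((Scheme.Modules.pullback (D.map φ)).obj B₁).IsFiniteType :=
    PbFinite.isFiniteType_pullback _ _
  haveI : SheafOfModules.IsFinitePresentation (R := (D.obj j).ringCatSheaf)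
      ((Scheme.Modules.pullback (D.map φ)).obj B₀) := PbFinite.isFinitePresentation_pullback _ _
  haveI : ((Scheme.Modules.pullback (D.map φ)).obj B₀).IsQuasicoherent :=
    PbStalk.isQuasicoherent_pullback _ _
  refine ⟨j, φ, cokernel γj, QCProps.isQuasicoherent_cokernel γj,
    RightExactStage.isFinitePresentation_cokernel_of_ft γj, ⟨?_⟩⟩
  haveI : (Scheme.Modules.pullback (c.π.app j)).IsLeftAdjoint :=
    (Scheme.Modules.pullbackPushforwardAdjunction (c.π.app j)).isLeftAdjoint
  let cI₁ := (SepFG.compIso (c.π.app j) (D.map φ) (c.π.app i₀) (c.w φ)).app B₁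
  let cI₀ := (SepFG.compIso (c.π.app j) (D.map φ) (c.π.app i₀) (c.w φ)).app B₀
  have hw : (Scheme.Modules.pullback (c.π.app j)).map γj ≫ cI₀.hom = cI₁.hom ≫ γ := by
    rw [← hγj]
    change _ = cI₁.hom ≫ cI₁.inv ≫ _
    rw [Iso.hom_inv_id_assoc]
  let e₁ : (Scheme.Modules.pullback (c.π.app j)).obj (cokernel γj) ≅
      cokernel ((Scheme.Modules.pullback (c.π.app j)).map γj) :=
    PreservesCokernel.iso _ γj
  let e₂ : cokernel ((Scheme.Modules.pullback (c.π.app j)).map γj) ≅ cokernel γ :=
    cokernel.mapIso _ γ cI₁ cI₀ hw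
  let e₃ : cokernel γ ≅ cokernel (kernel.ι β₀) := cokernelEpiComp β₁ (kernel.ι β₀)
  let e₄ : cokernel (kernel.ι β₀) ≅ F :=
    IsColimit.coconePointUniqueUpToIso (cokernelIsCokernel (kernel.ι β₀))
      (Abelian.epiIsCokernelOfKernel (KernelFork.ofι (kernel.ι β₀) (kernel.condition β₀))
        (kernelIsKernel β₀))
  exact e₁ ≪≫ e₂ ≪≫ e₃ ≪≫ e₄

end Groth.Agent.Lib.Helper1.ModDescNoeth
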