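import Mathlib
import Groth.Prelude.Def_EGA4Misc
import Groth.Agent.Lib.Helper1.FibreLocFreeA
import Groth.Agent.Lib.Helper1.ModDescNoeth
import Groth.Agent.Lib.Helper28.GenFlatMod
import Groth.Agent.Lib.Helper12.ConsPropBasic
import Groth.Agent.Lib.Helper12.SecCompBC

/-!
# Local freeness of the fibre modules is a constructible property
-/

set_option autoImplicit false
set_option linter.style.haveILetI false
universe u
open CategoryTheory CategoryTheory.Limits AlgebraicGeometry TopologicalSpace Opposite TensorProduct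

namespace Groth.Agent.Lib.Helper1.FibreLocFree

open Groth.Agent.Lib.Helper3 Groth.Agent.Lib.Helper17

/-- flatness of a quasi-coherent module descends along a flat surjective morphism. -/
theorem isFlat_of_isFlat_pullback {Y Y' : Scheme.{u}} (e : Y' ⟶ Y) [Flat e] [Surjective e]
    (F : Y.Modules) [F.IsQuasicoherent]
    (h : FlatMod.IsFlat ((Scheme.Modules.pullback e).obj F)) : FlatMod.IsFlat F := by
  intro y
  obtain ⟨y', rfl⟩ := e.surjective y
  letI algAB : Algebra (Y.presheaf.stalk (e y')) (Y'.presheaf.stalk y') :=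
    (e.stalkMap y').hom.toAlgebra
  letI modAN : Module (Y.presheaf.stalk (e y'))
      (((Scheme.Modules.pullback e).obj F).presheaf.stalk y') :=
    Module.compHom _ (e.stalkMap y').hom
  obtain ⟨hst, γ, hγ⟩ := PbStalk.exists_isBaseChange_stalk e F y'
  haveI := hst
  haveI : Module.Flat (Y.presheaf.stalk (e y')) (Y'.presheaf.stalk y') := Flat.stalkMap e y'
  haveI : IsLocalHom (algebraMap (Y.presheaf.stalk (e y')) (Y'.presheaf.stalk y')) :=
    inferInstanceAs (IsLocalHom (e.stalkMap y').hom)
  haveI : Module.FaithfullyFlat (Y.presheaf.stalk (e y')) (Y'.presheaf.stalk y') :=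
    Module.FaithfullyFlat.of_flat_of_isLocalHom
  haveI : Module.Flat (Y'.presheaf.stalk y')
      (((Scheme.Modules.pullback e).obj F).presheaf.stalk y') := h y'
  haveI : Module.Flat (Y'.presheaf.stalk y')
      ((Y'.presheaf.stalk y') ⊗[Y.presheaf.stalk (e y')] (F.presheaf.stalk (e y'))) :=
    Module.Flat.of_linearEquiv hγ.equiv
  exact Module.Flat.of_flat_tensorProduct (Y.presheaf.stalk (e y')) (F.presheaf.stalk (e y'))
    (Y'.presheaf.stalk y')

open Groth.Agent.Lib.Helper12 Topology

/-- **EGA IV 9.4.7 (constructible property form).** -/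
theorem isConsMod_isFinLocFree :
    ConsProp.IsConsMod (fun ⦃Y T : Scheme.{u}⦄ (_ : Y ⟶ T) (F : Y.Modules) =>
      FlatMod.IsFinLocFree F) := by
  refine ⟨?_, ?_⟩
  · intro Y Y' T T' g g' e h _ _ _ _ _ _ hsq F F' hF iso
    obtain ⟨hq, hft⟩ := hF
    haveI : F.IsQuasicoherent := hq
    haveI : F.IsFiniteType := hft
    haveI : IsLocallyNoetherian Y := LocallyOfFiniteType.isLocallyNoetherian g
    haveI : SheafOfModules.IsFinitePresentation (R := Y.ringCatSheaf) F :=
      ModDescNoeth.isFinitePresentation_of_noeth F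
    haveI : Flat e := MorphismProperty.of_isPullback (P := @Flat) hsq.flip inferInstance
    haveI : Surjective e :=
      MorphismProperty.of_isPullback (P := @Surjective) hsq.flip inferInstance
    constructor
    · intro hlf
      exact LocFreeOps.isFinLocFree_of_iso iso.symm (LocFreeOps.isFinLocFree_pullback e F hlf)
    · intro hlf'
      have h1 : FlatMod.IsFinLocFree ((Scheme.Modules.pullback e).obj F) :=
        LocFreeOps.isFinLocFree_of_iso iso hlf'
      haveI : ((Scheme.Modules.pullback e).obj F).IsQuasicoherent :=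
        PbStalk.isQuasicoherent_pullback e F
      exact FinLocFreeSec.isFinLocFree_of_isFlat F
        (isFlat_of_isFlat_pullback e F (FinLocFreeSec.isFlat_of_isFinLocFree _ h1))
  · intro X S u _ _ _ _ F hF
    obtain ⟨hq, hft⟩ := hF
    haveI : F.IsQuasicoherent := hq
    haveI : F.IsFiniteType := hft
    haveI : IsLocallyNoetherian X := LocallyOfFiniteType.isLocallyNoetherian u
    haveI : CompactSpace X := QuasiCompact.compactSpace_of_compactSpace u
    haveI : IsNoetherian X := ⟨⟩
    haveI : SheafOfModules.IsFinitePresentation (R := X.ringCatSheaf) F :=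
      ModDescNoeth.isFinitePresentation_of_noeth F
    haveI : LocallyOfFinitePresentation u :=
      SecCompBC.locallyOfFinitePresentation_of_isLocallyNoetherian u
    obtain ⟨U₁, hU₁ne, hU₁fl⟩ := Groth.Agent.Lib.Helper28.GenFlatMod.generic_flat_module u F
    have hW : IsConstructible ((freeOpen F : Set X)) :=
      (NoetherianSpace.isCompact _).isConstructible (freeOpen F).2
    have hCcons : IsLocallyConstructible (u.base '' ((freeOpen F : Set X)ᶜ)) :=
      u.isLocallyConstructible_image hW.compl.isLocallyConstructible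
    have h1 : (u.base '' ((freeOpen F : Set X)ᶜ))ᶜ ⊆ ConsProp.locusMod
        (fun ⦃Y T : Scheme.{u}⦄ (_ : Y ⟶ T) (F : Y.Modules) => FlatMod.IsFinLocFree F) u F := by
      intro s hs
      apply isFinLocFree_fibre_of_subset u F s
      intro x hxs
      by_contra hx
      exact hs ⟨x, hx, hxs⟩
    have h2 : ∀ s ∈ U₁, s ∈ ConsProp.locusMod
        (fun ⦃Y T : Scheme.{u}⦄ (_ : Y ⟶ T) (F : Y.Modules) => FlatMod.IsFinLocFree F) u F →
        s ∉ u.base '' ((freeOpen F : Set X)ᶜ) := by
      rintro s hsU hlf ⟨x, hx, rfl⟩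
      exact hx (subset_freeOpen_of_isFinLocFree_fibre u F _
        (fun x' hx' => hU₁fl x' (by rw [hx']; exact hsU)) hlf x rfl)
    rcases ConsPropBasic.interior_nonempty_or _
      (ConstrNhds.isLocallyConstructible_compl hCcons) with h | h
    · left
      exact h.mono (interior_mono h1)
    · right
      rw [compl_compl] at h
      have h3 : ((interior (u.base '' ((freeOpen F : Set X)ᶜ))) ∩ (U₁ : Set S)).Nonempty :=
        nonempty_preirreducible_inter isOpen_interior U₁.2 h hU₁ne
      refine h3.mono ?_
      apply interior_maximal _ (isOpen_interior.inter U₁.2)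
      rintro s ⟨hsC, hsU⟩ hlf
      exact h2 s hsU hlf (interior_subset hsC)

end Groth.Agent.Lib.Helper1.FibreLocFree
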