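import Mathlib
import Groth.Prelude.Def_EGA4Misc
import Groth.Agent.Lib.Helper1.FibreLocFreeB
import Groth.Agent.Lib.Helper17.LocFreeRank

/-!
# Local freeness of rank `n` of the fibre modules is a constructible property
-/

set_option autoImplicit false
set_option linter.style.haveILetI false
universe u
open CategoryTheory CategoryTheory.Limits AlgebraicGeometry TopologicalSpace Opposite TensorProduct

namespace Groth.Agent.Lib.Helper1.FibreLocFree

open Groth.Agent.Lib.Helper3 Groth.Agent.Lib.Helper17 Groth.Agent.Lib.Helper3.FreeBasis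
  Groth.Agent.Lib.Helper3.QCSec Groth.Agent.Lib.Helper12 Topology

/-- the rank of a local basis is the rank of the pullback. -/
theorem rank_eq_of_pullback {Y Y' : Scheme.{u}} (g : Y' ⟶ Y) (F : Y.Modules) {m n : ℕ} (y' : Y')
    (U : Y.Opens) (hU : g.base y' ∈ U) (e : Fin m → Γ(F, U)) (he : IsBasis F U e)
    (hn : FlatMod.IsFinLocFreeOfRank n ((Scheme.Modules.pullback g).obj F)) : m = n := by
  obtain ⟨φ⟩ := FreeBasis.nonempty_iso_of_isBasis he
  obtain ⟨ψ⟩ := LocFreeRank.restrict_pullback_free g F U m φ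
  haveI : Nonempty ↥((g ⁻¹ᵁ U : Y'.Opens) : Scheme.{u}) := ⟨⟨y', hU⟩⟩
  have h1 : FlatMod.IsFinLocFreeOfRank m
      (((Scheme.Modules.pullback g).obj F).restrict (g ⁻¹ᵁ U).ι) :=
    LocFreeRank.isFinLocFreeOfRank_of_iso ψ.symm m (LocFreeRank.isFinLocFreeOfRank_freeMod _ m)
  have h2 := LocFreeRank.isFinLocFreeOfRank_restrict _ (g ⁻¹ᵁ U) n hn
  exact LocFreeRank.rank_unique _ h1 h2

/-- the open set of points near which `F` is free of rank `n`. -/
def freeOpenRank {X : Scheme.{u}} (n : ℕ) (F : X.Modules) : X.Opens where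
  carrier := {x | ∃ (U : X.Opens) (e : Fin n → Γ(F, U)), x ∈ U ∧ IsBasis F U e}
  is_open' := by
    rw [isOpen_iff_forall_mem_open]
    rintro x ⟨U, e, hxU, he⟩
    exact ⟨U, fun z hz => ⟨U, e, hz, he⟩, U.2, hxU⟩

theorem isFinLocFreeOfRank_restrict_freeOpenRank {X : Scheme.{u}} (n : ℕ) (F : X.Modules) :
    FlatMod.IsFinLocFreeOfRank n (F.restrict (freeOpenRank n F).ι) := by
  rw [FreeBasis.isFinLocFreeOfRank_iff]
  intro x'
  have hx : (freeOpenRank n F).ι.base x' ∈ freeOpenRank n F := by
    have h1 : (freeOpenRank n F).ι.base x' ∈ Set.range (freeOpenRank n F).ι.base :=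
      Set.mem_range_self x'
    rw [Scheme.Opens.range_ι] at h1
    exact h1
  obtain ⟨U, e, hxU, he⟩ := hx
  have hUW : U ≤ freeOpenRank n F := fun z hz => ⟨U, e, hz, he⟩
  exact ⟨(freeOpenRank n F).ι ⁻¹ᵁ U, _, hxU,
    LocFreeCrit.isBasis_restrict_of_isBasis F (freeOpenRank n F) hUW he⟩

theorem isFinLocFreeOfRank_fibre_of_subset {X S : Scheme.{u}} (n : ℕ) (f : X ⟶ S)
    (F : X.Modules) (s : S) (h : ∀ x : X, f.base x = s → x ∈ freeOpenRank n F) :
    FlatMod.IsFinLocFreeOfRank n ((Scheme.Modules.pullback (f.fiberι s)).obj F) := by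
  have hrange : Set.range (f.fiberι s).base ⊆ Set.range (freeOpenRank n F).ι.base := by
    rintro _ ⟨y, rfl⟩
    rw [Scheme.Opens.range_ι]
    apply h
    have h1 : (f.fiberι s).base y ∈ Set.range (f.fiberι s).base := ⟨y, rfl⟩
    rw [Scheme.Hom.range_fiberι] at h1
    exact h1
  let j : f.fiber s ⟶ (freeOpenRank n F : Scheme.{u}) :=
    IsOpenImmersion.lift (freeOpenRank n F).ι (f.fiberι s) hrange
  have hj : j ≫ (freeOpenRank n F).ι = f.fiberι s := IsOpenImmersion.lift_fac _ _ _
  have h1 : FlatMod.IsFinLocFreeOfRank n ((Scheme.Modules.pullback (freeOpenRank n F).ι).obj F) :=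
    LocFreeRank.isFinLocFreeOfRank_of_iso
      ((Scheme.Modules.restrictFunctorIsoPullback (freeOpenRank n F).ι).app F) n
      (isFinLocFreeOfRank_restrict_freeOpenRank n F)
  have h2 := LocFreeRank.isFinLocFreeOfRank_pullback j _ n h1
  exact LocFreeRank.isFinLocFreeOfRank_of_iso
    ((SepFG.compIso j (freeOpenRank n F).ι (f.fiberι s) hj).app F) n h2

theorem subset_freeOpenRank_of_fibre {X S : Scheme.{u}} [IsLocallyNoetherian X]
    [IsLocallyNoetherian S] (n : ℕ) (f : X ⟶ S) (F : X.Modules) [F.IsQuasicoherent]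
    [SheafOfModules.IsFinitePresentation (R := X.ringCatSheaf) F] (s : S)
    (hfl : ∀ x : X, f.base x = s → FlatMod.IsFlatOverAt f F x)
    (hlf : FlatMod.IsFinLocFreeOfRank n ((Scheme.Modules.pullback (f.fiberι s)).obj F))
    (x : X) (hx : f.base x = s) : x ∈ freeOpenRank n F := by
  obtain ⟨U, m, e, hxU, he⟩ := subset_freeOpen_of_isFinLocFree_fibre f F s hfl
    (LocFreeRank.isFinLocFree_of_rank hlf) x hx
  have h1 : x ∈ Set.range (f.fiberι s).base := by
    rw [Scheme.Hom.range_fiberι]
    exact hx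
  obtain ⟨y, rfl⟩ := h1
  obtain rfl := rank_eq_of_pullback (f.fiberι s) F y U hxU e he hlf
  exact ⟨U, e, hxU, he⟩

theorem isConsMod_isFinLocFreeOfRank (n : ℕ) :
    ConsProp.IsConsMod (fun ⦃Y T : Scheme.{u}⦄ (_ : Y ⟶ T) (F : Y.Modules) =>
      FlatMod.IsFinLocFreeOfRank n F) := by
  refine ⟨?_, ?_⟩
  · intro Y Y' T T' g g' e h _ _ _ _ _ _ hsq F F' hF iso
    obtain ⟨hq, hft⟩ := hF
    haveI : F.IsQuasicoherent := hq
    haveI : F.IsFiniteType := hft
    haveI : IsLocallyNoetherian Y := LocallyOfFiniteType.isLocallyNoetherian g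
    haveI : SheafOfModules.IsFinitePresentation (R := Y.ringCatSheaf) F :=
      ModDescNoeth.isFinitePresentation_of_noeth F
    haveI : Flat e := MorphismProperty.of_isPullback (P := @Flat) hsq.flip inferInstance
    haveI : Surjective e :=
      MorphismProperty.of_isPullback (P := @Surjective) hsq.flip inferInstance
    constructor
    · intro hlf
      exact LocFreeRank.isFinLocFreeOfRank_of_iso iso.symm n
        (LocFreeRank.isFinLocFreeOfRank_pullback e F n hlf)
    · intro hlf'
      have h1 : FlatMod.IsFinLocFreeOfRank n ((Scheme.Modules.pullback e).obj F) :=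
        LocFreeRank.isFinLocFreeOfRank_of_iso iso n hlf'
      haveI : ((Scheme.Modules.pullback e).obj F).IsQuasicoherent :=
        PbStalk.isQuasicoherent_pullback e F
      have h2 : FlatMod.IsFinLocFree F := FinLocFreeSec.isFinLocFree_of_isFlat F
        (isFlat_of_isFlat_pullback e F (FinLocFreeSec.isFlat_of_isFinLocFree _
          (LocFreeRank.isFinLocFree_of_rank h1)))
      change FlatMod.IsFinLocFreeOfRank n F
      rw [FreeBasis.isFinLocFreeOfRank_iff]
      intro y
      obtain ⟨U, m, b, hyU, hb⟩ := (LocFreeCrit.isFinLocFree_iff.mp h2) y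
      obtain ⟨y', rfl⟩ := e.surjective y
      obtain rfl := rank_eq_of_pullback e F y' U hyU b hb h1
      exact ⟨U, b, hyU, hb⟩
  · intro X S u _ _ _ _ F hF
    obtain ⟨hq, hft⟩ := hF
    haveI : F.IsQuasicoherent := hq
    haveI : F.IsFiniteType := hft
    haveI : IsLocallyNoetherian X := LocallyOfFiniteType.isLocallyNoetherian u
    haveI : CompactSpace X := QuasiCompact.compactSpace_of_compactSpace u
    haveI : IsNoetherian X := ⟨⟩
    haveI : SheafOfModules.IsFinitePresentation (R := X.ringCatSheaf) F :=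
      ModDescNoeth.isFinitePresentation_of_noeth F
    haveI : LocallyOfFinitePresentation u :=
      SecCompBC.locallyOfFinitePresentation_of_isLocallyNoetherian u
    obtain ⟨U₁, hU₁ne, hU₁fl⟩ := Groth.Agent.Lib.Helper28.GenFlatMod.generic_flat_module u F
    have hW : IsConstructible ((freeOpenRank n F : Set X)) :=
      (NoetherianSpace.isCompact _).isConstructible (freeOpenRank n F).2
    have hCcons : IsLocallyConstructible (u.base '' ((freeOpenRank n F : Set X)ᶜ)) :=
      u.isLocallyConstructible_image hW.compl.isLocallyConstructible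
    have h1 : (u.base '' ((freeOpenRank n F : Set X)ᶜ))ᶜ ⊆ ConsProp.locusMod
        (fun ⦃Y T : Scheme.{u}⦄ (_ : Y ⟶ T) (F : Y.Modules) =>
          FlatMod.IsFinLocFreeOfRank n F) u F := by
      intro s hs
      apply isFinLocFreeOfRank_fibre_of_subset n u F s
      intro x hxs
      by_contra hx
      exact hs ⟨x, hx, hxs⟩
    have h2 : ∀ s ∈ U₁, s ∈ ConsProp.locusMod
        (fun ⦃Y T : Scheme.{u}⦄ (_ : Y ⟶ T) (F : Y.Modules) =>
          FlatMod.IsFinLocFreeOfRank n F) u F →
        s ∉ u.base '' ((freeOpenRank n F : Set X)ᶜ) := by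
      rintro s hsU hlf ⟨x, hx, rfl⟩
      exact hx (subset_freeOpenRank_of_fibre n u F _
        (fun x' hx' => hU₁fl x' (by rw [hx']; exact hsU)) hlf x rfl)
    rcases ConsPropBasic.interior_nonempty_or _
      (ConstrNhds.isLocallyConstructible_compl hCcons) with h | h
    · left
      exact h.mono (interior_mono h1)
    · right
      rw [compl_compl] at h
      have h3 : ((interior (u.base '' ((freeOpenRank n F : Set X)ᶜ))) ∩ (U₁ : Set S)).Nonempty :=
        nonempty_preirreducible_inter isOpen_interior U₁.2 h hU₁ne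
      refine h3.mono ?_
      apply interior_maximal _ (isOpen_interior.inter U₁.2)
      rintro s ⟨hsC, hsU⟩ hlf
      exact h2 s hsU hlf (interior_subset hsC)

end Groth.Agent.Lib.Helper1.FibreLocFree
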