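import Mathlib

/-!
# Freeness of a finite module over a Noetherian local ring from freeness of quotients (helper1)

`free_of_forall_flat_baseChange`: `O` Noetherian local, `M` finite; if for every `n` there is a
surjection `O → O'` with kernel inside `m^(n+1)` such that the base change of `M` to `O'` is flat,
then `M` is free.
-/
set_option autoImplicit false
universe u
open TensorProduct IsLocalRing

namespace Groth.Agent.Lib.Helper1.FreeQuotLimit

variable {O : Type u} [CommRing O] [IsLocalRing O] {M : Type u} [AddCommGroup M] [Module O M]
  [Module.Finite O M]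

section Level

variable {O' : Type u} [CommRing O'] [Algebra O O'] {N : Type u} [AddCommGroup N] [Module O N]
  [Module O' N] [IsScalarTower O O' N] (g : M →ₗ[O] N)

theorem finite_of_isBaseChange (hγ : IsBaseChange O' g) : Module.Finite O' N :=
  Module.Finite.equiv hγ.equiv

theorem span_of_isBaseChange (hγ : IsBaseChange O' g) {ι : Type*} (v : ι → M)
    (hv : Submodule.span O (Set.range v) = ⊤) :
    ⊤ ≤ Submodule.span O' (Set.range (g ∘ v)) := by
  intro y _
  refine hγ.inductionOn y (fun y => y ∈ Submodule.span O' (Set.range (g ∘ v))) (zero_mem _) ?_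
    (fun s n hn => Submodule.smul_mem _ s hn) (fun a b ha hb => add_mem ha hb)
  intro m
  have hm : m ∈ Submodule.span O (Set.range v) := by rw [hv]; trivial
  have h1 : g m ∈ Submodule.map g (Submodule.span O (Set.range v)) := ⟨m, hm, rfl⟩
  rw [Submodule.map_span, ← Set.range_comp] at h1
  exact (Submodule.span_le_restrictScalars O O' _) h1

variable [IsLocalRing O'] [IsLocalHom (algebraMap O O')]

theorem finrank_of_isBaseChange (hγ : IsBaseChange O' g) [Module.Flat O' N] :
    Module.finrank O' N = Module.finrank (ResidueField O) (ResidueField O ⊗[O] M) := by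
  haveI : Module.Finite O' N := finite_of_isBaseChange g hγ
  haveI : Module.Free O' N := Module.free_of_flat_of_isLocalRing
  have h1 : Module.finrank (ResidueField O') (ResidueField O' ⊗[O'] N) = Module.finrank O' N :=
    Module.finrank_baseChange
  have hc : IsBaseChange (ResidueField O') ((TensorProduct.mk O' (ResidueField O') N 1).restrictScalars O ∘ₗ g) :=
    hγ.comp (TensorProduct.isBaseChange O' N (ResidueField O'))
  have e1 : ResidueField O' ⊗[O] M ≃ₗ[ResidueField O'] ResidueField O' ⊗[O'] N := hc.equiv
  have e2 : ResidueField O' ⊗[ResidueField O] (ResidueField O ⊗[O] M) ≃ₗ[ResidueField O']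
      ResidueField O' ⊗[O] M :=
    AlgebraTensorModule.cancelBaseChange O (ResidueField O) (ResidueField O') (ResidueField O') M
  have h2 : Module.finrank (ResidueField O') (ResidueField O' ⊗[ResidueField O] (ResidueField O ⊗[O] M)) =
      Module.finrank (ResidueField O) (ResidueField O ⊗[O] M) := Module.finrank_baseChange
  rw [← h1, ← e1.finrank_eq, ← e2.finrank_eq, h2]

end Level

theorem free_of_forall_flat_baseChange [IsNoetherianRing O]
    (h : ∀ n : ℕ, ∃ (O' : Type u) (_ : CommRing O') (_ : Algebra O O') (N : Type u)
      (_ : AddCommGroup N) (_ : Module O N) (_ : Module O' N) (_ : IsScalarTower O O' N)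
      (g : M →ₗ[O] N), Function.Surjective (algebraMap O O') ∧
        RingHom.ker (algebraMap O O') ≤ maximalIdeal O ^ (n + 1) ∧
        IsBaseChange O' g ∧ Module.Flat O' N) :
    Module.Free O M := by
  classical
  let k := ResidueField O
  let r := Module.finrank k (k ⊗[O] M)
  let b : Module.Basis (Fin r) k (k ⊗[O] M) := Module.finBasis k (k ⊗[O] M)
  have hsurj : Function.Surjective (TensorProduct.mk O k M 1) :=
    TensorProduct.mk_surjective O M k IsLocalRing.residue_surjective
  choose v hv using fun i => hsurj (b i)
  have hspan : Submodule.span O (Set.range v) = ⊤ :=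
    IsLocalRing.span_eq_top_of_tmul_eq_basis v b hv
  have hli : LinearIndependent O v := by
    rw [Fintype.linearIndependent_iff]
    intro q hq i
    have hmem : ∀ n : ℕ, q i ∈ maximalIdeal O ^ (n + 1) := by
      intro n
      obtain ⟨O', _, _, N, _, _, _, _, g, hs, hker, hγ, hfl⟩ := h n
      haveI : Nontrivial O' := by
        by_contra hnt
        rw [not_nontrivial_iff_subsingleton] at hnt
        have h1 : (1 : O) ∈ RingHom.ker (algebraMap O O') := Subsingleton.elim _ _
        have h2 : (1 : O) ∈ maximalIdeal O :=
          Ideal.pow_le_self (Nat.succ_ne_zero n) (hker h1)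
        exact (Ideal.ne_top_iff_one _).1 (IsLocalRing.maximalIdeal.isMaximal O).ne_top h2
      haveI : IsLocalHom (algebraMap O O') := IsLocalHom.of_surjective _ hs
      haveI : IsLocalRing O' := IsLocalRing.of_surjective (algebraMap O O') hs
      have hsp := span_of_isBaseChange g hγ v hspan
      have hrk := finrank_of_isBaseChange g hγ
      have hliw : LinearIndependent O' (g ∘ v) :=
        linearIndependent_of_top_le_span_of_card_eq_finrank hsp
          (by rw [Fintype.card_fin, hrk])
      rw [Fintype.linearIndependent_iff] at hliw
      have h0 : ∑ j, algebraMap O O' (q j) • (g ∘ v) j = 0 := by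
        have h1 : g (∑ j, q j • v j) = 0 := by rw [hq, map_zero]
        rw [map_sum] at h1
        rw [← h1]
        refine Finset.sum_congr rfl fun j _ => ?_
        rw [map_smul, Function.comp_apply, algebraMap_smul]
      have h2 := hliw (fun j => algebraMap O O' (q j)) h0 i
      exact hker h2
    have hbot : (⨅ n : ℕ, maximalIdeal O ^ n) = ⊥ :=
      Ideal.iInf_pow_eq_bot_of_isLocalRing _ (IsLocalRing.maximalIdeal.isMaximal O).ne_top
    have h3 : q i ∈ (⨅ n : ℕ, maximalIdeal O ^ n) := by
      rw [Ideal.mem_iInf]
      intro n
      cases n with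
      | zero => rw [pow_zero, Ideal.one_eq_top]; trivial
      | succ n => exact hmem n
    rw [hbot] at h3
    exact h3
  exact Module.Free.of_basis (Module.Basis.mk hli (by rw [hspan]))

end Groth.Agent.Lib.Helper1.FreeQuotLimit
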