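import Mathlib

/-!
# Stalk maps of the closed subschemes cut out by powers of an ideal sheaf (helper1)

`ker_stalkMap_pow_le`: the kernel of the stalk map of `(I^(n+1)).subscheme ⟶ X` at a point lies in
the `(n+1)`-st power of the maximal ideal.
-/
set_option autoImplicit false
universe u
open CategoryTheory AlgebraicGeometry TopologicalSpace Opposite IsLocalRing

namespace Groth.Agent.Lib.Helper1.SubschemeStalk

variable {X : Scheme.{u}}

theorem stalkMap_surjective (I : X.IdealSheafData) (x' : I.subscheme) :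
    Function.Surjective (I.subschemeι.stalkMap x').hom :=
  I.subschemeι.stalkMap_surjective x'

/-- a section of `I(W)` has a non-unit germ at a point of the subscheme of `I^(n+1)`. -/
theorem germ_mem_maximalIdeal (I : X.IdealSheafData) (n : ℕ) (x' : (I ^ (n + 1)).subscheme)
    (W : X.affineOpens) (hxW : (I ^ (n + 1)).subschemeι x' ∈ W.1) (j : Γ(X, W.1))
    (hj : j ∈ I.ideal W) :
    X.presheaf.germ W.1 ((I ^ (n + 1)).subschemeι x') hxW j ∈
      maximalIdeal (X.presheaf.stalk ((I ^ (n + 1)).subschemeι x')) := by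
  rw [IsLocalRing.mem_maximalIdeal, mem_nonunits_iff]
  intro hu
  have h1 : j ^ (n + 1) ∈ (I ^ (n + 1)).ideal W := by
    rw [Scheme.IdealSheafData.ideal_pow]
    exact Ideal.pow_mem_pow hj (n + 1)
  rw [← Scheme.IdealSheafData.ker_subschemeι_app, RingHom.mem_ker] at h1
  have h2 : ((I ^ (n + 1)).subschemeι.stalkMap x').hom
      (X.presheaf.germ W.1 ((I ^ (n + 1)).subschemeι x') hxW (j ^ (n + 1))) = 0 := by
    have := Scheme.Hom.germ_stalkMap_apply (I ^ (n + 1)).subschemeι W.1 x' hxW (j ^ (n + 1))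
    refine this.trans ?_
    have h3 : ((I ^ (n + 1)).subschemeι.app W.1).hom (j ^ (n + 1)) = 0 := h1
    rw [h3, map_zero]
  have h4 : IsUnit (X.presheaf.germ W.1 ((I ^ (n + 1)).subschemeι x') hxW (j ^ (n + 1))) := by
    rw [map_pow]
    exact hu.pow _
  have h5 := h4.map ((I ^ (n + 1)).subschemeι.stalkMap x').hom
  rw [h2] at h5
  exact not_isUnit_zero h5

/-- an element of the kernel of the stalk map of `J.subscheme ⟶ X` is the germ of a section of
`J` over an affine open. -/
theorem exists_germ_of_mem_ker (J : X.IdealSheafData) (x' : J.subscheme)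
    (a : X.presheaf.stalk (J.subschemeι x'))
    (ha : a ∈ RingHom.ker (J.subschemeι.stalkMap x').hom) :
    ∃ (W : X.affineOpens) (hxW : J.subschemeι x' ∈ W.1) (b : Γ(X, W.1)),
      b ∈ J.ideal W ∧ X.presheaf.germ W.1 (J.subschemeι x') hxW b = a := by
  obtain ⟨W0, hxW0, b0, hab⟩ := TopCat.Presheaf.germ_exist X.presheaf (x := J.subschemeι x') a
  rw [RingHom.mem_ker] at ha
  have h1 : J.subscheme.presheaf.germ (J.subschemeι ⁻¹ᵁ W0) x' hxW0
      ((J.subschemeι.app W0).hom b0) = 0 := by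
    refine (Scheme.Hom.germ_stalkMap_apply J.subschemeι W0 x' hxW0 b0).symm.trans ?_
    rw [hab]
    exact ha
  have h1' : J.subscheme.presheaf.germ (J.subschemeι ⁻¹ᵁ W0) x' hxW0
      ((J.subschemeι.app W0).hom b0) =
      J.subscheme.presheaf.germ (J.subschemeι ⁻¹ᵁ W0) x' hxW0 0 := by rw [h1, map_zero]
  obtain ⟨V', hxV', i1, i2, hres⟩ := TopCat.Presheaf.germ_eq _ x' hxW0 hxW0 _ _ h1'
  rw [map_zero] at hres
  obtain ⟨W1s, hW1o, hW1⟩ := J.subschemeι.isEmbedding.isInducing.isOpen_iff.1 V'.2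
  let W1 : X.Opens := ⟨W1s, hW1o⟩
  have hxW1 : J.subschemeι x' ∈ W1 := by
    change x' ∈ J.subschemeι ⁻¹' W1s
    rw [hW1]
    exact hxV'
  obtain ⟨W, hW, hxW, hWle⟩ := Opens.isBasis_iff_nbhd.1 X.isBasis_affineOpens
    (show J.subschemeι x' ∈ W0 ⊓ W1 from ⟨hxW0, hxW1⟩)
  have hWW0 : W ≤ W0 := hWle.trans inf_le_left
  have hWW1 : W ≤ W1 := hWle.trans inf_le_right
  have hpre : J.subschemeι ⁻¹ᵁ W ≤ V' := by
    intro z hz
    have : z ∈ J.subschemeι ⁻¹' W1s := hWW1 hz
    rw [hW1] at this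
    exact this
  refine ⟨⟨W, hW⟩, hxW, (X.presheaf.map (homOfLE hWW0).op).hom b0, ?_, ?_⟩
  · rw [← Scheme.IdealSheafData.ker_subschemeι_app, RingHom.mem_ker]
    have hnat := ConcreteCategory.congr_hom (J.subschemeι.naturality (homOfLE hWW0).op) b0
    refine hnat.trans ?_
    change (J.subscheme.presheaf.map ((Opens.map J.subschemeι.base).map (homOfLE hWW0)).op).hom
      ((J.subschemeι.app W0).hom b0) = 0
    have hfac : ((Opens.map J.subschemeι.base).map (homOfLE hWW0)) = homOfLE hpre ≫ i1 :=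
      Subsingleton.elim _ _
    rw [hfac, op_comp, Functor.map_comp]
    change (J.subscheme.presheaf.map (homOfLE hpre).op).hom
      ((J.subscheme.presheaf.map i1.op).hom ((J.subschemeι.app W0).hom b0)) = 0
    rw [hres, map_zero]
  · exact (TopCat.Presheaf.germ_res_apply X.presheaf (homOfLE hWW0) (J.subschemeι x') hxW b0).trans
      hab

theorem ker_stalkMap_pow_le (I : X.IdealSheafData) (n : ℕ) (x' : (I ^ (n + 1)).subscheme) :
    RingHom.ker ((I ^ (n + 1)).subschemeι.stalkMap x').hom ≤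
      maximalIdeal (X.presheaf.stalk ((I ^ (n + 1)).subschemeι x')) ^ (n + 1) := by
  intro a ha
  obtain ⟨W, hxW, b, hker, rfl⟩ := exists_germ_of_mem_ker (I ^ (n + 1)) x' a ha
  rw [Scheme.IdealSheafData.ideal_pow] at hker
  have hmap : Ideal.map (X.presheaf.germ W.1 ((I ^ (n + 1)).subschemeι x') hxW).hom (I.ideal W) ≤
      maximalIdeal (X.presheaf.stalk ((I ^ (n + 1)).subschemeι x')) := by
    rw [Ideal.map_le_iff_le_comap]
    intro j hj
    exact germ_mem_maximalIdeal I n x' W hxW j hj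
  have h6 : (X.presheaf.germ W.1 ((I ^ (n + 1)).subschemeι x') hxW).hom b ∈
      Ideal.map (X.presheaf.germ W.1 ((I ^ (n + 1)).subschemeι x') hxW).hom ((I.ideal W) ^ (n + 1)) :=
    Ideal.mem_map_of_mem _ hker
  rw [Ideal.map_pow] at h6
  exact Ideal.pow_right_mono hmap (n + 1) h6

end Groth.Agent.Lib.Helper1.SubschemeStalk
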