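import Mathlib
import Groth.Agent.Lib.Helper1.FreeQuotLimit
import Groth.Agent.Lib.Helper1.SubschemeStalk
import Groth.Agent.Lib.Helper1.FibreLocFreeC

/-!
# Local freeness from local freeness on all infinitesimal neighbourhoods (helper1)
-/
set_option autoImplicit false
set_option linter.style.haveILetI false
universe u
open CategoryTheory CategoryTheory.Limits AlgebraicGeometry TopologicalSpace Opposite IsLocalRing

namespace Groth.Agent.Lib.Helper1.AdicLocFree

open Groth.Agent.Lib.Helper3 Groth.Agent.Lib.Helper17 Groth.Agent.Lib.Helper1.FibreLocFree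

variable {X : Scheme.{u}}

/-- the stalk at a point of `V(I)` of a coherent module whose pullbacks to all `V(I^(n+1))` are flat
is free. -/
theorem free_stalk_of_forall_isFlat [IsLocallyNoetherian X] (I : X.IdealSheafData)
    (F : X.Modules) [F.IsQuasicoherent] [F.IsFiniteType] (x : X) (hx : x ∈ I.support)
    (h : ∀ n : ℕ, FlatMod.IsFlat ((Scheme.Modules.pullback (I ^ (n + 1)).subschemeι).obj F)) :
    Module.Free (X.presheaf.stalk x) (F.presheaf.stalk x) := by
  haveI := FibreCritSch.finite_stalk F x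
  refine FreeQuotLimit.free_of_forall_flat_baseChange (fun n => ?_)
  have hx' : x ∈ Set.range (I ^ (n + 1)).subschemeι := by
    rw [Scheme.IdealSheafData.range_subschemeι, Scheme.IdealSheafData.support_pow_succ]
    exact hx
  obtain ⟨x', rfl⟩ := hx'
  letI alg : Algebra (X.presheaf.stalk ((I ^ (n + 1)).subschemeι x'))
      ((I ^ (n + 1)).subscheme.presheaf.stalk x') :=
    ((I ^ (n + 1)).subschemeι.stalkMap x').hom.toAlgebra
  letI modON : Module (X.presheaf.stalk ((I ^ (n + 1)).subschemeι x'))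
      (((Scheme.Modules.pullback (I ^ (n + 1)).subschemeι).obj F).presheaf.stalk x') :=
    Module.compHom _ ((I ^ (n + 1)).subschemeι.stalkMap x').hom
  obtain ⟨hst, γ, hγ⟩ := PbStalk.exists_isBaseChange_stalk (I ^ (n + 1)).subschemeι F x'
  refine ⟨(I ^ (n + 1)).subscheme.presheaf.stalk x', inferInstance, alg,
    ((Scheme.Modules.pullback (I ^ (n + 1)).subschemeι).obj F).presheaf.stalk x', inferInstance,
    modON, inferInstance, hst, γ, ?_, ?_, hγ, h n x'⟩
  · exact SubschemeStalk.stalkMap_surjective _ x'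
  · exact SubschemeStalk.ker_stalkMap_pow_le I n x'

theorem mem_freeOpenRank_of_forall [IsLocallyNoetherian X] (I : X.IdealSheafData)
    (F : X.Modules) [F.IsQuasicoherent] [F.IsFiniteType] (r : ℕ) (x : X) (hx : x ∈ I.support)
    (h : ∀ n : ℕ, FlatMod.IsFinLocFreeOfRank r
      ((Scheme.Modules.pullback (I ^ (n + 1)).subschemeι).obj F)) :
    x ∈ freeOpenRank r F := by
  haveI : SheafOfModules.IsFinitePresentation (R := X.ringCatSheaf) F :=
    ModDescNoeth.isFinitePresentation_of_noeth F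
  have hfree := free_stalk_of_forall_isFlat I F x hx (fun n => by
    haveI : ((Scheme.Modules.pullback (I ^ (n + 1)).subschemeι).obj F).IsQuasicoherent :=
      PbStalk.isQuasicoherent_pullback _ F
    exact FinLocFreeSec.isFlat_of_isFinLocFree _ (LocFreeRank.isFinLocFree_of_rank (h n)))
  obtain ⟨U, m, e, hxU, he⟩ := mem_freeOpen_of_free_stalk F x hfree
  have hx' : x ∈ Set.range (I ^ (0 + 1)).subschemeι := by
    rw [Scheme.IdealSheafData.range_subschemeι, Scheme.IdealSheafData.support_pow_succ]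
    exact hx
  obtain ⟨x', rfl⟩ := hx'
  obtain rfl := rank_eq_of_pullback (I ^ (0 + 1)).subschemeι F x' U hxU e he (h 0)
  exact ⟨U, e, hxU, he⟩

/-- **Local freeness from the completion.**  `A` Noetherian `J`-adically complete, `f : X ⟶ Spec A`
closed map locally of finite type, `F` coherent; if the pullbacks of `F` to all `V((J O_X)^(n+1))` are
locally free of rank `r` then so is `F`. -/
theorem isFinLocFreeOfRank_of_forall (A : Type u) [CommRing A] [IsNoetherianRing A]
    (J : Ideal A) [IsAdicComplete J A] (f : X ⟶ Spec (CommRingCat.of A)) [IsProper f]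
    (I : X.IdealSheafData)
    (hI : ∀ x : X, J ≤ (f.base x).asIdeal → x ∈ I.support)
    (F : X.Modules) (hF : Coh.IsCoh F) (r : ℕ)
    (h : ∀ n : ℕ, FlatMod.IsFinLocFreeOfRank r
      ((Scheme.Modules.pullback (I ^ (n + 1)).subschemeι).obj F)) :
    FlatMod.IsFinLocFreeOfRank r F := by
  haveI := hF.1
  haveI := hF.2
  haveI : IsLocallyNoetherian X := LocallyOfFiniteType.isLocallyNoetherian f
  rw [FreeBasis.isFinLocFreeOfRank_iff]
  have hsub : ∀ x : X, J ≤ (f.base x).asIdeal → x ∈ freeOpenRank r F := fun x hx =>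
    mem_freeOpenRank_of_forall I F r x (hI x hx) h
  suffices htop : ((freeOpenRank r F : X.Opens) : Set X)ᶜ = ∅ by
    intro x
    have hx : x ∈ freeOpenRank r F := by
      by_contra hx
      have : x ∈ ((freeOpenRank r F : X.Opens) : Set X)ᶜ := hx
      rw [htop] at this
      exact this
    obtain ⟨U, e, hxU, he⟩ := hx
    exact ⟨U, e, hxU, he⟩
  by_contra hne
  have hne' : (((freeOpenRank r F : X.Opens) : Set X)ᶜ).Nonempty := Set.nonempty_iff_ne_empty.2 hne
  have hcl : IsClosed (f.base '' ((freeOpenRank r F : X.Opens) : Set X)ᶜ) :=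
    f.isClosedMap _ (freeOpenRank r F).2.isClosed_compl
  obtain ⟨𝔞, h𝔞⟩ := (PrimeSpectrum.isClosed_iff_zeroLocus_ideal _).1 hcl
  obtain ⟨z, hz⟩ := hne'
  have hfz : f.base z ∈ PrimeSpectrum.zeroLocus (𝔞 : Set A) := by
    rw [← h𝔞]; exact ⟨z, hz, rfl⟩
  have h𝔞ne : 𝔞 ≠ ⊤ := by
    rintro rfl
    have hfz' : ((⊤ : Ideal A) : Set A) ⊆ (f.base z).asIdeal := hfz
    exact (f.base z).isPrime.ne_top (top_le_iff.1 hfz')
  obtain ⟨𝔪, h𝔪, h𝔞𝔪⟩ := Ideal.exists_le_maximal 𝔞 h𝔞ne
  have hmem : (⟨𝔪, h𝔪.isPrime⟩ : PrimeSpectrum A) ∈ PrimeSpectrum.zeroLocus (𝔞 : Set A) :=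
    (PrimeSpectrum.mem_zeroLocus _ _).2 h𝔞𝔪
  rw [← h𝔞] at hmem
  obtain ⟨w, hw, hfw⟩ := hmem
  have hJ : J ≤ (f.base w).asIdeal := by
    rw [hfw]
    exact (IsAdicComplete.le_jacobson_bot J).trans (sInf_le ⟨bot_le, h𝔪⟩)
  exact hw (hsub w hJ)

end Groth.Agent.Lib.Helper1.AdicLocFree
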