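import Mathlib
import Groth.Prelude.Def_CohB1

/-!
# An affine scheme of finite type over `K` as a closed subscheme of the chart `D₊(X₀)` of `P^N_K`
(helper1)
-/

set_option autoImplicit false
universe u
open CategoryTheory AlgebraicGeometry

noncomputable section

namespace Groth.Agent.Lib.Helper1.AffChart

open HomogeneousLocalization

variable (K : Type u) [CommRing K]

theorem X0_mem (N : ℕ) :
    (MvPolynomial.X 0 : MvPolynomial (Fin (N + 1)) K) ∈ CohB1.polyGrading N K 1 :=
  MvPolynomial.isHomogeneous_X K 0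

section ring

variable {K} {B : Type u} [CommRing B] [Algebra K B] {n : ℕ}
  (φ : MvPolynomial (Fin n) K →ₐ[K] B)

/-- evaluation: `X₀ ↦ 1`, `X_{i+1} ↦ φ X_i` -/
def ev : MvPolynomial (Fin (n + 1)) K →ₐ[K] B :=
  MvPolynomial.aeval (Fin.cases 1 (fun i => φ (MvPolynomial.X i)))

theorem ev_X0 : ev φ (MvPolynomial.X 0) = 1 := by
  simp [ev]

theorem ev_Xsucc (i : Fin n) : ev φ (MvPolynomial.X i.succ) = φ (MvPolynomial.X i) := by
  simp [ev]

theorem ev_C (c : K) : ev φ (MvPolynomial.C c) = algebraMap K B c := by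
  simp [ev]

def evLoc : Localization.Away (MvPolynomial.X 0 : MvPolynomial (Fin (n + 1)) K) →+* B :=
  IsLocalization.Away.lift (MvPolynomial.X 0) (g := (ev φ).toRingHom)
    (by
      show IsUnit (ev φ (MvPolynomial.X 0))
      rw [ev_X0]; exact isUnit_one)

theorem evLoc_algebraMap (a : MvPolynomial (Fin (n + 1)) K) :
    evLoc φ (algebraMap _ _ a) = ev φ a :=
  IsLocalization.Away.lift_eq _ _ a

theorem evLoc_mk (a : MvPolynomial (Fin (n + 1)) K) (m : ℕ) :
    evLoc φ (Localization.mk a ⟨MvPolynomial.X 0 ^ m, ⟨m, rfl⟩⟩) = ev φ a := by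
  have h1 : Localization.mk a (⟨MvPolynomial.X 0 ^ m, ⟨m, rfl⟩⟩ :
      Submonoid.powers (MvPolynomial.X 0 : MvPolynomial (Fin (n + 1)) K)) *
      algebraMap _ _ (MvPolynomial.X 0 ^ m : MvPolynomial (Fin (n + 1)) K) =
      algebraMap _ _ a := by
    rw [Localization.mk_eq_mk']
    exact IsLocalization.mk'_spec _ a _
  have h2 := congrArg (evLoc φ) h1
  rw [map_mul, evLoc_algebraMap, evLoc_algebraMap, map_pow, ev_X0, one_pow, mul_one] at h2
  exact h2

/-- the induced ring map from the degree zero localization -/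
def psi : Away (CohB1.polyGrading n K) (MvPolynomial.X 0) →+* B :=
  (evLoc φ).comp (algebraMap (Away (CohB1.polyGrading n K) (MvPolynomial.X 0))
    (Localization.Away (MvPolynomial.X 0 : MvPolynomial (Fin (n + 1)) K)))

theorem psi_mk (m : ℕ) (a : MvPolynomial (Fin (n + 1)) K)
    (ha : a ∈ CohB1.polyGrading n K (m • 1)) :
    psi φ (Away.mk (CohB1.polyGrading n K) (X0_mem K n) m a ha) = ev φ a := by
  show evLoc φ ((Away.mk (CohB1.polyGrading n K) (X0_mem K n) m a ha).val) = _
  rw [Away.val_mk]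
  exact evLoc_mk φ a m

theorem psi_surjective (hφ : Function.Surjective φ) : Function.Surjective (psi φ) := by
  intro b
  obtain ⟨p, rfl⟩ := hφ b
  show φ p ∈ (psi φ).range
  induction p using MvPolynomial.induction_on with
  | C c =>
    refine ⟨Away.mk (CohB1.polyGrading n K) (X0_mem K n) 0 (MvPolynomial.C c) ?_, ?_⟩
    · rw [zero_smul]
      exact MvPolynomial.isHomogeneous_C _ c
    · rw [psi_mk, ev_C]
      exact (φ.commutes c).symm
  | add p q hp hq =>
    rw [map_add]
    exact Subring.add_mem _ hp hq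
  | mul_X p i hp =>
    rw [map_mul]
    refine Subring.mul_mem _ hp ⟨Away.mk (CohB1.polyGrading n K) (X0_mem K n) 1
      (MvPolynomial.X i.succ) ?_, ?_⟩
    · rw [one_smul]
      exact MvPolynomial.isHomogeneous_X K i.succ
    · rw [psi_mk, ev_Xsucc]

theorem psi_fromZero (c : K) :
    psi φ (fromZeroRingHom (CohB1.polyGrading n K) _
      (algebraMap K (CohB1.polyGrading n K 0) c)) = algebraMap K B c := by
  show evLoc φ ((fromZeroRingHom (CohB1.polyGrading n K) _
      (algebraMap K (CohB1.polyGrading n K 0) c)).val) = _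
  have h1 : (fromZeroRingHom (CohB1.polyGrading n K)
      (Submonoid.powers (MvPolynomial.X 0 : MvPolynomial (Fin (n + 1)) K))
      (algebraMap K (CohB1.polyGrading n K 0) c)).val =
      algebraMap _ _ (MvPolynomial.C c : MvPolynomial (Fin (n + 1)) K) := by
    simp only [fromZeroRingHom, RingHom.coe_mk, MonoidHom.coe_mk, OneHom.coe_mk, val_mk]
    rw [← Localization.mk_one_eq_algebraMap]
    rfl
  rw [h1, evLoc_algebraMap, ev_C]

end ring

theorem exists_closedImmersion_chart {V : Scheme.{u}} [IsAffine V]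
    (g : V ⟶ Spec (CommRingCat.of K)) [LocallyOfFiniteType g] :
    ∃ (N : ℕ) (c : V ⟶ Spec (CommRingCat.of
        (Away (CohB1.polyGrading N K) (MvPolynomial.X 0)))),
      IsClosedImmersion c ∧
      c ≫ Proj.awayι (CohB1.polyGrading N K) (MvPolynomial.X 0) (X0_mem K N) Nat.one_pos ≫
        CohB1.ProjSpace.toSpec N K = g := by
  let ρ : K →+* Γ(V, ⊤) := g.appTop.hom.comp (Scheme.ΓSpecIso (CommRingCat.of K)).inv.hom
  letI : Algebra K Γ(V, ⊤) := ρ.toAlgebra
  have hft : Algebra.FiniteType K Γ(V, ⊤) := by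
    have h1 : RingHom.FiniteType g.appTop.hom :=
      (HasRingHomProperty.iff_of_isAffine (P := @LocallyOfFiniteType)).mp inferInstance
    have h2 : RingHom.FiniteType ρ :=
      h1.comp (RingHom.FiniteType.of_surjective _
        (ConcreteCategory.bijective_of_isIso (Scheme.ΓSpecIso (CommRingCat.of K)).inv).2)
    exact h2
  obtain ⟨n, φ, hφ⟩ := Algebra.FiniteType.iff_quotient_mvPolynomial''.mp hft
  refine ⟨n, V.isoSpec.hom ≫ Spec.map (CommRingCat.ofHom (psi φ)), ?_, ?_⟩
  · haveI : IsClosedImmersion (Spec.map (CommRingCat.ofHom (psi φ))) :=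
      IsClosedImmersion.spec_of_surjective _ (psi_surjective φ hφ)
    infer_instance
  · have hcomp : CommRingCat.ofHom (algebraMap K (CohB1.polyGrading n K 0)) ≫
        CommRingCat.ofHom (fromZeroRingHom (CohB1.polyGrading n K)
          (Submonoid.powers (MvPolynomial.X 0 : MvPolynomial (Fin (n + 1)) K))) ≫
        CommRingCat.ofHom (psi φ) =
        (Scheme.ΓSpecIso (CommRingCat.of K)).inv ≫ g.appTop := by
      ext c
      exact psi_fromZero φ c
    have key : Proj.awayι (CohB1.polyGrading n K) (MvPolynomial.X 0) (X0_mem K n) Nat.one_pos ≫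
        CohB1.ProjSpace.toSpec n K =
        Spec.map (CommRingCat.ofHom (fromZeroRingHom (CohB1.polyGrading n K)
          (Submonoid.powers (MvPolynomial.X 0 : MvPolynomial (Fin (n + 1)) K)))) ≫
        Spec.map (CommRingCat.ofHom (algebraMap K (CohB1.polyGrading n K 0))) := by
      show Proj.awayι (CohB1.polyGrading n K) (MvPolynomial.X 0) (X0_mem K n) Nat.one_pos ≫
        (Proj.toSpecZero (CohB1.polyGrading n K) ≫
          Spec.map (CommRingCat.ofHom (algebraMap K (CohB1.polyGrading n K 0)))) = _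
      rw [← Category.assoc, Proj.awayι_toSpecZero]
    rw [Category.assoc, key, ← Spec.map_comp, ← Spec.map_comp, Category.assoc, hcomp,
      Spec.map_comp, Scheme.isoSpec_hom, ← Scheme.toSpecΓ_naturality_assoc]
    rw [toSpecΓ_SpecMap_ΓSpecIso_inv]
    exact Category.comp_id g

end Groth.Agent.Lib.Helper1.AffChart
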