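import Mathlib
import Groth.Prelude.Def_Formal
import Groth.Agent.Lib.Helper14.ProIsoAdic

/-!
# Recognising a system as the completion of a module; torsion coherent formal systems
-/

universe u

open CategoryTheory CategoryTheory.Limits AlgebraicGeometry Opposite

namespace Groth.Agent.Lib.Helper1.CohFormalTorsion

open Groth.Agent.Lib.Helper14.ProIsoAdic

variable {A : Type u} [CommRing A] {X : Scheme.{u}} [X.Over (Spec (CommRingCat.of A))]

/-- A system `F` receiving compatible maps `θ n : M ⟶ F_n`, each of which is the quotient of `M` by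
`I^(n+1)`, is isomorphic to the completion of `M`. -/
theorem completion_iso_of_quot (I : Ideal A) (M : X.Modules) (F : ℕᵒᵖ ⥤ X.Modules)
    (θ : ∀ n, M ⟶ F.obj (op n)) (hθepi : ∀ n, Epi (θ n))
    (hθfac : ∀ n (T : X.Modules) (φ : M ⟶ T), Kills (I ^ (n + 1)) φ → ∃ ψ, θ n ≫ ψ = φ)
    (hk : ∀ n, Formal.KilledBy (I ^ (n + 1)) (F.obj (op n)))
    (hcompat : ∀ n, θ (n + 1) ≫ F.map (homOfLE (n.le_add_right 1)).op = θ n) :
    Nonempty (Formal.completion I M ≅ F) := by
  have h0 : ∀ n, Formal.smulFamily (I ^ (n + 1)) M ≫ θ n = 0 := fun n =>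
    (smulFamily_comp_eq_zero_iff _ _).2 (kills_of_killedBy (hk n) _)
  let e : ∀ n, Formal.modPow I (n + 1) M ⟶ F.obj (op n) := fun n => cokernel.desc _ (θ n) (h0 n)
  have he : ∀ n, Formal.modPowπ I (n + 1) M ≫ e n = θ n := fun n => cokernel.π_desc _ _ _
  have hiso : ∀ n, IsIso (e n) := by
    intro n
    have hπk : Kills (I ^ (n + 1)) (Formal.modPowπ I (n + 1) M) :=
      (smulFamily_comp_eq_zero_iff _ _).1 (cokernel.condition _)
    obtain ⟨ψ, hψ⟩ := hθfac n _ (Formal.modPowπ I (n + 1) M) hπk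
    haveI : Epi (Formal.modPowπ I (n + 1) M) := coequalizer.π_epi
    have hsplit : e n ≫ ψ = 𝟙 _ := by
      rw [← cancel_epi (Formal.modPowπ I (n + 1) M), ← Category.assoc, he, Category.comp_id]
      exact hψ
    haveI : Mono (e n) := mono_of_mono_fac hsplit
    haveI : Epi (e n) := by
      haveI : Epi (Formal.modPowπ I (n + 1) M ≫ e n) := by rw [he]; exact hθepi n
      exact epi_of_epi (Formal.modPowπ I (n + 1) M) _
    exact isIso_of_mono_of_epi _
  let eT : Formal.completion I M ⟶ F := NatTrans.ofOpSequence (fun n => e n) (by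
    intro n
    haveI : Epi (Formal.modPowπ I (n + 1 + 1) M) := coequalizer.π_epi
    have hmap : (Formal.completion I M).map (homOfLE (n.le_add_right 1)).op =
        Formal.modPowTrans I (n + 1) M := Functor.ofOpSequence_map_homOfLE_succ _ n
    rw [hmap]
    change Formal.modPowTrans I (n + 1) M ≫ e n = e (n + 1) ≫ _
    rw [← cancel_epi (Formal.modPowπ I (n + 1 + 1) M), ← Category.assoc, Formal.modPowπ_trans, he,
      ← Category.assoc, he, hcompat])
  haveI : ∀ n : ℕᵒᵖ, IsIso (eT.app n) := fun n => hiso n.unop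
  haveI := NatIso.isIso_of_isIso_app eT
  exact ⟨asIso eT⟩


theorem kills_comp {J : Ideal A} {M N T : X.Modules} (e : M ⟶ N) {φ : N ⟶ T} (h : Kills J φ) :
    Kills J (e ≫ φ) := by
  intro a ha
  rw [← Category.assoc, smulMod_naturality, Category.assoc, h a ha, comp_zero]

/-- A coherent formal system all of whose terms are killed by `I^c` is the completion of `F_c`. -/
theorem completion_iso_of_killed (I : Ideal A) (F : ℕᵒᵖ ⥤ X.Modules) (hF : Formal.IsCohFormal I F)
    (c : ℕ) (hc : ∀ n : ℕ, Formal.KilledBy (I ^ c) (F.obj (op n))) :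
    Nonempty (Formal.completion I (F.obj (op c)) ≅ F) := by
  have hq := quotProp I F hF
  -- transition maps above level `c` are isomorphisms
  have hiso : ∀ (N : ℕ) (h : c ≤ N), IsIso (ARSys.tr F h) := by
    intro N h
    obtain ⟨hepi, hfac⟩ := hq c N h
    have hk : Kills (I ^ (c + 1)) (𝟙 (F.obj (op N))) :=
      (kills_of_killedBy (hc N) (𝟙 _)).mono (Ideal.pow_le_pow_right (Nat.le_succ c))
    obtain ⟨ψ, hψ⟩ := hfac _ (𝟙 _) hk
    haveI : Mono (ARSys.tr F h) := mono_of_mono_fac hψ
    exact isIso_of_mono_of_epi _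
  let θ : ∀ n, F.obj (op c) ⟶ F.obj (op n) := fun n =>
    haveI := hiso (max c n) (le_max_left c n)
    inv (ARSys.tr F (le_max_left c n)) ≫ ARSys.tr F (le_max_right c n)
  have hθ : ∀ n, ARSys.tr F (le_max_left c n) ≫ θ n = ARSys.tr F (le_max_right c n) := by
    intro n
    haveI := hiso (max c n) (le_max_left c n)
    change ARSys.tr F (le_max_left c n) ≫ inv (ARSys.tr F (le_max_left c n)) ≫ _ = _
    rw [IsIso.hom_inv_id_assoc]
  apply completion_iso_of_quot I (F.obj (op c)) F θ
  · intro n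
    haveI := hiso (max c n) (le_max_left c n)
    haveI : Epi (ARSys.tr F (le_max_right c n)) := (hq n _ _).1
    change Epi (inv (ARSys.tr F (le_max_left c n)) ≫ ARSys.tr F (le_max_right c n))
    exact epi_comp _ _
  · intro n T φ hφ
    obtain ⟨ψ, hψ⟩ := (hq n _ (le_max_right c n)).2 T (ARSys.tr F (le_max_left c n) ≫ φ)
      (kills_comp _ hφ)
    refine ⟨ψ, ?_⟩
    haveI := hiso (max c n) (le_max_left c n)
    rw [← cancel_epi (ARSys.tr F (le_max_left c n)), ← Category.assoc, hθ, hψ]
  · exact hF.2.1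
  · intro n
    haveI := hiso (max c (n + 1)) (le_max_left c (n + 1))
    have hle : max c n ≤ max c (n + 1) := max_le_max le_rfl (Nat.le_succ n)
    rw [← cancel_epi (ARSys.tr F (le_max_left c (n + 1))), ← Category.assoc, hθ]
    change ARSys.tr F _ ≫ ARSys.tr F (Nat.le_add_right n 1) = _
    rw [tr_comp, ← tr_comp F (le_max_left c n) hle, Category.assoc, hθ, tr_comp]

end Groth.Agent.Lib.Helper1.CohFormalTorsion
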