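import Mathlib
import Groth.Prelude.Def_Algz
import Groth.Prelude.Def_Formal
import Groth.Agent.Lib.Helper14.ProIsoAdic
import Groth.Agent.Lib.Helper3.QCPush

/-!
# Restriction of coherent formal systems to opens, canonical extension ⇒ extension
-/

universe u

open CategoryTheory CategoryTheory.Limits AlgebraicGeometry Opposite

namespace Groth.Agent.Lib.Helper1.AlgzExt

open Groth.Agent.Lib.Helper14.ProIsoAdic

variable {A : Type u} [CommRing A] {X U : Scheme.{u}} [X.Over (Spec (CommRingCat.of A))]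
  [U.Over (Spec (CommRingCat.of A))] (f : U ⟶ X) [IsOpenImmersion f]

/-- restriction along an open immersion over `Spec A` commutes with multiplication by `a : A`. -/
theorem restrict_smulMod (hf : (U ↘ Spec (CommRingCat.of A)) = f ≫ (X ↘ Spec (CommRingCat.of A)))
    (M : X.Modules) (a : A) :
    (Scheme.Modules.restrictFunctor f).map (Formal.smulMod A M a) =
      Formal.smulMod A ((Scheme.Modules.restrictFunctor f).obj M) a := by
  ext V x
  have key : (f.appIso V).inv.hom (Coh.resTop U (op V)
      (Coh.toGlobal (U ↘ Spec (CommRingCat.of A)) a)) =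
      Coh.resTop X (op (f ''ᵁ V)) (Coh.toGlobal (X ↘ Spec (CommRingCat.of A)) a) := by
    have h2 : (f.appIso V).hom.hom (Coh.resTop X (op (f ''ᵁ V))
        (Coh.toGlobal (X ↘ Spec (CommRingCat.of A)) a)) =
        Coh.resTop U (op V) (Coh.toGlobal (U ↘ Spec (CommRingCat.of A)) a) := by
      rw [hf]
      simp only [Coh.resTop, Coh.toGlobal, Scheme.Hom.appIso_hom']
      have hmor : (X ↘ Spec (CommRingCat.of A)).appTop ≫ X.presheaf.map (homOfLE le_top).op ≫
          f.appLE (f ''ᵁ V) V (f.preimage_image_eq V).ge =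
          (f ≫ X ↘ Spec (CommRingCat.of A)).appTop ≫ U.presheaf.map (homOfLE le_top).op := by
        rw [Scheme.Hom.map_appLE, Scheme.Hom.comp_appTop, Category.assoc]
        congr 1
      exact congr($hmor ((Scheme.ΓSpecIso (CommRingCat.of A)).inv.hom a))
    rw [← h2]
    exact congr($((f.appIso V).hom_inv_id) _)
  change (Coh.resTop X (op (f ''ᵁ V)) (Coh.toGlobal (X ↘ Spec (CommRingCat.of A)) a)) •
      (show M.val.obj (op (f ''ᵁ V)) from x) =
    ((f.appIso V).inv.hom (Coh.resTop U (op V)
      (Coh.toGlobal (U ↘ Spec (CommRingCat.of A)) a))) • (show M.val.obj (op (f ''ᵁ V)) from x)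
  rw [key]
  rfl


theorem killedBy_restrict (hf : (U ↘ Spec (CommRingCat.of A)) = f ≫ (X ↘ Spec (CommRingCat.of A)))
    {J : Ideal A} {M : X.Modules} (h : Formal.KilledBy J M) :
    Formal.KilledBy J ((Scheme.Modules.restrictFunctor f).obj M) := by
  intro a ha
  rw [← restrict_smulMod f hf, h a ha, Functor.map_zero]

theorem quotProp_restrict (hf : (U ↘ Spec (CommRingCat.of A)) = f ≫ (X ↘ Spec (CommRingCat.of A)))
    (I : Ideal A) (F : ℕᵒᵖ ⥤ X.Modules) (n k : ℕ) (h : n ≤ k) (hq : QuotProp I F n k h) :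
    QuotProp I (F ⋙ Scheme.Modules.restrictFunctor f) n k h := by
  obtain ⟨hepi, hfac⟩ := hq
  refine ⟨?_, fun T φ hφ => ?_⟩
  · change Epi ((Scheme.Modules.restrictFunctor f).map (ARSys.tr F h))
    infer_instance
  · let adj := Scheme.Modules.restrictAdjunction f
    -- transpose φ
    let φ' : F.obj (op k) ⟶ (Scheme.Modules.pushforward f).obj T := adj.homEquiv _ _ φ
    have hk : Kills (I ^ (n + 1)) φ' := by
      intro a ha
      have h1 : Formal.smulMod A (F.obj (op k)) a ≫ φ' =
          adj.homEquiv _ _ ((Scheme.Modules.restrictFunctor f).map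
            (Formal.smulMod A (F.obj (op k)) a) ≫ φ) := by
        rw [Adjunction.homEquiv_naturality_left]
      rw [h1, restrict_smulMod f hf]
      have h2 := hφ a ha
      change Formal.smulMod A ((Scheme.Modules.restrictFunctor f).obj (F.obj (op k))) a ≫ φ = 0 at h2
      rw [h2, Adjunction.homEquiv_unit, Functor.map_zero, comp_zero]
    obtain ⟨ψ, hψ⟩ := hfac _ φ' hk
    refine ⟨(adj.homEquiv _ _).symm ψ, ?_⟩
    change (Scheme.Modules.restrictFunctor f).map (ARSys.tr F h) ≫ _ = φ
    rw [← Adjunction.homEquiv_naturality_left_symm, hψ]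
    exact (adj.homEquiv _ _).symm_apply_apply φ


section Iso

variable {Y : Scheme.{u}} [Y.Over (Spec (CommRingCat.of A))]

/-- Generalisation of `Helper14.ProIsoAdic.nonempty_iso` (same proof): two pro-isomorphic systems whose
transition maps are the quotients by `I^(n+1)` and whose terms are killed by `I^(n+1)` are isomorphic. -/
theorem nonempty_iso_of_quotProp (I : Ideal A) (F G : ℕᵒᵖ ⥤ Y.Modules)
    (hKF : ∀ n k (h : n ≤ k), QuotProp I F n k h) (hKG : ∀ n k (h : n ≤ k), QuotProp I G n k h)
    (kF : ∀ n, Formal.KilledBy (I ^ (n + 1)) (F.obj (op n)))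
    (kG : ∀ n, Formal.KilledBy (I ^ (n + 1)) (G.obj (op n)))
    (h : Algz.IsProIsomorphic F G) : Nonempty (F ≅ G) := by
  obtain ⟨m, hm, hle, a, ha⟩ := h
  obtain ⟨a', ha'nat, ha'⟩ : ∃ a' : ∀ n, F.obj (op (m n)) ⟶ G.obj (op n),
      (∀ n k (h : n ≤ k), ARSys.tr F (hm h) ≫ a' n = a' k ≫ ARSys.tr G h) ∧
      (∀ n, ∃ (k : ℕ) (hk : n ≤ k) (b : G.obj (op k) ⟶ F.obj (op (m n))),
        a' k ≫ b = ARSys.tr F (hm hk) ∧ b ≫ a' n = ARSys.tr G hk) :=
    ⟨fun n => a.app (op n), fun n k h => a.naturality (homOfLE h).op, ha⟩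
  have hex : ∀ n, ∃ α : F.obj (op n) ⟶ G.obj (op n),
      ARSys.tr F (hle n) ≫ α = a' n := fun n =>
    (hKF n (m n) (hle n)).2 _ (a' n) (kills_of_killedBy (kG n) _)
  choose α hα using hex
  have hepiF : ∀ n k (h : n ≤ k), Epi (ARSys.tr F h) := fun n k h => (hKF n k h).1
  have hepiG : ∀ n k (h : n ≤ k), Epi (ARSys.tr G h) := fun n k h => (hKG n k h).1
  have hnat : ∀ n k (h : n ≤ k), ARSys.tr F h ≫ α n = α k ≫ ARSys.tr G h := by
    intro n k h
    haveI := hepiF k (m k) (hle k)
    rw [← cancel_epi (ARSys.tr F (hle k)), ← Category.assoc, tr_comp, ← Category.assoc, hα k,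
      ← ha'nat n k h, ← hα n, ← Category.assoc, tr_comp]
  let αT : F ⟶ G :=
    { app := fun n => α n.unop
      naturality := by
        intro n k f
        have hf : f = (homOfLE (leOfHom f.unop)).op := Subsingleton.elim _ _
        rw [hf]
        exact hnat k.unop n.unop (leOfHom f.unop) }
  have hiso : ∀ n : ℕᵒᵖ, IsIso (αT.app n) := by
    intro n
    obtain ⟨n⟩ := n
    change IsIso (α n)
    obtain ⟨k, hk, b, hb1, hb2⟩ := ha' n
    obtain ⟨β, hβ⟩ := (hKG n k hk).2 (F.obj (op n)) (b ≫ ARSys.tr F (hle n))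
      (kills_of_killedBy (kF n) _)
    refine ⟨β, ?_, ?_⟩
    · haveI := hepiF n (m k) (hk.trans (hle k))
      rw [← cancel_epi (ARSys.tr F (hk.trans (hle k))), Category.comp_id]
      rw [← tr_comp F hk (hle k), Category.assoc, ← Category.assoc (ARSys.tr F hk),
        hnat n k hk, Category.assoc, hβ, ← Category.assoc, ← Category.assoc, hα k, hb1, tr_comp,
        tr_comp]
    · haveI := hepiG n k hk
      rw [← cancel_epi (ARSys.tr G hk), Category.comp_id, ← Category.assoc, hβ, Category.assoc,
        hα n, hb2]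
  haveI := NatIso.isIso_of_isIso_app αT
  exact ⟨asIso αT⟩

end Iso

section ProIso

variable {C : Type*} [Category C] {D : Type*} [Category D]

theorem isProIso_aux (R : C ⥤ D) (S' G' : ARSys.PS C) (Gr : ARSys.PS D)
    (η' : S' ⋙ R ≅ Gr) (a : S' ⟶ G') (ha : DerCA.IsProIso a) :
    DerCA.IsProIso (η'.inv ≫ Functor.whiskerRight a R) := by
  intro n
  obtain ⟨k, hk, b, hb1, hb2⟩ := ha n
  refine ⟨k, hk, R.map b ≫ η'.hom.app (op n), ?_, ?_⟩
  · have h1 : R.map (ARSys.tr S' hk) ≫ η'.hom.app (op n) =
        η'.hom.app (op k) ≫ ARSys.tr Gr hk := η'.hom.naturality (homOfLE hk).op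
    calc (η'.inv ≫ Functor.whiskerRight a R).app (op k) ≫ R.map b ≫ η'.hom.app (op n)
        = η'.inv.app (op k) ≫ (R.map (a.app (op k)) ≫ R.map b) ≫ η'.hom.app (op n) := by
          simp only [NatTrans.comp_app, Functor.whiskerRight_app, Category.assoc]
      _ = η'.inv.app (op k) ≫ R.map (ARSys.tr S' hk) ≫ η'.hom.app (op n) := by
          rw [← R.map_comp, hb1]
      _ = ARSys.tr Gr hk := by
          rw [h1, ← Category.assoc, Iso.inv_hom_id_app, Category.id_comp]
  · calc (R.map b ≫ η'.hom.app (op n)) ≫ (η'.inv ≫ Functor.whiskerRight a R).app (op n)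
        = R.map b ≫ (η'.hom.app (op n) ≫ η'.inv.app (op n)) ≫ R.map (a.app (op n)) := by
          simp only [NatTrans.comp_app, Functor.whiskerRight_app, Category.assoc]
      _ = R.map (b ≫ a.app (op n)) := by
          rw [Iso.hom_inv_id_app, R.map_comp]
          erw [Category.id_comp]
      _ = ARSys.tr (G' ⋙ R) hk := by rw [hb2]; rfl

/-- Transport a pro-isomorphism along a functor and an isomorphism of the source system. -/
theorem isProIsomorphic_of_iso_of_functor (R : C ⥤ D) (S G' : ARSys.PS C) (G : ARSys.PS D)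
    (η : S ⋙ R ≅ G) (h : Algz.IsProIsomorphic S G') : Algz.IsProIsomorphic G (G' ⋙ R) := by
  obtain ⟨m, hm, hle, a, ha⟩ := h
  let η' : DerCA.reindex S hm ⋙ R ≅ DerCA.reindex G hm :=
    Functor.isoWhiskerLeft (Monotone.functor hm).op η
  exact ⟨m, hm, hle, η'.inv ≫ Functor.whiskerRight a R,
    isProIso_aux R (DerCA.reindex S hm) G' (DerCA.reindex G hm) η' a ha⟩

end ProIso


section Eta

variable (B : Type u) [CommRing B] (W : (Spec (CommRingCat.of B)).Opens)
  [QuasiCompact W.ι] (G : ℕᵒᵖ ⥤ (W : Scheme.{u}).Modules)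

/-- The tilde of the sections of a quasi-coherent module on a (quasi-compact) open of `Spec B`
restricts back to the module; naturally in the term of a system. -/
noncomputable def etaIso (hq : ∀ n, (G.obj n).IsQuasicoherent) :
    Algz.restrictSys W (Algz.sectSys B W G) ≅ G := by
  haveI : ∀ n, ((Scheme.Modules.pushforward W.ι).obj (G.obj n)).IsQuasicoherent := fun n => by
    haveI := hq n
    exact Groth.Agent.Lib.Helper3.QCSec.isQuasicoherent_pushforward W.ι (G.obj n)
  have hI : ∀ n, IsIso ((Scheme.Modules.fromTildeΓNatTrans (R := CommRingCat.of B)).app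
      ((Scheme.Modules.pushforward W.ι).obj (G.obj n))) := fun n =>
    @Scheme.Modules.isIso_fromTildeΓ_of_isQuasicoherent (CommRingCat.of B)
      ((Scheme.Modules.pushforward W.ι).obj (G.obj n)) (this n)
  refine NatIso.ofComponents (fun n =>
    (Scheme.Modules.restrictFunctor W.ι).mapIso
      (@asIso _ _ _ _ ((Scheme.Modules.fromTildeΓNatTrans (R := CommRingCat.of B)).app
        ((Scheme.Modules.pushforward W.ι).obj (G.obj n))) (hI n)) ≪≫
      asIso ((Scheme.Modules.restrictAdjunction W.ι).counit.app (G.obj n))) ?_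
  intro x y g
  have h1 : (moduleSpecΓFunctor ⋙ tilde.functor (CommRingCat.of B)).map
        ((Scheme.Modules.pushforward W.ι).map (G.map g)) ≫
      (Scheme.Modules.fromTildeΓNatTrans (R := CommRingCat.of B)).app
        ((Scheme.Modules.pushforward W.ι).obj (G.obj y)) =
      (Scheme.Modules.fromTildeΓNatTrans (R := CommRingCat.of B)).app
        ((Scheme.Modules.pushforward W.ι).obj (G.obj x)) ≫
      (Scheme.Modules.pushforward W.ι).map (G.map g) :=
    (Scheme.Modules.fromTildeΓNatTrans (R := CommRingCat.of B)).naturality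
      ((Scheme.Modules.pushforward W.ι).map (G.map g))
  have h2 : (Scheme.Modules.restrictFunctor W.ι).map
        ((Scheme.Modules.pushforward W.ι).map (G.map g)) ≫
      (Scheme.Modules.restrictAdjunction W.ι).counit.app (G.obj y) =
      (Scheme.Modules.restrictAdjunction W.ι).counit.app (G.obj x) ≫ G.map g :=
    (Scheme.Modules.restrictAdjunction W.ι).counit.naturality (G.map g)
  have e1 := congrArg (fun t => (Scheme.Modules.restrictFunctor W.ι).map t) h1
  simp only [Functor.map_comp] at e1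
  simp only [Iso.trans_hom, Functor.mapIso_hom, asIso_hom]
  exact ((Category.assoc _ _ _).symm.trans (congrArg (· ≫ (Scheme.Modules.restrictAdjunction W.ι).counit.app
    (G.obj y)) e1)).trans ((Category.assoc _ _ _).trans ((congrArg ((Scheme.Modules.restrictFunctor W.ι).map
      ((Scheme.Modules.fromTildeΓNatTrans (R := CommRingCat.of B)).app
        ((Scheme.Modules.pushforward W.ι).obj (G.obj x))) ≫ ·) h2).trans (Category.assoc _ _ _).symm))

end Eta

end Groth.Agent.Lib.Helper1.AlgzExt
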