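import Mathlib
import Groth.Prelude.Def_EGA4Misc
import Groth.Agent.Lib.Helper12.ConsPropGen
import Groth.Agent.Lib.Helper12.ConsPropNoeth
import Groth.Agent.Lib.Helper12.FpDesc
import Groth.Agent.Lib.Helper1.ModDescNoeth

/-!
# Loci of (ind-)constructible properties of algebraic schemes with a coherent module
(EGA IV 9.3.3, module form)
-/

set_option autoImplicit false
universe u
open CategoryTheory CategoryTheory.Limits AlgebraicGeometry Topology TopologicalSpace

namespace Groth.Agent.Lib.Helper1.ConsModLocus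

open Groth.Agent.Lib.Helper12.ClosedSub Groth.Agent.Lib.Helper12.ConsPropNoeth
  Groth.Agent.Lib.Helper12.ConsPropGen Groth.Agent.Lib.Helper12.FpDesc
  Groth.Agent.Lib.Helper12.PbDiag ConsProp Groth.Agent.Lib.Helper17

set_option backward.isDefEq.respectTransparency false
set_option linter.style.haveILetI false

variable {P : ∀ ⦃Y T : Scheme.{u}⦄, (Y ⟶ T) → Y.Modules → Prop}

theorem isCoh_pullback {X Y : Scheme.{u}} (f : Y ⟶ X) (F : X.Modules) (hF : Coh.IsCoh F) :
    Coh.IsCoh ((Scheme.Modules.pullback f).obj F) := by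
  haveI : F.IsQuasicoherent := hF.1
  haveI : F.IsFiniteType := hF.2
  exact ⟨PbStalk.isQuasicoherent_pullback f F, PbFinite.isFiniteType_pullback f F⟩

/-- (M1) compatibility of the locus with base change. -/
theorem locusMod_preimage (hP : IsFieldStableMod P) {X X' S S' : Scheme.{u}}
    {u : X ⟶ S} {u' : X' ⟶ S'} {eX : X' ⟶ X} {h : S' ⟶ S}
    [LocallyOfFiniteType u] [QuasiCompact u] (hX : IsPullback eX u' u h)
    (F : X.Modules) (hF : Coh.IsCoh F) (F' : X'.Modules)
    (e : F' ≅ (Scheme.Modules.pullback eX).obj F) :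
    locusMod P u' F' = h ⁻¹' locusMod P u F := by
  ext s'
  obtain ⟨e₀, he, hcomp⟩ := exists_fibre_isPullback hX s'
  let i₁ : (Scheme.Modules.pullback (u'.fiberι s')).obj F' ≅
      (Scheme.Modules.pullback (u'.fiberι s')).obj ((Scheme.Modules.pullback eX).obj F) :=
    (Scheme.Modules.pullback (u'.fiberι s')).mapIso e
  let i₂ : (Scheme.Modules.pullback (u'.fiberι s')).obj ((Scheme.Modules.pullback eX).obj F) ≅
      (Scheme.Modules.pullback (u'.fiberι s' ≫ eX)).obj F :=
    (SepFG.compIso (u'.fiberι s') eX (u'.fiberι s' ≫ eX) rfl).app F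
  let i₃ : (Scheme.Modules.pullback e₀).obj
      ((Scheme.Modules.pullback (u.fiberι (h s'))).obj F) ≅
      (Scheme.Modules.pullback (u'.fiberι s' ≫ eX)).obj F :=
    (SepFG.compIso e₀ (u.fiberι (h s')) (u'.fiberι s' ≫ eX) hcomp).app F
  exact (hP (u.fiberToSpecResidueField (h s')) (u'.fiberToSpecResidueField s') e₀
    (Spec.map (h.residueFieldMap s')) he _ _ (isCoh_pullback _ F hF)
    (i₁ ≪≫ i₂ ≪≫ i₃.symm)).symm

/-- (M2) Noetherian case, constructible. -/
theorem isConstructible_locusMod (hP : IsConsMod P) {X S : Scheme.{u}} [IsNoetherian S]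
    (u : X ⟶ S) [LocallyOfFiniteType u] [QuasiCompact u] (F : X.Modules) (hF : Coh.IsCoh F) :
    IsConstructible (locusMod P u F) := by
  refine isConstructible_of_forall_clSub _ fun ξ => ?_
  rw [← locusMod_preimage hP.1 (IsPullback.of_hasPullback u (clSubι S ξ)) F hF _ (Iso.refl _)]
  exact hP.2 _ _ (isCoh_pullback _ F hF)

/-- (M2') Noetherian case, ind-constructible. -/
theorem exists_sUnion_locusMod (hP : IsIndConsMod P) {X S : Scheme.{u}} [IsNoetherian S]
    (u : X ⟶ S) [LocallyOfFiniteType u] [QuasiCompact u] (F : X.Modules) (hF : Coh.IsCoh F) :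
    ∃ 𝒞 : Set (Set S), (∀ C ∈ 𝒞, IsConstructible C) ∧ locusMod P u F = ⋃₀ 𝒞 := by
  refine exists_sUnion_constructible _ fun s hs => ?_
  refine exists_open_inter_closure_subset _ s ?_
  have hloc := locusMod_preimage hP.1 (IsPullback.of_hasPullback u (clSubι S s)) F hF _
    (Iso.refl _)
  rw [← hloc]
  refine hP.2 _ _ (isCoh_pullback _ F hF) ?_
  rw [hloc]
  show clSubι S s (genericPoint (clSub S s)) ∈ locusMod P u F
  rw [clSubι_genericPoint]
  exact hs

/-- (M3) Over an affine open of the base, the family with its module comes from a family with a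
coherent module over a Noetherian scheme. -/
theorem exists_chart_locusMod {X S : Scheme.{u}} (u : X ⟶ S)
    [LocallyOfFinitePresentation u] [QuasiCompact u] [QuasiSeparated u]
    (F : X.Modules) [F.IsQuasicoherent] (hF : CohB1.IsFP F)
    (V : S.Opens) (hV : IsAffineOpen V) :
    ∃ (N : Scheme.{u}) (_ : IsNoetherian N) (p : (V : Scheme.{u}) ⟶ N) (X' : Scheme.{u})
      (u' : X' ⟶ N) (F' : X'.Modules), LocallyOfFiniteType u' ∧ QuasiCompact u' ∧
        Coh.IsCoh F' ∧
        ∀ {P : ∀ ⦃Y T : Scheme.{u}⦄, (Y ⟶ T) → Y.Modules → Prop}, IsFieldStableMod P →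
          V.ι ⁻¹' locusMod P u F = p ⁻¹' locusMod P u' F' := by
  obtain ⟨J, _, _, 𝔇, π, hπ, haff, hnoeth⟩ := exists_noetherian_limit V hV
  haveI : ∀ {i j : J} (a : i ⟶ j), IsAffineHom (𝔇.map a) := fun a => inferInstance
  haveI : SheafOfModules.IsFinitePresentation (R := X.ringCatSheaf) F := hF
  have hFcoh : Coh.IsCoh F := ⟨inferInstance, inferInstance⟩
  -- restriction over `V`
  have hsqV := IsPullback.of_hasPullback u V.ι
  let FV : (pullback u V.ι).Modules := (Scheme.Modules.pullback (pullback.fst u V.ι)).obj F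
  haveI : SheafOfModules.IsFinitePresentation (R := (pullback u V.ι).ringCatSheaf) FV :=
    PbFinite.isFinitePresentation_pullback _ F
  obtain ⟨i₁, X₁, x₁, qX₁, _, _, _, sq₁⟩ := descends_of_fp (D := 𝔇) (c := Cone.mk _ π) hπ
    (pullback.snd u V.ι)
  -- the base-changed diagram
  haveI := haff i₁
  haveI := hnoeth i₁
  let i₀' : Over i₁ := Over.mk (𝟙 i₁)
  haveI : CompactSpace ((pbDiagram 𝔇 i₁ x₁).obj i₀') := compactSpace_pbDiagram_obj 𝔇 i₁ x₁ i₀'
  haveI : QuasiSeparatedSpace ((pbDiagram 𝔇 i₁ x₁).obj i₀') :=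
    quasiSeparatedSpace_pbDiagram_obj 𝔇 i₁ x₁ i₀'
  haveI : IsLocallyNoetherian ((pbDiagram 𝔇 i₁ x₁).obj i₀') :=
    LocallyOfFiniteType.isLocallyNoetherian (pullback.snd x₁ (𝔇.map i₀'.hom))
  haveI : ∀ (j k : Over i₁) (a : j ⟶ k), IsAffineHom ((pbDiagram 𝔇 i₁ x₁).map a) :=
    fun _ _ a => inferInstance
  obtain ⟨j, φ, Fj, hFjq, hFjfp, ⟨e⟩⟩ := ModDescNoeth.exists_descent (pbDiagram 𝔇 i₁ x₁)
    (pbCone (Cone.mk _ π) qX₁ (pullback.snd u V.ι) sq₁)
    (isLimitPbCone (Cone.mk _ π) hπ qX₁ (pullback.snd u V.ι) sq₁) i₀' FV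
  haveI := hFjq
  haveI := hFjfp
  have hFjcoh : Coh.IsCoh Fj := ⟨inferInstance, inferInstance⟩
  have hsqj := isPullback_pbCone_π (Cone.mk _ π) qX₁ (pullback.snd u V.ι) sq₁ j
  refine ⟨𝔇.obj j.left, hnoeth j.left, π.app j.left, _, pullback.snd x₁ (𝔇.map j.hom), Fj,
    inferInstance, inferInstance, hFjcoh, ?_⟩
  intro P hP
  rw [← locusMod_preimage hP hsqV F hFcoh FV (Iso.refl _)]
  exact locusMod_preimage hP hsqj Fj hFjcoh FV e.symm

end Groth.Agent.Lib.Helper1.ConsModLocus
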