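import Mathlib
import Groth.Prelude.Def_Formal
import Groth.Prelude.Def_KLin
import Groth.Agent.Lib.Helper14.ProIsoAdic
import Groth.Agent.Lib.Helper1.ConsModLocus

/-!
# Pullback of coherent formal modules
-/

universe u

open CategoryTheory CategoryTheory.Limits AlgebraicGeometry Opposite

namespace Groth.Agent.Lib.Helper1.CohFormalPull

open Groth.Agent.Lib.Helper14.ProIsoAdic

variable {A : Type u} [CommRing A] {X Y : Scheme.{u}} [X.Over (Spec (CommRingCat.of A))]
  [Y.Over (Spec (CommRingCat.of A))]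

/-- direct image along a morphism over `Spec A` commutes with multiplication by `a : A`. -/
theorem pushforward_smulMod (f : X ⟶ Y)
    (hf : f ≫ (Y ↘ Spec (CommRingCat.of A)) = X ↘ Spec (CommRingCat.of A)) (N : X.Modules) (a : A) :
    (Scheme.Modules.pushforward f).map (Formal.smulMod A N a) =
      Formal.smulMod A ((Scheme.Modules.pushforward f).obj N) a := by
  haveI : f.IsOver (Spec (CommRingCat.of A)) := ⟨hf⟩
  rw [← KLin.smul_id, ← KLin.smul_id, Functor.map_smul, CategoryTheory.Functor.map_id]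

/-- If a right adjoint commutes with multiplication by `a : A`, so does its left adjoint. -/
theorem left_smulMod {L : Y.Modules ⥤ X.Modules} {R : X.Modules ⥤ Y.Modules} (adj : L ⊣ R)
    (hR : ∀ (N : X.Modules) (a : A), R.map (Formal.smulMod A N a) = Formal.smulMod A (R.obj N) a)
    (M : Y.Modules) (a : A) :
    L.map (Formal.smulMod A M a) = Formal.smulMod A (L.obj M) a := by
  apply (adj.homEquiv _ _).injective
  rw [Adjunction.homEquiv_unit, Adjunction.homEquiv_unit, hR]
  have h1 : Formal.smulMod A M a ≫ adj.unit.app M =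
      adj.unit.app M ≫ R.map (L.map (Formal.smulMod A M a)) :=
    adj.unit.naturality (Formal.smulMod A M a)
  rw [← h1, smulMod_naturality]
  rfl

/-- the quotient property is preserved by a left adjoint commuting with the `A`-action. -/
theorem quotProp_left {L : Y.Modules ⥤ X.Modules} {R : X.Modules ⥤ Y.Modules} (adj : L ⊣ R)
    (hL : ∀ (M : Y.Modules) (a : A), L.map (Formal.smulMod A M a) = Formal.smulMod A (L.obj M) a)
    (I : Ideal A) (F : ℕᵒᵖ ⥤ Y.Modules) (n k : ℕ) (h : n ≤ k) (hq : QuotProp I F n k h) :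
    QuotProp I (F ⋙ L) n k h := by
  obtain ⟨hepi, hfac⟩ := hq
  haveI := adj.isLeftAdjoint
  haveI : L.PreservesEpimorphisms := inferInstance
  refine ⟨?_, fun T φ hφ => ?_⟩
  · change Epi (L.map (ARSys.tr F h))
    infer_instance
  · let φ' : F.obj (op k) ⟶ R.obj T := adj.homEquiv _ _ φ
    have hk : Kills (I ^ (n + 1)) φ' := by
      intro a ha
      have h1 : Formal.smulMod A (F.obj (op k)) a ≫ φ' =
          adj.homEquiv _ _ (L.map (Formal.smulMod A (F.obj (op k)) a) ≫ φ) := by
        rw [Adjunction.homEquiv_naturality_left]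
      rw [h1, hL]
      have h2 := hφ a ha
      change Formal.smulMod A (L.obj (F.obj (op k))) a ≫ φ = 0 at h2
      rw [h2, Adjunction.homEquiv_unit]
      haveI := adj.isRightAdjoint
      haveI : R.PreservesZeroMorphisms := inferInstance
      rw [Functor.map_zero, comp_zero]
    obtain ⟨ψ, hψ⟩ := hfac _ φ' hk
    refine ⟨(adj.homEquiv _ _).symm ψ, ?_⟩
    change L.map (ARSys.tr F h) ≫ _ = φ
    rw [← Adjunction.homEquiv_naturality_left_symm, hψ]
    exact (adj.homEquiv _ _).symm_apply_apply φ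

/-- From the quotient property (epi + factorisation) back to the cokernel form of `IsCohFormal`. -/
theorem isCohFormal_of_quotProp (I : Ideal A) (F : ℕᵒᵖ ⥤ X.Modules)
    (hcoh : ∀ n, Coh.IsCoh (F.obj (op n)))
    (hk : ∀ n, Formal.KilledBy (I ^ (n + 1)) (F.obj (op n)))
    (hq : ∀ n, QuotProp I F n (n + 1) (Nat.le_succ n)) : Formal.IsCohFormal I F := by
  refine ⟨hcoh, hk, fun n => ?_⟩
  obtain ⟨hepi, hfac⟩ := hq n
  have h0 : Formal.smulFamily (I ^ (n + 1)) (F.obj (op (n + 1))) ≫
      F.map (homOfLE (Nat.le_succ n)).op = 0 :=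
    (smulFamily_comp_eq_zero_iff _ _).2 (kills_of_killedBy (hk n) _)
  refine ⟨h0, ?_⟩
  set π := cokernel.π (Formal.smulFamily (I ^ (n + 1)) (F.obj (op (n + 1)))) with hπ
  have hπk : Kills (I ^ (n + 1)) π :=
    (smulFamily_comp_eq_zero_iff _ _).1 (cokernel.condition _)
  obtain ⟨ψ, hψ⟩ := hfac _ π hπk
  have hdesc : π ≫ cokernel.desc _ _ h0 = F.map (homOfLE (Nat.le_succ n)).op :=
    cokernel.π_desc _ _ _
  have hsplit : cokernel.desc _ _ h0 ≫ ψ = 𝟙 _ := by
    rw [← cancel_epi π, ← Category.assoc, hdesc, Category.comp_id]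
    exact hψ
  haveI : Mono (cokernel.desc _ _ h0) := mono_of_mono_fac hsplit
  haveI : Epi (cokernel.desc _ _ h0) := by
    haveI : Epi (π ≫ cokernel.desc _ _ h0) := by rw [hdesc]; exact hepi
    exact epi_of_epi π _
  exact isIso_of_mono_of_epi _

end Groth.Agent.Lib.Helper1.CohFormalPull
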