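import Groth.Agent.Lib.Helper1.FFClaim

/-!
# The graded family `(I^n M)_n` of a module over a scheme over `Spec A`
-/
set_option autoImplicit false
universe u
open CategoryTheory CategoryTheory.Limits AlgebraicGeometry Opposite
open Groth.Agent.Lib.Helper23.T2 Groth.Agent.Lib.Helper13.SerreCrit1 Groth.Agent.Lib.Helper3
open Formal

noncomputable section

namespace Groth.Agent.Lib.Helper1.FFIM

open FFFam FFCoh FFClaim

variable {A : Type u} [CommRing A] {X : Scheme.{u}} [X.Over (Spec (CommRingCat.of A))]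

/-- the structure map to sections over `U`. -/
def resA (U : X.Opens) : A →+* Γ(X, U) :=
  (Coh.resTop X (op U)).comp (Coh.toGlobal (X ↘ Spec (CommRingCat.of A)))

lemma smulMod_app (M : X.Modules) (a : A) (U : X.Opens) (m : Γ(M, U)) :
    (smulMod A M a).app U m = (resA U a : Γ(X, U)) • m := rfl

lemma smulMod_add (M : X.Modules) (a b : A) :
    smulMod A M (a + b) = smulMod A M a + smulMod A M b := by
  apply Scheme.Modules.hom_ext
  intro U
  ext m
  rw [Scheme.Modules.Hom.add_app]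
  change (smulMod A M (a + b)).app U m = (smulMod A M a).app U m + (smulMod A M b).app U m
  rw [smulMod_app, smulMod_app, smulMod_app, map_add, add_smul]

lemma smulMod_zero (M : X.Modules) : smulMod A M (0 : A) = 0 := by
  apply Scheme.Modules.hom_ext
  intro U
  ext m
  change (smulMod A M (0 : A)).app U m = 0
  rw [smulMod_app, map_zero, zero_smul]

lemma smulMod_mul (M : X.Modules) (a b : A) :
    smulMod A M (a * b) = smulMod A M b ≫ smulMod A M a := by
  apply Scheme.Modules.hom_ext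
  intro U
  ext m
  change (smulMod A M (a * b)).app U m = (smulMod A M a).app U ((smulMod A M b).app U m)
  rw [smulMod_app, smulMod_app, smulMod_app, map_mul, mul_smul]

lemma smulMod_comm (M : X.Modules) (a b : A) :
    smulMod A M a ≫ smulMod A M b = smulMod A M b ≫ smulMod A M a := by
  rw [← smulMod_mul, ← smulMod_mul, mul_comm]

@[reassoc]
lemma smulMod_naturality {M N : X.Modules} (φ : M ⟶ N) (a : A) :
    φ ≫ smulMod A N a = smulMod A M a ≫ φ := by
  apply Scheme.Modules.hom_ext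
  intro U
  ext m
  change (smulMod A N a).app U (φ.app U m) = φ.app U ((smulMod A M a).app U m)
  rw [smulMod_app, smulMod_app, Scheme.Modules.Hom.app_smul]

/-- `smulMod` as an additive map. -/
def smulModHom (M : X.Modules) : A →+ (M ⟶ M) where
  toFun a := smulMod A M a
  map_zero' := smulMod_zero M
  map_add' a b := smulMod_add M a b

lemma smulMod_sum (M : X.Modules) {κ : Type*} (s : Finset κ) (f : κ → A) :
    smulMod A M (∑ k ∈ s, f k) = ∑ k ∈ s, smulMod A M (f k) :=
  map_sum (smulModHom M) f s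

lemma HmapA_smulMod (M : X.Modules) (a : A) (p : ℕ) (x : Coh.HH X M p) :
    HmapA A (smulMod A M a) p x = a • x := rfl

variable (I : Ideal A) (M : X.Modules)

lemma smulMod_π (n : ℕ) (b : A) (hb : b ∈ I ^ n) : smulMod A M b ≫ modPowπ I n M = 0 := by
  have h : smulMod A M b = Sigma.ι (fun _ : ↥(I ^ n) => M) ⟨b, hb⟩ ≫ smulFamily (I ^ n) M := by
    simp [smulFamily]
  rw [h, Category.assoc]
  change _ ≫ smulFamily (I ^ n) M ≫ cokernel.π (smulFamily (I ^ n) M) = 0
  rw [cokernel.condition, comp_zero]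

instance (n : ℕ) : Epi (modPowπ I n M) := by unfold modPowπ; exact coequalizer.π_epi

/-- multiplication by `b ∈ I^n` is zero on `M/I^n M`. -/
lemma smulMod_modPow (n : ℕ) (b : A) (hb : b ∈ I ^ n) : smulMod A (modPow I n M) b = 0 := by
  rw [← cancel_epi (modPowπ I n M), smulMod_naturality, smulMod_π I M n b hb, comp_zero]

/-- `I^n M`. -/
def IM (n : ℕ) : X.Modules := kernel (modPowπ I n M)

/-- the inclusion `I^n M ⟶ M`. -/
def ιM (n : ℕ) : IM I M n ⟶ M := kernel.ι (modPowπ I n M)

instance (n : ℕ) : Mono (ιM I M n) := (inferInstance : Mono (kernel.ι (modPowπ I n M)))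

@[reassoc]
lemma ιM_π (n : ℕ) : ιM I M n ≫ modPowπ I n M = 0 := kernel.condition _

/-- multiplication by `b ∈ I^n`, as a map into `I^n M`. -/
def mk (n : ℕ) (b : A) (hb : b ∈ I ^ n) : M ⟶ IM I M n :=
  kernel.lift (modPowπ I n M) (smulMod A M b) (smulMod_π I M n b hb)

@[reassoc]
lemma mk_ι (n : ℕ) (b : A) (hb : b ∈ I ^ n) : mk I M n b hb ≫ ιM I M n = smulMod A M b :=
  kernel.lift_ι _ _ _

/-- the canonical epimorphism onto `I^n M`. -/
def eM (n : ℕ) : (∐ fun _ : ↥(I ^ n) => M) ⟶ IM I M n :=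
  kernel.lift (modPowπ I n M) (smulFamily (I ^ n) M) (cokernel.condition _)

instance (n : ℕ) : Epi (eM I M n) :=
  (inferInstance : Epi (Abelian.factorThruImage (smulFamily (I ^ n) M)))

lemma ι_eM (n : ℕ) (b : ↥(I ^ n)) :
    Sigma.ι (fun _ : ↥(I ^ n) => M) b ≫ eM I M n = mk I M n b.1 b.2 := by
  rw [← cancel_mono (ιM I M n), Category.assoc, mk_ι]
  change _ ≫ kernel.lift _ _ _ ≫ kernel.ι _ = _
  rw [kernel.lift_ι]
  simp [smulFamily]

lemma hom_ext_IM {n : ℕ} {W : X.Modules} (g g' : IM I M n ⟶ W)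
    (h : ∀ b hb, mk I M n b hb ≫ g = mk I M n b hb ≫ g') : g = g' := by
  rw [← cancel_epi (eM I M n)]
  apply Sigma.hom_ext
  intro b
  rw [← Category.assoc, ← Category.assoc, ι_eM]
  exact h b.1 b.2

/-- for `a ∈ I`, multiplication by `a` maps `I^n M` into `I^(n+1) M`. -/
def tA (n : ℕ) (a : A) (ha : a ∈ I) : IM I M n ⟶ IM I M (n + 1) :=
  kernel.lift (modPowπ I (n + 1) M) (ιM I M n ≫ smulMod A M a) (by
    apply hom_ext_IM
    intro b hb
    rw [comp_zero, Category.assoc, mk_ι_assoc, ← Category.assoc, ← smulMod_mul]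
    exact smulMod_π I M (n + 1) (a * b) (by rw [pow_succ']; exact Ideal.mul_mem_mul ha hb))

@[reassoc]
lemma tA_ι (n : ℕ) (a : A) (ha : a ∈ I) :
    tA I M n a ha ≫ ιM I M (n + 1) = ιM I M n ≫ smulMod A M a :=
  kernel.lift_ι _ _ _

variable {r : ℕ} (a : Fin r → A) (ha : ∀ i, a i ∈ I)

/-- the graded family `(I^n M)_n` with operators the generators of `I`. -/
abbrev fam : GrFam X r where
  G n := IM I M n
  t i n := tA I M n (a i) (ha i)
  comm i j n := by
    rw [← cancel_mono (ιM I M (n + 1 + 1))]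
    simp only [Category.assoc, tA_ι, tA_ι_assoc]
    rw [smulMod_comm]

lemma exists_factor (hspan : Ideal.span (Set.range a) = I) (n : ℕ) (c : A)
    (hc : c ∈ I ^ (n + 1)) :
    ∃ u : M ⟶ (fam I M a ha).S n, u ≫ (fam I M a ha).φ n ≫ ιM I M (n + 1) = smulMod A M c := by
  rw [pow_succ'] at hc
  refine Submodule.mul_induction_on hc ?_ ?_
  · intro x hx y hy
    rw [← hspan] at hx
    obtain ⟨co, rfl⟩ := Ideal.mem_span_range_iff_exists_fun.mp hx
    refine ⟨∑ i, mk I M n (co i * y) (Ideal.mul_mem_left _ _ hy) ≫ (fam I M a ha).inc n i, ?_⟩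
    rw [Preadditive.sum_comp, Finset.sum_mul, smulMod_sum]
    refine Finset.sum_congr rfl fun i _ => ?_
    rw [Category.assoc, (fam I M a ha).inc_φ_assoc]
    change mk I M n (co i * y) _ ≫ tA I M n (a i) (ha i) ≫ ιM I M (n + 1) = _
    rw [tA_ι, mk_ι_assoc, ← smulMod_mul]
    congr 1
    ring
  · rintro x y ⟨u, hu⟩ ⟨v, hv⟩
    exact ⟨u + v, by rw [Preadditive.add_comp, hu, hv, smulMod_add]⟩

lemma epi_φ (hspan : Ideal.span (Set.range a) = I) (n : ℕ) : Epi ((fam I M a ha).φ n) := by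
  constructor
  intro W g g' h
  apply hom_ext_IM
  intro c hc
  obtain ⟨u, hu⟩ := exists_factor I M a ha hspan n c hc
  have h1 : u ≫ (fam I M a ha).φ n = mk I M (n + 1) c hc := by
    rw [← cancel_mono (ιM I M (n + 1)), Category.assoc, hu, mk_ι]
  rw [← h1, Category.assoc, Category.assoc, h]

lemma isFG_fam (hspan : Ideal.span (Set.range a) = I) : (fam I M a ha).IsFG :=
  ⟨0, fun n _ => epi_φ I M a ha hspan n⟩

lemma isCoh_modPow (hM : Coh.IsCoh M) (n : ℕ) : Coh.IsCoh (modPow I n M) := by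
  haveI := hM.1
  haveI := hM.2
  haveI : (∐ fun _ : ↥(I ^ n) => M : X.Modules).IsQuasicoherent :=
    QCLim.isQuasicoherent_sigma _
  exact ⟨QCProps.isQuasicoherent_cokernel (smulFamily (I ^ n) M),
    QCProps.isFiniteType_of_epi (modPowπ I n M)⟩

lemma isCoh_IM [IsLocallyNoetherian X] (hM : Coh.IsCoh M) (n : ℕ) : Coh.IsCoh (IM I M n) :=
  isCoh_kernel (modPowπ I n M) hM (isCoh_modPow I M hM n)

lemma isCohFam_fam [IsLocallyNoetherian X] (hM : Coh.IsCoh M) : (fam I M a ha).IsCohFam :=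
  fun n => isCoh_IM I M hM n

/-- the short exact sequence `I^n M → M → M/I^n M`. -/
def scM (n : ℕ) : ShortComplex X.Modules :=
  ShortComplex.mk (ιM I M n) (modPowπ I n M) (ιM_π I M n)

lemma scM_shortExact (n : ℕ) : (scM I M n).ShortExact where
  exact := ShortComplex.exact_kernel (modPowπ I n M)
  mono_f := (inferInstance : Mono (ιM I M n))
  epi_g := (inferInstance : Epi (modPowπ I n M))

/-- the transition maps `M/I^k M ⟶ M/I^n M`. -/
def trans {n k : ℕ} (h : n ≤ k) : modPow I k M ⟶ modPow I n M :=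
  cokernel.desc _ (modPowπ I n M) (smulFamily_π_of_le (Ideal.pow_le_pow_right h) M)

@[reassoc]
lemma π_trans {n k : ℕ} (h : n ≤ k) : modPowπ I k M ≫ trans I M h = modPowπ I n M :=
  cokernel.π_desc _ _ _

/-- the inclusions `I^k M ⟶ I^n M`. -/
def jM {n k : ℕ} (h : n ≤ k) : IM I M k ⟶ IM I M n :=
  kernel.lift (modPowπ I n M) (ιM I M k) (by rw [← π_trans I M h, ιM_π_assoc, zero_comp])

@[reassoc]
lemma jM_ι {n k : ℕ} (h : n ≤ k) : jM I M h ≫ ιM I M n = ιM I M k := kernel.lift_ι _ _ _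

lemma jM_refl (n : ℕ) : jM I M (le_refl n) = 𝟙 _ := by
  rw [← cancel_mono (ιM I M n), jM_ι, Category.id_comp]

lemma jM_trans {n k l : ℕ} (h : n ≤ k) (h' : k ≤ l) :
    jM I M h' ≫ jM I M h = jM I M (h.trans h') := by
  rw [← cancel_mono (ιM I M n), Category.assoc, jM_ι, jM_ι, jM_ι]

lemma tA_jM {n k : ℕ} (h : n ≤ k) (a' : A) (ha' : a' ∈ I) :
    tA I M k a' ha' ≫ jM I M (show n ≤ k + 1 by omega) = jM I M h ≫ smulMod A (IM I M n) a' := by
  rw [← cancel_mono (ιM I M n), Category.assoc, jM_ι, tA_ι, Category.assoc,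
    ← smulMod_naturality (ιM I M n) a', jM_ι_assoc]

/-- the morphism of short exact sequences induced by `n ≤ k`. -/
def scMap {n k : ℕ} (h : n ≤ k) : scM I M k ⟶ scM I M n where
  τ₁ := jM I M h
  τ₂ := 𝟙 M
  τ₃ := trans I M h
  comm₁₂ := by
    change jM I M h ≫ ιM I M n = ιM I M k ≫ 𝟙 M
    rw [jM_ι, Category.comp_id]
  comm₂₃ := by
    change 𝟙 M ≫ modPowπ I n M = modPowπ I k M ≫ trans I M h
    rw [π_trans, Category.id_comp]

lemma completion_map_eq (n k : ℕ) (h : n ≤ k) :
    (completion I M).map (homOfLE h).op = trans I M (Nat.succ_le_succ h) := by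
  induction k, h using Nat.le_induction with
  | base =>
    have h2 : trans I M (Nat.succ_le_succ (le_refl n)) = 𝟙 (modPow I (n + 1) M) := by
      rw [← cancel_epi (modPowπ I (n + 1) M), π_trans, Category.comp_id]
    exact ((completion I M).map_id (op n)).trans h2.symm
  | succ k hk ih =>
    have h1 : (completion I M).map (homOfLE (hk.trans (Nat.le_succ k))).op =
        (completion I M).map (homOfLE (Nat.le_succ k)).op ≫
          (completion I M).map (homOfLE hk).op :=
      (completion I M).map_comp (homOfLE (Nat.le_succ k)).op (homOfLE hk).op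
    have h2 : (completion I M).map (homOfLE (Nat.le_succ k)).op = modPowTrans I (k + 1) M :=
      Functor.ofOpSequence_map_homOfLE_succ _ k
    have h3 : modPowTrans I (k + 1) M ≫ trans I M (Nat.succ_le_succ hk) =
        trans I M (Nat.succ_le_succ (hk.trans (Nat.le_succ k))) := by
      rw [← cancel_epi (modPowπ I (k + 1 + 1) M), ← Category.assoc, modPowπ_trans, π_trans,
        π_trans]
    exact h1.trans ((congrArg₂ (· ≫ ·) h2 ih).trans h3)

end Groth.Agent.Lib.Helper1.FFIM
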