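import Mathlib
import Groth.Prelude.Def_Algz
import Groth.Prelude.Def_Formal
import Groth.Agent.Lib.Helper14.ProIsoAdic
import Groth.Agent.Lib.Helper1.AlgzExt
import Groth.Agent.Lib.Helper1.CohFormalPull
import Groth.Agent.Lib.Helper1.CohFormalTorsion
import Groth.Agent.Lib.Helper1.FFIM

/-!
# Completions of coherent modules: coherent formal, compatible with restriction to opens
-/

universe u

open CategoryTheory CategoryTheory.Limits AlgebraicGeometry Opposite

namespace Groth.Agent.Lib.Helper1.CompletionExt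

open Groth.Agent.Lib.Helper14.ProIsoAdic Groth.Agent.Lib.Helper1.CohFormalTorsion

variable {A : Type u} [CommRing A] {X Y : Scheme.{u}} [X.Over (Spec (CommRingCat.of A))]
  [Y.Over (Spec (CommRingCat.of A))]

/-- `θ : M ⟶ Q` is "the quotient of `M` by `J`": an epimorphism through which every map killed by `J`
factors. -/
def IsQuot (J : Ideal A) {M Q : X.Modules} (θ : M ⟶ Q) : Prop :=
  Epi θ ∧ ∀ (T : X.Modules) (φ : M ⟶ T), Kills J φ → ∃ ψ : Q ⟶ T, θ ≫ ψ = φ

theorem isQuot_modPowπ (I : Ideal A) (n : ℕ) (M : X.Modules) :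
    IsQuot (I ^ n) (Formal.modPowπ I n M) := by
  refine ⟨by unfold Formal.modPowπ; exact coequalizer.π_epi, fun T φ hφ => ?_⟩
  exact ⟨cokernel.desc _ φ ((smulFamily_comp_eq_zero_iff _ _).2 hφ), cokernel.π_desc _ _ _⟩

theorem IsQuot.iso_comp {J : Ideal A} {M' M Q : X.Modules} (e : M' ≅ M) {θ : M ⟶ Q}
    (h : IsQuot J θ) : IsQuot J (e.hom ≫ θ) := by
  obtain ⟨hepi, hfac⟩ := h
  refine ⟨epi_comp _ _, fun T φ hφ => ?_⟩
  obtain ⟨ψ, hψ⟩ := hfac T (e.inv ≫ φ) (kills_comp _ hφ)
  exact ⟨ψ, by rw [Category.assoc, hψ, e.hom_inv_id_assoc]⟩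

/-- A left adjoint commuting with the `A`-action preserves quotients by `J`. -/
theorem IsQuot.left {L : Y.Modules ⥤ X.Modules} {R : X.Modules ⥤ Y.Modules} (adj : L ⊣ R)
    (hL : ∀ (M : Y.Modules) (a : A), L.map (Formal.smulMod A M a) = Formal.smulMod A (L.obj M) a)
    {J : Ideal A} {M Q : Y.Modules} {θ : M ⟶ Q} (h : IsQuot J θ) : IsQuot J (L.map θ) := by
  obtain ⟨hepi, hfac⟩ := h
  haveI := adj.isLeftAdjoint
  haveI : L.PreservesEpimorphisms := inferInstance
  refine ⟨inferInstance, fun T φ hφ => ?_⟩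
  let φ' : M ⟶ R.obj T := adj.homEquiv _ _ φ
  have hk : Kills J φ' := by
    intro a ha
    have h1 : Formal.smulMod A M a ≫ φ' =
        adj.homEquiv _ _ (L.map (Formal.smulMod A M a) ≫ φ) := by
      rw [Adjunction.homEquiv_naturality_left]
    rw [h1, hL]
    have h2 := hφ a ha
    rw [h2, Adjunction.homEquiv_unit]
    haveI := adj.isRightAdjoint
    haveI : R.PreservesZeroMorphisms := inferInstance
    rw [Functor.map_zero, comp_zero]
  obtain ⟨ψ, hψ⟩ := hfac _ φ' hk
  refine ⟨(adj.homEquiv _ _).symm ψ, ?_⟩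
  rw [← Adjunction.homEquiv_naturality_left_symm, hψ]
  exact (adj.homEquiv _ _).symm_apply_apply φ

theorem completion_map_succ (I : Ideal A) (M : X.Modules) (n : ℕ) :
    (Formal.completion I M).map (homOfLE (n.le_add_right 1)).op = Formal.modPowTrans I (n + 1) M :=
  Functor.ofOpSequence_map_homOfLE_succ _ n

/-- The completion of a coherent module is a coherent formal system. -/
theorem isCohFormal_completion (I : Ideal A) (M : X.Modules) (hM : Coh.IsCoh M) :
    Formal.IsCohFormal I (Formal.completion I M) := by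
  apply Groth.Agent.Lib.Helper1.CohFormalPull.isCohFormal_of_quotProp
  · intro n
    exact Groth.Agent.Lib.Helper1.FFIM.isCoh_modPow I M hM (n + 1)
  · intro n a ha
    exact Groth.Agent.Lib.Helper1.FFIM.smulMod_modPow I M (n + 1) a ha
  · intro n
    have htr : ARSys.tr (Formal.completion I M) (Nat.le_succ n) = Formal.modPowTrans I (n + 1) M :=
      completion_map_succ I M n
    have hπ : Formal.modPowπ I (n + 1 + 1) M ≫ Formal.modPowTrans I (n + 1) M =
        Formal.modPowπ I (n + 1) M := Formal.modPowπ_trans I (n + 1) M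
    obtain ⟨hepi2, _⟩ := isQuot_modPowπ I (n + 1 + 1) M
    obtain ⟨hepi1, hfac1⟩ := isQuot_modPowπ I (n + 1) M
    have hepiT : Epi (Formal.modPowTrans I (n + 1) M) := by
      haveI : Epi (Formal.modPowπ I (n + 1 + 1) M ≫ Formal.modPowTrans I (n + 1) M) := by
        rw [hπ]; exact hepi1
      exact epi_of_epi (Formal.modPowπ I (n + 1 + 1) M) _
    have hfacT : ∀ (T : X.Modules) (φ : Formal.modPow I (n + 1 + 1) M ⟶ T),
        Kills (I ^ (n + 1)) φ → ∃ ψ, Formal.modPowTrans I (n + 1) M ≫ ψ = φ := by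
      intro T φ hφ
      obtain ⟨ψ, hψ⟩ := hfac1 T (Formal.modPowπ I (n + 1 + 1) M ≫ φ) (kills_comp _ hφ)
      refine ⟨ψ, ?_⟩
      rw [← cancel_epi (Formal.modPowπ I (n + 1 + 1) M), ← Category.assoc, hπ]
      exact hψ
    refine ⟨?_, fun T φ hφ => ?_⟩
    · rw [htr]; exact hepiT
    · obtain ⟨ψ, hψ⟩ := hfacT T φ hφ
      exact ⟨ψ, by rw [htr]; exact hψ⟩

/-- A left adjoint commuting with the `A`-action commutes with completion. -/
theorem completion_left_iso {L : Y.Modules ⥤ X.Modules} {R : X.Modules ⥤ Y.Modules} (adj : L ⊣ R)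
    (hL : ∀ (M : Y.Modules) (a : A), L.map (Formal.smulMod A M a) = Formal.smulMod A (L.obj M) a)
    (I : Ideal A) (M : Y.Modules) (N : X.Modules) (e : L.obj M ≅ N) :
    Nonempty (Formal.completion I N ≅ Formal.completion I M ⋙ L) := by
  have hq : ∀ n, IsQuot (I ^ (n + 1)) (e.inv ≫ L.map (Formal.modPowπ I (n + 1) M)) := fun n =>
    ((isQuot_modPowπ I (n + 1) M).left adj hL).iso_comp e.symm
  apply completion_iso_of_quot I N (Formal.completion I M ⋙ L)
    (fun n => e.inv ≫ L.map (Formal.modPowπ I (n + 1) M))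
  · exact fun n => (hq n).1
  · exact fun n => (hq n).2
  · intro n a ha
    change Formal.smulMod A (L.obj (Formal.modPow I (n + 1) M)) a = 0
    rw [← hL, Groth.Agent.Lib.Helper1.FFIM.smulMod_modPow I M (n + 1) a ha]
    haveI := adj.isLeftAdjoint
    haveI : L.PreservesZeroMorphisms := inferInstance
    exact Functor.map_zero _ _ _
  · intro n
    have hc : L.map (Formal.modPowπ I (n + 1 + 1) M) ≫ L.map (Formal.modPowTrans I (n + 1) M) =
        L.map (Formal.modPowπ I (n + 1) M) := by
      rw [← L.map_comp, Formal.modPowπ_trans]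
    change (e.inv ≫ L.map (Formal.modPowπ I (n + 1 + 1) M)) ≫
      L.map ((Formal.completion I M).map (homOfLE (n.le_add_right 1)).op) = _
    rw [completion_map_succ, Category.assoc]
    exact congrArg (fun t => e.inv ≫ t) hc

end Groth.Agent.Lib.Helper1.CompletionExt
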