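import Mathlib
import Groth.Prelude.Def_Algz
import Groth.Prelude.Def_Formal
import Groth.Agent.Lib.Helper14.ProIsoAdic
import Groth.Agent.Lib.Helper14.TildeExact
import Groth.Agent.Lib.Helper15.AdicLimit
import Groth.Agent.Lib.Helper1.PbSect
import Groth.Agent.Lib.Helper3.QCTilde
import Groth.Agent.Lib.Helper1.FFIM
import Groth.Agent.Lib.Helper1.CohFormalTorsion
import Groth.Agent.Lib.Helper1.CompletionExt

/-!
# Coherent formal systems on an affine scheme `Spec A`
-/

set_option autoImplicit false
set_option linter.style.haveILetI false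

universe u

open CategoryTheory CategoryTheory.Limits AlgebraicGeometry Opposite

namespace Groth.Agent.Lib.Helper1.AffFormal

open Groth.Agent.Lib.Helper14.ProIsoAdic Groth.Agent.Lib.Helper1.PbSect

section General

variable {R : CommRingCat.{u}}

/-- the counit `(ΓG)~ ⟶ G`, an isomorphism for quasi-coherent `G`. -/
noncomputable abbrev cu (G : (Spec R).Modules) :
    (tilde.functor R).obj (moduleSpecΓFunctor.obj G) ⟶ G :=
  (tilde.adjunction (R := R)).counit.app G

instance isIso_cu (G : (Spec R).Modules) [G.IsQuasicoherent] : IsIso (cu G) :=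
  (inferInstance : IsIso G.fromTildeΓ)

theorem cu_naturality {G H : (Spec R).Modules} (θ : G ⟶ H) :
    (tilde.functor R).map (moduleSpecΓFunctor.map θ) ≫ cu H = cu G ≫ θ :=
  (tilde.adjunction (R := R)).counit.naturality θ

/-- a morphism of quasi-coherent modules on `Spec R` is an epimorphism iff it is surjective on global
sections. -/
theorem epi_iff_Γ_surjective {G H : (Spec R).Modules} [G.IsQuasicoherent] [H.IsQuasicoherent]
    (θ : G ⟶ H) : Epi θ ↔ Function.Surjective (moduleSpecΓFunctor.map θ).hom := by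
  rw [← ModuleCat.epi_iff_surjective]
  constructor
  · intro h
    haveI : Epi (cu G ≫ θ) := epi_comp _ _
    haveI : Epi ((tilde.functor R).map (moduleSpecΓFunctor.map θ) ≫ cu H) := by
      rw [cu_naturality]; infer_instance
    have h2 : (tilde.functor R).map (moduleSpecΓFunctor.map θ) =
        ((tilde.functor R).map (moduleSpecΓFunctor.map θ) ≫ cu H) ≫ inv (cu H) := by
      rw [Category.assoc, IsIso.hom_inv_id, Category.comp_id]
    haveI : Epi ((tilde.functor R).map (moduleSpecΓFunctor.map θ)) := by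
      rw [h2]; exact epi_comp _ _
    exact (tilde.functor R).epi_of_epi_map inferInstance
  · intro h
    haveI : Epi ((tilde.functor R).map (moduleSpecΓFunctor.map θ)) := inferInstance
    haveI : Epi (cu G ≫ θ) := by
      rw [← cu_naturality]; exact epi_comp _ _
    exact epi_of_epi (cu G) θ

/-- morphisms from a quasi-coherent module to a tilde are given by linear maps on global sections. -/
theorem exists_hom_to_tilde (G : (Spec R).Modules) [G.IsQuasicoherent] (Q : ModuleCat.{u} R)
    (m : moduleSpecΓFunctor.obj G ⟶ Q) :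
    ∃ φ : G ⟶ (tilde.functor R).obj Q,
      moduleSpecΓFunctor.map φ = m ≫ (tilde.adjunction (R := R)).unit.app Q :=
  (Γmap_bijective G ((tilde.functor R).obj Q)).2 (m ≫ (tilde.adjunction (R := R)).unit.app Q)

theorem unit_app_injective (Q : ModuleCat.{u} R) :
    Function.Injective ((tilde.adjunction (R := R)).unit.app Q).hom := by
  haveI : IsIso ((tilde.adjunction (R := R)).unit.app Q) := inferInstance
  exact ((ConcreteCategory.isIso_iff_bijective ((tilde.adjunction (R := R)).unit.app Q)).mp
    inferInstance).1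

theorem Γmap_injective (G G' : (Spec R).Modules) [G.IsQuasicoherent] {α β : G ⟶ G'}
    (h : moduleSpecΓFunctor.map α = moduleSpecΓFunctor.map β) : α = β :=
  (Γmap_bijective G G').1 h

theorem isQuasicoherent_tilde (R : CommRingCat.{u}) (M : ModuleCat.{u} R) :
    ((tilde.functor R).obj M).IsQuasicoherent := inferInstance

/-- the tilde of a finite module is of finite type. -/
theorem isFiniteType_tilde (R : CommRingCat.{u}) (M : ModuleCat.{u} R) (hM : Module.Finite R M) :
    SheafOfModules.IsFiniteType (R := (Spec R).ringCatSheaf) ((tilde.functor R).obj M) := by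
  obtain ⟨σ, hσ⟩ := Groth.Agent.Lib.Helper3.QCTilde.exists_finite_generatingSections_tilde M
  constructor
  refine ⟨σ.localGeneratorsData, ?_⟩
  constructor
  intro x
  exact ⟨hσ.finite⟩

theorem finite_Γ (R : CommRingCat.{u}) (N : (Spec R).Modules) [N.IsQuasicoherent] [N.IsFiniteType] :
    Module.Finite R ↑(moduleSpecΓFunctor.obj N) :=
  Groth.Agent.Lib.Helper3.QCTilde.finite_of_isFiniteType N

theorem exists_factor {R M N P : Type*} [Ring R] [AddCommGroup M] [AddCommGroup N] [AddCommGroup P]
    [Module R M] [Module R N] [Module R P] (f : M →ₗ[R] N) (hf : Function.Surjective f)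
    (g : M →ₗ[R] P) (h : LinearMap.ker f ≤ LinearMap.ker g) : ∃ k : N →ₗ[R] P, ∀ x, k (f x) = g x := by
  refine ⟨((LinearMap.ker f).liftQ g h).comp (f.quotKerEquivOfSurjective hf).symm.toLinearMap, ?_⟩
  intro x
  simp

theorem isIso_unit (R : CommRingCat.{u}) : IsIso (tilde.adjunction (R := R)).unit := inferInstance

theorem faithful_tilde (R : CommRingCat.{u}) : (tilde.functor R).Faithful := inferInstance

end General

variable {A : Type u} [CommRing A]

/-- `Spec A` as a scheme over itself through the identity (the instance used in the `Algz` statements;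
Mathlib's `specOverSpec` is a propositionally-but-not-definitionally equal competitor). -/
@[reducible] noncomputable def selfOver (A : Type u) [CommRing A] :
    (Spec (CommRingCat.of A)).Over (Spec (CommRingCat.of A)) := ⟨𝟙 _⟩

attribute [local instance 2000] selfOver

/-- on `Spec A` (over itself), multiplication by `a : A` on global sections is the `A`-module action. -/
theorem Γ_smulMod (T : (Spec (CommRingCat.of A)).Modules) (a : A)
    (x : ↑((moduleSpecΓFunctor (R := CommRingCat.of A)).obj T)) :
    ((moduleSpecΓFunctor (R := CommRingCat.of A)).map (Formal.smulMod A T a)).hom x = a • x := by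
  have h1 : ((moduleSpecΓFunctor (R := CommRingCat.of A)).map (Formal.smulMod A T a)).hom x =
      (Formal.smulMod A T a).app ⊤ x := rfl
  rw [h1, Groth.Agent.Lib.Helper1.FFIM.smulMod_app]
  have h2 : (Groth.Agent.Lib.Helper1.FFIM.resA (A := A) (X := Spec (CommRingCat.of A)) ⊤ a) =
      (Scheme.ΓSpecIso (CommRingCat.of A)).inv.hom a := by
    unfold Groth.Agent.Lib.Helper1.FFIM.resA Coh.toGlobal
    have e1 : (Spec (CommRingCat.of A) ↘ Spec (CommRingCat.of A)) = 𝟙 _ := rfl
    rw [e1]
    change ((Spec (CommRingCat.of A)).presheaf.map (𝟙 (op ⊤))).hom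
      ((Scheme.Hom.appTop (𝟙 (Spec (CommRingCat.of A)))).hom
        ((Scheme.ΓSpecIso (CommRingCat.of A)).inv.hom a)) = _
    rw [(Spec (CommRingCat.of A)).presheaf.map_id]
    simp
  rw [h2]
  rfl

section Aff

variable (A)

/-- global sections on `Spec A`, valued in `A`-modules (an opaque copy of `moduleSpecΓFunctor`). -/
noncomputable def ΓA : (Spec (CommRingCat.of A)).Modules ⥤ ModuleCat.{u} A :=
  moduleSpecΓFunctor (R := CommRingCat.of A)

/-- the tilde functor on `A`-modules (an opaque copy of `tilde.functor`). -/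
noncomputable def tildeA : ModuleCat.{u} A ⥤ (Spec (CommRingCat.of A)).Modules :=
  tilde.functor (CommRingCat.of A)

/-- the tilde-Γ adjunction. -/
noncomputable def adjA : tildeA A ⊣ ΓA A := tilde.adjunction (R := CommRingCat.of A)

variable {A}

instance : IsIso (adjA A).unit := isIso_unit (CommRingCat.of A)

instance (Q : ModuleCat.{u} A) : IsIso ((adjA A).unit.app Q) := inferInstance

theorem isIso_counit (T : (Spec (CommRingCat.of A)).Modules) [T.IsQuasicoherent] :
    IsIso ((adjA A).counit.app T) := isIso_cu (R := CommRingCat.of A) T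

instance : (tildeA A).IsLeftAdjoint := (adjA A).isLeftAdjoint

instance : (tildeA A).Faithful := faithful_tilde (CommRingCat.of A)

instance : (ΓA A).IsRightAdjoint := (adjA A).isRightAdjoint

instance : (ΓA A).PreservesZeroMorphisms := inferInstance

theorem ΓA_smulMod (T : (Spec (CommRingCat.of A)).Modules) (a : A) (x : ↑((ΓA A).obj T)) :
    ((ΓA A).map (Formal.smulMod A T a)).hom x = a • x := Γ_smulMod T a x

theorem epi_iff_ΓA_surjective {G H : (Spec (CommRingCat.of A)).Modules} [G.IsQuasicoherent]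
    [H.IsQuasicoherent] (θ : G ⟶ H) : Epi θ ↔ Function.Surjective ((ΓA A).map θ).hom :=
  epi_iff_Γ_surjective (R := CommRingCat.of A) θ

theorem ΓA_map_injective (G G' : (Spec (CommRingCat.of A)).Modules) [G.IsQuasicoherent]
    {α β : G ⟶ G'} (h : (ΓA A).map α = (ΓA A).map β) : α = β :=
  Γmap_injective (R := CommRingCat.of A) G G' h

theorem ΓA_map_surjective (G G' : (Spec (CommRingCat.of A)).Modules) [G.IsQuasicoherent]
    (m : (ΓA A).obj G ⟶ (ΓA A).obj G') : ∃ α : G ⟶ G', (ΓA A).map α = m :=
  (Γmap_bijective (R := CommRingCat.of A) G G').2 m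

theorem unitA_injective (Q : ModuleCat.{u} A) : Function.Injective ((adjA A).unit.app Q).hom :=
  ((ConcreteCategory.isIso_iff_bijective ((adjA A).unit.app Q)).mp inferInstance).1

theorem smul_eq_zero_of_killedBy {J : Ideal A} {T : (Spec (CommRingCat.of A)).Modules}
    (hT : Formal.KilledBy J T) (a : A) (ha : a ∈ J) (x : ↑((ΓA A).obj T)) : a • x = 0 := by
  rw [← ΓA_smulMod, hT a ha, Functor.map_zero]
  rfl

end Aff

section Adic

variable (I : Ideal A) (G : ℕᵒᵖ ⥤ (Spec (CommRingCat.of A)).Modules)

/-- the transition maps on global sections. -/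
noncomputable def ftr (n : ℕ) : (ΓA A).obj (G.obj (op (n + 1))) ⟶ (ΓA A).obj (G.obj (op n)) :=
  (ΓA A).map (G.map (homOfLE (Nat.le_succ n)).op)

variable {I G}

theorem ftr_surjective (hG : Formal.IsCohFormal I G) (n : ℕ) :
    Function.Surjective (ftr G n).hom := by
  haveI : (G.obj (op (n + 1))).IsQuasicoherent := (hG.1 (n + 1)).1
  haveI : (G.obj (op n)).IsQuasicoherent := (hG.1 n).1
  haveI : Epi (G.map (homOfLE (Nat.le_succ n)).op) := (quotProp I G hG n (n + 1) (Nat.le_succ n)).1
  exact (epi_iff_ΓA_surjective (G.map (homOfLE (Nat.le_succ n)).op)).1 inferInstance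

theorem ftr_ker (hG : Formal.IsCohFormal I G) (n : ℕ) :
    LinearMap.ker (ftr G n).hom =
      I ^ (n + 1) • (⊤ : Submodule A ↑((ΓA A).obj (G.obj (op (n + 1))))) := by
  haveI : (G.obj (op (n + 1))).IsQuasicoherent := (hG.1 (n + 1)).1
  haveI : (G.obj (op n)).IsQuasicoherent := (hG.1 n).1
  apply le_antisymm
  · intro x hx
    -- the quotient module and its tilde
    let N1 : ModuleCat.{u} A := (ΓA A).obj (G.obj (op (n + 1)))
    let qL : ↑N1 →ₗ[A] (↑N1 ⧸ (I ^ (n + 1) • (⊤ : Submodule A ↑N1))) := Submodule.mkQ _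
    let Q : ModuleCat.{u} A := ModuleCat.of A (↑N1 ⧸ (I ^ (n + 1) • (⊤ : Submodule A ↑N1)))
    let q : N1 ⟶ Q := ModuleCat.ofHom (X := ↑N1)
      (Y := (↑N1 ⧸ (I ^ (n + 1) • (⊤ : Submodule A ↑N1)))) qL
    have hq : ∀ y, q.hom y = qL y := fun y => rfl
    obtain ⟨φ, hφ⟩ := ΓA_map_surjective (G.obj (op (n + 1))) ((tildeA A).obj Q)
      (q ≫ (adjA A).unit.app Q)
    have hφx : ∀ y : ↑N1, ((ΓA A).map φ).hom y = ((adjA A).unit.app Q).hom (q.hom y) := fun y => by
      rw [hφ]; rfl
    have hk : Kills (I ^ (n + 1)) φ := by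
      intro a ha
      apply ΓA_map_injective
      rw [Functor.map_comp, Functor.map_zero]
      apply ModuleCat.hom_ext
      apply LinearMap.ext
      intro y
      change ((ΓA A).map φ).hom (((ΓA A).map (Formal.smulMod A (G.obj (op (n + 1))) a)).hom y) = 0
      rw [ΓA_smulMod]
      have h0 : q.hom (a • y) = 0 := by
        rw [hq, Submodule.mkQ_apply, Submodule.Quotient.mk_eq_zero]
        exact Submodule.smul_mem_smul ha trivial
      have h3 := hφx (a • y)
      rw [h0, map_zero] at h3
      exact h3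
    obtain ⟨ψ, hψ⟩ := (quotProp I G hG n (n + 1) (Nat.le_succ n)).2 _ φ hk
    have hψ' : ftr G n ≫ (ΓA A).map ψ = (ΓA A).map φ := by
      rw [← hψ, Functor.map_comp]; rfl
    have h1 : ((ΓA A).map φ).hom x = 0 := by
      rw [← hψ']
      change ((ΓA A).map ψ).hom ((ftr G n).hom x) = 0
      rw [LinearMap.mem_ker.mp hx, map_zero]
    rw [hφx] at h1
    have h2 : q.hom x = 0 := unitA_injective Q (h1.trans (map_zero _).symm)
    rwa [hq, Submodule.mkQ_apply, Submodule.Quotient.mk_eq_zero] at h2
  · rw [Submodule.smul_le]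
    intro a ha y _
    rw [LinearMap.mem_ker, map_smul]
    exact smul_eq_zero_of_killedBy (hG.2.1 n) a ha _

end Adic

section GE

variable (I : Ideal A) (G : ℕᵒᵖ ⥤ (Spec (CommRingCat.of A)).Modules)

/-- compatible sequences of global sections of a system on `Spec A`. -/
noncomputable def Lsub : Submodule A (∀ n : ℕ, ↑((ΓA A).obj (G.obj (op n)))) where
  carrier := {x | ∀ n, (ftr G n).hom (x (n + 1)) = x n}
  add_mem' := by
    intro x y hx hy n
    rw [Pi.add_apply, Pi.add_apply, map_add, hx n, hy n]
  zero_mem' := by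
    intro n
    rw [Pi.zero_apply, Pi.zero_apply, map_zero]
  smul_mem' := by
    intro a x hx n
    rw [Pi.smul_apply, Pi.smul_apply, map_smul, hx n]

/-- the projections from the module of compatible sequences. -/
noncomputable def πL (n : ℕ) : ↥(Lsub G) →ₗ[A] ↑((ΓA A).obj (G.obj (op n))) :=
  (LinearMap.proj n).comp (Lsub G).subtype

theorem πL_apply (n : ℕ) (x : ↥(Lsub G)) : πL G n x = x.1 n := rfl

variable {I G}

/-- **Grothendieck existence on an affine scheme**: over a Noetherian `I`-adically complete ring `A`,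
every coherent formal system on `Spec A` is the completion of a coherent module. -/
theorem exists_coh_completion_iso [IsNoetherianRing A] [IsAdicComplete I A]
    (hG : Formal.IsCohFormal I G) :
    ∃ F : (Spec (CommRingCat.of A)).Modules, Coh.IsCoh F ∧ Nonempty (Formal.completion I F ≅ G) := by
  classical
  have hqc : ∀ n, (G.obj (op n)).IsQuasicoherent := fun n => (hG.1 n).1
  have hf := ftr_surjective hG
  have hker := ftr_ker hG
  have hπ : ∀ n, (ftr G n).hom ∘ₗ πL G (n + 1) = πL G n := by
    intro n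
    apply LinearMap.ext
    intro x
    exact x.2 n
  have hinj : ∀ x : ↥(Lsub G), (∀ n, πL G n x = 0) → x = 0 := by
    intro x hx
    apply Subtype.ext
    funext n
    exact hx n
  have hlift : ∀ y : (∀ n : ℕ, ↑((ΓA A).obj (G.obj (op n)))),
      (∀ n, (ftr G n).hom (y (n + 1)) = y n) → ∃ x : ↥(Lsub G), ∀ n, πL G n x = y n :=
    fun y hy => ⟨⟨y, hy⟩, fun n => rfl⟩
  have hI : I.FG := IsNoetherian.noetherian I
  haveI : Module.Finite A ↑((ΓA A).obj (G.obj (op 0))) := by
    haveI := hqc 0
    haveI : (G.obj (op 0)).IsFiniteType := (hG.1 0).2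
    exact finite_Γ (CommRingCat.of A) (G.obj (op 0))
  have hfin : Module.Finite A ↥(Lsub G) :=
    Groth.Agent.Lib.Helper15.AL.finite_limit I (fun n => (ftr G n).hom) hf hker (πL G) hπ hinj hlift hI
  have hsurj : ∀ n, Function.Surjective (πL G n) :=
    Groth.Agent.Lib.Helper15.AL.proj_surjective (fun n => (ftr G n).hom) hf (πL G) hlift
  have hkerπ : ∀ n, LinearMap.ker (πL G n) = I ^ (n + 1) • (⊤ : Submodule A ↥(Lsub G)) :=
    Groth.Agent.Lib.Helper15.AL.ker_proj_eq I (fun n => (ftr G n).hom) hf hker (πL G) hπ hinj hlift hI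
  let Lm : ModuleCat.{u} A := ModuleCat.of A ↥(Lsub G)
  let F : (Spec (CommRingCat.of A)).Modules := (tildeA A).obj Lm
  have hFq : F.IsQuasicoherent := isQuasicoherent_tilde (CommRingCat.of A) Lm
  have hFft : F.IsFiniteType := isFiniteType_tilde (CommRingCat.of A) Lm hfin
  let p : ∀ n, Lm ⟶ (ΓA A).obj (G.obj (op n)) := fun n =>
    ModuleCat.ofHom (X := ↥(Lsub G)) (Y := ↑((ΓA A).obj (G.obj (op n)))) (πL G n)
  have hp : ∀ n x, (p n).hom x = πL G n x := fun n x => rfl
  have hpc : ∀ n, p (n + 1) ≫ ftr G n = p n := by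
    intro n
    apply ModuleCat.hom_ext
    exact hπ n
  let θ : ∀ n, F ⟶ G.obj (op n) := fun n => ((adjA A).homEquiv _ _).symm (p n)
  refine ⟨F, ⟨hFq, hFft⟩, ?_⟩
  apply Groth.Agent.Lib.Helper1.CohFormalTorsion.completion_iso_of_quot I F G θ
  · intro n
    haveI := hqc n
    haveI := isIso_counit (G.obj (op n))
    haveI : Epi (p n) := (ModuleCat.epi_iff_surjective _).2 (hsurj n)
    have h1 : θ n = (tildeA A).map (p n) ≫ (adjA A).counit.app (G.obj (op n)) :=
      Adjunction.homEquiv_counit _ _ _ _
    rw [h1]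
    exact epi_comp _ _
  · intro n T φ hφ
    haveI := hqc n
    let φ' : Lm ⟶ (ΓA A).obj T := (adjA A).homEquiv _ _ φ
    have hφ' : φ' = (adjA A).unit.app Lm ≫ (ΓA A).map φ := Adjunction.homEquiv_unit _ _ _ _
    have hle : LinearMap.ker (πL G n) ≤ LinearMap.ker φ'.hom := by
      rw [hkerπ n, Submodule.smul_le]
      intro a ha y _
      rw [LinearMap.mem_ker, hφ']
      change ((ΓA A).map φ).hom (((adjA A).unit.app Lm).hom (a • y)) = 0
      rw [map_smul, ← ΓA_smulMod]
      change ((ΓA A).map (Formal.smulMod A F a) ≫ (ΓA A).map φ).hom _ = 0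
      rw [← Functor.map_comp, hφ a ha, Functor.map_zero]
      rfl
    obtain ⟨k, hk⟩ := exists_factor (πL G n) (hsurj n) φ'.hom hle
    let ψ' : (ΓA A).obj (G.obj (op n)) ⟶ (ΓA A).obj T :=
      ModuleCat.ofHom (X := ↑((ΓA A).obj (G.obj (op n)))) (Y := ↑((ΓA A).obj T)) k
    have hψ' : p n ≫ ψ' = φ' := by
      apply ModuleCat.hom_ext
      apply LinearMap.ext
      intro x
      exact hk x
    obtain ⟨ψ, hψ⟩ := ΓA_map_surjective (G.obj (op n)) T ψ'
    refine ⟨ψ, ?_⟩
    apply ((adjA A).homEquiv _ _).injective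
    rw [Adjunction.homEquiv_naturality_right, hψ]
    change ((adjA A).homEquiv _ _) (((adjA A).homEquiv _ _).symm (p n)) ≫ ψ' = φ'
    rw [Equiv.apply_symm_apply, hψ']
  · exact hG.2.1
  · intro n
    change ((adjA A).homEquiv _ _).symm (p (n + 1)) ≫ G.map (homOfLE (n.le_add_right 1)).op = _
    rw [← Adjunction.homEquiv_naturality_right_symm]
    congr 1
    exact hpc n

end GE

end Groth.Agent.Lib.Helper1.AffFormal
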