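import Mathlib
import Groth.Prelude.Def_ARSys
import Groth.Prelude.Def_DerCA
import Groth.Agent.Lib.Helper20.ArtSys

/-!
# Limits of pro-isomorphic inverse systems of modules
-/

set_option autoImplicit false

universe u

open CategoryTheory CategoryTheory.Limits Opposite

namespace Groth.Agent.Lib.Helper1.LimProIso

open Groth.Agent.Lib.Helper20.ArtSys

variable {R : Type u} [CommRing R]

section Sections

variable (Y : ARSys.PS (ModuleCat.{u} R))

lemma map_eq_tr {a b : ℕ} (f : (op a : ℕᵒᵖ) ⟶ op b) : Y.map f = ARSys.tr Y (leOfHom f.unop) := by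
  congr 1

theorem tr_compat (y : ∀ n : ℕ, ↑(Y.obj (op n)))
    (hy : ∀ n, (ARSys.tr Y (Nat.le_succ n)).hom (y (n + 1)) = y n) :
    ∀ (n k : ℕ) (h : n ≤ k), (ARSys.tr Y h).hom (y k) = y n := by
  intro n k h
  induction k, h using Nat.le_induction with
  | base => exact tr_refl_apply Y _ _
  | succ k h ih =>
    rw [← ih, ← hy k, tr_tr_apply]

/-- an element of the limit from a family compatible along successors. -/
theorem exists_limit_of_compatible (y : ∀ n : ℕ, ↑(Y.obj (op n)))
    (hy : ∀ n, (ARSys.tr Y (Nat.le_succ n)).hom (y (n + 1)) = y n) :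
    ∃ z : ↑(limit Y), ∀ n, (limit.π Y (op n)).hom z = y n := by
  have hc := tr_compat Y y hy
  let s : (Y ⋙ forget (ModuleCat R)).sections :=
    ⟨fun j => y j.unop, by
      intro j j' f
      obtain ⟨a⟩ := j
      obtain ⟨b⟩ := j'
      change (Y.map f).hom (y a) = y b
      rw [map_eq_tr Y f]
      exact hc b a _⟩
  let hl := isLimitOfPreserves (forget (ModuleCat R)) (limit.isLimit Y)
  refine ⟨(Types.isLimitEquivSections hl).symm s, fun n => ?_⟩
  exact Types.isLimitEquivSections_symm_apply hl s (op n)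

theorem limit_ext (z z' : ↑(limit Y))
    (h : ∀ n, (limit.π Y (op n)).hom z = (limit.π Y (op n)).hom z') : z = z' := by
  apply Concrete.limit_ext Y
  intro j
  obtain ⟨n⟩ := j
  exact h n

theorem limit_π_tr (z : ↑(limit Y)) {n k : ℕ} (h : n ≤ k) :
    (ARSys.tr Y h).hom ((limit.π Y (op k)).hom z) = (limit.π Y (op n)).hom z := by
  have := limit.w Y (homOfLE h).op
  rw [← this]
  rfl

end Sections

/-- A pro-isomorphism between (a re-indexing of) `X` and `Y` induces a linear bijection on limits,
compatible with the projections. -/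
theorem exists_bijective_of_proIso (X Y : ARSys.PS (ModuleCat.{u} R)) (m : ℕ → ℕ) (hm : Monotone m)
    (hle : ∀ n, n ≤ m n) (a : DerCA.reindex X hm ⟶ Y) (ha : DerCA.IsProIso a) :
    ∃ Ψ : ↑(limit X) →ₗ[R] ↑(limit Y), Function.Bijective Ψ ∧
      ∀ n x, (limit.π Y (op n)).hom (Ψ x) = (a.app (op n)).hom ((limit.π X (op (m n))).hom x) := by
  classical
  let Z := DerCA.reindex X hm
  -- transition maps of `Z`
  have hZtr : ∀ {n k : ℕ} (h : n ≤ k), ARSys.tr Z h = ARSys.tr X (hm h) := fun h => rfl
  let c : Cone Y :=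
    { pt := limit X
      π :=
        { app := fun j => limit.π X (op (m j.unop)) ≫ a.app j
          naturality := by
            intro j j' f
            have h1 : a.app j ≫ Y.map f = Z.map f ≫ a.app j' := (a.naturality f).symm
            have h2 : limit.π X (op (m j.unop)) ≫ Z.map f = limit.π X (op (m j'.unop)) :=
              limit.w X ((Monotone.functor hm).op.map f)
            change 𝟙 _ ≫ _ = (limit.π X (op (m j.unop)) ≫ a.app j) ≫ Y.map f
            rw [Category.id_comp, Category.assoc]
            exact (congrArg (fun t => t ≫ a.app j') h2.symm).trans ((Category.assoc _ _ _).trans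
              (congrArg (fun t => limit.π X (op (m j.unop)) ≫ t) h1.symm)) } }
  let Ψm : limit X ⟶ limit Y := limit.lift Y c
  have hΨ : ∀ n x, (limit.π Y (op n)).hom (Ψm.hom x) =
      (a.app (op n)).hom ((limit.π X (op (m n))).hom x) := by
    intro n x
    have h : Ψm ≫ limit.π Y (op n) = limit.π X (op (m n)) ≫ a.app (op n) := limit.lift_π c (op n)
    exact congrArg (fun t => t.hom x) h
  choose k hk b hb1 hb2 using ha
  -- elementwise forms
  have hb1' : ∀ n (z : ↑(Z.obj (op (k n)))), (b n).hom ((a.app (op (k n))).hom z) =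
      (ARSys.tr Z (hk n)).hom z := fun n z => congrArg (fun t => t.hom z) (hb1 n)
  have hb2' : ∀ n (y : ↑(Y.obj (op (k n)))), (a.app (op n)).hom ((b n).hom y) =
      (ARSys.tr Y (hk n)).hom y := fun n y => congrArg (fun t => t.hom y) (hb2 n)
  have hanat : ∀ {n j : ℕ} (h : n ≤ j) (z : ↑(Z.obj (op j))),
      (a.app (op n)).hom ((ARSys.tr Z h).hom z) = (ARSys.tr Y h).hom ((a.app (op j)).hom z) :=
    fun h z => congrArg (fun t => t.hom z) (a.naturality (homOfLE h).op)
  refine ⟨Ψm.hom, ⟨?_, ?_⟩, hΨ⟩
  · -- injective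
    rw [injective_iff_map_eq_zero]
    intro x hx
    have hx' : ∀ n, (a.app (op n)).hom ((limit.π X (op (m n))).hom x) = 0 := fun n => by
      rw [← hΨ, hx, map_zero]
    have h0 : ∀ n, (limit.π X (op (m n))).hom x = 0 := by
      intro n
      have h1 := hb1' n ((limit.π X (op (m (k n)))).hom x)
      rw [hx' (k n), map_zero] at h1
      rw [hZtr] at h1
      rw [← limit_π_tr X x (hm (hk n))]
      exact h1.symm
    apply limit_ext X
    intro n
    rw [map_zero, ← limit_π_tr X x (hle n), h0 n, map_zero]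
  · -- surjective
    intro y
    let yv : ∀ n, ↑(Y.obj (op n)) := fun n => (limit.π Y (op n)).hom y
    have hyv : ∀ {n j : ℕ} (h : n ≤ j), (ARSys.tr Y h).hom (yv j) = yv n := fun h => limit_π_tr Y y h
    let z : ∀ n, ↑(Z.obj (op n)) := fun n => (b n).hom (yv (k n))
    have haz : ∀ n, (a.app (op n)).hom (z n) = yv n := fun n => by
      change (a.app (op n)).hom ((b n).hom (yv (k n))) = yv n
      rw [hb2', hyv]
    have hzj : ∀ (n j : ℕ) (h : k n ≤ j), (ARSys.tr Z ((hk n).trans h)).hom (z j) = z n := by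
      intro n j h
      rw [← tr_tr_apply Z (hk n) h, ← hb1', hanat, haz, hyv]
    have hzc : ∀ n, (ARSys.tr Z (Nat.le_succ n)).hom (z (n + 1)) = z n := by
      intro n
      have hj1 : k n ≤ max (k n) (k (n + 1)) := le_max_left _ _
      have hj2 : k (n + 1) ≤ max (k n) (k (n + 1)) := le_max_right _ _
      rw [← hzj (n + 1) _ hj2, tr_tr_apply]
      exact hzj n _ hj1
    -- the family in `X`
    let xv : ∀ n, ↑(X.obj (op n)) := fun n => (ARSys.tr X (hle n)).hom (z n)
    have hxc : ∀ n, (ARSys.tr X (Nat.le_succ n)).hom (xv (n + 1)) = xv n := by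
      intro n
      calc (ARSys.tr X (Nat.le_succ n)).hom ((ARSys.tr X (hle (n + 1))).hom (z (n + 1)))
          = (ARSys.tr X ((Nat.le_succ n).trans (hle (n + 1)))).hom (z (n + 1)) :=
            tr_tr_apply X _ _ _
        _ = (ARSys.tr X (hle n)).hom ((ARSys.tr X (hm (Nat.le_succ n))).hom (z (n + 1))) :=
            (tr_tr_apply X _ _ _).symm
        _ = (ARSys.tr X (hle n)).hom (z n) :=
            congrArg (fun t => (ARSys.tr X (hle n)).hom t) (hzc n)
    obtain ⟨x, hx⟩ := exists_limit_of_compatible X xv hxc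
    refine ⟨x, ?_⟩
    apply limit_ext Y
    intro n
    rw [hΨ, hx]
    change (a.app (op n)).hom ((ARSys.tr X (hle (m n))).hom (z (m n))) = yv n
    have h3 : (ARSys.tr X (hle (m n))).hom (z (m n)) = z n := by
      have := tr_compat Z z hzc n (m n) (hle n)
      rw [hZtr] at this
      exact this
    rw [h3, haz]

end Groth.Agent.Lib.Helper1.LimProIso
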