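import Mathlib
import Groth.Agent.Lib.Helper1.AffFormal
import Groth.Agent.Lib.Helper1.LimProIso
import Groth.Agent.Lib.Helper1.AlgzExt

/-!
# The limit of the global sections of a coherent formal system on `Spec A`
-/

set_option autoImplicit false
set_option linter.style.haveILetI false

universe u

open CategoryTheory CategoryTheory.Limits AlgebraicGeometry Opposite

namespace Groth.Agent.Lib.Helper1.AffFormalLim

open Groth.Agent.Lib.Helper1.AffFormal Groth.Agent.Lib.Helper1.LimProIso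

variable {A : Type u} [CommRing A]

attribute [local instance 2000] selfOver

/-- for a coherent formal system `G` on `Spec A` (`A` Noetherian) the kernel of the projection from
`lim Γ(G_n)` to `Γ(G_n)` is `I^(n+1)` times the limit. -/
theorem ker_limit_π [IsNoetherianRing A] {I : Ideal A}
    {G : ℕᵒᵖ ⥤ (Spec (CommRingCat.of A)).Modules} (hG : Formal.IsCohFormal I G) (n : ℕ) :
    LinearMap.ker (limit.π (G ⋙ ΓA A) (op n)).hom =
      I ^ (n + 1) • (⊤ : Submodule A ↑(limit (G ⋙ ΓA A))) := by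
  have hf := ftr_surjective hG
  have hker := ftr_ker hG
  have hI : I.FG := IsNoetherian.noetherian I
  let π : ∀ n : ℕ, ↑(limit (G ⋙ ΓA A)) →ₗ[A] ↑((ΓA A).obj (G.obj (op n))) :=
    fun n => (limit.π (G ⋙ ΓA A) (op n)).hom
  have hπ : ∀ n, (ftr G n).hom ∘ₗ π (n + 1) = π n := by
    intro n
    apply LinearMap.ext
    intro x
    exact limit_π_tr (G ⋙ ΓA A) x (Nat.le_succ n)
  have hinj : ∀ x : ↑(limit (G ⋙ ΓA A)), (∀ n, π n x = 0) → x = 0 := by
    intro x hx
    apply limit_ext (G ⋙ ΓA A)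
    intro n
    rw [map_zero]
    exact hx n
  have hlift : ∀ y : (∀ n : ℕ, ↑((ΓA A).obj (G.obj (op n)))),
      (∀ n, (ftr G n).hom (y (n + 1)) = y n) → ∃ x : ↑(limit (G ⋙ ΓA A)), ∀ n, π n x = y n :=
    fun y hy => exists_limit_of_compatible (G ⋙ ΓA A) y hy
  exact Groth.Agent.Lib.Helper15.AL.ker_proj_eq I (fun n => (ftr G n).hom) hf hker π hπ hinj hlift hI n

/-- the global-sections system of the tilde system of a system of modules is the system itself. -/
noncomputable def unitIso (X : ℕᵒᵖ ⥤ ModuleCat.{u} A) :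
    (X ⋙ tilde.functor (CommRingCat.of A)) ⋙ ΓA A ≅ X :=
  Functor.associator _ _ _ ≪≫ Functor.isoWhiskerLeft X (asIso (adjA A).unit).symm ≪≫
    X.rightUnitor

/-- If the limit topology on `lim X_n` is compared through a pro-isomorphism with the global sections
of a coherent formal system, it is the `I`-adic one. -/
theorem ker_le_of_proIso [IsNoetherianRing A] {I : Ideal A}
    {G : ℕᵒᵖ ⥤ (Spec (CommRingCat.of A)).Modules} (hG : Formal.IsCohFormal I G)
    (X : ℕᵒᵖ ⥤ ModuleCat.{u} A) (h : Algz.IsProIsomorphic X (G ⋙ ΓA A)) (k : ℕ) :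
    ∃ n : ℕ, LinearMap.ker (limit.π X (op n)).hom ≤ I ^ k • (⊤ : Submodule A ↑(limit X)) := by
  obtain ⟨m, hm, hle, a, ha⟩ := h
  obtain ⟨Ψ, ⟨hΨi, hΨs⟩, hΨ⟩ := exists_bijective_of_proIso X (G ⋙ ΓA A) m hm hle a ha
  cases k with
  | zero =>
    refine ⟨0, ?_⟩
    rw [pow_zero, Ideal.one_eq_top, Submodule.top_smul]
    exact le_top
  | succ k =>
    refine ⟨m k, fun x hx => ?_⟩
    have h1 : Ψ x ∈ LinearMap.ker (limit.π (G ⋙ ΓA A) (op k)).hom := by
      rw [LinearMap.mem_ker, hΨ]
      have hx0 : (limit.π X (op (m k))).hom x = 0 := LinearMap.mem_ker.mp hx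
      exact (congrArg (fun t => (a.app (op k)).hom t) hx0).trans (map_zero (a.app (op k)).hom)
    rw [ker_limit_π hG k] at h1
    have h2 : Submodule.map Ψ (I ^ (k + 1) • (⊤ : Submodule A ↑(limit X))) =
        I ^ (k + 1) • (⊤ : Submodule A ↑(limit (G ⋙ ΓA A))) := by
      rw [Submodule.map_smul'', Submodule.map_top, LinearMap.range_eq_top.2 hΨs]
    rw [← h2] at h1
    obtain ⟨x', hx', hxx'⟩ := h1
    rw [← hΨi hxx']
    exact hx'

end Groth.Agent.Lib.Helper1.AffFormalLim
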