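import Mathlib
import Groth.Agent.Lib.Helper13.GaGm
import Groth.Agent.Lib.Helper18.BcComp

set_option autoImplicit false
set_option linter.style.haveILetI false
universe u
open CategoryTheory MonoidalCategory CartesianMonoidalCategory MonObj GrpObj AlgebraicGeometry CategoryTheory.Limits
open Red
open scoped TensorProduct
open Groth.Agent.Lib.Helper13

namespace Groth.Agent.Lib.Helper1.DiagGa

/-- the three monoid homs `G → G × G`. -/
def dDiag (G : Type*) [CommGroup G] : G →* G × G := (MonoidHom.id G).prod (MonoidHom.id G)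

/-- A "primitive" element of a group algebra `B[G]` vanishes. -/
lemma eq_zero_of_primitive {B G : Type*} [CommRing B] [CommGroup G] (r : MonoidAlgebra B G)
    (h : MonoidAlgebra.mapDomainRingHom B (dDiag G) r =
      MonoidAlgebra.mapDomainRingHom B (MonoidHom.inl G G) r +
        MonoidAlgebra.mapDomainRingHom B (MonoidHom.inr G G) r) : r = 0 := by
  classical
  have inj12 : Function.Injective (dDiag G) := fun a b hab => (Prod.ext_iff.mp hab).1
  have inj1 : Function.Injective (MonoidHom.inl G G) := fun a b hab => (Prod.ext_iff.mp hab).1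
  have inj2 : Function.Injective (MonoidHom.inr G G) := fun a b hab => (Prod.ext_iff.mp hab).2
  have h' : Finsupp.mapDomain (dDiag G) r.coeff =
      Finsupp.mapDomain (MonoidHom.inl G G) r.coeff + Finsupp.mapDomain (MonoidHom.inr G G) r.coeff :=
    congrArg MonoidAlgebra.coeff h
  apply MonoidAlgebra.coeff_injective
  ext g
  have hg := DFunLike.congr_fun h' (g, g)
  rw [Finsupp.add_apply] at hg
  have e12 : Finsupp.mapDomain (dDiag G) r.coeff (g, g) = r.coeff g :=
    Finsupp.mapDomain_apply inj12 r.coeff g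
  rw [e12] at hg
  by_cases h1 : g = 1
  · subst h1
    have e1 : Finsupp.mapDomain (MonoidHom.inl G G) r.coeff ((1 : G), (1 : G)) = r.coeff 1 :=
      Finsupp.mapDomain_apply inj1 r.coeff 1
    have e2 : Finsupp.mapDomain (MonoidHom.inr G G) r.coeff ((1 : G), (1 : G)) = r.coeff 1 :=
      Finsupp.mapDomain_apply inj2 r.coeff 1
    rw [e1, e2] at hg
    have : r.coeff 1 = 0 := by simpa using hg
    simpa using this
  · have e1 : Finsupp.mapDomain (MonoidHom.inl G G) r.coeff (g, g) = 0 := by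
      apply Finsupp.mapDomain_of_notMem_range
      rintro ⟨a, ha⟩
      exact h1 (Prod.ext_iff.mp ha).2.symm
    have e2 : Finsupp.mapDomain (MonoidHom.inr G G) r.coeff (g, g) = 0 := by
      apply Finsupp.mapDomain_of_notMem_range
      rintro ⟨a, ha⟩
      exact h1 (Prod.ext_iff.mp ha).1.symm
    rw [e1, e2, add_zero] at hg
    simpa using hg

/-- A global section killed by pullback along a jointly surjective family of flat morphisms is zero. -/
lemma eq_zero_of_flat_cover {X : Scheme.{u}} (a : Γ(X, ⊤))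
    (h : ∀ x : X, ∃ (Y : Scheme.{u}) (p : Y ⟶ X) (y : Y), Flat p ∧ p.base y = x ∧ p.appTop a = 0) :
    a = 0 := by
  apply TopCat.Presheaf.section_ext X.sheaf ⊤
  intro x hx
  obtain ⟨Y, p, y, hp, rfl, hpa⟩ := h x
  have hinj : Function.Injective (p.stalkMap y) := by
    algebraize [(p.stalkMap y).hom]
    have : Module.FaithfullyFlat (X.presheaf.stalk (p y)) (Y.presheaf.stalk y) :=
      @Module.FaithfullyFlat.of_flat_of_isLocalHom _ _ _ _ _ _ _
        (Flat.stalkMap p y) (p.toLRSHom.prop y)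
    exact ‹RingHom.FaithfullyFlat _›.injective
  apply hinj
  have := Scheme.Hom.germ_stalkMap_apply p ⊤ y hx a
  erw [this]
  erw [map_zero, map_zero]
  change (Y.presheaf.germ _ y _) (p.appTop a) = 0
  rw [hpa, map_zero]


variable {U : Scheme.{u}} {M : Type} [AddCommGroup M]

/-- The character functions of a point of `D_U(M)`. -/
noncomputable def chiFn {X : Over U} (x : X ⟶ DS U M) (m : Multiplicative M) : Γ(X.left, ⊤) :=
  ptFn _ x (MonoidAlgebra.single m (1 : ULift.{u} ℤ))

lemma chiFn_mul {X : Over U} (x y : X ⟶ DS U M) (m : Multiplicative M) :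
    chiFn (x * y) m = chiFn x m * chiFn y m := by
  refine ptFn_mul_one_term _ x y _ _ _ ?_
  simp

lemma chiFn_comp {X X' : Over U} (g : X' ⟶ X) (x : X ⟶ DS U M) (m : Multiplicative M) :
    chiFn (g ≫ x) m = g.left.appTop (chiFn x m) := ptFn_comp _ g x _

lemma chiFn_one {X : Over U} (x : X ⟶ DS U M) : chiFn x 1 = 1 := by
  unfold chiFn
  rw [← MonoidAlgebra.one_def]
  exact ptFn_one_elt _ x

lemma chiFn_mul_elt {X : Over U} (x : X ⟶ DS U M) (m m' : Multiplicative M) :
    chiFn x (m * m') = chiFn x m * chiFn x m' := by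
  unfold chiFn
  rw [← ptFn_mul_elt, MonoidAlgebra.single_mul_single, _root_.mul_one]

lemma pt_ext' {X : Over U} (x y : X ⟶ DS U M) (h : ∀ m, chiFn x m = chiFn y m) : x = y := by
  apply pt_ext
  intro a
  rw [← ptRingHom_apply, ← ptRingHom_apply]
  have key : ptRingHom _ x = ptRingHom _ y := by
    apply MonoidAlgebra.ringHom_ext
    · intro b
      exact congr($(ringHom_uliftInt_ext ((ptRingHom _ x).comp MonoidAlgebra.singleOneRingHom)
        ((ptRingHom _ y).comp MonoidAlgebra.singleOneRingHom)) b)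
    · intro m
      exact h m
  exact congr($key a)

lemma exists_pt {X : Over U} (ψ : Multiplicative M →* Γ(X.left, ⊤)) :
    ∃ x : X ⟶ DS U M, ∀ m, chiFn x m = ψ m := by
  let _ : Algebra (ULift.{u} ℤ) Γ(X.left, ⊤) := ULift.algebra' ℤ _
  let φ : MonoidAlgebra (ULift.{u} ℤ) (Multiplicative M) →+* Γ(X.left, ⊤) :=
    (MonoidAlgebra.lift (ULift.{u} ℤ) Γ(X.left, ⊤) (Multiplicative M) ψ).toRingHom
  refine ⟨mkPt _ φ (specULiftZIsTerminal.hom_ext _ _), fun m => ?_⟩
  change ptFn _ _ _ = ψ m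
  rw [ptFn_mkPt]
  change (MonoidAlgebra.lift _ _ _ ψ) (MonoidAlgebra.single _ _) = ψ m
  rw [MonoidAlgebra.lift_single, _root_.one_smul]

section Main


variable (w : DS U M ⟶ Ga U) [IsMonHom w]

/-- The additive functional attached to `w`. -/
noncomputable def aFn {X : Over U} (x : X ⟶ DS U M) : Γ(X.left, ⊤) := gaFn (x ≫ w)

lemma aFn_mul {X : Over U} (x y : X ⟶ DS U M) : aFn w (x * y) = aFn w x + aFn w y :=
  gaFn_mul_comp w x y

lemma aFn_comp {X X' : Over U} (g : X' ⟶ X) (x : X ⟶ DS U M) :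
    aFn w (g ≫ x) = g.left.appTop (aFn w x) := by
  unfold aFn
  rw [Category.assoc, gaFn_comp]

/-- the morphism over `U` induced by a ring hom. -/
noncomputable def specOver {C C' : Type u} [CommRing C] [CommRing C'] (φ : C →+* C')
    (c₀ : Spec (CommRingCat.of C) ⟶ U) (c₀' : Spec (CommRingCat.of C') ⟶ U)
    (h : Spec.map (CommRingCat.ofHom φ) ≫ c₀ = c₀') : Over.mk c₀' ⟶ Over.mk c₀ :=
  Over.homMk (Spec.map (CommRingCat.ofHom φ)) h

lemma specOver_appTop {C C' : Type u} [CommRing C] [CommRing C'] (φ : C →+* C')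
    (c₀ : Spec (CommRingCat.of C) ⟶ U) (c₀' : Spec (CommRingCat.of C') ⟶ U)
    (h : Spec.map (CommRingCat.ofHom φ) ≫ c₀ = c₀') (c : C) :
    (specOver φ c₀ c₀' h).left.appTop ((Scheme.ΓSpecIso (CommRingCat.of C)).inv c) =
      (Scheme.ΓSpecIso (CommRingCat.of C')).inv (φ c) :=
  specMap_appTop_ΓSpecIso_inv φ c

lemma ΓSpecIso_inv_injective (C : Type u) [CommRing C] :
    Function.Injective (Scheme.ΓSpecIso (CommRingCat.of C)).inv := by
  intro a b hab
  have := congrArg (Scheme.ΓSpecIso (CommRingCat.of C)).hom hab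
  simpa using this

theorem aFn_spec_eq_zero {B : Type u} [CommRing B] (x₀ : Spec (CommRingCat.of B) ⟶ U)
    (x : Over.mk x₀ ⟶ DS U M) : aFn w x = 0 := by
  classical
  let G := Multiplicative M
  let C₁ := MonoidAlgebra B G
  let C₂ := MonoidAlgebra B (G × G)
  let i₁ : B →+* C₁ := algebraMap B C₁
  let i₂ : B →+* C₂ := algebraMap B C₂
  let e₀ := Scheme.ΓSpecIso (CommRingCat.of B)
  let e₁ := Scheme.ΓSpecIso (CommRingCat.of C₁)
  let e₂ := Scheme.ΓSpecIso (CommRingCat.of C₂)
  let X₁ : Over U := Over.mk (Spec.map (CommRingCat.ofHom i₁) ≫ x₀)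
  let X₂ : Over U := Over.mk (Spec.map (CommRingCat.ofHom i₂) ≫ x₀)
  -- generic point
  obtain ⟨g₁, hg₁⟩ := exists_pt (U := U) (M := M) (X := X₁)
    ((show C₁ →* Γ(X₁.left, ⊤) from RingHom.toMonoidHom e₁.inv.hom).comp (MonoidAlgebra.of B G))
  have hg₁' : ∀ m : G, chiFn g₁ m = e₁.inv (MonoidAlgebra.single m 1) := hg₁
  obtain ⟨r, hr⟩ : ∃ r : C₁, aFn w g₁ = e₁.inv r := ⟨e₁.hom (aFn w g₁), by simp⟩
  -- the three maps
  have hd : ∀ θ : G →* G × G, Spec.map (CommRingCat.ofHom (MonoidAlgebra.mapDomainRingHom B θ)) ≫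
      (Spec.map (CommRingCat.ofHom i₁) ≫ x₀) = Spec.map (CommRingCat.ofHom i₂) ≫ x₀ := by
    intro θ
    rw [← Category.assoc, ← Spec.map_comp, ← CommRingCat.ofHom_comp,
      MonoidAlgebra.mapDomainRingHom_comp_algebraMap]
  let hθ : ∀ θ : G →* G × G, X₂ ⟶ X₁ := fun θ =>
    specOver (MonoidAlgebra.mapDomainRingHom B θ) _ _ (hd θ)
  have hchi : ∀ (θ : G →* G × G) (m : G),
      chiFn (hθ θ ≫ g₁) m = e₂.inv (MonoidAlgebra.single (θ m) 1) := by
    intro θ m
    rw [chiFn_comp, hg₁']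
    refine (specOver_appTop _ _ _ (hd θ) _).trans ?_
    congr 1
    simp
  have ha : ∀ (θ : G →* G × G),
      aFn w (hθ θ ≫ g₁) = e₂.inv (MonoidAlgebra.mapDomainRingHom B θ r) := by
    intro θ
    rw [aFn_comp, hr]
    exact specOver_appTop _ _ _ (hd θ) _
  have hmul : (hθ (MonoidHom.inl G G) ≫ g₁) * (hθ (MonoidHom.inr G G) ≫ g₁) = hθ (dDiag G) ≫ g₁ := by
    apply pt_ext'
    intro m
    rw [chiFn_mul, hchi, hchi, hchi, ← map_mul, MonoidAlgebra.single_mul_single]
    congr 1
    simp [dDiag]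
  have hr0 : r = 0 := by
    apply eq_zero_of_primitive
    apply ΓSpecIso_inv_injective
    rw [map_add]
    rw [← ha, ← ha, ← ha, ← hmul, aFn_mul]
  have hg0 : aFn w g₁ = 0 := by rw [hr, hr0, map_zero]
  -- evaluation at `x`
  let ψ : G →* B :=
    { toFun := fun m => e₀.hom (chiFn x m)
      map_one' := by rw [chiFn_one, map_one]
      map_mul' := fun m m' => by rw [chiFn_mul_elt, map_mul] }
  let ev : C₁ →+* B := (MonoidAlgebra.lift B B G ψ).toRingHom
  have hev : ev.comp i₁ = RingHom.id B := by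
    ext b
    change (MonoidAlgebra.lift B B G ψ) (algebraMap B C₁ b) = b
    rw [AlgHom.commutes]
    rfl
  have hs : Spec.map (CommRingCat.ofHom ev) ≫ (Spec.map (CommRingCat.ofHom i₁) ≫ x₀) = x₀ := by
    rw [← Category.assoc, ← Spec.map_comp, ← CommRingCat.ofHom_comp, hev]
    simp
  let s : Over.mk x₀ ⟶ X₁ := specOver ev _ _ hs
  have hsx : s ≫ g₁ = x := by
    apply pt_ext'
    intro m
    rw [chiFn_comp, hg₁']
    refine (specOver_appTop _ _ _ hs _).trans ?_
    have : ev (MonoidAlgebra.single m 1) = e₀.hom (chiFn x m) := by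
      change (MonoidAlgebra.lift B B G ψ) (MonoidAlgebra.single m 1) = _
      rw [MonoidAlgebra.lift_single, _root_.one_smul]
      rfl
    rw [this]
    simp [e₀]
  rw [← hsx, aFn_comp, hg0, map_zero]

/-- Every homomorphism `D_U(M) ⟶ 𝔾_a` is trivial. -/
theorem hom_DS_Ga_eq_one : w = 1 := by
  apply gaFn_injective
  rw [gaFn_one]
  apply eq_zero_of_flat_cover
  intro d
  obtain ⟨W, hW, hdW⟩ : ∃ W : (DS U M).left.Opens, IsAffineOpen W ∧ d ∈ W := by
    obtain ⟨W, hW⟩ := (DS U M).left.isBasis_affineOpens.exists_subset_of_mem_open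
      (Set.mem_univ d) isOpen_univ
    obtain ⟨W', hWa, rfl⟩ := hW.1
    exact ⟨W', hWa, hW.2.1⟩
  have hd : d ∈ Set.range hW.fromSpec := by
    rw [hW.range_fromSpec]; exact hdW
  obtain ⟨y, hy⟩ := hd
  refine ⟨_, hW.fromSpec, y, inferInstance, hy, ?_⟩
  let x : Over.mk (hW.fromSpec ≫ (DS U M).hom) ⟶ DS U M := Over.homMk hW.fromSpec rfl
  have h1 := aFn_spec_eq_zero w (B := Γ((DS U M).left, W)) (hW.fromSpec ≫ (DS U M).hom) x
  unfold aFn at h1
  rw [gaFn_comp] at h1
  exact h1

end Main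

section Descent

variable {S T : Scheme.{u}} (g : T ⟶ S)

lemma bc_map_left_fst' {Y Z : Over S} (k : Y ⟶ Z) :
    ((Over.pullback g).map k).left ≫ pullback.fst Z.hom g = pullback.fst Y.hom g ≫ k.left := by
  erw [pullback.lift_fst]

lemma pullback_map_one (X G : Over S) [GrpObj G] :
    (Over.pullback g).map (1 : X ⟶ G) = 1 := by
  rw [Hom.one_def, Hom.one_def, Functor.map_comp]
  have hη : η[bc g G] = Functor.LaxMonoidal.ε (Over.pullback g) ≫ (Over.pullback g).map η[G] := rfl
  rw [hη, ← Category.assoc]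
  congr 1
  have : IsIso (Functor.LaxMonoidal.ε (Over.pullback g)) := inferInstance
  rw [← cancel_mono (inv (Functor.LaxMonoidal.ε (Over.pullback g)))]
  exact toUnit_unique _ _

variable (H : Over S) [GrpObj H] (u : H ⟶ Ga S) [IsMonHom u]

theorem pullback_gaFn_eq_zero (M : Type) [AddCommGroup M]
    (φ : Grp.mk (bc g H) ≅ Grp.mk (DS T M)) :
    (pullback.fst H.hom g).appTop (gaFn u) = 0 := by
  have hcomp : g ≫ Limits.IsTerminal.from specULiftZIsTerminal S =
      Limits.IsTerminal.from specULiftZIsTerminal T := specULiftZIsTerminal.hom_ext _ _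
  let β := Groth.Agent.Lib.Helper18.bcCompIso g (Limits.IsTerminal.from specULiftZIsTerminal S) hcomp GaZ
  let v : bc g H ⟶ bc g (Ga S) := (Over.pullback g).map u
  let w : DS T M ⟶ Ga T := φ.inv.hom.hom ≫ v ≫ β.hom
  have hw : w = 1 := hom_DS_Ga_eq_one w
  have hv : v = 1 := by
    have h1 : φ.hom.hom.hom ≫ w ≫ β.inv = v := by
      simp only [w, Category.assoc, Iso.hom_inv_id, Category.comp_id]
      rw [← Category.assoc, ← Grp.comp_hom_hom, Iso.hom_inv_id, Grp.id_hom_hom, Category.id_comp]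
    rw [← h1, hw]
    haveI : IsMonHom β.inv := Groth.Agent.Lib.Helper18.isMonHom_bcCompIso_inv _ _ hcomp GaZ
    have h2 : (1 : DS T M ⟶ Ga T) ≫ β.inv = 1 := MonObj.one_comp β.inv
    rw [h2, MonObj.comp_one]
  have hv' : (Over.pullback g).map u = (Over.pullback g).map (1 : H ⟶ Ga S) := by
    rw [pullback_map_one]; exact hv
  have key : pullback.fst H.hom g ≫ u.left = pullback.fst H.hom g ≫ (1 : H ⟶ Ga S).left := by
    rw [← bc_map_left_fst', ← bc_map_left_fst', hv']
  let p' : Over.mk (pullback.fst H.hom g ≫ H.hom) ⟶ H := Over.homMk (pullback.fst H.hom g) rfl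
  have hp : p' ≫ u = 1 := by
    have : p' ≫ u = p' ≫ 1 := by
      apply Over.OverMorphism.ext
      exact key
    rw [this, MonObj.comp_one]
  have := gaFn_comp p' u
  rw [hp, gaFn_one] at this
  exact this.symm

end Descent

end Groth.Agent.Lib.Helper1.DiagGa
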