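import Mathlib
import Groth.Agent.Lib.Helper1.DiagGa

set_option autoImplicit false
set_option linter.style.haveILetI false
universe u
open CategoryTheory AlgebraicGeometry AffineSpace MvPolynomial Limits

namespace Groth.Agent.Lib.Helper1.AffUnits

lemma affine_case (n : Type u) (X : Scheme.{u}) [IsAffine X] [IsReduced X]
    (w : Γ(𝔸(n; X), ⊤)) (hw : IsUnit w) :
    ∃ c : Γ(X, ⊤), IsUnit c ∧ (𝔸(n; X) ↘ X).appTop c = w := by
  let ψ : MvPolynomial n Γ(X, ⊤) →+* Γ(𝔸(n; X), ⊤) :=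
    eval₂Hom ((𝔸(n; X) ↘ X).appTop).hom (coord X)
  have hψ : Function.Bijective ψ := by
    have h1 : IsIso (isoOfIsAffine n X).hom.appTop :=
      show IsIso ((isoOfIsAffine n X).hom.app ⊤) from inferInstance
    rw [isoOfIsAffine_hom_appTop] at h1
    have : IsIso (CommRingCat.ofHom ψ) := IsIso.of_isIso_comp_left (Scheme.ΓSpecIso _).hom _
    exact ConcreteCategory.bijective_of_isIso (CommRingCat.ofHom ψ)
  obtain ⟨q, rfl⟩ := hψ.2 w
  have hq : IsUnit q := (isUnit_map_iff (RingEquiv.ofBijective ψ hψ) q).mp hw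
  obtain ⟨r, hr, rfl⟩ := MvPolynomial.isUnit_iff_eq_C_of_isReduced.mp hq
  exact ⟨r, hr, by simp [ψ]⟩

theorem units_affineSpace (n : Type u) (X : Scheme.{u}) [IsReduced X]
    (w : Γ(𝔸(n; X), ⊤)) (hw : IsUnit w) :
    ∃ v : Γ(X, ⊤), IsUnit v ∧ (𝔸(n; X) ↘ X).appTop v = w := by
  let z : X ⟶ 𝔸(n; X) := homOfVector (𝟙 X) (fun _ => 0)
  have hz : z ≫ 𝔸(n; X) ↘ X = 𝟙 X := homOfVector_over _ _
  refine ⟨z.appTop w, hw.map z.appTop.hom, ?_⟩
  rw [← sub_eq_zero]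
  apply Groth.Agent.Lib.Helper1.DiagGa.eq_zero_of_flat_cover
  intro x
  obtain ⟨U, hU, hxU⟩ : ∃ U : X.Opens, IsAffineOpen U ∧ (𝔸(n; X) ↘ X).base x ∈ U := by
    obtain ⟨W, hW⟩ := X.isBasis_affineOpens.exists_subset_of_mem_open
      (Set.mem_univ ((𝔸(n; X) ↘ X).base x)) isOpen_univ
    obtain ⟨W', hWa, rfl⟩ := hW.1
    exact ⟨W', hWa, hW.2.1⟩
  have hpb := isPullback_map (n := n) U.ι
  obtain ⟨y, hy, _⟩ := Scheme.exists_preimage_of_isPullback hpb x
    (⟨_, hxU⟩ : U) rfl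
  haveI : IsOpenImmersion (map n U.ι) :=
    MorphismProperty.of_isPullback (P := @IsOpenImmersion) hpb.flip inferInstance
  refine ⟨_, map n U.ι, y, inferInstance, hy, ?_⟩
  haveI : IsAffine U := hU
  haveI : IsReduced (U : Scheme.{u}) := inferInstance
  have hwU : IsUnit ((map n U.ι).appTop w) := hw.map (map n U.ι).appTop.hom
  obtain ⟨c, hc, hcw⟩ := affine_case n U _ hwU
  rw [map_sub, sub_eq_zero]
  -- z_U
  let zU : (U : Scheme.{u}) ⟶ 𝔸(n; U) := homOfVector (𝟙 _) (fun _ => 0)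
  have hzz : zU ≫ map n U.ι = U.ι ≫ z := by
    ext1
    · simp [zU, z]
    · rename_i i
      rw [Scheme.Hom.comp_appTop, Scheme.Hom.comp_appTop, CommRingCat.comp_apply,
        CommRingCat.comp_apply, map_appTop_coord, homOfVector_appTop_coord,
        homOfVector_appTop_coord, map_zero]
  have hpp : map n U.ι ≫ 𝔸(n; X) ↘ X = 𝔸(n; U) ↘ U ≫ U.ι := map_over _
  -- compute
  have e1 : (map n U.ι).appTop ((𝔸(n; X) ↘ X).appTop (z.appTop w)) =
      (𝔸(n; U) ↘ U).appTop (zU.appTop ((map n U.ι).appTop w)) := by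
    rw [← CommRingCat.comp_apply, ← CommRingCat.comp_apply, ← CommRingCat.comp_apply,
      ← CommRingCat.comp_apply, ← Scheme.Hom.comp_appTop, ← Scheme.Hom.comp_appTop,
      ← Scheme.Hom.comp_appTop, ← Scheme.Hom.comp_appTop]
    congr 2
    rw [hpp, Category.assoc, ← hzz]
    simp
  rw [e1, ← hcw]
  congr 1
  have hzU : zU ≫ 𝔸(n; U) ↘ U = 𝟙 _ := homOfVector_over _ _
  rw [← CommRingCat.comp_apply, ← Scheme.Hom.comp_appTop, hzU]
  simp

end Groth.Agent.Lib.Helper1.AffUnits
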