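import Mathlib
import Groth.Prelude.Def_Formal
import Groth.Prelude.Def_KLin
import Groth.Agent.Lib.Helper14.ProIsoAdic
import Groth.Agent.Lib.Helper1.CohFormalPull
import Groth.Agent.Lib.Helper1.ConsModLocus

/-!
# Coherent formal systems: change of the base ring, and pullback without Noetherian hypotheses
-/

set_option autoImplicit false
set_option linter.style.haveILetI false

universe u

open CategoryTheory CategoryTheory.Limits AlgebraicGeometry Opposite

namespace Groth.Agent.Lib.Helper1.CohFormalBase

open Groth.Agent.Lib.Helper14.ProIsoAdic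

section Base

variable {A A' : Type u} [CommRing A] [CommRing A'] [Algebra A A']

theorem toGlobal_comp {X : Scheme.{u}} (q : X ⟶ Spec (CommRingCat.of A')) (a : A) :
    Coh.toGlobal (q ≫ Spec.map (CommRingCat.ofHom (algebraMap A A'))) a =
      Coh.toGlobal q (algebraMap A A' a) := by
  have h := Scheme.ΓSpecIso_inv_naturality (CommRingCat.ofHom (algebraMap A A'))
  have h2 := congrArg (fun t => t.hom a) h
  change (q ≫ Spec.map (CommRingCat.ofHom (algebraMap A A'))).appTop.hom
      ((Scheme.ΓSpecIso (CommRingCat.of A)).inv.hom a) =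
    q.appTop.hom ((Scheme.ΓSpecIso (CommRingCat.of A')).inv.hom (algebraMap A A' a))
  rw [Scheme.Hom.comp_appTop]
  exact congrArg q.appTop.hom h2.symm

variable {X : Scheme.{u}} [iA : X.Over (Spec (CommRingCat.of A))]
  [iA' : X.Over (Spec (CommRingCat.of A'))]

theorem smulMod_base
    (hc : (X ↘ Spec (CommRingCat.of A)) =
      (X ↘ Spec (CommRingCat.of A')) ≫ Spec.map (CommRingCat.ofHom (algebraMap A A')))
    (M : X.Modules) (a : A) :
    Formal.smulMod A M a = Formal.smulMod A' M (algebraMap A A' a) := by
  unfold Formal.smulMod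
  rw [hc, toGlobal_comp]

theorem smulMod_add (M : X.Modules) (a b : A') :
    Formal.smulMod A' M (a + b) = Formal.smulMod A' M a + Formal.smulMod A' M b := by
  unfold Formal.smulMod
  rw [map_add, KLin.smulModΓ_add]

theorem smulMod_mul (M : X.Modules) (a b : A') :
    Formal.smulMod A' M (a * b) = Formal.smulMod A' M a ≫ Formal.smulMod A' M b := by
  unfold Formal.smulMod
  rw [map_mul, KLin.smulModΓ_mul]

theorem smulMod_zero (M : X.Modules) : Formal.smulMod A' M 0 = 0 := by
  unfold Formal.smulMod
  rw [map_zero, KLin.smulModΓ_zero]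

/-- a map killing `J M` (over `A`) kills `(J A') M` (over `A'`). -/
theorem kills_map
    (hc : (X ↘ Spec (CommRingCat.of A)) =
      (X ↘ Spec (CommRingCat.of A')) ≫ Spec.map (CommRingCat.ofHom (algebraMap A A')))
    (J : Ideal A) {M T : X.Modules} (φ : M ⟶ T) (h : Kills J φ) :
    Kills (J.map (algebraMap A A')) φ := by
  intro a' ha'
  unfold Ideal.map at ha'
  induction ha' using Submodule.span_induction with
  | mem x hx =>
    obtain ⟨a, ha, rfl⟩ := hx
    rw [← smulMod_base hc]
    exact h a ha
  | zero => rw [smulMod_zero, zero_comp]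
  | add x y _ _ hx hy => rw [smulMod_add, Preadditive.add_comp, hx, hy, add_zero]
  | smul b x _ hx =>
    rw [smul_eq_mul, smulMod_mul, Category.assoc, hx, comp_zero]

theorem kills_of_map
    (hc : (X ↘ Spec (CommRingCat.of A)) =
      (X ↘ Spec (CommRingCat.of A')) ≫ Spec.map (CommRingCat.ofHom (algebraMap A A')))
    (J : Ideal A) {M T : X.Modules} (φ : M ⟶ T) (h : Kills (J.map (algebraMap A A')) φ) :
    Kills J φ := by
  intro a ha
  rw [smulMod_base hc]
  exact h _ (Ideal.mem_map_of_mem _ ha)

theorem killedBy_map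
    (hc : (X ↘ Spec (CommRingCat.of A)) =
      (X ↘ Spec (CommRingCat.of A')) ≫ Spec.map (CommRingCat.ofHom (algebraMap A A')))
    (J : Ideal A) (M : X.Modules) (h : Formal.KilledBy J M) :
    Formal.KilledBy (J.map (algebraMap A A')) M := by
  have h1 : Kills J (𝟙 M) := fun a ha => by rw [Category.comp_id]; exact h a ha
  intro a' ha'
  have := kills_map hc J (𝟙 M) h1 a' ha'
  rwa [Category.comp_id] at this

/-- a coherent formal system for `(A, I)` is one for `(A', I A')`. -/
theorem isCohFormal_map
    (hc : (X ↘ Spec (CommRingCat.of A)) =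
      (X ↘ Spec (CommRingCat.of A')) ≫ Spec.map (CommRingCat.ofHom (algebraMap A A')))
    (I : Ideal A) (F : ℕᵒᵖ ⥤ X.Modules) (hF : Formal.IsCohFormal I F) :
    Formal.IsCohFormal (I.map (algebraMap A A')) F := by
  apply Groth.Agent.Lib.Helper1.CohFormalPull.isCohFormal_of_quotProp
  · exact hF.1
  · intro n
    rw [← Ideal.map_pow]
    exact killedBy_map hc _ _ (hF.2.1 n)
  · intro n
    obtain ⟨hepi, hfac⟩ := quotProp I F hF n (n + 1) (Nat.le_succ n)
    refine ⟨hepi, fun T φ hφ => ?_⟩
    rw [← Ideal.map_pow] at hφ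
    exact hfac T φ (kills_of_map hc _ φ hφ)

end Base

section Pull

variable {A : Type u} [CommRing A]

/-- pullback of a coherent formal system along a morphism over `Spec A` (no Noetherian hypotheses). -/
theorem isCohFormal_pullback (I : Ideal A) {X Y : Scheme.{u}}
    [X.Over (Spec (CommRingCat.of A))] [Y.Over (Spec (CommRingCat.of A))]
    (f : X ⟶ Y) (hf : f ≫ (Y ↘ Spec (CommRingCat.of A)) = X ↘ Spec (CommRingCat.of A))
    (G : ℕᵒᵖ ⥤ Y.Modules) (hG : Formal.IsCohFormal I G) :
    Formal.IsCohFormal I (G ⋙ Scheme.Modules.pullback f) := by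
  classical
  have hL : ∀ (M : Y.Modules) (a : A),
      (Scheme.Modules.pullback f).map (Formal.smulMod A M a) =
        Formal.smulMod A ((Scheme.Modules.pullback f).obj M) a :=
    Groth.Agent.Lib.Helper1.CohFormalPull.left_smulMod
      (Scheme.Modules.pullbackPushforwardAdjunction f)
      (Groth.Agent.Lib.Helper1.CohFormalPull.pushforward_smulMod f hf)
  apply Groth.Agent.Lib.Helper1.CohFormalPull.isCohFormal_of_quotProp
  · intro n
    exact Groth.Agent.Lib.Helper1.ConsModLocus.isCoh_pullback f _ (hG.1 n)
  · intro n a ha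
    change Formal.smulMod A ((Scheme.Modules.pullback f).obj (G.obj (Opposite.op n))) a = 0
    rw [← hL, hG.2.1 n a ha, Functor.map_zero]
  · intro n
    exact Groth.Agent.Lib.Helper1.CohFormalPull.quotProp_left
      (Scheme.Modules.pullbackPushforwardAdjunction f) hL I G n (n + 1) (Nat.le_succ n)
      (Groth.Agent.Lib.Helper14.ProIsoAdic.quotProp I G hG n (n + 1) (Nat.le_succ n))

end Pull

end Groth.Agent.Lib.Helper1.CohFormalBase
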