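import Mathlib
import Groth.Prelude.Def_Algz
import Groth.Agent.Lib.Helper17.FlatBC
import Groth.Agent.Lib.Helper1.CohFormalBase
import Groth.Agent.Lib.Helper1.AlgzExt
import Groth.Agent.Lib.Helper1.AffFormal
import Groth.Agent.Lib.Helper3.QCPush
import Groth.Agent.Lib.Helper17.PbStalk

/-!
# Canonical extension and flat base change
-/

set_option autoImplicit false
set_option linter.style.haveILetI false

universe u

open CategoryTheory CategoryTheory.Limits AlgebraicGeometry Opposite

namespace Groth.Agent.Lib.Helper1.AlgzFlatBC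

open Groth.Agent.Lib.Helper17.UnitBC

section Nat

variable {X S X' S' : Scheme.{u}} {f : X ⟶ S} {g : S' ⟶ S} {g' : X' ⟶ X} {f' : X' ⟶ S'}

/-- naturality of the base change map. -/
theorem bcMap_naturality (hc : IsPullback g' f' f g) {F F' : X.Modules} (φ : F ⟶ F') :
    (Scheme.Modules.pullback g).map ((Scheme.Modules.pushforward f).map φ) ≫ bcMap hc F' =
      bcMap hc F ≫ (Scheme.Modules.pushforward f').map ((Scheme.Modules.pullback g').map φ) := by
  unfold bcMap
  rw [← Adjunction.homEquiv_naturality_left_symm, ← Adjunction.homEquiv_naturality_right_symm]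
  congr 1
  have h1 : (Scheme.Modules.pushforward f).map φ ≫ (Scheme.Modules.pushforward f).map
        ((Scheme.Modules.pullbackPushforwardAdjunction g').unit.app F') =
      (Scheme.Modules.pushforward f).map
        ((Scheme.Modules.pullbackPushforwardAdjunction g').unit.app F) ≫
      (Scheme.Modules.pushforward f).map ((Scheme.Modules.pushforward g').map
        ((Scheme.Modules.pullback g').map φ)) := by
    rw [← Functor.map_comp, ← Functor.map_comp]
    congr 1
    exact (Scheme.Modules.pullbackPushforwardAdjunction g').unit.naturality φ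
  have h2 := (Scheme.Modules.pushforwardComp g' f).hom.naturality ((Scheme.Modules.pullback g').map φ)
  have h3 := (Scheme.Modules.pushforwardCongr hc.w).hom.naturality
    ((Scheme.Modules.pullback g').map φ)
  have h4 := (Scheme.Modules.pushforwardComp f' g).inv.naturality
    ((Scheme.Modules.pullback g').map φ)
  simp only [Functor.comp_map] at h2 h4
  rw [← Category.assoc, h1]
  simp only [Category.assoc]
  rw [← h4, ← reassoc_of% h3, ← reassoc_of% h2]

end Nat

theorem nat_aux {C D : Type*} [Category C] [Category D] (P : C ⥤ D) {Sn Sm Jn Jm : C}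
    {Kn Km S'n S'm : D} {Sf : Sn ⟶ Sm} {cn : Sn ⟶ Jn} {cm : Sm ⟶ Jm} {α : Jn ⟶ Jm}
    {bn : P.obj Jn ⟶ Kn} {bm : P.obj Jm ⟶ Km} {β : Kn ⟶ Km} {c'n : S'n ⟶ Kn} {c'm : S'm ⟶ Km}
    (_ : IsIso c'n) (_ : IsIso c'm) {S'f : S'n ⟶ S'm}
    (e1 : Sf ≫ cm = cn ≫ α) (e2 : P.map α ≫ bm = bn ≫ β) (e3 : S'f ≫ c'm = c'n ≫ β) :
    P.map Sf ≫ P.map cm ≫ bm ≫ inv c'm = (P.map cn ≫ bn ≫ inv c'n) ≫ S'f := by
  have e3' : inv c'n ≫ S'f = β ≫ inv c'm := by
    rw [IsIso.inv_comp_eq, ← Category.assoc, ← e3, Category.assoc, IsIso.hom_inv_id,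
      Category.comp_id]
  calc P.map Sf ≫ P.map cm ≫ bm ≫ inv c'm
      = P.map (Sf ≫ cm) ≫ bm ≫ inv c'm := by rw [P.map_comp, Category.assoc]
    _ = P.map cn ≫ (P.map α ≫ bm) ≫ inv c'm := by
        rw [e1, P.map_comp, Category.assoc, Category.assoc]
    _ = P.map cn ≫ bn ≫ β ≫ inv c'm := by rw [e2, Category.assoc]
    _ = (P.map cn ≫ bn ≫ inv c'n) ≫ S'f := by
        rw [← e3', Category.assoc, Category.assoc]

section Eta

variable (A A' : Type u) [CommRing A] [CommRing A'] [Algebra A A'] [Module.Flat A A']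
  (U : (Spec (CommRingCat.of A)).Opens) [QuasiCompact U.ι]
  (G : ℕᵒᵖ ⥤ (U : Scheme.{u}).Modules)

/-- flat base change for the systems of sections. -/
noncomputable def bcIso (hq : ∀ n, (G.obj n).IsQuasicoherent) :
    Algz.sectSys A U G ⋙
        Scheme.Modules.pullback (Spec.map (CommRingCat.ofHom (algebraMap A A'))) ≅
      Algz.sectSys A' (Spec.map (CommRingCat.ofHom (algebraMap A A')) ⁻¹ᵁ U)
        (G ⋙ Scheme.Modules.pullback
          (Spec.map (CommRingCat.ofHom (algebraMap A A')) ∣_ U)) := by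
  have hc : IsPullback (Spec.map (CommRingCat.ofHom (algebraMap A A')) ∣_ U)
      (Spec.map (CommRingCat.ofHom (algebraMap A A')) ⁻¹ᵁ U).ι U.ι
      (Spec.map (CommRingCat.ofHom (algebraMap A A'))) :=
    isPullback_morphismRestrict _ U
  haveI : Flat (Spec.map (CommRingCat.ofHom (algebraMap A A'))) := by
    rw [Flat.SpecMap_iff]
    exact (RingHom.flat_algebraMap_iff).2 inferInstance
  haveI : QuasiCompact (Spec.map (CommRingCat.ofHom (algebraMap A A')) ⁻¹ᵁ U).ι :=
    MorphismProperty.of_isPullback hc (inferInstance : QuasiCompact U.ι)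
  haveI hq1 : ∀ n, ((Scheme.Modules.pushforward U.ι).obj (G.obj n)).IsQuasicoherent := fun n => by
    haveI := hq n
    exact Groth.Agent.Lib.Helper3.QCSec.isQuasicoherent_pushforward U.ι (G.obj n)
  haveI hq2 : ∀ n, ((Scheme.Modules.pullback
      (Spec.map (CommRingCat.ofHom (algebraMap A A')) ∣_ U)).obj (G.obj n)).IsQuasicoherent :=
    fun n => by
      haveI := hq n
      exact Groth.Agent.Lib.Helper17.PbStalk.isQuasicoherent_pullback _ (G.obj n)
  haveI hq3 : ∀ n, ((Scheme.Modules.pushforward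
      (Spec.map (CommRingCat.ofHom (algebraMap A A')) ⁻¹ᵁ U).ι).obj ((Scheme.Modules.pullback
      (Spec.map (CommRingCat.ofHom (algebraMap A A')) ∣_ U)).obj (G.obj n))).IsQuasicoherent :=
    fun n => Groth.Agent.Lib.Helper3.QCSec.isQuasicoherent_pushforward _ _
  have hI1 : ∀ n, IsIso ((Scheme.Modules.fromTildeΓNatTrans (R := CommRingCat.of A)).app
      ((Scheme.Modules.pushforward U.ι).obj (G.obj n))) := fun n =>
    @Scheme.Modules.isIso_fromTildeΓ_of_isQuasicoherent (CommRingCat.of A) _ (hq1 n)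
  have hI2 : ∀ n, IsIso (bcMap hc (G.obj n)) := fun n => by
    haveI := hq n
    exact isIso_bcMap_of_flat hc (G.obj n)
  have hI3 : ∀ n, IsIso ((Scheme.Modules.fromTildeΓNatTrans (R := CommRingCat.of A')).app
      ((Scheme.Modules.pushforward (Spec.map (CommRingCat.ofHom (algebraMap A A')) ⁻¹ᵁ U).ι).obj
        ((Scheme.Modules.pullback
          (Spec.map (CommRingCat.ofHom (algebraMap A A')) ∣_ U)).obj (G.obj n)))) := fun n =>
    @Scheme.Modules.isIso_fromTildeΓ_of_isQuasicoherent (CommRingCat.of A') _ (hq3 n)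
  refine NatIso.ofComponents (fun n =>
    (Scheme.Modules.pullback (Spec.map (CommRingCat.ofHom (algebraMap A A')))).mapIso
      (@asIso _ _ _ _ _ (hI1 n)) ≪≫ @asIso _ _ _ _ _ (hI2 n) ≪≫ (@asIso _ _ _ _ _ (hI3 n)).symm) ?_
  intro n m f
  have e1 : (Algz.sectSys A U G).map f ≫
      (Scheme.Modules.fromTildeΓNatTrans (R := CommRingCat.of A)).app
        ((Scheme.Modules.pushforward U.ι).obj (G.obj m)) =
      (Scheme.Modules.fromTildeΓNatTrans (R := CommRingCat.of A)).app
        ((Scheme.Modules.pushforward U.ι).obj (G.obj n)) ≫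
      (Scheme.Modules.pushforward U.ι).map (G.map f) :=
    (Scheme.Modules.fromTildeΓNatTrans (R := CommRingCat.of A)).naturality
      ((Scheme.Modules.pushforward U.ι).map (G.map f))
  have e2 := bcMap_naturality hc (G.map f)
  have e3 : (Algz.sectSys A' (Spec.map (CommRingCat.ofHom (algebraMap A A')) ⁻¹ᵁ U)
        (G ⋙ Scheme.Modules.pullback
          (Spec.map (CommRingCat.ofHom (algebraMap A A')) ∣_ U))).map f ≫
      (Scheme.Modules.fromTildeΓNatTrans (R := CommRingCat.of A')).app
        ((Scheme.Modules.pushforward (Spec.map (CommRingCat.ofHom (algebraMap A A')) ⁻¹ᵁ U).ι).obj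
          ((Scheme.Modules.pullback
            (Spec.map (CommRingCat.ofHom (algebraMap A A')) ∣_ U)).obj (G.obj m))) =
      (Scheme.Modules.fromTildeΓNatTrans (R := CommRingCat.of A')).app
        ((Scheme.Modules.pushforward (Spec.map (CommRingCat.ofHom (algebraMap A A')) ⁻¹ᵁ U).ι).obj
          ((Scheme.Modules.pullback
            (Spec.map (CommRingCat.ofHom (algebraMap A A')) ∣_ U)).obj (G.obj n))) ≫
      (Scheme.Modules.pushforward (Spec.map (CommRingCat.ofHom (algebraMap A A')) ⁻¹ᵁ U).ι).map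
        ((Scheme.Modules.pullback
          (Spec.map (CommRingCat.ofHom (algebraMap A A')) ∣_ U)).map (G.map f)) :=
    (Scheme.Modules.fromTildeΓNatTrans (R := CommRingCat.of A')).naturality
      ((Scheme.Modules.pushforward (Spec.map (CommRingCat.ofHom (algebraMap A A')) ⁻¹ᵁ U).ι).map
        ((Scheme.Modules.pullback
          (Spec.map (CommRingCat.ofHom (algebraMap A A')) ∣_ U)).map (G.map f)))
  have key := nat_aux (Scheme.Modules.pullback (Spec.map (CommRingCat.ofHom (algebraMap A A'))))
    (hI3 n) (hI3 m) e1 e2 e3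
  exact key

attribute [local instance 2000] Groth.Agent.Lib.Helper1.AffFormal.selfOver in
/-- canonical extension is stable under flat base change. -/
theorem canonicallyExtends_flat_baseChange (I : Ideal A) (hq : ∀ n, (G.obj n).IsQuasicoherent)
    (h : Algz.CanonicallyExtends A I U G) :
    Algz.CanonicallyExtends A' (I.map (algebraMap A A'))
      (Spec.map (CommRingCat.ofHom (algebraMap A A')) ⁻¹ᵁ U)
      (G ⋙ Scheme.Modules.pullback (Spec.map (CommRingCat.ofHom (algebraMap A A')) ∣_ U)) := by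
  obtain ⟨G'', hG'', hpro⟩ := h
  refine ⟨G'' ⋙ Scheme.Modules.pullback (Spec.map (CommRingCat.ofHom (algebraMap A A'))), ?_, ?_⟩
  · letI iA : (Spec (CommRingCat.of A')).Over (Spec (CommRingCat.of A)) :=
      ⟨Spec.map (CommRingCat.ofHom (algebraMap A A'))⟩
    have h1 : Formal.IsCohFormal I
        (G'' ⋙ Scheme.Modules.pullback (Spec.map (CommRingCat.ofHom (algebraMap A A')))) :=
      Groth.Agent.Lib.Helper1.CohFormalBase.isCohFormal_pullback I
        (Spec.map (CommRingCat.ofHom (algebraMap A A'))) (Category.comp_id _) G'' hG''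
    exact Groth.Agent.Lib.Helper1.CohFormalBase.isCohFormal_map (Category.id_comp _).symm I _ h1
  · exact Groth.Agent.Lib.Helper1.AlgzExt.isProIsomorphic_of_iso_of_functor
      (Scheme.Modules.pullback (Spec.map (CommRingCat.ofHom (algebraMap A A'))))
      (Algz.sectSys A U G) G'' _ (bcIso A A' U G hq) hpro

end Eta
end Groth.Agent.Lib.Helper1.AlgzFlatBC
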