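import Mathlib

/-!
# Sections of tilde modules over basic opens and maps into quasi-coherent modules
-/

set_option autoImplicit false

universe u

open CategoryTheory CategoryTheory.Limits AlgebraicGeometry Opposite

namespace Groth.Agent.Lib.Helper1.TildeSections

variable {R : CommRingCat.{u}}

/-- the adjoint `Q~ ⟶ P` of a linear map `ℓ : Q ⟶ Γ(P)`. -/
noncomputable abbrev adj (Q : ModuleCat.{u} R) (P : (Spec R).Modules)
    (ℓ : Q ⟶ moduleSpecΓFunctor.obj P) : (tilde.functor R).obj Q ⟶ P :=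
  ((tilde.adjunction (R := R)).homEquiv Q P).symm ℓ

theorem adj_eq (Q : ModuleCat.{u} R) (P : (Spec R).Modules) (ℓ : Q ⟶ moduleSpecΓFunctor.obj P) :
    adj Q P ℓ = tilde.map ℓ ≫ P.fromTildeΓ :=
  Adjunction.homEquiv_counit _ _ _ _

/-- on sections over `U`, the adjoint of `ℓ` sends `toOpen q` to the restriction of `ℓ q`. -/
theorem adj_app_toOpen (Q : ModuleCat.{u} R) (P : (Spec R).Modules)
    (ℓ : Q ⟶ moduleSpecΓFunctor.obj P) (U : (Spec R).Opens) (q : Q) :
    ((modulesSpecToSheaf.map (adj Q P ℓ)).1.app (op U)).hom ((tilde.toOpen Q U).hom q) =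
      ((modulesSpecToSheaf.obj P).1.map (homOfLE le_top).op).hom (ℓ.hom q) := by
  have h1 := congrArg (fun t => t.hom q) (tilde.toOpen_map_app ℓ U)
  have h2 := congrArg (fun t => t.hom (ℓ.hom q)) (Scheme.Modules.toOpen_fromTildeΓ_app P U)
  rw [adj_eq]
  exact (congrArg (fun t => ((modulesSpecToSheaf.map P.fromTildeΓ).1.app (op U)).hom t) h1).trans h2

/-- the pure algebra behind `tilde_map_app_eq_zero`. -/
theorem loc_eq_zero {R₀ : Type*} [CommRing R₀] (S : Submonoid R₀)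
    {Q Q' N L L' N' : Type*} [AddCommGroup Q] [AddCommGroup Q'] [AddCommGroup N] [AddCommGroup L]
    [AddCommGroup L'] [AddCommGroup N'] [Module R₀ Q] [Module R₀ Q'] [Module R₀ N] [Module R₀ L]
    [Module R₀ L'] [Module R₀ N']
    (toQ : Q →ₗ[R₀] L) (hQ : IsLocalizedModule S toQ)
    (toQ' : Q' →ₗ[R₀] L') (hQ' : IsLocalizedModule S toQ')
    (res : N →ₗ[R₀] N') (hN : IsLocalizedModule S res)
    (ℓ : Q →ₗ[R₀] N) (t : Q →ₗ[R₀] Q') (φ : L →ₗ[R₀] N') (T : L →ₗ[R₀] L')
    (hφ : ∀ q, φ (toQ q) = res (ℓ q)) (hT : ∀ q, T (toQ q) = toQ' (t q))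
    (hker : LinearMap.ker ℓ ≤ LinearMap.ker t) (s : L) (hs : φ s = 0) : T s = 0 := by
  obtain ⟨⟨q, c⟩, hq⟩ := IsLocalizedModule.surj S toQ s
  have hq' : (c : R₀) • s = toQ q := hq
  have h1 : res (ℓ q) = 0 := by
    rw [← hφ, ← hq', map_smul, hs, smul_zero]
  obtain ⟨c', hc'⟩ := (IsLocalizedModule.eq_zero_iff S res).mp h1
  have hc'' : (c' : R₀) • ℓ q = 0 := hc'
  have h2 : t ((c' : R₀) • q) = 0 := by
    apply hker
    rw [LinearMap.mem_ker, map_smul]
    exact hc''
  have h4 : ((c' * c : S) : R₀) • T s = 0 := by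
    rw [Submonoid.coe_mul, mul_smul, ← map_smul, hq', hT, ← map_smul, ← map_smul, h2, map_zero]
  have hu := IsLocalizedModule.map_units toQ' (c' * c)
  have hinj := ((Module.End.isUnit_iff _).mp hu).injective
  apply hinj
  rw [map_zero]
  exact h4

/-- Let `ℓ : Q ⟶ Γ(P)` with `P` quasi-coherent and `t : Q ⟶ Q'` a linear map killing `ker ℓ`.  A
section `s` of `Q~` over `D(f)` whose image in `P(D(f))` under the adjoint of `ℓ` vanishes is killed
by `t~`. -/
theorem tilde_map_app_eq_zero (Q Q' : ModuleCat.{u} R) (t : Q ⟶ Q') (P : (Spec R).Modules)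
    [P.IsQuasicoherent] (ℓ : Q ⟶ moduleSpecΓFunctor.obj P)
    (hker : LinearMap.ker ℓ.hom ≤ LinearMap.ker t.hom) (f : R)
    (s : ↑((modulesSpecToSheaf.obj (tilde Q)).presheaf.obj (op (PrimeSpectrum.basicOpen f))))
    (hs : ((modulesSpecToSheaf.map (adj Q P ℓ)).1.app (op (PrimeSpectrum.basicOpen f))).hom s = 0) :
    ((modulesSpecToSheaf.map (tilde.map t)).1.app (op (PrimeSpectrum.basicOpen f))).hom s = 0 := by
  have hiso : IsIso P.fromTildeΓ := inferInstance
  have hloc := (isIso_fromTildeΓ_iff_isLocalizing P).mp hiso f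
  exact loc_eq_zero (Submonoid.powers f)
    (tilde.toOpen Q (PrimeSpectrum.basicOpen f)).hom inferInstance
    (tilde.toOpen Q' (PrimeSpectrum.basicOpen f)).hom inferInstance
    _ hloc ℓ.hom t.hom
    ((modulesSpecToSheaf.map (adj Q P ℓ)).1.app (op (PrimeSpectrum.basicOpen f))).hom
    ((modulesSpecToSheaf.map (tilde.map t)).1.app (op (PrimeSpectrum.basicOpen f))).hom
    (fun q => adj_app_toOpen Q P ℓ (PrimeSpectrum.basicOpen f) q)
    (fun q => congrArg (fun t' => t'.hom q) (tilde.toOpen_map_app t (PrimeSpectrum.basicOpen f)))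
    hker s hs

end Groth.Agent.Lib.Helper1.TildeSections
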