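import Mathlib
import Groth.Prelude.Def_Algz
import Groth.Prelude.Def_Formal2
import Groth.Agent.Lib.Helper1.TildeSections
import Groth.Agent.Lib.Helper1.AffFormal
import Groth.Agent.Lib.Helper3.QCProps
import Groth.Agent.Lib.Helper3.QCPush
import Groth.Agent.Lib.Helper14.TildeExact

/-!
# Limit topology versus adic topology: injectivity on compatible families of sections
-/

set_option autoImplicit false
set_option linter.style.haveILetI false

universe u

open CategoryTheory CategoryTheory.Limits AlgebraicGeometry Opposite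

namespace Groth.Agent.Lib.Helper1.AlgzLimTop

open Groth.Agent.Lib.Helper1.TildeSections

variable (A : Type u) [CommRing A] (I : Ideal A)

theorem app_eq {M N : (Spec (CommRingCat.of A)).Modules} (α : M ⟶ N)
    (V : (Spec (CommRingCat.of A)).Opens) (s : (Scheme.Modules.presheaf M).obj (op V)) :
    Scheme.Modules.Hom.app α V s =
      ((modulesSpecToSheaf.map α).1.app (op V)).hom s := rfl

/-- compatible families of sections over `D(f)` of the `(M/I^(n+1)M)~` which die in the `P n` vanish,
when the kernels of `M ⟶ Γ(P n)` are cofinal with the `I`-adic filtration. -/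
theorem sections_eq_zero (P : ℕ → (Spec (CommRingCat.of A)).Modules)
    (hP : ∀ n, (P n).IsQuasicoherent) (M : Type u) [AddCommGroup M] [Module A M]
    (π : ∀ n, ModuleCat.of A M ⟶ (moduleSpecΓFunctor (R := CommRingCat.of A)).obj (P n))
    (hb : ∀ n, ∃ m, n ≤ m ∧ LinearMap.ker (π m).hom ≤ I ^ (n + 1) • (⊤ : Submodule A M))
    (ℓ : ∀ n, ModuleCat.of A (Formal2.quotPow A I M n) ⟶
      (moduleSpecΓFunctor (R := CommRingCat.of A)).obj (P n))
    (hℓ : ∀ n, ModuleCat.ofHom (Formal2.quotPowπ A I M n) ≫ ℓ n = π n) (f : A)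
    (x : ∀ n : ℕ, (Scheme.Modules.presheaf (Formal2.tmod A (Formal2.quotPow A I M n))).obj
      (op (PrimeSpectrum.basicOpen f : (Spec (CommRingCat.of A)).Opens)))
    (hx : ∀ n, Scheme.Modules.Hom.app (Formal2.tmodMap A (Formal2.quotPowTrans A I M n))
      (PrimeSpectrum.basicOpen f : (Spec (CommRingCat.of A)).Opens) (x (n + 1)) = x n)
    (hx0 : ∀ n, Scheme.Modules.Hom.app
      (((tilde.adjunction (R := CommRingCat.of A)).homEquiv
        (ModuleCat.of A (Formal2.quotPow A I M n)) (P n)).symm (ℓ n))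
      (PrimeSpectrum.basicOpen f : (Spec (CommRingCat.of A)).Opens) (x n) = 0) :
    ∀ n, x n = 0 := by
  intro n
  obtain ⟨m, hnm, hker⟩ := hb n
  have key : ∀ d : ℕ, ∃ t : Formal2.quotPow A I M (n + d) →ₗ[A] Formal2.quotPow A I M n,
      (∀ y : M, t (Submodule.Quotient.mk y) = Submodule.Quotient.mk y) ∧
      Scheme.Modules.Hom.app (Formal2.tmodMap A t)
        (PrimeSpectrum.basicOpen f : (Spec (CommRingCat.of A)).Opens) (x (n + d)) = x n := by
    intro d
    induction d with
    | zero =>
      refine ⟨LinearMap.id, fun y => rfl, ?_⟩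
      have h0 : (ModuleCat.ofHom (LinearMap.id :
          Formal2.quotPow A I M n →ₗ[A] Formal2.quotPow A I M n)) =
          𝟙 (ModuleCat.of A (Formal2.quotPow A I M n)) := ModuleCat.ofHom_id
      have h1 : Formal2.tmodMap A (LinearMap.id :
          Formal2.quotPow A I M n →ₗ[A] Formal2.quotPow A I M n) = 𝟙 _ := by
        unfold Formal2.tmodMap
        rw [h0]
        exact tilde.map_id
      rw [h1]
      rfl
    | succ d ih =>
      obtain ⟨t, ht, htx⟩ := ih
      refine ⟨t ∘ₗ Formal2.quotPowTrans A I M (n + d), fun y => ?_, ?_⟩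
      · rw [LinearMap.comp_apply]
        exact ht y
      · have h0 : ModuleCat.ofHom (t ∘ₗ Formal2.quotPowTrans A I M (n + d)) =
            ModuleCat.ofHom (Formal2.quotPowTrans A I M (n + d)) ≫ ModuleCat.ofHom t :=
          ModuleCat.ofHom_comp _ _
        have h1 : Formal2.tmodMap A (t ∘ₗ Formal2.quotPowTrans A I M (n + d)) =
            Formal2.tmodMap A (Formal2.quotPowTrans A I M (n + d)) ≫ Formal2.tmodMap A t := by
          unfold Formal2.tmodMap
          rw [h0]
          exact tilde.map_comp _ _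
        rw [h1]
        change Scheme.Modules.Hom.app (Formal2.tmodMap A t) _
          (Scheme.Modules.Hom.app (Formal2.tmodMap A (Formal2.quotPowTrans A I M (n + d))) _
            (x (n + d + 1))) = x n
        rw [hx (n + d)]
        exact htx
  obtain ⟨d, rfl⟩ := Nat.exists_eq_add_of_le hnm
  obtain ⟨t, ht, htx⟩ := key d
  rw [← htx]
  haveI := hP (n + d)
  refine tilde_map_app_eq_zero (R := CommRingCat.of A)
    (ModuleCat.of A (Formal2.quotPow A I M (n + d))) (ModuleCat.of A (Formal2.quotPow A I M n))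
    (ModuleCat.ofHom t) (P (n + d)) (ℓ (n + d)) ?_ f (x (n + d)) (hx0 (n + d))
  intro q hq
  obtain ⟨y, rfl⟩ := Submodule.Quotient.mk_surjective _ q
  have h1 : (ℓ (n + d)).hom (Submodule.Quotient.mk y) = (π (n + d)).hom y := by
    rw [← hℓ (n + d)]
    rfl
  have h2 : y ∈ LinearMap.ker (π (n + d)).hom := by
    rw [LinearMap.mem_ker, ← h1]
    exact hq
  have h3 := hker h2
  rw [LinearMap.mem_ker]
  change t (Submodule.Quotient.mk y) = 0
  rw [ht y, Submodule.Quotient.mk_eq_zero]
  exact h3

open Groth.Agent.Lib.Helper1.AffFormal in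
/-- if some kernel of `M ⟶ H⁰(U, G_m)` lies in `I^(n+1) M`, then `(M/I^(n+1)M)~|_U` is coherent. -/
theorem isCoh_restrict_quot [IsNoetherianRing A] (U : (Spec (CommRingCat.of A)).Opens)
    (G : ℕᵒᵖ ⥤ (U : Scheme.{u}).Modules) (hG : ∀ n, Coh.IsCoh (G.obj (op n)))
    (M : Type u) [AddCommGroup M] [Module A M] (n m : ℕ)
    (π : ModuleCat.of A M ⟶ (Algz.sectMod A U G).obj (op m))
    (hker : LinearMap.ker π.hom ≤ I ^ (n + 1) • (⊤ : Submodule A M)) :
    Coh.IsCoh ((Scheme.Modules.restrictFunctor U.ι).obj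
      (Formal2.tmod A (Formal2.quotPow A I M n))) := by
  classical
  have hU : IsCompact ((U : (Spec (CommRingCat.of A)).Opens) : Set (Spec (CommRingCat.of A))) :=
    (TopologicalSpace.NoetherianSpace.isCompact _)
  haveI : CompactSpace (U : Scheme.{u}) := isCompact_iff_compactSpace.mp hU
  haveI : QuasiCompact U.ι := inferInstance
  let Pm : (Spec (CommRingCat.of A)).Modules := (Scheme.Modules.pushforward U.ι).obj (G.obj (op m))
  haveI : (G.obj (op m)).IsQuasicoherent := (hG m).1
  haveI : (G.obj (op m)).IsFiniteType := (hG m).2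
  haveI hPq : Pm.IsQuasicoherent :=
    Groth.Agent.Lib.Helper3.QCSec.isQuasicoherent_pushforward U.ι (G.obj (op m))
  let Γm : ModuleCat.{u} A := (ΓA A).obj Pm
  let π' : ModuleCat.of A M ⟶ Γm := π
  let L : ModuleCat.{u} A ⥤ (U : Scheme.{u}).Modules := tildeA A ⋙ Scheme.Modules.restrictFunctor U.ι
  let adj : L ⊣ Scheme.Modules.pushforward U.ι ⋙ ΓA A :=
    (adjA A).comp (Scheme.Modules.restrictAdjunction U.ι)
  haveI : L.IsLeftAdjoint := adj.isLeftAdjoint
  have hLq : ∀ N : ModuleCat.{u} A, (L.obj N).IsQuasicoherent := fun N => by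
    haveI : ((tildeA A).obj N).IsQuasicoherent := isQuasicoherent_tilde (CommRingCat.of A) N
    exact Scheme.Modules.isQuasicoherent_restrictFunctor U.ι ((tildeA A).obj N)
  -- `L Γm ≅ G_m`
  have hc : IsIso (adj.counit.app (G.obj (op m))) := by
    haveI h1 : IsIso ((adjA A).counit.app Pm) := isIso_counit Pm
    haveI h2 : IsIso ((Scheme.Modules.restrictAdjunction U.ι).counit.app (G.obj (op m))) :=
      inferInstance
    rw [Adjunction.comp_counit_app]
    infer_instance
  haveI hLΓq : (L.obj Γm).IsQuasicoherent := hLq Γm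
  haveI hLΓft : (L.obj Γm).IsFiniteType := by
    haveI : Epi (inv (adj.counit.app (G.obj (op m)))) := inferInstance
    exact @Groth.Agent.Lib.Helper3.QCProps.isFiniteType_of_epi _ (G.obj (op m)) (L.obj Γm)
      (inv (adj.counit.app (G.obj (op m)))) inferInstance inferInstance
  -- the image of `M`
  let Im : ModuleCat.{u} A := ModuleCat.of A (LinearMap.range π'.hom)
  let ι : Im ⟶ Γm := ModuleCat.ofHom (X := LinearMap.range π'.hom) (Y := ↑Γm)
    (LinearMap.range π'.hom).subtype
  haveI : Mono ι := by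
    rw [ModuleCat.mono_iff_injective]
    exact Subtype.val_injective
  haveI : Mono ((tildeA A).map ι) :=
    Groth.Agent.Lib.Helper14.mono_tilde_map (R := CommRingCat.of A) ι
  haveI : Mono (L.map ι) :=
    Groth.Agent.Lib.Helper3.QCProps.mono_restrict_map U.ι ((tildeA A).map ι)
  haveI hImq : (L.obj Im).IsQuasicoherent := hLq Im
  haveI hImft : (L.obj Im).IsFiniteType :=
    Groth.Agent.Lib.Helper3.QCProps.isFiniteType_of_mono (L.map ι)
  -- the quotient map from the image
  have hs : Function.Surjective π'.hom.rangeRestrict := LinearMap.surjective_rangeRestrict _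
  have hle : LinearMap.ker π'.hom.rangeRestrict ≤ LinearMap.ker (Formal2.quotPowπ A I M n) := by
    rw [LinearMap.ker_rangeRestrict, Submodule.ker_mkQ]
    exact hker
  obtain ⟨k, hk⟩ := exists_factor π'.hom.rangeRestrict hs (Formal2.quotPowπ A I M n) hle
  let ρ : Im ⟶ ModuleCat.of A (Formal2.quotPow A I M n) :=
    ModuleCat.ofHom (X := LinearMap.range π'.hom) (Y := Formal2.quotPow A I M n) k
  haveI : Epi ρ := by
    rw [ModuleCat.epi_iff_surjective]
    intro q
    obtain ⟨y, rfl⟩ := Submodule.Quotient.mk_surjective _ q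
    exact ⟨π'.hom.rangeRestrict y, hk y⟩
  haveI : (tildeA A).IsLeftAdjoint := (adjA A).isLeftAdjoint
  haveI : (Scheme.Modules.restrictFunctor U.ι).IsLeftAdjoint :=
    (Scheme.Modules.restrictAdjunction U.ι).isLeftAdjoint
  haveI h1 : Epi ((tildeA A).map ρ) := inferInstance
  haveI h2 : Epi ((Scheme.Modules.restrictFunctor U.ι).map ((tildeA A).map ρ)) := inferInstance
  exact ⟨hLq _, @Groth.Agent.Lib.Helper3.QCProps.isFiniteType_of_epi _ (L.obj Im) _
    ((Scheme.Modules.restrictFunctor U.ι).map ((tildeA A).map ρ)) h2 hImft⟩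

end Groth.Agent.Lib.Helper1.AlgzLimTop
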