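import Mathlib
import Groth.Prelude.Def_ARSys
import Groth.Agent.Lib.Helper20.ArtSys

/-!
# Mittag-Leffler systems of modules: the limit surjects onto the stable images
-/

set_option autoImplicit false

universe u

open CategoryTheory CategoryTheory.Limits Opposite

namespace Groth.Agent.Lib.Helper1.MLLimit

open Groth.Agent.Lib.Helper20.ArtSys

variable {R : Type u} [CommRing R] (X : ARSys.PS (ModuleCat.{u} R))

lemma exists_stable_of_isML (hX : ARSys.IsML X) (n : ℕ) :
    ∃ r : ℕ, ∀ (m : ℕ) (h : n ≤ m), n + r ≤ m →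
      LinearMap.range (ARSys.tr X h).hom =
        LinearMap.range (ARSys.tr X (Nat.le_add_right n r)).hom := by
  obtain ⟨r, hr⟩ := hX n
  refine ⟨r, fun m h hm => ?_⟩
  obtain ⟨s, rfl⟩ : ∃ s, m = n + s := ⟨m - n, by omega⟩
  exact (imageSubobject_eq_iff _ _).1 (hr s (by omega))

lemma map_eq_tr {a b : ℕ} (f : (op a : ℕᵒᵖ) ⟶ op b) : X.map f = ARSys.tr X (leOfHom f.unop) := by
  congr 1

/-- For a Mittag-Leffler system of modules, every element of the stable image at level `n` lifts to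
the limit. -/
theorem exists_limit_lift (hX : ARSys.IsML X) (n : ℕ) :
    ∃ r : ℕ, ∀ y ∈ LinearMap.range (ARSys.tr X (Nat.le_add_right n r)).hom,
      ∃ z : ↑(limit X), (limit.π X (op n)).hom z = y := by
  choose r hr using exists_stable_of_isML X hX
  let N : ∀ k, Submodule R (X.obj (op k)) := fun k =>
    LinearMap.range (ARSys.tr X (Nat.le_add_right k (r k))).hom
  have hsurj : ∀ k (y : N k), ∃ y' : N (k + 1), (ARSys.tr X (Nat.le_succ k)).hom y'.1 = y.1 := by
    intro k y
    have hm1 : k + r k ≤ max (k + r k) (k + 1 + r (k + 1)) := le_max_left _ _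
    have hm2 : k + 1 + r (k + 1) ≤ max (k + r k) (k + 1 + r (k + 1)) := le_max_right _ _
    have hk : k ≤ max (k + r k) (k + 1 + r (k + 1)) := le_trans (Nat.le_add_right k (r k)) hm1
    have hk1 : k + 1 ≤ max (k + r k) (k + 1 + r (k + 1)) :=
      le_trans (Nat.le_add_right (k + 1) (r (k + 1))) hm2
    have hy : y.1 ∈ LinearMap.range (ARSys.tr X hk).hom := by
      rw [hr k _ hk hm1]; exact y.2
    obtain ⟨x, hx⟩ := hy
    refine ⟨⟨(ARSys.tr X hk1).hom x, ?_⟩, ?_⟩
    · change _ ∈ LinearMap.range (ARSys.tr X (Nat.le_add_right (k + 1) (r (k + 1)))).hom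
      rw [← hr (k + 1) _ hk1 hm2]
      exact ⟨x, rfl⟩
    · change (ARSys.tr X (Nat.le_succ k)).hom ((ARSys.tr X hk1).hom x) = y.1
      rw [tr_tr_apply, ← hx]
  choose lift hlift using hsurj
  refine ⟨r n, fun y hy => ?_⟩
  let z : ∀ k, N (n + k) := fun k =>
    Nat.rec (motive := fun k => N (n + k)) ⟨y, hy⟩ (fun k zk => lift (n + k) zk) k
  have hz0 : (z 0).1 = y := rfl
  have hzs : ∀ k, (ARSys.tr X (Nat.le_succ (n + k))).hom (z (k + 1)).1 = (z k).1 :=
    fun k => hlift (n + k) (z k)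
  have hzc : ∀ a b (h : b ≤ a), (ARSys.tr X (Nat.add_le_add_left h n)).hom (z a).1 = (z b).1 := by
    intro a b h
    induction a, h using Nat.le_induction with
    | base => exact tr_refl_apply X _ _
    | succ a h ih =>
      rw [← ih, ← hzs a, tr_tr_apply]
  let s : (X ⋙ forget (ModuleCat R)).sections :=
    ⟨fun j => (ARSys.tr X (Nat.le_add_left j.unop n)).hom (z j.unop).1, by
      intro j j' f
      obtain ⟨a⟩ := j
      obtain ⟨b⟩ := j'
      have hba : b ≤ a := leOfHom f.unop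
      change (X.map f).hom ((ARSys.tr X (Nat.le_add_left a n)).hom (z a).1) =
        (ARSys.tr X (Nat.le_add_left b n)).hom (z b).1
      rw [map_eq_tr X f, tr_tr_apply, ← hzc a b hba, tr_tr_apply]⟩
  let hl := isLimitOfPreserves (forget (ModuleCat R)) (limit.isLimit X)
  refine ⟨(Types.isLimitEquivSections hl).symm s, ?_⟩
  have h1 := Types.isLimitEquivSections_symm_apply hl s (op n)
  refine h1.trans ?_
  change (ARSys.tr X (Nat.le_add_left n n)).hom (z n).1 = y
  rw [← hz0, ← hzc n 0 (Nat.zero_le n)]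

/-- Let `L ⊣ Rf` be an adjunction with `Rf` valued in modules, and `G` a strict system such that all
counits at the `G_n` are epimorphisms and `G ⋙ Rf` is Mittag-Leffler.  Then the adjoint of the
projection from the limit of `G ⋙ Rf` to its `n`-th term is an epimorphism `L(lim) ⟶ G_n`. -/
theorem epi_homEquiv_symm_limit_π {D : Type*} [Category D] {L : ModuleCat.{u} R ⥤ D}
    {Rf : D ⥤ ModuleCat.{u} R} (adj : L ⊣ Rf) (G : ℕᵒᵖ ⥤ D)
    (hG : ∀ (n m : ℕ) (h : n ≤ m), Epi (ARSys.tr G h))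
    (hc : ∀ n : ℕ, Epi (adj.counit.app (G.obj (op n)))) (hML : ARSys.IsML (G ⋙ Rf)) (n : ℕ) :
    Epi ((adj.homEquiv _ _).symm (limit.π (G ⋙ Rf) (op n))) := by
  obtain ⟨r, hr⟩ := exists_limit_lift (G ⋙ Rf) hML n
  haveI := adj.isLeftAdjoint
  haveI : L.PreservesEpimorphisms := inferInstance
  let π := limit.π (G ⋙ Rf) (op n)
  let t : (G ⋙ Rf).obj (op (n + r)) ⟶ (G ⋙ Rf).obj (op n) := ARSys.tr (G ⋙ Rf) (Nat.le_add_right n r)
  have hrange : ∀ x, t.hom x ∈ LinearMap.range π.hom := fun x => by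
    obtain ⟨z, hz⟩ := hr (t.hom x) ⟨x, rfl⟩
    exact ⟨z, hz⟩
  let Im : ModuleCat.{u} R := ModuleCat.of R (LinearMap.range π.hom)
  let e₁ : limit (G ⋙ Rf) ⟶ Im := ModuleCat.ofHom π.hom.rangeRestrict
  let m : Im ⟶ (G ⋙ Rf).obj (op n) := ModuleCat.ofHom (LinearMap.range π.hom).subtype
  let e₂ : (G ⋙ Rf).obj (op (n + r)) ⟶ Im :=
    ModuleCat.ofHom (LinearMap.codRestrict (LinearMap.range π.hom) t.hom hrange)
  have h1 : e₁ ≫ m = π := by
    apply ModuleCat.hom_ext
    apply LinearMap.ext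
    intro x
    rfl
  have h2 : e₂ ≫ m = t := by
    apply ModuleCat.hom_ext
    apply LinearMap.ext
    intro x
    rfl
  haveI : Epi e₁ := by
    rw [ModuleCat.epi_iff_surjective]
    exact LinearMap.surjective_rangeRestrict _
  have hnat : L.map t ≫ adj.counit.app (G.obj (op n)) =
      adj.counit.app (G.obj (op (n + r))) ≫ ARSys.tr G (Nat.le_add_right n r) :=
    adj.counit.naturality (ARSys.tr G (Nat.le_add_right n r))
  haveI : Epi (L.map m ≫ adj.counit.app (G.obj (op n))) := by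
    haveI : Epi (L.map e₂ ≫ (L.map m ≫ adj.counit.app (G.obj (op n)))) := by
      rw [← Category.assoc, ← L.map_comp, h2, hnat]
      haveI := hc (n + r)
      haveI := hG n (n + r) (Nat.le_add_right n r)
      exact epi_comp _ _
    exact epi_of_epi (L.map e₂) _
  have h3 : (adj.homEquiv _ _).symm (limit.π (G ⋙ Rf) (op n)) =
      L.map e₁ ≫ (L.map m ≫ adj.counit.app (G.obj (op n))) := by
    rw [Adjunction.homEquiv_counit, ← Category.assoc, ← L.map_comp, h1]
  rw [h3]
  exact epi_comp _ _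

end Groth.Agent.Lib.Helper1.MLLimit
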