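import Mathlib
import Groth.Prelude.Def_Algz
import Groth.Prelude.Def_Formal2
import Groth.Agent.Lib.Helper1.MLLimit
import Groth.Agent.Lib.Helper1.LimProIso
import Groth.Agent.Lib.Helper1.AffFormal
import Groth.Agent.Lib.Helper1.CohFormalPull
import Groth.Agent.Lib.Helper1.AlgzExt

/-!
# Mittag-Leffler systems whose limit topology is adic are pro-isomorphic to `(M/I^(n+1)M)`
-/

set_option autoImplicit false
set_option linter.style.haveILetI false

universe u

open CategoryTheory CategoryTheory.Limits AlgebraicGeometry Opposite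

namespace Groth.Agent.Lib.Helper1.AlgzML

open Groth.Agent.Lib.Helper20.ArtSys

variable {A : Type u} [CommRing A] (I : Ideal A)

section QuotSys

variable (M : Type u) [AddCommGroup M] [Module A M]

/-- the transition map `M/I^(a+1)M → M/I^(b+1)M` for `b ≤ a`. -/
noncomputable def quotMap {a b : ℕ} (h : b ≤ a) :
    Formal2.quotPow A I M a →ₗ[A] Formal2.quotPow A I M b :=
  Submodule.mapQ _ _ LinearMap.id (by
    rw [Submodule.comap_id]
    exact Submodule.smul_mono_left (Ideal.pow_le_pow_right (Nat.succ_le_succ h)))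

theorem quotMap_mk {a b : ℕ} (h : b ≤ a) (y : M) :
    quotMap I M h (Submodule.Quotient.mk y) = Submodule.Quotient.mk y := rfl

theorem quotMap_surjective {a b : ℕ} (h : b ≤ a) : Function.Surjective (quotMap I M h) := by
  intro q
  obtain ⟨y, rfl⟩ := Submodule.Quotient.mk_surjective _ q
  exact ⟨Submodule.Quotient.mk y, rfl⟩

/-- the inverse system `n ↦ M/I^(n+1)M` of `A`-modules. -/
noncomputable def quotSys : ℕᵒᵖ ⥤ ModuleCat.{u} A where
  obj n := ModuleCat.of A (Formal2.quotPow A I M n.unop)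
  map {a b} f := ModuleCat.ofHom (quotMap I M (leOfHom f.unop))
  map_id a := by
    apply ModuleCat.hom_ext
    apply LinearMap.ext
    intro q
    obtain ⟨y, rfl⟩ := Submodule.Quotient.mk_surjective _ q
    rw [ModuleCat.hom_ofHom, ModuleCat.hom_id, LinearMap.id_apply]
    exact quotMap_mk I M (le_refl _) y
  map_comp {a b c} f g := by
    apply ModuleCat.hom_ext
    apply LinearMap.ext
    intro q
    obtain ⟨y, rfl⟩ := Submodule.Quotient.mk_surjective _ q
    rw [ModuleCat.hom_comp, LinearMap.comp_apply, ModuleCat.hom_ofHom, ModuleCat.hom_ofHom,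
      ModuleCat.hom_ofHom, quotMap_mk, quotMap_mk, quotMap_mk]

theorem quotSys_tr {n k : ℕ} (h : n ≤ k) (y : M) :
    (ARSys.tr (quotSys I M) h).hom (Submodule.Quotient.mk y) = Submodule.Quotient.mk y :=
  quotMap_mk I M h y

end QuotSys

section ProIso

theorem isProIsomorphic_quotSys (X : ARSys.PS (ModuleCat.{u} A)) (hML : ARSys.IsML X)
    (hkill : ∀ (n : ℕ) (a : A), a ∈ I ^ (n + 1) → ∀ x : X.obj (op n), a • x = 0)
    (hb : ∀ k : ℕ, ∃ n : ℕ, LinearMap.ker (limit.π X (op n)).hom ≤
      I ^ k • (⊤ : Submodule A ↑(limit X))) :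
    Algz.IsProIsomorphic X (quotSys I ↑(limit X)) := by
  classical
  have hπtr : ∀ {n k : ℕ} (h : n ≤ k) (z : ↑(limit X)),
      (ARSys.tr X h).hom ((limit.π X (op k)).hom z) = (limit.π X (op n)).hom z :=
    fun h z => Groth.Agent.Lib.Helper1.LimProIso.limit_π_tr X z h
  have hkermono : ∀ {n k : ℕ} (_ : n ≤ k), LinearMap.ker (limit.π X (op k)).hom ≤
      LinearMap.ker (limit.π X (op n)).hom := by
    intro n k h z hz
    rw [LinearMap.mem_ker] at hz ⊢
    rw [← hπtr h z, hz, map_zero]
  choose j₀ hj₀ using hb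
  let j : ℕ → ℕ := fun n => (Finset.range (n + 1)).sup (fun i => max i (j₀ (i + 1)))
  have hjmono : Monotone j := fun a b hab =>
    Finset.sup_mono (Finset.range_mono (Nat.succ_le_succ hab))
  have hj1 : ∀ n, max n (j₀ (n + 1)) ≤ j n := fun n =>
    Finset.le_sup (f := fun i => max i (j₀ (i + 1))) (Finset.mem_range.2 (Nat.lt_succ_self n))
  have hjn : ∀ n, n ≤ j n := fun n => le_trans (le_max_left _ _) (hj1 n)
  have hjker : ∀ n, LinearMap.ker (limit.π X (op (j n))).hom ≤
      I ^ (n + 1) • (⊤ : Submodule A ↑(limit X)) := fun n =>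
    le_trans (hkermono (le_trans (le_max_right _ _) (hj1 n))) (hj₀ (n + 1))
  choose r hr using Groth.Agent.Lib.Helper1.MLLimit.exists_limit_lift X hML
  let m : ℕ → ℕ := fun n => (Finset.range (n + 1)).sup (fun i => j i + r (j i))
  have hmmono : Monotone m := fun a b hab =>
    Finset.sup_mono (Finset.range_mono (Nat.succ_le_succ hab))
  have hm1 : ∀ n, j n + r (j n) ≤ m n := fun n =>
    Finset.le_sup (f := fun i => j i + r (j i)) (Finset.mem_range.2 (Nat.lt_succ_self n))
  have hjm : ∀ n, j n ≤ m n := fun n => le_trans (Nat.le_add_right _ _) (hm1 n)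
  have hnm : ∀ n, n ≤ m n := fun n => le_trans (hjn n) (hjm n)
  have hF1 : ∀ n (x : X.obj (op (m n))), ∃ z : ↑(limit X),
      (limit.π X (op (j n))).hom z = (ARSys.tr X (hjm n)).hom x := by
    intro n x
    apply hr (j n)
    exact ⟨(ARSys.tr X (hm1 n)).hom x, tr_tr_apply X _ _ x⟩
  have hα : ∀ n, ∃ α : ↑(X.obj (op (m n))) →ₗ[A] Formal2.quotPow A I ↑(limit X) n,
      ∀ x z, (limit.π X (op (j n))).hom z = (ARSys.tr X (hjm n)).hom x →
        α x = Submodule.Quotient.mk z := by
    intro n
    have hle : LinearMap.ker (limit.π X (op (j n))).hom.rangeRestrict ≤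
        LinearMap.ker (Formal2.quotPowπ A I ↑(limit X) n) := by
      rw [LinearMap.ker_rangeRestrict, Submodule.ker_mkQ]
      exact hjker n
    obtain ⟨k, hk⟩ := Groth.Agent.Lib.Helper1.AffFormal.exists_factor
      (limit.π X (op (j n))).hom.rangeRestrict (LinearMap.surjective_rangeRestrict _) _ hle
    have hmem : ∀ x, (ARSys.tr X (hjm n)).hom x ∈ LinearMap.range (limit.π X (op (j n))).hom :=
      fun x => by obtain ⟨z, hz⟩ := hF1 n x; exact ⟨z, hz⟩
    refine ⟨k ∘ₗ LinearMap.codRestrict (LinearMap.range (limit.π X (op (j n))).hom)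
      (ARSys.tr X (hjm n)).hom hmem, fun x z hz => ?_⟩
    rw [LinearMap.comp_apply]
    refine Eq.trans ?_ (hk z)
    congr 1
    apply Subtype.ext
    exact hz.symm
  choose α hα using hα
  let a : DerCA.reindex X hmmono ⟶ quotSys I ↑(limit X) :=
    { app := fun n => ModuleCat.ofHom (α n.unop)
      naturality := by
        intro n' n f
        induction n' using Opposite.rec with | _ n' => ?_
        induction n using Opposite.rec with | _ n => ?_
        have hnn : n ≤ n' := leOfHom f.unop
        apply ModuleCat.hom_ext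
        apply LinearMap.ext
        intro x
        obtain ⟨z, hz⟩ := hF1 n' x
        have h1 : (DerCA.reindex X hmmono).map f = ARSys.tr X (hmmono hnn) := rfl
        change α n (((DerCA.reindex X hmmono).map f).hom x) =
          quotMap I ↑(limit X) hnn (α n' x)
        rw [h1, hα n' x z hz, quotMap_mk]
        apply hα n
        exact (hπtr (hjmono hnn) z).symm.trans
          ((congrArg (ARSys.tr X (hjmono hnn)).hom hz).trans
            ((tr_tr_apply X _ _ x).trans (tr_tr_apply X (hjm n) (hmmono hnn) x).symm)) }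
  refine ⟨m, hmmono, hnm, a, ?_⟩
  intro n
  have hle : LinearMap.ker (Formal2.quotPowπ A I ↑(limit X) (m n)) ≤
      LinearMap.ker (limit.π X (op (m n))).hom := by
    rw [Submodule.ker_mkQ, Submodule.smul_le]
    intro c hc y _
    rw [LinearMap.mem_ker, map_smul]
    exact hkill (m n) c hc _
  obtain ⟨ℓ, hℓ⟩ := Groth.Agent.Lib.Helper1.AffFormal.exists_factor
    (Formal2.quotPowπ A I ↑(limit X) (m n)) (Submodule.mkQ_surjective _)
    (limit.π X (op (m n))).hom hle
  refine ⟨m n, hnm n, ModuleCat.ofHom ℓ, ?_, ?_⟩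
  · apply ModuleCat.hom_ext
    apply LinearMap.ext
    intro x
    obtain ⟨z, hz⟩ := hF1 (m n) x
    change ℓ (α (m n) x) = (ARSys.tr X (hmmono (hnm n))).hom x
    rw [hα (m n) x z hz]
    change ℓ (Formal2.quotPowπ A I ↑(limit X) (m n) z) = _
    rw [hℓ z]
    exact (hπtr (hjn (m n)) z).symm.trans
      ((congrArg (ARSys.tr X (hjn (m n))).hom hz).trans (tr_tr_apply X _ _ x))
  · apply ModuleCat.hom_ext
    apply LinearMap.ext
    intro q
    obtain ⟨z, rfl⟩ := Submodule.Quotient.mk_surjective _ q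
    change α n (ℓ (Formal2.quotPowπ A I ↑(limit X) (m n) z)) =
      quotMap I ↑(limit X) (hnm n) (Submodule.Quotient.mk z)
    rw [hℓ z, hα n _ z (hπtr (hjm n) z).symm]
    rfl

end ProIso

section CohFormal

open Groth.Agent.Lib.Helper1.AffFormal Groth.Agent.Lib.Helper14.ProIsoAdic

attribute [local instance 2000] selfOver

theorem unitA_surjective (Q : ModuleCat.{u} A) : Function.Surjective ((adjA A).unit.app Q).hom :=
  ((ConcreteCategory.isIso_iff_bijective ((adjA A).unit.app Q)).mp inferInstance).2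

/-- universal property of the tilde of a surjection whose kernel lies in `J N`. -/
theorem tilde_factor {N N' : ModuleCat.{u} A} (p : N ⟶ N') (hp : Function.Surjective p.hom)
    (J : Ideal A) (hker : LinearMap.ker p.hom ≤ J • (⊤ : Submodule A N))
    (T : (Spec (CommRingCat.of A)).Modules) (φ : (tildeA A).obj N ⟶ T) (hφ : Kills J φ) :
    ∃ ψ : (tildeA A).obj N' ⟶ T, (tildeA A).map p ≫ ψ = φ := by
  let φ' : N ⟶ (ΓA A).obj T := (adjA A).homEquiv _ _ φ
  have hφ' : φ' = (adjA A).unit.app N ≫ (ΓA A).map φ := Adjunction.homEquiv_unit _ _ _ _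
  have hle : LinearMap.ker p.hom ≤ LinearMap.ker φ'.hom := by
    refine le_trans hker ?_
    rw [Submodule.smul_le]
    intro a ha y _
    rw [LinearMap.mem_ker, hφ']
    change ((ΓA A).map φ).hom (((adjA A).unit.app N).hom (a • y)) = 0
    rw [map_smul, ← ΓA_smulMod]
    change ((ΓA A).map (Formal.smulMod A _ a) ≫ (ΓA A).map φ).hom _ = 0
    rw [← Functor.map_comp, hφ a ha, Functor.map_zero]
    rfl
  obtain ⟨k, hk⟩ := exists_factor p.hom hp φ'.hom hle
  let ψ' : N' ⟶ (ΓA A).obj T := ModuleCat.ofHom (X := ↑N') (Y := ↑((ΓA A).obj T)) k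
  have hψ' : p ≫ ψ' = φ' := by
    apply ModuleCat.hom_ext
    apply LinearMap.ext
    intro x
    exact hk x
  refine ⟨((adjA A).homEquiv _ _).symm ψ', ?_⟩
  rw [← Adjunction.homEquiv_naturality_left_symm, hψ']
  exact Equiv.symm_apply_apply _ φ

theorem killedBy_tilde (J : Ideal A) (N : ModuleCat.{u} A) (hN : ∀ a ∈ J, ∀ y : N, a • y = 0) :
    Formal.KilledBy J ((tildeA A).obj N) := by
  intro a ha
  haveI : ((tildeA A).obj N).IsQuasicoherent := isQuasicoherent_tilde (CommRingCat.of A) N
  apply ΓA_map_injective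
  rw [Functor.map_zero]
  apply ModuleCat.hom_ext
  apply LinearMap.ext
  intro x
  rw [ΓA_smulMod]
  obtain ⟨y, rfl⟩ := unitA_surjective N x
  rw [← map_smul, hN a ha y, map_zero]
  rfl

theorem ker_quotMap_le (M : Type u) [AddCommGroup M] [Module A M] (n : ℕ) :
    LinearMap.ker (quotMap I M (Nat.le_succ n)) ≤
      I ^ (n + 1) • (⊤ : Submodule A (Formal2.quotPow A I M (n + 1))) := by
  intro q hq
  obtain ⟨y, rfl⟩ := Submodule.Quotient.mk_surjective _ q
  rw [LinearMap.mem_ker, quotMap_mk] at hq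
  have hy : y ∈ I ^ (n + 1) • (⊤ : Submodule A M) := by
    rw [← Submodule.Quotient.mk_eq_zero]
    exact hq
  have h1 : Submodule.map (Formal2.quotPowπ A I M (n + 1)) (I ^ (n + 1) • (⊤ : Submodule A M)) =
      I ^ (n + 1) • (⊤ : Submodule A (Formal2.quotPow A I M (n + 1))) := by
    rw [Submodule.map_smul'', Submodule.map_top, Submodule.range_mkQ]
  rw [← h1]
  exact Submodule.mem_map_of_mem hy

theorem isCohFormal_tilde_quotSys [IsNoetherianRing A] (M : Type u) [AddCommGroup M] [Module A M]
    (hfin : ∀ n, Module.Finite A (Formal2.quotPow A I M n)) :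
    Formal.IsCohFormal I (quotSys I M ⋙ tildeA A) := by
  apply Groth.Agent.Lib.Helper1.CohFormalPull.isCohFormal_of_quotProp
  · intro n
    exact ⟨isQuasicoherent_tilde (CommRingCat.of A) _,
      isFiniteType_tilde (CommRingCat.of A) _ (hfin n)⟩
  · intro n
    apply killedBy_tilde
    intro a ha q
    have h0 : ∀ q' : Formal2.quotPow A I M n, a • q' = 0 := by
      intro q'
      obtain ⟨y, rfl⟩ := Submodule.Quotient.mk_surjective _ q'
      rw [← Submodule.Quotient.mk_smul, Submodule.Quotient.mk_eq_zero]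
      exact Submodule.smul_mem_smul ha Submodule.mem_top
    exact h0 q
  · intro n
    have hs : Function.Surjective (ARSys.tr (quotSys I M) (Nat.le_succ n)).hom :=
      quotMap_surjective I M (Nat.le_succ n)
    refine ⟨?_, fun T φ hφ => ?_⟩
    · haveI : Epi (ARSys.tr (quotSys I M) (Nat.le_succ n)) :=
        (ModuleCat.epi_iff_surjective _).2 hs
      change Epi ((tildeA A).map (ARSys.tr (quotSys I M) (Nat.le_succ n)))
      infer_instance
    · exact tilde_factor (ARSys.tr (quotSys I M) (Nat.le_succ n)) hs (I ^ (n + 1))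
        (ker_quotMap_le I M n) T φ hφ

end CohFormal

section Main

open Groth.Agent.Lib.Helper1.AffFormal Groth.Agent.Lib.Helper14.ProIsoAdic

attribute [local instance 2000] selfOver

theorem sectMod_smul_eq_zero (U : (Spec (CommRingCat.of A)).Opens) (N : (U : Scheme.{u}).Modules)
    (J : Ideal A) (hN : Formal.KilledBy J N) (a : A) (ha : a ∈ J)
    (x : ↑((moduleSpecΓFunctor (R := CommRingCat.of A)).obj
      ((Scheme.Modules.pushforward U.ι).obj N))) : a • x = 0 := by
  have h1 : Formal.KilledBy J ((Scheme.Modules.pushforward U.ι).obj N) := by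
    intro b hb
    rw [← Groth.Agent.Lib.Helper1.CohFormalPull.pushforward_smulMod U.ι (Category.comp_id _) N b,
      hN b hb, Functor.map_zero]
  exact smul_eq_zero_of_killedBy h1 a ha x

theorem canonicallyExtends_of_isML [IsNoetherianRing A] (U : (Spec (CommRingCat.of A)).Opens)
    (G : ℕᵒᵖ ⥤ (U : Scheme.{u}).Modules)
    (hk : ∀ n, Formal.KilledBy (I ^ (n + 1)) (G.obj (op n)))
    (ha : ARSys.IsML (Algz.sectMod A U G))
    (hb : ∀ k : ℕ, ∃ n : ℕ, LinearMap.ker (limit.π (Algz.sectMod A U G) (op n)).hom ≤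
      I ^ k • (⊤ : Submodule A ↑(limit (Algz.sectMod A U G))))
    (hc : ∀ n : ℕ, Module.Finite A
      ↥(LinearMap.range (limit.π (Algz.sectMod A U G) (op n)).hom)) :
    Algz.CanonicallyExtends A I U G := by
  have hkill : ∀ (n : ℕ) (a : A), a ∈ I ^ (n + 1) →
      ∀ x : (Algz.sectMod A U G).obj (op n), a • x = 0 :=
    fun n a ha x => sectMod_smul_eq_zero U (G.obj (op n)) _ (hk n) a ha x
  have hpro := isProIsomorphic_quotSys I (Algz.sectMod A U G) ha hkill hb
  have hfin : ∀ n, Module.Finite A (Formal2.quotPow A I ↑(limit (Algz.sectMod A U G)) n) := by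
    intro n
    obtain ⟨k, hk'⟩ := hb (n + 1)
    have hle : LinearMap.ker (limit.π (Algz.sectMod A U G) (op k)).hom.rangeRestrict ≤
        LinearMap.ker (Formal2.quotPowπ A I ↑(limit (Algz.sectMod A U G)) n) := by
      rw [LinearMap.ker_rangeRestrict, Submodule.ker_mkQ]
      exact hk'
    obtain ⟨t, ht⟩ := exists_factor (limit.π (Algz.sectMod A U G) (op k)).hom.rangeRestrict
      (LinearMap.surjective_rangeRestrict _) _ hle
    haveI := hc k
    refine Module.Finite.of_surjective t (fun q => ?_)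
    obtain ⟨y, rfl⟩ := Submodule.Quotient.mk_surjective _ q
    exact ⟨_, ht y⟩
  refine ⟨quotSys I ↑(limit (Algz.sectMod A U G)) ⋙ tildeA A,
    isCohFormal_tilde_quotSys I _ hfin, ?_⟩
  exact Groth.Agent.Lib.Helper1.AlgzExt.isProIsomorphic_of_iso_of_functor (tildeA A)
    (Algz.sectMod A U G) (quotSys I ↑(limit (Algz.sectMod A U G))) (Algz.sectSys A U G)
    (Iso.refl _) hpro

end Main
end Groth.Agent.Lib.Helper1.AlgzML
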