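import Mathlib
import Groth.Prelude.Def_Wider
import Groth.Agent.Lib.Helper1.AffFormal
import Groth.Agent.Lib.Helper3.QCProps
import Groth.Agent.Lib.Helper3.QCExact
import Groth.Agent.Lib.Helper14.TildeExact

/-!
# Modules on the punctured spectrum `Spec A ∖ V(𝔞)`: torsion criteria

For an `A`-linear map `φ`, the restriction of `φ~` to `U = Spec A ∖ V(𝔞)` is a monomorphism
(epimorphism) only if the kernel (cokernel) of `φ` is elementwise `f`-power torsion for all `f ∈ 𝔞`,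
and conversely.
-/

set_option autoImplicit false
set_option linter.style.haveILetI false

universe u

open CategoryTheory CategoryTheory.Limits AlgebraicGeometry Opposite

namespace Groth.Agent.Lib.Helper1.PuncTors

open Groth.Agent.Lib.Helper1.AffFormal

variable (A : Type u) [CommRing A] (𝔞 : Ideal A)

theorem basicOpen_le (f : A) (hf : f ∈ 𝔞) :
    (PrimeSpectrum.basicOpen f : (Spec (CommRingCat.of A)).Opens) ≤ LocCoh.puncturedOpen A 𝔞 := by
  intro x hx hz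
  exact hx (hz hf)

theorem exists_basicOpen_mem (x : Spec (CommRingCat.of A)) (hx : x ∈ LocCoh.puncturedOpen A 𝔞) :
    ∃ f ∈ 𝔞, x ∈ (PrimeSpectrum.basicOpen f : (Spec (CommRingCat.of A)).Opens) := by
  by_contra hcon
  push Not at hcon
  apply hx
  intro f hf
  by_contra hfx
  exact hcon f hf hfx

section Sections

variable {X : Scheme.{u}}

theorem sections_eq_zero_of_isZero_restrict (M : X.Modules) (W : X.Opens)
    (h : IsZero ((Scheme.Modules.restrictFunctor W.ι).obj M)) (O : X.Opens) (hO : O ≤ W)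
    (t : Γ(M, O)) : t = 0 := by
  have h1 : ∀ s : Γ(M, W.ι ''ᵁ (W.ι ⁻¹ᵁ O)), s = 0 := by
    intro s
    have h2 : (𝟙 ((Scheme.Modules.restrictFunctor W.ι).obj M)) = 0 := h.eq_of_src _ _
    have h3 := congrArg (fun φ => (Scheme.Modules.Hom.app φ (W.ι ⁻¹ᵁ O)).hom s) h2
    exact h3
  have h4 : W.ι ''ᵁ (W.ι ⁻¹ᵁ O) = O := by
    rw [Scheme.Hom.image_preimage_eq_opensRange_inf, Scheme.Opens.opensRange_ι]
    exact inf_eq_right.mpr hO
  have h5 : ∀ (O₁ O₂ : X.Opens), O₁ = O₂ → (∀ s : Γ(M, O₁), s = 0) → ∀ s : Γ(M, O₂), s = 0 := by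
    rintro _ _ rfl hs
    exact hs
  exact h5 _ _ h4 h1 t

end Sections

theorem ι_image_preimage {X : Scheme.{u}} (W O : X.Opens) (hO : O ≤ W) :
    W.ι ''ᵁ (W.ι ⁻¹ᵁ O) = O := by
  rw [Scheme.Hom.image_preimage_eq_opensRange_inf, Scheme.Opens.opensRange_ι]
  exact inf_eq_right.mpr hO

section General

variable {R : CommRingCat.{u}}

theorem toOpen_eq_zero_iff (Q : ModuleCat.{u} R) (f : R) (q : Q) :
    (tilde.toOpen Q (PrimeSpectrum.basicOpen f)).hom q = 0 ↔ ∃ k : ℕ, f ^ k • q = 0 := by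
  rw [IsLocalizedModule.eq_zero_iff (Submonoid.powers f)]
  constructor
  · rintro ⟨⟨c, k, rfl⟩, hc⟩
    exact ⟨k, hc⟩
  · rintro ⟨k, hk⟩
    exact ⟨⟨f ^ k, k, rfl⟩, hk⟩

theorem sections_tilde_eq_zero (Q : ModuleCat.{u} R) (f : R) (h : ∀ q : Q, ∃ k : ℕ, f ^ k • q = 0)
    (t : ↑((modulesSpecToSheaf.obj (tilde Q)).presheaf.obj (op (PrimeSpectrum.basicOpen f)))) :
    t = 0 := by
  obtain ⟨⟨q, c⟩, hq⟩ := IsLocalizedModule.surj (Submonoid.powers f)
    (tilde.toOpen Q (PrimeSpectrum.basicOpen f)).hom t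
  have h1 : (tilde.toOpen Q (PrimeSpectrum.basicOpen f)).hom q = 0 :=
    (toOpen_eq_zero_iff Q f q).mpr (h q)
  have h2 : c • t = 0 := hq.trans h1
  have hu := IsLocalizedModule.map_units (tilde.toOpen Q (PrimeSpectrum.basicOpen f)).hom c
  have hinj := ((Module.End.isUnit_iff _).mp hu).injective
  apply hinj
  rw [map_zero]
  exact h2

end General

section Tors

/-- the functor `N ↦ N~|_U`. -/
noncomputable def L : ModuleCat.{u} A ⥤ (↑(LocCoh.puncturedOpen A 𝔞) : Scheme.{u}).Modules :=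
  tildeA A ⋙ Scheme.Modules.restrictFunctor (LocCoh.puncturedOpen A 𝔞).ι

noncomputable def adjL : L A 𝔞 ⊣
    Scheme.Modules.pushforward (LocCoh.puncturedOpen A 𝔞).ι ⋙ ΓA A :=
  (adjA A).comp (Scheme.Modules.restrictAdjunction (LocCoh.puncturedOpen A 𝔞).ι)

instance : (L A 𝔞).IsLeftAdjoint := (adjL A 𝔞).isLeftAdjoint

theorem tors_of_isZero (Q : ModuleCat.{u} A) (h : IsZero ((L A 𝔞).obj Q)) (q : Q) (f : A)
    (hf : f ∈ 𝔞) : ∃ k : ℕ, f ^ k • q = 0 := by
  have h0 : ∀ t : Γ((tildeA A).obj Q, (PrimeSpectrum.basicOpen f : (Spec (CommRingCat.of A)).Opens)),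
      t = 0 :=
    sections_eq_zero_of_isZero_restrict _ (LocCoh.puncturedOpen A 𝔞) h _ (basicOpen_le A 𝔞 f hf)
  have h1 : (tilde.toOpen (R := CommRingCat.of A) Q (PrimeSpectrum.basicOpen f)).hom q = 0 :=
    h0 ((tilde.toOpen (R := CommRingCat.of A) Q (PrimeSpectrum.basicOpen f)).hom q)
  exact (toOpen_eq_zero_iff (R := CommRingCat.of A) Q f q).mp h1

theorem isZero_of_tors (Q : ModuleCat.{u} A) (h : ∀ q : Q, ∀ f ∈ 𝔞, ∃ k : ℕ, f ^ k • q = 0) :
    IsZero ((L A 𝔞).obj Q) := by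
  haveI : ((tildeA A).obj Q).IsQuasicoherent := isQuasicoherent_tilde (CommRingCat.of A) Q
  haveI : ((L A 𝔞).obj Q).IsQuasicoherent :=
    Scheme.Modules.isQuasicoherent_restrictFunctor (LocCoh.puncturedOpen A 𝔞).ι ((tildeA A).obj Q)
  have hepi : Epi (0 : (L A 𝔞).obj Q ⟶ (L A 𝔞).obj Q) := by
    apply Groth.Agent.Lib.Helper3.QCExact.epi_of_surjective_on_affine_cover
    intro x
    obtain ⟨f, hf, hxf⟩ := exists_basicOpen_mem A 𝔞 ((LocCoh.puncturedOpen A 𝔞).ι x) x.2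
    have hle : (PrimeSpectrum.basicOpen f : (Spec (CommRingCat.of A)).Opens) ≤
        (LocCoh.puncturedOpen A 𝔞).ι.opensRange := by
      rw [Scheme.Opens.opensRange_ι]
      exact basicOpen_le A 𝔞 f hf
    have haff : IsAffineOpen (X := Spec (CommRingCat.of A)) (PrimeSpectrum.basicOpen f) :=
      IsAffineOpen.Spec_basicOpen (R := CommRingCat.of A) f
    refine ⟨(LocCoh.puncturedOpen A 𝔞).ι ⁻¹ᵁ (PrimeSpectrum.basicOpen f),
      haff.preimage_of_isOpenImmersion (LocCoh.puncturedOpen A 𝔞).ι hle, hxf, ?_⟩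
    intro t
    refine ⟨0, ?_⟩
    have h4 : (LocCoh.puncturedOpen A 𝔞).ι ''ᵁ ((LocCoh.puncturedOpen A 𝔞).ι ⁻¹ᵁ
        (PrimeSpectrum.basicOpen f)) = PrimeSpectrum.basicOpen f := by
      exact ι_image_preimage (LocCoh.puncturedOpen A 𝔞) _ (basicOpen_le A 𝔞 f hf)
    have h5 : ∀ (O₁ O₂ : (Spec (CommRingCat.of A)).Opens), O₁ = O₂ →
        (∀ s : Γ((tildeA A).obj Q, O₁), s = 0) → ∀ s : Γ((tildeA A).obj Q, O₂), s = 0 := by
      rintro _ _ rfl hs
      exact hs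
    have h6 := h5 _ _ h4.symm
      (fun s => sections_tilde_eq_zero (R := CommRingCat.of A) Q f (fun q => h q f hf) s)
    exact (map_zero _).trans (h6 t).symm
  rw [IsZero.iff_id_eq_zero]
  exact (cancel_epi (0 : (L A 𝔞).obj Q ⟶ (L A 𝔞).obj Q)).1 (by rw [zero_comp, zero_comp])

theorem mono_L_map {N H : ModuleCat.{u} A} (φ : N ⟶ H) (hinj : Function.Injective φ.hom) :
    Mono ((L A 𝔞).map φ) := by
  haveI : Mono φ := (ModuleCat.mono_iff_injective φ).2 hinj
  haveI : Mono ((tildeA A).map φ) :=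
    Groth.Agent.Lib.Helper14.mono_tilde_map (R := CommRingCat.of A) φ
  exact Groth.Agent.Lib.Helper3.QCProps.mono_restrict_map (LocCoh.puncturedOpen A 𝔞).ι
    ((tildeA A).map φ)

theorem torsCoker_of_epi {N H : ModuleCat.{u} A} (φ : N ⟶ H) (hφ : Epi ((L A 𝔞).map φ))
    (y : H) (f : A) (hf : f ∈ 𝔞) : ∃ k : ℕ, f ^ k • y ∈ LinearMap.range φ.hom := by
  let C : ModuleCat.{u} A := ModuleCat.of A (↑H ⧸ LinearMap.range φ.hom)
  let q : H ⟶ C := ModuleCat.ofHom (X := ↑H) (Y := ↑H ⧸ LinearMap.range φ.hom)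
    (LinearMap.range φ.hom).mkQ
  have hq0 : φ ≫ q = 0 := by
    apply ModuleCat.hom_ext
    apply LinearMap.ext
    intro x
    exact (Submodule.Quotient.mk_eq_zero _).2 ⟨x, rfl⟩
  haveI : Epi q := (ModuleCat.epi_iff_surjective q).2 (Submodule.mkQ_surjective _)
  haveI : Epi ((L A 𝔞).map q) := inferInstance
  have h1 : (L A 𝔞).map φ ≫ (L A 𝔞).map q = 0 := by
    rw [← Functor.map_comp, hq0, Functor.map_zero]
  have h2 : (L A 𝔞).map q = 0 := by
    rw [← cancel_epi ((L A 𝔞).map φ), h1, comp_zero]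
  have hz : IsZero ((L A 𝔞).obj C) := by
    rw [IsZero.iff_id_eq_zero, ← cancel_epi ((L A 𝔞).map q), h2, zero_comp, zero_comp]
  obtain ⟨k, hk⟩ := tors_of_isZero A 𝔞 C hz (q.hom y) f hf
  refine ⟨k, ?_⟩
  rw [← Submodule.Quotient.mk_eq_zero, Submodule.Quotient.mk_smul]
  exact hk

theorem torsKer_of_mono {N H : ModuleCat.{u} A} (φ : N ⟶ H) (hφ : Mono ((L A 𝔞).map φ))
    (x : N) (hx : φ.hom x = 0) (f : A) (hf : f ∈ 𝔞) : ∃ k : ℕ, f ^ k • x = 0 := by
  let K : ModuleCat.{u} A := ModuleCat.of A (LinearMap.ker φ.hom)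
  let ι : K ⟶ N := ModuleCat.ofHom (X := LinearMap.ker φ.hom) (Y := ↑N)
    (LinearMap.ker φ.hom).subtype
  haveI : Mono ((L A 𝔞).map ι) := mono_L_map A 𝔞 ι Subtype.val_injective
  have h0 : ι ≫ φ = 0 := by
    apply ModuleCat.hom_ext
    apply LinearMap.ext
    intro z
    exact z.2
  have h1 : (L A 𝔞).map ι ≫ (L A 𝔞).map φ = 0 := by
    rw [← Functor.map_comp, h0, Functor.map_zero]
  have h2 : (L A 𝔞).map ι = 0 := by
    rw [← cancel_mono ((L A 𝔞).map φ), h1, zero_comp]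
  have hz : IsZero ((L A 𝔞).obj K) := by
    rw [IsZero.iff_id_eq_zero, ← cancel_mono ((L A 𝔞).map ι), h2, comp_zero, comp_zero]
  obtain ⟨k, hk⟩ := tors_of_isZero A 𝔞 K hz ⟨x, hx⟩ f hf
  exact ⟨k, congrArg Subtype.val hk⟩

theorem isIso_of_injective_of_torsCoker {N H : ModuleCat.{u} A} (φ : N ⟶ H)
    (hinj : Function.Injective φ.hom)
    (hc : ∀ y : H, ∀ f ∈ 𝔞, ∃ k : ℕ, f ^ k • y ∈ LinearMap.range φ.hom) :
    IsIso ((L A 𝔞).map φ) := by
  haveI : Mono ((L A 𝔞).map φ) := mono_L_map A 𝔞 φ hinj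
  let C : ModuleCat.{u} A := ModuleCat.of A (↑H ⧸ LinearMap.range φ.hom)
  let q : H ⟶ C := ModuleCat.ofHom (X := ↑H) (Y := ↑H ⧸ LinearMap.range φ.hom)
    (LinearMap.range φ.hom).mkQ
  have hz : IsZero ((L A 𝔞).obj C) := by
    apply isZero_of_tors
    intro c f hf
    obtain ⟨y, rfl⟩ := Submodule.Quotient.mk_surjective _ c
    obtain ⟨k, hk⟩ := hc y f hf
    refine ⟨k, ?_⟩
    rw [← Submodule.Quotient.mk_smul, Submodule.Quotient.mk_eq_zero]
    exact hk
  haveI : Epi ((L A 𝔞).map φ) := by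
    apply Preadditive.epi_of_cancel_zero
    intro T g hg
    let g' : H ⟶ _ := (adjL A 𝔞).homEquiv _ _ g
    have hg' : φ ≫ g' = 0 := by
      rw [← Adjunction.homEquiv_naturality_left, hg, Adjunction.homEquiv_unit, Functor.map_zero,
        comp_zero]
    have hle : LinearMap.ker q.hom ≤ LinearMap.ker g'.hom := by
      intro y hy
      have hy' : y ∈ LinearMap.range φ.hom := by
        rw [← Submodule.ker_mkQ (LinearMap.range φ.hom)]
        exact hy
      obtain ⟨x, rfl⟩ := hy'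
      exact congrArg (fun t => t.hom x) hg'
    obtain ⟨k, hk⟩ := exists_factor q.hom (Submodule.mkQ_surjective _) g'.hom hle
    let g'' : C ⟶ _ := ModuleCat.ofHom (X := ↑H ⧸ LinearMap.range φ.hom) k
    have h3 : q ≫ g'' = g' := by
      apply ModuleCat.hom_ext
      apply LinearMap.ext
      intro y
      exact hk y
    have h4 : g = (L A 𝔞).map q ≫ ((adjL A 𝔞).homEquiv _ _).symm g'' := by
      rw [← Adjunction.homEquiv_naturality_left_symm, h3]
      exact ((adjL A 𝔞).homEquiv _ _).symm_apply_apply g |>.symm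
    rw [h4, hz.eq_of_tgt ((L A 𝔞).map q) 0, zero_comp]
  exact isIso_of_mono_of_epi _

end Tors
end Groth.Agent.Lib.Helper1.PuncTors
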