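import Mathlib
import Groth.Prelude.Def_Algz
import Groth.Prelude.Def_Formal2
import Groth.Agent.Lib.Helper1.PuncTors
import Groth.Agent.Lib.Helper1.AlgzML
import Groth.Agent.Lib.Helper1.AlgzExt
import Groth.Agent.Lib.Helper3.QCExtend
set_option autoImplicit false
set_option linter.style.haveILetI false
universe u
open CategoryTheory CategoryTheory.Limits AlgebraicGeometry Opposite
namespace Groth.Agent.Lib.Helper1.AlgzModSys
open Groth.Agent.Lib.Helper1.AffFormal Groth.Agent.Lib.Helper1.PuncTors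

variable (A : Type u) [CommRing A] [IsNoetherianRing A] (𝔞 : Ideal A)

theorem quasiCompact_ι : QuasiCompact (LocCoh.puncturedOpen A 𝔞).ι := by
  have hU : IsCompact ((LocCoh.puncturedOpen A 𝔞 : (Spec (CommRingCat.of A)).Opens) :
      Set (Spec (CommRingCat.of A))) :=
    (TopologicalSpace.NoetherianSpace.isCompact _)
  haveI : CompactSpace (↑(LocCoh.puncturedOpen A 𝔞) : Scheme.{u}) :=
    isCompact_iff_compactSpace.mp hU
  infer_instance

/-- a coherent module on `U` is the restriction of the tilde of a finite submodule of its module of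
sections. -/
theorem exists_fg_submodule (F₀ : (↑(LocCoh.puncturedOpen A 𝔞) : Scheme.{u}).Modules)
    (hF₀ : Coh.IsCoh F₀) :
    ∃ N' : Submodule A ↑((ΓA A).obj
        ((Scheme.Modules.pushforward (LocCoh.puncturedOpen A 𝔞).ι).obj F₀)),
      N'.FG ∧ ∀ y, ∀ f ∈ 𝔞, ∃ k : ℕ, f ^ k • y ∈ N' := by
  classical
  haveI := quasiCompact_ι A 𝔞
  have hU : IsCompact ((LocCoh.puncturedOpen A 𝔞 : (Spec (CommRingCat.of A)).Opens) :
      Set (Spec (CommRingCat.of A))) :=
    (TopologicalSpace.NoetherianSpace.isCompact _)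
  haveI : F₀.IsQuasicoherent := hF₀.1
  haveI : F₀.IsFiniteType := hF₀.2
  let P := (Scheme.Modules.pushforward (LocCoh.puncturedOpen A 𝔞).ι).obj F₀
  haveI hPq : P.IsQuasicoherent :=
    Groth.Agent.Lib.Helper3.QCSec.isQuasicoherent_pushforward (LocCoh.puncturedOpen A 𝔞).ι F₀
  -- `P|_U ≅ F₀`
  let c := (Scheme.Modules.restrictAdjunction (LocCoh.puncturedOpen A 𝔞).ι).counit.app F₀
  haveI : IsIso c := inferInstance
  haveI hq : (P.restrict (LocCoh.puncturedOpen A 𝔞).ι).IsQuasicoherent :=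
    Scheme.Modules.isQuasicoherent_restrictFunctor (LocCoh.puncturedOpen A 𝔞).ι P
  let e : F₀ ≅ P.restrict (LocCoh.puncturedOpen A 𝔞).ι := (asIso c).symm
  have hft : (P.restrict (LocCoh.puncturedOpen A 𝔞).ι).IsFiniteType :=
    Groth.Agent.Lib.Helper3.QCProps.isFiniteType_of_iso e
  have hLF := Groth.Agent.Lib.Helper3.QCExtend.locFin_of_restrict P (LocCoh.puncturedOpen A 𝔞) hq hft
  obtain ⟨K, m, hm, hKq, hKft, hsurj⟩ :=
    Groth.Agent.Lib.Helper3.QCExtend.exists_finiteType_sub P (LocCoh.puncturedOpen A 𝔞) hU hLF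
  haveI := hm
  haveI := hKq
  haveI := hKft
  haveI hiso : IsIso ((Scheme.Modules.restrictFunctor (LocCoh.puncturedOpen A 𝔞).ι).map m) :=
    Groth.Agent.Lib.Helper3.QCExtend.isIso_restrict_map_of_surjective m (LocCoh.puncturedOpen A 𝔞)
      (fun O _ hO => hsurj O hO)
  let γ : (ΓA A).obj K ⟶ (ΓA A).obj P := (ΓA A).map m
  have hnat : (tildeA A).map γ ≫ (adjA A).counit.app P = (adjA A).counit.app K ≫ m :=
    (adjA A).counit.naturality m
  haveI := isIso_counit K
  haveI := isIso_counit P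
  have hnat' := congrArg (fun t => (Scheme.Modules.restrictFunctor
    (LocCoh.puncturedOpen A 𝔞).ι).map t) hnat
  simp only [Functor.map_comp] at hnat'
  haveI hcK : IsIso ((adjA A).counit.app K) := isIso_counit K
  haveI hcP : IsIso ((adjA A).counit.app P) := isIso_counit P
  haveI h0 : IsIso ((Scheme.Modules.restrictFunctor (LocCoh.puncturedOpen A 𝔞).ι).map
      ((adjA A).counit.app P)) := Functor.map_isIso _ _
  haveI h0' : IsIso ((Scheme.Modules.restrictFunctor (LocCoh.puncturedOpen A 𝔞).ι).map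
      ((adjA A).counit.app K)) := Functor.map_isIso _ _
  haveI h1 : IsIso ((L A 𝔞).map γ ≫ (Scheme.Modules.restrictFunctor
      (LocCoh.puncturedOpen A 𝔞).ι).map ((adjA A).counit.app P)) := by
    change IsIso ((Scheme.Modules.restrictFunctor (LocCoh.puncturedOpen A 𝔞).ι).map
      ((tildeA A).map γ) ≫ _)
    rw [hnat']
    infer_instance
  haveI h2 : IsIso ((L A 𝔞).map γ) := @IsIso.of_isIso_comp_right _ _ _ _ _ ((L A 𝔞).map γ)
    ((Scheme.Modules.restrictFunctor (LocCoh.puncturedOpen A 𝔞).ι).map ((adjA A).counit.app P))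
    h0 h1
  haveI : Module.Finite A ↑((ΓA A).obj K) := finite_Γ (CommRingCat.of A) K
  refine ⟨LinearMap.range γ.hom, ?_, fun y f hf => ?_⟩
  · rw [LinearMap.range_eq_map]
    exact Submodule.FG.map _ Module.Finite.fg_top
  · exact torsCoker_of_epi A 𝔞 γ inferInstance y f hf


theorem exists_pow_of_forall_pow {M : Type*} [AddCommGroup M] [Module A M] (P : Submodule A M)
    (y : M) (h : ∀ f ∈ 𝔞, ∃ k : ℕ, f ^ k • y ∈ P) : ∃ m : ℕ, ∀ a ∈ 𝔞 ^ m, a • y ∈ P := by
  let J : Ideal A := P.colon {y}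
  have hJ : ∀ a, a ∈ J ↔ a • y ∈ P := fun a => Submodule.mem_colon_singleton
  have hle : 𝔞 ≤ J.radical := fun f hf => by
    obtain ⟨k, hk⟩ := h f hf
    exact ⟨k, (hJ _).2 hk⟩
  obtain ⟨m, hm⟩ := Ideal.exists_pow_le_of_le_radical_of_fg hle (IsNoetherian.noetherian 𝔞)
  exact ⟨m, fun a ha => (hJ a).1 (hm ha)⟩

section Sys

variable {A 𝔞}
variable (F : ℕᵒᵖ ⥤ (↑(LocCoh.puncturedOpen A 𝔞) : Scheme.{u}).Modules)

/-- `H⁰(U, F_n)` -/
noncomputable abbrev HH (n : ℕ) : ModuleCat.{u} A :=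
  (Algz.sectMod A (LocCoh.puncturedOpen A 𝔞) F).obj (op n)

noncomputable abbrev tt (n : ℕ) : ↑(HH F (n + 1)) →ₗ[A] ↑(HH F n) :=
  (ARSys.tr (Algz.sectMod A (LocCoh.puncturedOpen A 𝔞) F) (Nat.le_succ n)).hom

noncomputable def Nsys (N' : ∀ n, Submodule A ↑(HH F n)) : ∀ n, Submodule A ↑(HH F n)
  | 0 => N' 0
  | (n + 1) => N' (n + 1) ⊓ (Nsys N' n).comap (tt F n)

theorem Nsys_le (N' : ∀ n, Submodule A ↑(HH F n)) (n : ℕ) : Nsys F N' n ≤ N' n := by
  cases n with
  | zero => exact le_refl _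
  | succ n => exact inf_le_left

theorem Nsys_map (N' : ∀ n, Submodule A ↑(HH F n)) (n : ℕ) :
    Nsys F N' (n + 1) ≤ (Nsys F N' n).comap (tt F n) := inf_le_right

theorem Nsys_tors (N' : ∀ n, Submodule A ↑(HH F n))
    (hN' : ∀ n (y : ↑(HH F n)), ∀ f ∈ 𝔞, ∃ k : ℕ, f ^ k • y ∈ N' n) :
    ∀ n (y : ↑(HH F n)), ∀ f ∈ 𝔞, ∃ k : ℕ, f ^ k • y ∈ Nsys F N' n := by
  intro n
  induction n with
  | zero => exact hN' 0
  | succ n ih =>
    intro y f hf
    obtain ⟨k1, hk1⟩ := hN' (n + 1) y f hf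
    obtain ⟨k2, hk2⟩ := ih (tt F n y) f hf
    refine ⟨k1 + k2, ⟨?_, ?_⟩⟩
    · rw [pow_add, mul_comm, mul_smul]
      exact Submodule.smul_mem _ _ hk1
    · show tt F n (f ^ (k1 + k2) • y) ∈ Nsys F N' n
      rw [pow_add, mul_smul, map_smul]
      apply Submodule.smul_mem
      rw [map_smul]
      exact hk2

end Sys

end Groth.Agent.Lib.Helper1.AlgzModSys
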