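import Mathlib
import Groth.Agent.Lib.Helper1.AlgzModSys
import Groth.Agent.Lib.Helper1.CompletionExt
set_option autoImplicit false
set_option linter.style.haveILetI false
universe u
open CategoryTheory CategoryTheory.Limits AlgebraicGeometry Opposite
namespace Groth.Agent.Lib.Helper1.AlgzModSys
open Groth.Agent.Lib.Helper1.AffFormal Groth.Agent.Lib.Helper1.PuncTors
  Groth.Agent.Lib.Helper14.ProIsoAdic Groth.Agent.Lib.Helper1.CompletionExt

attribute [local instance 2000] selfOver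

section Main

variable {A : Type u} [CommRing A] [IsNoetherianRing A] {𝔞 : Ideal A}
variable (F : ℕᵒᵖ ⥤ (↑(LocCoh.puncturedOpen A 𝔞) : Scheme.{u}).Modules)

noncomputable def ttm (n : ℕ) : HH F (n + 1) ⟶ HH F n :=
  ARSys.tr (Algz.sectMod A (LocCoh.puncturedOpen A 𝔞) F) (Nat.le_succ n)

noncomputable def eIso (hq : ∀ n, (F.obj n).IsQuasicoherent) (n : ℕ) :
    (L A 𝔞).obj (HH F n) ≅ F.obj (op n) :=
  haveI := quasiCompact_ι A 𝔞
  (AlgzExt.etaIso A (LocCoh.puncturedOpen A 𝔞) F hq).app (op n)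

theorem eIso_nat (hq : ∀ n, (F.obj n).IsQuasicoherent) (n : ℕ) :
    (L A 𝔞).map (ttm F n) ≫ (eIso F hq n).hom =
      (eIso F hq (n + 1)).hom ≫ F.map (homOfLE (Nat.le_succ n)).op :=
  haveI := quasiCompact_ι A 𝔞
  (AlgzExt.etaIso A (LocCoh.puncturedOpen A 𝔞) F hq).hom.naturality (homOfLE (Nat.le_succ n)).op

section Sub

variable (N : ∀ n, Submodule A ↑(HH F n))

noncomputable abbrev Mm (n : ℕ) : ModuleCat.{u} A := ModuleCat.of A ↥(N n)

noncomputable def incl (n : ℕ) : Mm F N n ⟶ HH F n :=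
  ModuleCat.ofHom (X := ↥(N n)) (Y := ↑(HH F n)) (N n).subtype

variable (hmap : ∀ n, N (n + 1) ≤ (N n).comap (tt F n))

noncomputable def gg (n : ℕ) : ↥(N (n + 1)) →ₗ[A] ↥(N n) := (tt F n).restrict (hmap n)

noncomputable def ggm (n : ℕ) : Mm F N (n + 1) ⟶ Mm F N n :=
  ModuleCat.ofHom (X := ↥(N (n + 1))) (Y := ↥(N n)) (gg F N hmap n)

theorem ggm_incl (n : ℕ) : ggm F N hmap n ≫ incl F N n = incl F N (n + 1) ≫ ttm F n := by
  apply ModuleCat.hom_ext
  apply LinearMap.ext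
  intro x
  rfl

variable (htors : ∀ n (y : ↑(HH F n)), ∀ f ∈ 𝔞, ∃ k : ℕ, f ^ k • y ∈ N n)

include htors in
theorem isIso_L_incl (n : ℕ) : IsIso ((L A 𝔞).map (incl F N n)) := by
  apply isIso_of_injective_of_torsCoker
  · exact Subtype.val_injective
  · intro y f hf
    obtain ⟨k, hk⟩ := htors n y f hf
    exact ⟨k, ⟨⟨_, hk⟩, rfl⟩⟩

noncomputable def cIso (hq : ∀ n, (F.obj n).IsQuasicoherent) (n : ℕ) :
    (L A 𝔞).obj (Mm F N n) ≅ F.obj (op n) :=
  (@asIso _ _ _ _ ((L A 𝔞).map (incl F N n)) (isIso_L_incl F N htors n)) ≪≫ eIso F hq n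

theorem cIso_nat (hq : ∀ n, (F.obj n).IsQuasicoherent) (n : ℕ) :
    (L A 𝔞).map (ggm F N hmap n) ≫ (cIso F N htors hq n).hom =
      (cIso F N htors hq (n + 1)).hom ≫ F.map (homOfLE (Nat.le_succ n)).op := by
  unfold cIso
  simp only [Iso.trans_hom, asIso_hom, Category.assoc]
  rw [← eIso_nat, ← Category.assoc, ← Category.assoc, ← Functor.map_comp, ← Functor.map_comp,
    ggm_incl]

include htors in
theorem torsCoker_gg (I : Ideal A) (hF : Formal.IsCohFormal I F) (n : ℕ) (y : ↥(N n)) (f : A)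
    (hf : f ∈ 𝔞) : ∃ k : ℕ, f ^ k • y ∈ LinearMap.range (gg F N hmap n) := by
  have hq : ∀ n, (F.obj n).IsQuasicoherent := fun n => (hF.1 n.unop).1
  haveI : Epi (F.map (homOfLE (Nat.le_succ n)).op) :=
    (quotProp I F hF n (n + 1) (Nat.le_succ n)).1
  haveI : Epi ((L A 𝔞).map (ttm F n)) := by
    have h := eIso_nat F hq n
    have h2 : (L A 𝔞).map (ttm F n) =
        (eIso F hq (n + 1)).hom ≫ F.map (homOfLE (Nat.le_succ n)).op ≫ (eIso F hq n).inv := by
      rw [← Category.assoc, ← h, Category.assoc, Iso.hom_inv_id, Category.comp_id]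
    rw [h2]
    infer_instance
  obtain ⟨m, z, hz⟩ := torsCoker_of_epi A 𝔞 (ttm F n) inferInstance y.1 f hf
  obtain ⟨m', hm'⟩ := htors (n + 1) z f hf
  refine ⟨m' + m, ⟨⟨f ^ m' • z, hm'⟩, ?_⟩⟩
  apply Subtype.ext
  change tt F n (f ^ m' • z) = f ^ (m' + m) • y.1
  rw [map_smul, pow_add, mul_smul]
  congr 1

theorem smul_eq_zero_N (I : Ideal A) (hF : Formal.IsCohFormal I F) (n : ℕ) (a : A)
    (ha : a ∈ I ^ (n + 1)) (y : ↥(N n)) : a • y = 0 := by
  apply Subtype.ext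
  exact Groth.Agent.Lib.Helper1.AlgzML.sectMod_smul_eq_zero (LocCoh.puncturedOpen A 𝔞)
    (F.obj (op n)) _ (hF.2.1 n) a ha y.1

theorem isQuot_L_map {N₁ N₂ : ModuleCat.{u} A} (p : N₁ ⟶ N₂) (hp : Function.Surjective p.hom)
    (J : Ideal A) (hker : LinearMap.ker p.hom ≤ J • (⊤ : Submodule A N₁)) :
    IsQuot J ((L A 𝔞).map p) := by
  have h1 : IsQuot J ((tildeA A).map p) := by
    haveI : Epi p := (ModuleCat.epi_iff_surjective p).2 hp
    exact ⟨inferInstance, fun T φ hφ =>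
      Groth.Agent.Lib.Helper1.AlgzML.tilde_factor p hp J hker T φ hφ⟩
  exact IsQuot.left (Scheme.Modules.restrictAdjunction (LocCoh.puncturedOpen A 𝔞).ι)
    (fun M a => Groth.Agent.Lib.Helper1.AlgzExt.restrict_smulMod (LocCoh.puncturedOpen A 𝔞).ι
      (Category.comp_id _).symm M a) h1

include htors in
theorem torsKer_gg (I : Ideal A) (hF : Formal.IsCohFormal I F) (n : ℕ) (x : ↥(N (n + 1)))
    (hx : gg F N hmap n x = 0) (f : A) (hf : f ∈ 𝔞) :
    ∃ k : ℕ, f ^ k • x ∈ I ^ (n + 1) • (⊤ : Submodule A ↥(N (n + 1))) := by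
  have hq : ∀ n, (F.obj n).IsQuasicoherent := fun n => (hF.1 n.unop).1
  let P : Submodule A ↥(N (n + 1)) := I ^ (n + 1) • ⊤
  let Q : ModuleCat.{u} A := ModuleCat.of A (↥(N (n + 1)) ⧸ P)
  let π : Mm F N (n + 1) ⟶ Q := ModuleCat.ofHom (X := ↥(N (n + 1))) (Y := ↥(N (n + 1)) ⧸ P) P.mkQ
  have hle : P ≤ LinearMap.ker (gg F N hmap n) := by
    rw [Submodule.smul_le]
    intro a ha y _
    rw [LinearMap.mem_ker, map_smul]
    exact smul_eq_zero_N F N I hF n a ha _
  let gbar : Q ⟶ Mm F N n := ModuleCat.ofHom (X := ↥(N (n + 1)) ⧸ P) (Y := ↥(N n))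
    (P.liftQ (gg F N hmap n) hle)
  have hπg : π ≫ gbar = ggm F N hmap n := by
    apply ModuleCat.hom_ext
    apply LinearMap.ext
    intro y
    rfl
  have h1 : IsQuot (I ^ (n + 1)) ((L A 𝔞).map π) := by
    apply isQuot_L_map
    · exact Submodule.mkQ_surjective _
    · intro y hy
      have : y ∈ P := by
        rw [← Submodule.ker_mkQ P]
        exact hy
      exact this
  have h2 : IsQuot (I ^ (n + 1)) ((cIso F N htors hq (n + 1)).hom ≫
      F.map (homOfLE (Nat.le_succ n)).op) :=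
    IsQuot.iso_comp _ (quotProp I F hF n (n + 1) (Nat.le_succ n))
  have hkQ : Formal.KilledBy (I ^ (n + 1)) ((L A 𝔞).obj Q) := by
    apply Groth.Agent.Lib.Helper1.AlgzExt.killedBy_restrict (LocCoh.puncturedOpen A 𝔞).ι
      (Category.comp_id _).symm
    apply Groth.Agent.Lib.Helper1.AlgzML.killedBy_tilde
    intro a ha y
    obtain ⟨y, rfl⟩ := Submodule.Quotient.mk_surjective _ y
    rw [← Submodule.Quotient.mk_smul, Submodule.Quotient.mk_eq_zero]
    exact Submodule.smul_mem_smul ha Submodule.mem_top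
  obtain ⟨ψ, hψ⟩ := h2.2 _ ((L A 𝔞).map π) (kills_of_killedBy hkQ _)
  haveI := h1.1
  have h3 : (L A 𝔞).map π ≫ ((L A 𝔞).map gbar ≫ (cIso F N htors hq n).hom ≫ ψ) =
      (L A 𝔞).map π ≫ 𝟙 _ := by
    rw [← Category.assoc, ← Functor.map_comp, hπg, ← Category.assoc, cIso_nat, hψ,
      Category.comp_id]
  have hsplit := (cancel_epi _).1 h3
  haveI : Mono ((L A 𝔞).map gbar) := mono_of_mono_fac hsplit
  obtain ⟨k, hk⟩ := torsKer_of_mono A 𝔞 gbar inferInstance (π.hom x) hx f hf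
  refine ⟨k, ?_⟩
  rw [← Submodule.Quotient.mk_eq_zero, Submodule.Quotient.mk_smul]
  exact hk

end Sub

end Main

theorem main (A : Type u) [CommRing A] [IsNoetherianRing A]
    (I 𝔞 : Ideal A) (F : ℕᵒᵖ ⥤ (↑(LocCoh.puncturedOpen A 𝔞) : Scheme.{u}).Modules)
    (hF : Formal.IsCohFormal I F) :
    ∃ (M : ℕ → Type u) (_ : ∀ n, AddCommGroup (M n)) (_ : ∀ n, Module A (M n))
      (g : ∀ n, M (n + 1) →ₗ[A] M n),
      (∀ n, Module.Finite A (M n)) ∧ (∀ n, I ^ (n + 1) • (⊤ : Submodule A (M n)) = ⊥) ∧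
      (∀ n (x : M (n + 1)), g n x = 0 → ∃ m : ℕ, ∀ a ∈ 𝔞 ^ m, a • x ∈
        I ^ (n + 1) • (⊤ : Submodule A (M (n + 1)))) ∧
      (∀ n (y : M n), ∃ m : ℕ, ∀ a ∈ 𝔞 ^ m, a • y ∈ LinearMap.range (g n)) ∧
      Nonempty (F ≅ Functor.ofOpSequence
        (X := fun n => (Scheme.Modules.restrictFunctor (LocCoh.puncturedOpen A 𝔞).ι).obj
          (Formal2.tmod A (M n)))
        (fun n => (Scheme.Modules.restrictFunctor (LocCoh.puncturedOpen A 𝔞).ι).map
          (Formal2.tmodMap A (g n)))) := by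
  classical
  have hq : ∀ n, (F.obj n).IsQuasicoherent := fun n => (hF.1 n.unop).1
  have hex : ∀ n, ∃ N' : Submodule A ↑(HH F n), N'.FG ∧
      ∀ y, ∀ f ∈ 𝔞, ∃ k : ℕ, f ^ k • y ∈ N' :=
    fun n => exists_fg_submodule A 𝔞 (F.obj (op n)) (hF.1 n)
  choose N' hfg hN' using hex
  have hmap := Nsys_map F N'
  have htors := Nsys_tors F N' hN'
  refine ⟨fun n => ↥(Nsys F N' n), fun n => inferInstance, fun n => inferInstance,
    gg F (Nsys F N') hmap, ?_, ?_, ?_, ?_, ?_⟩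
  · intro n
    haveI : IsNoetherian A ↥(N' n) := isNoetherian_of_fg_of_noetherian _ (hfg n)
    exact Module.Finite.of_injective (Submodule.inclusion (Nsys_le F N' n))
      (Submodule.inclusion_injective _)
  · intro n
    rw [eq_bot_iff, Submodule.smul_le]
    intro a ha y _
    rw [Submodule.mem_bot]
    exact smul_eq_zero_N F (Nsys F N') I hF n a ha y
  · intro n x hx
    apply exists_pow_of_forall_pow A 𝔞 _ x
    intro f hf
    exact torsKer_gg F (Nsys F N') hmap htors I hF n x hx f hf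
  · intro n y
    apply exists_pow_of_forall_pow A 𝔞 _ y
    intro f hf
    exact torsCoker_gg F (Nsys F N') hmap htors I hF n y f hf
  · let G : ℕᵒᵖ ⥤ (↑(LocCoh.puncturedOpen A 𝔞) : Scheme.{u}).Modules :=
      Functor.ofOpSequence (X := fun n => (L A 𝔞).obj (Mm F (Nsys F N') n))
        (fun n => (L A 𝔞).map (ggm F (Nsys F N') hmap n))
    let eT : G ⟶ F := NatTrans.ofOpSequence (fun n => (cIso F (Nsys F N') htors hq n).hom) (by
      intro n
      have hmapG : G.map (homOfLE (n.le_add_right 1)).op =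
          (L A 𝔞).map (ggm F (Nsys F N') hmap n) := Functor.ofOpSequence_map_homOfLE_succ _ n
      rw [hmapG]
      exact cIso_nat F (Nsys F N') hmap htors hq n)
    haveI : ∀ n : ℕᵒᵖ, IsIso (eT.app n) := fun n => by
      change IsIso (cIso F (Nsys F N') htors hq n.unop).hom
      infer_instance
    haveI := NatIso.isIso_of_isIso_app eT
    exact ⟨(asIso eT).symm⟩
end Groth.Agent.Lib.Helper1.AlgzModSys
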