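import Groth.Agent.Lib.Helper1.FFMain
import Groth.Agent.Lib.Helper1.FFAdic

/-!
# The theorem on formal functions: final statements
-/
set_option autoImplicit false
universe u
open CategoryTheory CategoryTheory.Limits AlgebraicGeometry Opposite
open Groth.Agent.Lib.Helper23.T2 Groth.Agent.Lib.Helper13.SerreCrit1 Groth.Agent.Lib.Helper3
open Formal

noncomputable section

namespace Groth.Agent.Lib.Helper1.FFFinal

open FFFam FFCoh FFClaim FFIM FFMain

variable (A : Type u) [CommRing A] (I : Ideal A) {X : Scheme.{u}}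
  [X.Over (Spec (CommRingCat.of A))] (M : X.Modules) (p : ℕ)

lemma toHHmodPow_apply (n : ℕ) (x : Coh.HH X M p) :
    toHHmodPow I M p n x = HmapA A (modPowπ I (n + 1) M) p x := rfl

lemma ker_toHHmodPow (n : ℕ) :
    ((toHHmodPow I M p n).ker : Set (Coh.HH X M p)) = (Fil A I M p (n + 1) : Set (Coh.HH X M p)) :=
  rfl

lemma trans_refl (n : ℕ) : trans I M (le_refl n) = 𝟙 _ := by
  rw [← cancel_epi (modPowπ I n M), π_trans, Category.comp_id]

lemma modPowTrans_trans {n k : ℕ} (h : n ≤ k) :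
    modPowTrans I k M ≫ trans I M h = trans I M (h.trans (Nat.le_succ k)) := by
  rw [← cancel_epi (modPowπ I (k + 1) M), ← Category.assoc, modPowπ_trans, π_trans, π_trans]

/-- the target of `toHHmodPow n` is killed by `I^(n+1)`. -/
lemma toHHmodPow_smul (n : ℕ) (b : A) (hb : b ∈ I ^ (n + 1)) (x : Coh.HH X M p) :
    toHHmodPow I M p n (b • x) = 0 := by
  rw [toHHmodPow_apply A, map_smul]
  exact (HmapA_smulMod (modPow I (n + 1) M) b p _).symm.trans (by
    rw [smulMod_modPow I M (n + 1) b hb]; exact HmapA_zero A p _)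

lemma toHHmodPow_eq_zero_of_mem (n : ℕ) (x : Coh.HH X M p)
    (hx : x ∈ (I ^ (n + 1) • ⊤ : Submodule A (Coh.HH X M p))) : toHHmodPow I M p n x = 0 := by
  refine Submodule.smul_induction_on hx ?_ ?_
  · intro b hb y _
    exact toHHmodPow_smul A I M p n b hb y
  · intro u v hu hv
    rw [map_add, hu, hv, add_zero]

/-- compatible families are compatible for all transition maps. -/
lemma lim_compat (y : ∀ n, HHmodPow I M p n) (hy : ∀ n, HHmodPowTrans I M p n (y (n + 1)) = y n)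
    (n k : ℕ) (h : n ≤ k) :
    HmapA A (trans I M (Nat.succ_le_succ h)) p (y k) = y n := by
  induction k, h using Nat.le_induction with
  | base =>
    rw [show trans I M (Nat.succ_le_succ (le_refl n)) = 𝟙 _ from trans_refl A I M (n + 1), HmapA_id]
  | succ k hk ih =>
    rw [← modPowTrans_trans A I M (Nat.succ_le_succ hk), HmapA_comp]
    have h1 : HmapA A (modPowTrans I (k + 1) M) p (y (k + 1)) = y k := hy k
    rw [h1]
    exact ih

section Proper

variable [IsNoetherianRing A] [IsProper (X ↘ Spec (CommRingCat.of A))]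

theorem s4461 (hM : Coh.IsCoh M) :
    ∃ k₀ : ℕ, ∀ k : ℕ, k₀ ≤ k →
      ((Formal.toHHmodPow I M p (k + 1)).ker : Set (Coh.HH X M p)) =
        ((I • Submodule.span A ((Formal.toHHmodPow I M p k).ker : Set (Coh.HH X M p)) :
          Submodule A (Coh.HH X M p)) : Set (Coh.HH X M p)) := by
  obtain ⟨d, hd⟩ := Fil_stable A I M p hM
  refine ⟨d, fun k hk => ?_⟩
  rw [ker_toHHmodPow A, ker_toHHmodPow A, Submodule.span_eq, hd (k + 1) (by omega)]

lemma Fil_le (hM : Coh.IsCoh M) : ∃ d, ∀ j, Fil A I M p (d + j) ≤ I ^ j • ⊤ := by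
  obtain ⟨d, hd⟩ := Fil_stable A I M p hM
  refine ⟨d, fun j => ?_⟩
  induction j with
  | zero => rw [pow_zero, Ideal.one_eq_top, Submodule.top_smul]; exact le_top
  | succ j ih =>
    rw [show d + (j + 1) = (d + j) + 1 from rfl, hd (d + j) (by omega), pow_succ',
      Submodule.mul_smul]
    exact Submodule.smul_mono le_rfl ih

theorem s0057 (hM : Coh.IsCoh M) :
    ∃ c : ℕ, ∀ n : ℕ, c ≤ n →
      ((Formal.toHHmodPow I M p n).ker : Set (Coh.HH X M p)) ⊆
        ((I ^ (n - c) • (⊤ : Submodule A (Coh.HH X M p)) : Submodule A (Coh.HH X M p)) :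
          Set (Coh.HH X M p)) := by
  obtain ⟨d, hd⟩ := Fil_le A I M p hM
  refine ⟨d, fun n hn => ?_⟩
  rw [ker_toHHmodPow A]
  have h1 : n + 1 = d + (n + 1 - d) := by omega
  rw [h1]
  refine (SetLike.coe_subset_coe.mpr (hd (n + 1 - d))).trans (SetLike.coe_subset_coe.mpr ?_)
  exact Submodule.smul_mono_left (Ideal.pow_le_pow_right (by omega))

theorem s0058 (hM : Coh.IsCoh M) :
    ∃ c : ℕ, ∀ (n k : ℕ) (h : n ≤ k), n + c ≤ k →
      Set.range (Sheaf.H.map ((SheafOfModules.toSheaf X.ringCatSheaf).map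
        ((Formal.completion I M).map (homOfLE h).op)) p) = Set.range (Formal.toHHmodPow I M p n) := by
  obtain ⟨c, hc⟩ := FF3 A I M p hM
  refine ⟨c, fun n k h hk => ?_⟩
  rw [completion_map_eq I M n k h]
  apply Set.eq_of_subset_of_subset
  · rintro _ ⟨w, rfl⟩
    obtain ⟨x, hx⟩ := hc n k h hk w
    exact ⟨x, hx⟩
  · rintro _ ⟨x, rfl⟩
    refine ⟨toHHmodPow I M p k x, ?_⟩
    change HmapA A (trans I M (Nat.succ_le_succ h)) p (HmapA A (modPowπ I (k + 1) M) p x) =
      HmapA A (modPowπ I (n + 1) M) p x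
    rw [← HmapA_comp, π_trans]

lemma lim_hyps (hM : Coh.IsCoh M) :
    (∀ n x, HHmodPowTrans I M p n (toHHmodPow I M p (n + 1) x) = toHHmodPow I M p n x) ∧
    (∀ y, y ∈ HHlim I M p ↔ ∀ n, HHmodPowTrans I M p n (y (n + 1)) = y n) ∧
    (∃ c : ℕ, ∀ n, c ≤ n → ∀ x, toHHmodPow I M p n x = 0 →
      x ∈ (I ^ (n - c) • ⊤ : Submodule A (Coh.HH X M p))) ∧
    (∀ y ∈ HHlim I M p, ∀ n, ∃ x, toHHmodPow I M p n x = y n) := by
  refine ⟨fun n x => (toHHlim I M p x).2 n, fun y => Iff.rfl, ?_, ?_⟩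
  · obtain ⟨c, hc⟩ := s0057 A I M p hM
    exact ⟨c, fun n hn x hx => hc n hn hx⟩
  · obtain ⟨c', hc'⟩ := FF3 A I M p hM
    intro y hy n
    obtain ⟨x, hx⟩ := hc' n (n + c') (Nat.le_add_right n c') le_rfl (y (n + c'))
    exact ⟨x, hx.trans (lim_compat A I M p y hy n (n + c') (Nat.le_add_right n c'))⟩

theorem s0059 (hM : Coh.IsCoh M) :
    Nonempty (AdicCompletion I (Coh.HH X M p) ≃+ Formal.HHlim I M p) := by
  obtain ⟨hπτ, hL, ⟨c, ha⟩, hb⟩ := lim_hyps A I M p hM
  have hbij := FFAdic.Φ_bijective I (fun n => toHHmodPow I M p n)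
    (fun n => HHmodPowTrans I M p n) (HHlim I M p) hπτ hL
    (toHHmodPow_eq_zero_of_mem A I M p) c ha hb
  exact ⟨AddEquiv.ofBijective _ hbij⟩

theorem s0003 [IsAdicComplete I A] (hM : Coh.IsCoh M) :
    Function.Bijective (Formal.toHHlim I M p) := by
  haveI : Module.Finite A (Coh.HH X M p) := finite_HH A M hM p
  haveI : IsAdicComplete I (Coh.HH X M p) := FFAdic.isAdicComplete_of_finite I _
  obtain ⟨hπτ, hL, ⟨c, ha⟩, hb⟩ := lim_hyps A I M p hM
  exact FFAdic.toLim_bijective I (fun n => toHHmodPow I M p n)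
    (fun n => HHmodPowTrans I M p n) (HHlim I M p) hπτ hL
    (toHHmodPow_eq_zero_of_mem A I M p) c ha hb (toHHlim I M p) (fun x n => rfl)

end Proper

end Groth.Agent.Lib.Helper1.FFFinal
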