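import Mathlib
import Groth.Prelude.Def_CohTop
import Groth.Prelude.Def_FreeSh

open CategoryTheory Limits Abelian TopologicalSpace Opposite

namespace Groth.Agent.Lib.Helper1.FlasqueAcyclic

universe w v u

variable {C : Type u} [Category.{v} C] [Abelian C] [HasExt.{w} C] [EnoughInjectives C]

/-- General dimension-shifting: let `Q` be a class of objects containing the injectives, closed
under cokernels of monos between members, and such that `Hom(P, -)` is right exact on short exact
sequences starting with a member.  Then `Ext^{n+1}(P, A) = 0` for `A ∈ Q`. -/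
theorem ext_eq_zero_of_class (P : C) (Q : C → Prop)
    (h_inj : ∀ I : C, Injective I → Q I)
    (h_coker : ∀ S : ShortComplex C, S.ShortExact → Q S.X₁ → Q S.X₂ → Q S.X₃)
    (h_surj : ∀ S : ShortComplex C, S.ShortExact → Q S.X₁ →
      ∀ φ : P ⟶ S.X₃, ∃ ψ : P ⟶ S.X₂, ψ ≫ S.g = φ)
    (n : ℕ) : ∀ (A : C), Q A → ∀ x : Ext P A (n + 1), x = 0 := by
  induction n with
  | zero =>
    intro A hA x
    let S := ShortComplex.mk _ _ (cokernel.condition (Injective.ι A))
    have hS : S.ShortExact :=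
      { exact := ShortComplex.exact_of_g_is_cokernel _ (cokernelIsCokernel S.f) }
    obtain ⟨x₃, rfl⟩ := Ext.covariant_sequence_exact₁ P hS x (Ext.eq_zero_of_injective _) rfl
    obtain ⟨φ, rfl⟩ := (Ext.mk₀_bijective P S.X₃).surjective x₃
    obtain ⟨ψ, rfl⟩ := h_surj S hS hA φ
    rw [← Ext.mk₀_comp_mk₀, Ext.comp_assoc_of_second_deg_zero, hS.comp_extClass, Ext.comp_zero]
  | succ n ih =>
    intro A hA x
    let S := ShortComplex.mk _ _ (cokernel.condition (Injective.ι A))
    have hS : S.ShortExact :=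
      { exact := ShortComplex.exact_of_g_is_cokernel _ (cokernelIsCokernel S.f) }
    obtain ⟨x₃, rfl⟩ := Ext.covariant_sequence_exact₁ P hS x (Ext.eq_zero_of_injective _) rfl
    have h3 : Q S.X₃ := h_coker S hS hA (h_inj _ inferInstance)
    rw [ih S.X₃ h3 x₃, Ext.zero_comp]

universe u'

variable {X : TopCat.{u'}}

instance mono_freeSheafMap {U V : Opens X} (f : V ⟶ U) :
    Mono (CohCx.freeSheafMap (Opens.grothendieckTopology X) f) := by
  have h1 : Mono (Functor.whiskerRight (yoneda.map f) AddCommGrpCat.free.{u'}) := by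
    apply NatTrans.mono_of_mono_app
  exact inferInstance

/-- An injective abelian sheaf is flasque. -/
theorem isFlasque_of_injective (F : CohTop.Ab X) [Injective F] : TopCat.Sheaf.IsFlasque F where
  epi {U V} i := by
    rw [AddCommGrpCat.epi_iff_surjective]
    intro s
    let J := Opens.grothendieckTopology X
    let φ := CohFree.ofSect J V.unop F s
    let ψ : CohCx.freeSheaf J U.unop ⟶ F := Injective.factorThru φ (CohCx.freeSheafMap J i.unop)
    have hψ : CohCx.freeSheafMap J i.unop ≫ ψ = φ := Injective.comp_factorThru _ _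
    refine ⟨CohFree.evalGen J U.unop F ψ, ?_⟩
    have := CohFree.evalGen_freeSheafMap_comp J i.unop F ψ
    rw [hψ, CohFree.evalGen_ofSect] at this
    exact this.symm


theorem flasque_ext_freeSheaf_eq_zero (U : Opens X) (n : ℕ) (F : CohTop.Ab X)
    (hF : TopCat.Sheaf.IsFlasque F)
    (x : Ext (CohCx.freeSheaf (Opens.grothendieckTopology X) U) F (n + 1)) : x = 0 := by
  refine ext_eq_zero_of_class (CohCx.freeSheaf (Opens.grothendieckTopology X) U)
    (fun G : CohTop.Ab X ↦ TopCat.Sheaf.IsFlasque G) ?_ ?_ ?_ n F hF x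
  · intro I hI
    exact isFlasque_of_injective I
  · intro S hS h1 h2
    exact TopCat.Sheaf.IsFlasque.of_shortExact_of_isFlasque₁₂ hS
  · intro S hS h1 φ
    let J := Opens.grothendieckTopology X
    have hepi : Epi (S.g.1.app (op U)) := TopCat.Sheaf.IsFlasque.epi_of_shortExact hS
    rw [AddCommGrpCat.epi_iff_surjective] at hepi
    obtain ⟨t, ht⟩ := hepi (CohFree.evalGen J U S.X₃ φ)
    refine ⟨CohFree.ofSect J U S.X₂ t, ?_⟩
    apply (CohFree.homEquivSect J U S.X₃).injective
    rw [CohFree.homEquivSect_apply, CohFree.homEquivSect_apply, ← ht]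
    change (S.g.hom.app (op U)).hom (CohFree.evalGen J U S.X₂ (CohFree.ofSect J U S.X₂ t)) = _
    rw [CohFree.evalGen_ofSect]

theorem flasque_HU_subsingleton (F : CohTop.Ab X) [hF : TopCat.Sheaf.IsFlasque F]
    (U : Opens X) (n : ℕ) : Subsingleton (CohTop.HU F (n + 1) U) :=
  subsingleton_of_forall_eq 0 fun x ↦ flasque_ext_freeSheaf_eq_zero U n F hF x


theorem flasque_H_eq_zero (n : ℕ) (F : CohTop.Ab X)
    (hF : TopCat.Sheaf.IsFlasque F) (x : CohTop.H F (n + 1)) : x = 0 := by
  refine ext_eq_zero_of_class _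
    (fun G : CohTop.Ab X ↦ TopCat.Sheaf.IsFlasque G) ?_ ?_ ?_ n F hF x
  · intro I hI
    exact isFlasque_of_injective I
  · intro S hS h1 h2
    exact TopCat.Sheaf.IsFlasque.of_shortExact_of_isFlasque₁₂ hS
  · intro S hS h1 φ
    have hT : IsTerminal (⊤ : Opens X) := isTerminalTop
    have hepi : Epi (S.g.1.app (op ⊤)) := TopCat.Sheaf.IsFlasque.epi_of_shortExact hS
    rw [AddCommGrpCat.epi_iff_surjective] at hepi
    obtain ⟨t, ht⟩ := hepi (Sheaf.H.equiv₀ S.X₃ hT (Ext.mk₀ φ))
    obtain ⟨ψ, hψ⟩ := (Ext.mk₀_bijective _ S.X₂).surjective ((Sheaf.H.equiv₀ S.X₂ hT).symm t)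
    refine ⟨ψ, ?_⟩
    apply (Ext.mk₀_bijective _ _).injective
    apply (Sheaf.H.equiv₀ S.X₃ hT).injective
    rw [← ht, ← Ext.mk₀_comp_mk₀, hψ]
    have := Sheaf.H.equiv₀_naturality hT S.g ((Sheaf.H.equiv₀ S.X₂ hT).symm t)
    rw [AddEquiv.apply_symm_apply] at this
    rw [this, Sheaf.H.map_apply]

theorem flasque_H_subsingleton (F : CohTop.Ab X) [hF : TopCat.Sheaf.IsFlasque F]
    (n : ℕ) : Subsingleton (CohTop.H F (n + 1)) :=
  subsingleton_of_forall_eq 0 fun x ↦ flasque_H_eq_zero n F hF x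

end Groth.Agent.Lib.Helper1.FlasqueAcyclic
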