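import Groth.Agent.Lib.Helper1.AmpleConn2
import Groth.Agent.Lib.Helper13.SteinFibre
import Groth.Agent.Lib.Helper3.VAConv

/-!
# Connectedness of hyperplane sections (helper1)

For `W` integral and proper over a field `k` and a `k`-morphism `q : W ⟶ P^r_k` whose image has
dimension `≥ 2`, the preimage of every hyperplane is connected.  (Stein factorisation of `q`
plus connectedness of ample divisors on the (integral, possibly non-normal) Stein factor.)
-/

set_option autoImplicit false
set_option linter.unusedSectionVars false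
set_option linter.style.haveILetI false
universe u
open CategoryTheory CategoryTheory.Limits AlgebraicGeometry TopologicalSpace Opposite
open Scheme.Modules

noncomputable section

namespace Groth.Agent.Lib.Helper1.AmpleConn3

open Groth.Agent.Lib.Helper3 Groth.Agent.Lib.Helper3.QCSec Groth.Agent.Lib.Helper3.InvGen
  Groth.Agent.Lib.Helper3.InvAmple Groth.Agent.Lib.Helper3.TwistProj
  Groth.Agent.Lib.Helper3.PbBasic Groth.Agent.Lib.Helper3.TwistBasic
open Groth.Agent.Lib.Helper1.AmpleConn Groth.Agent.Lib.Helper1.AmpleConn2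
open Groth.Agent.Lib.Helper13

theorem isConnected_preimage_compl_basicOpen (k : Type u) [Field k] (W : Scheme.{u})
    (fW : W ⟶ Spec (CommRingCat.of k)) [IsProper fW] [IsIntegral W] (r : ℕ)
    (q : W ⟶ CohB1.ProjSpace r k) (hq : q ≫ CohB1.ProjSpace.toSpec r k = fW)
    (hdim : 2 ≤ topologicalKrullDim ↥(closure (Set.range q.base)))
    (ℓ : MvPolynomial (Fin (r + 1)) k) (hℓ : ℓ ∈ CohB1.polyGrading r k 1) :
    _root_.IsConnected
      ((q.base ⁻¹' (Proj.basicOpen (CohB1.polyGrading r k) ℓ).carrier)ᶜ) := by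
  haveI : IsProper q := by
    haveI : IsProper (q ≫ CohB1.ProjSpace.toSpec r k) := hq ▸ inferInstance
    exact IsProper.of_comp q (CohB1.ProjSpace.toSpec r k)
  haveI : IsLocallyNoetherian (CohB1.ProjSpace r k) :=
    LocallyOfFiniteType.isLocallyNoetherian (CohB1.ProjSpace.toSpec r k)
  haveI hfinh : IsFinite q.fromNormalization := SteinFibre.isFinite_fromNormalization q
  have hfib : ∀ y : q.normalization, _root_.IsConnected (q.toNormalization ⁻¹' {y}) :=
    SteinFibre.isConnected_toNormalization_preimage q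
  have hπh : q.toNormalization ≫ q.fromNormalization = q := q.toNormalization_fromNormalization
  obtain ⟨Y, π, h, hπh', hfinh', hfib', hpropπ, hintY⟩ :
      ∃ (Y : Scheme.{u}) (π : W ⟶ Y) (h : Y ⟶ CohB1.ProjSpace r k), π ≫ h = q ∧ IsFinite h ∧
        (∀ y : Y, _root_.IsConnected (π.base ⁻¹' {y})) ∧ IsProper π ∧ IsIntegral Y :=
    ⟨q.normalization, q.toNormalization, q.fromNormalization, hπh, hfinh, hfib,
      inferInstance, inferInstance⟩
  haveI := hfinh'
  haveI := hpropπ
  haveI := hintY
  let fY : Y ⟶ Spec (CommRingCat.of k) := h ≫ CohB1.ProjSpace.toSpec r k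
  haveI : IsProper fY := inferInstance
  haveI : CompactSpace Y := QuasiCompact.compactSpace_of_compactSpace fY
  have hπsurj : Function.Surjective π.base := fun y => by
    obtain ⟨w, hw⟩ := (hfib' y).nonempty
    exact ⟨w, hw⟩
  have hrange : Set.range h.base = Set.range q.base := by
    rw [← hπh']
    ext p
    constructor
    · rintro ⟨y, rfl⟩
      obtain ⟨w, rfl⟩ := hπsurj y
      exact ⟨w, rfl⟩
    · rintro ⟨w, rfl⟩
      exact ⟨π.base w, rfl⟩
  have hdimY : (2 : WithBot ℕ∞) ≤ topologicalKrullDim Y := by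
    have h1 := Groth.Agent.Lib.Helper12.QFDim.dim_range_le_of_isClosedMap h h.isClosedMap
    rw [hrange] at h1
    have hcl : IsClosed (Set.range q.base) := q.isClosedMap.isClosed_range
    rw [hcl.closure_eq] at hdim
    exact hdim.trans h1
  -- the ample module and its section
  have hO1 := Groth.Agent.Lib.Helper3.VAConv.isAmple_twist_projSpace k r
  have hu : ∀ x : Proj (CohB1.polyGrading r k), ∃ U : (Proj (CohB1.polyGrading r k)).Opens,
      x ∈ U ∧ HasUnitFrac ((1 : ℕ) : ℤ) U := fun x => by
    obtain ⟨j, hj⟩ := Groth.Agent.Lib.Helper3.VAConv.exists_mem_basicOpen_X k r x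
    exact ⟨_, hj, hasUnitFrac_basicOpen (MvPolynomial.isHomogeneous_X k j)⟩
  let g : CohB1.polyGrading r k 1 := ⟨ℓ, hℓ⟩
  have hgl := genLocus_gsec g hu
  have hL : CohB1.IsAmple ((Scheme.Modules.pullback h).obj
      (Twist.twist (CohB1.polyGrading r k) ((1 : ℕ) : ℤ))) := by
    refine Groth.Agent.Lib.Helper3.AmpleQA.isAmple_pullback_of_quasiAffine h hO1 (fun A hA => ?_)
    haveI : IsAffine ↑(h ⁻¹ᵁ A) := hA.preimage h
    infer_instance
  have hgls : CohB1.genLocus ((Scheme.Modules.pullback h).obj
      (Twist.twist (CohB1.polyGrading r k) ((1 : ℕ) : ℤ))) (pullHom h (globalHom _ (gsec g))) =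
      h ⁻¹ᵁ Proj.basicOpen (CohB1.polyGrading r k) ℓ :=
    (genLocus_pullHom h hO1.1 (globalHom _ (gsec g))).trans
      (congrArg (fun V : (CohB1.ProjSpace r k).Opens => h ⁻¹ᵁ V) hgl)
  have hpre : (q.base ⁻¹' (Proj.basicOpen (CohB1.polyGrading r k) ℓ).carrier)ᶜ =
      π.base ⁻¹' (((h ⁻¹ᵁ Proj.basicOpen (CohB1.polyGrading r k) ℓ : Y.Opens) : Set Y)ᶜ) := by
    ext w
    simp only [Set.mem_compl_iff, Set.mem_preimage, SetLike.mem_coe, Scheme.Hom.mem_preimage]
    rw [← hπh']
    rfl
  by_cases hne : ∃ y : Y, y ∈ CohB1.genLocus _ (pullHom h (globalHom _ (gsec g)))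
  · have hconn := isConnected_compl_genLocus_of_irreducible k Y fY hdimY _ hL _ hne
    rw [hgls] at hconn
    have hco : Topology.IsCoinducing π.base :=
      (π.isClosedMap.isQuotientMap π.continuous hπsurj).isCoinducing
    rw [hpre]
    exact hco.isConnected_preimage_of_isClosed hfib'
      (h ⁻¹ᵁ Proj.basicOpen (CohB1.polyGrading r k) ℓ).isOpen.isClosed_compl hconn
  · push Not at hne
    rw [hgls] at hne
    have huniv : (q.base ⁻¹' (Proj.basicOpen (CohB1.polyGrading r k) ℓ).carrier)ᶜ = Set.univ := by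
      rw [hpre]
      ext w
      simp only [Set.mem_preimage, Set.mem_compl_iff, SetLike.mem_coe, Set.mem_univ, iff_true]
      exact hne (π.base w)
    rw [huniv]
    exact isConnected_univ

end Groth.Agent.Lib.Helper1.AmpleConn3
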