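import Mathlib

/-!
# Closure of the graph-like image of a morphism, cut by an open over which it is closed (helper1)
-/

set_option autoImplicit false
universe u
open CategoryTheory CategoryTheory.Limits AlgebraicGeometry

namespace Groth.Agent.Lib.Helper1.ClosureImm

/-- Let `γ : U ⟶ Z`, `π : Z ⟶ T` separated, `j : T₀ ⟶ T` an open immersion and `c : U ⟶ T₀` a closed
immersion with `c ≫ j = γ ≫ π`.  Then the closure of the image of `γ` meets `π⁻¹(T₀)` exactly in
the image of `γ`. -/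
theorem closure_range_inter_preimage {U Z T T₀ : Scheme.{u}} (γ : U ⟶ Z) (π : Z ⟶ T)
    [IsSeparated π] (j : T₀ ⟶ T) [IsOpenImmersion j] (c : U ⟶ T₀) [IsClosedImmersion c]
    (hc : c ≫ j = γ ≫ π) :
    closure (Set.range γ.base) ∩ π.base ⁻¹' (Set.range j.base) = Set.range γ.base := by
  let i : pullback π j ⟶ Z := pullback.fst π j
  let γ₀ : U ⟶ pullback π j := pullback.lift γ c hc.symm
  have hγ₀ : γ₀ ≫ i = γ := pullback.lift_fst _ _ _
  have hγ₀c : γ₀ ≫ pullback.snd π j = c := pullback.lift_snd _ _ _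
  haveI : IsClosedImmersion (γ₀ ≫ pullback.snd π j) := hγ₀c ▸ inferInstance
  haveI : IsClosedImmersion γ₀ := IsClosedImmersion.of_comp γ₀ (pullback.snd π j)
  have hri : Set.range i.base = π.base ⁻¹' Set.range j.base := Scheme.Pullback.range_fst π j
  have hγ₀' : ∀ u : U, i.base (γ₀.base u) = γ.base u := fun u => by
    rw [← hγ₀]; rfl
  apply Set.Subset.antisymm
  · rintro z ⟨hz1, hz2⟩
    rw [← hri] at hz2
    obtain ⟨z₀, rfl⟩ := hz2
    by_contra hzn
    have hz₀ : z₀ ∉ Set.range γ₀.base := by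
      rintro ⟨u, rfl⟩
      exact hzn ⟨u, (hγ₀' u).symm⟩
    have hopen : IsOpen (i.base '' (Set.range γ₀.base)ᶜ) :=
      i.isOpenEmbedding.isOpenMap _ γ₀.isClosedEmbedding.isClosed_range.isOpen_compl
    have hmem : i.base z₀ ∈ i.base '' (Set.range γ₀.base)ᶜ := ⟨z₀, hz₀, rfl⟩
    obtain ⟨w, hw1, hw2⟩ := mem_closure_iff.mp hz1 _ hopen hmem
    obtain ⟨w₀, hw₀, rfl⟩ := hw1
    obtain ⟨u, hu⟩ := hw2
    have h3 : i.base (γ₀.base u) = i.base w₀ := by rw [hγ₀' u, hu]
    exact hw₀ ⟨u, i.isOpenEmbedding.injective h3⟩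
  · rintro z ⟨u, rfl⟩
    refine ⟨subset_closure ⟨u, rfl⟩, c.base u, ?_⟩
    have h4 : (c ≫ j).base u = (γ ≫ π).base u := by rw [hc]
    exact h4

end Groth.Agent.Lib.Helper1.ClosureImm
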