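import Groth.Agent.Lib.Helper1.AmpleConn3
import Groth.Agent.Lib.Helper1.AffChart
import Groth.Agent.Lib.Helper1.ClosureImm
import Groth.Agent.Lib.Helper12.DimDenseOpen

/-!
# The complement of a nonempty affine open in an irreducible proper scheme of dimension `≥ 2`
over a field is connected (helper1)

Embed `U ↪ 𝔸^N ⊂ ℙ^N`, take the closure `Γ` of the graph of `U ⟶ ℙ^N` in `X × ℙ^N`; then
`Γ ∖ U` is the preimage of the hyperplane at infinity, which is connected (`AmpleConn3`), and
`X ∖ U` is its image.
-/

set_option autoImplicit false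
set_option linter.unusedSectionVars false
set_option linter.style.haveILetI false
universe u
open CategoryTheory CategoryTheory.Limits AlgebraicGeometry TopologicalSpace Opposite

noncomputable section

namespace Groth.Agent.Lib.Helper1.AmpleConn4

open Groth.Agent.Lib.Helper1

section image

theorem ker_eq_vanishingIdeal_of_isReduced {X Y : Scheme.{u}} (f : X ⟶ Y) [IsReduced X] :
    f.ker = Scheme.IdealSheafData.vanishingIdeal (.closure (Set.range f)) := by
  rw [← Scheme.IdealSheafData.map_bot, ← Scheme.nilradical_eq_bot,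
    ← Scheme.IdealSheafData.vanishingIdeal_top, Scheme.IdealSheafData.map_vanishingIdeal]
  congr 2
  simp

theorem isReduced_image_of_isReduced {Z X : Scheme.{u}} (h : Z ⟶ X) [IsReduced Z] :
    IsReduced h.image := by
  show IsReduced h.ker.subscheme
  rw [ker_eq_vanishingIdeal_of_isReduced]
  exact Groth.Agent.Lib.Helper7.isReduced_vanishingIdeal_subscheme _

theorem range_imageι_of_isReduced {Z X : Scheme.{u}} (h : Z ⟶ X) [IsReduced Z] :
    Set.range h.imageι = closure (Set.range h) := by
  show Set.range h.ker.subschemeι = _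
  rw [Scheme.IdealSheafData.range_subschemeι, ker_eq_vanishingIdeal_of_isReduced,
    Scheme.IdealSheafData.coe_support_vanishingIdeal, Closeds.coe_closure]

theorem denseRange_toImage_of_isReduced {Z X : Scheme.{u}} (h : Z ⟶ X) [IsReduced Z] :
    DenseRange h.toImage := by
  intro y
  have hy : h.imageι y ∈ closure (Set.range h) :=
    (range_imageι_of_isReduced h) ▸ Set.mem_range_self y
  have h1 : Set.range h = h.imageι '' Set.range h.toImage := by
    rw [← Set.range_comp]
    conv_lhs => rw [← h.toImage_imageι]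
    rfl
  rw [h1, h.imageι.isClosedEmbedding.closure_image_eq] at hy
  obtain ⟨y', hy', hyy'⟩ := hy
  rwa [← h.imageι.isClosedEmbedding.injective hyy']

end image

theorem isConnected_compl_affineOpen_of_isIntegral (k : Type u) [Field k] (X : Scheme.{u})
    (f : X ⟶ Spec (CommRingCat.of k)) [IsProper f] [IsIntegral X]
    (hdim : (2 : WithBot ℕ∞) ≤ topologicalKrullDim X) (U : X.Opens) (hU : IsAffineOpen U)
    (hne : (U : Set X).Nonempty) : _root_.IsConnected ((U : Set X)ᶜ) := by
  haveI : IsAffine (U : Scheme.{u}) := hU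
  haveI : Nonempty (U : Scheme.{u}) := hne.to_subtype
  haveI : IsIntegral (U : Scheme.{u}) := inferInstance
  haveI : LocallyOfFiniteType (U.ι ≫ f) := inferInstance
  obtain ⟨N, c, hc, hcg⟩ := AffChart.exists_closedImmersion_chart k (U.ι ≫ f)
  haveI := hc
  obtain ⟨aι, haι, haιo⟩ : ∃ aι : Spec (CommRingCat.of (HomogeneousLocalization.Away
      (CohB1.polyGrading N k) (MvPolynomial.X 0))) ⟶ CohB1.ProjSpace N k,
      aι = Proj.awayι (CohB1.polyGrading N k) (MvPolynomial.X 0) (AffChart.X0_mem k N)
        Nat.one_pos ∧ IsOpenImmersion aι :=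
    ⟨_, rfl, inferInstanceAs (IsOpenImmersion (Proj.awayι (CohB1.polyGrading N k)
      (MvPolynomial.X 0) (AffChart.X0_mem k N) Nat.one_pos))⟩
  haveI := haιo
  rw [← haι] at hcg
  have hrange_aι : Set.range aι.base =
      (Proj.basicOpen (CohB1.polyGrading N k) (MvPolynomial.X 0)).carrier := by
    rw [haι]
    have h := Proj.opensRange_awayι (CohB1.polyGrading N k) (MvPolynomial.X 0)
      (AffChart.X0_mem k N) Nat.one_pos
    exact congrArg (fun O : (Proj (CohB1.polyGrading N k)).Opens => O.carrier) h
  obtain ⟨tP, htP⟩ : ∃ tP : CohB1.ProjSpace N k ⟶ Spec (CommRingCat.of k),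
      tP = CohB1.ProjSpace.toSpec N k := ⟨_, rfl⟩
  haveI : IsProper tP := htP ▸ inferInstance
  rw [← htP] at hcg
  obtain ⟨e, he⟩ : ∃ e : (U : Scheme.{u}) ⟶ CohB1.ProjSpace N k, e = c ≫ aι := ⟨_, rfl⟩
  have hetP : e ≫ tP = U.ι ≫ f := by rw [he, Category.assoc]; exact hcg
  obtain ⟨γ, hγ1, hγ2⟩ : ∃ γ : (U : Scheme.{u}) ⟶ pullback f tP,
      γ ≫ pullback.fst f tP = U.ι ∧ γ ≫ pullback.snd f tP = e :=
    ⟨pullback.lift U.ι e hetP.symm, pullback.lift_fst _ _ _, pullback.lift_snd _ _ _⟩
  -- the two closure computations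
  have hT1 : closure (Set.range γ.base) ∩
      (pullback.fst f tP).base ⁻¹' (Set.range U.ι.base) = Set.range γ.base :=
    ClosureImm.closure_range_inter_preimage γ (pullback.fst f tP) U.ι (𝟙 _)
      (by rw [Category.id_comp, hγ1])
  have hT2 : closure (Set.range γ.base) ∩
      (pullback.snd f tP).base ⁻¹' (Set.range aι.base) = Set.range γ.base :=
    ClosureImm.closure_range_inter_preimage γ (pullback.snd f tP) aι c
      (by rw [hγ2, he])
  rw [Scheme.Opens.range_ι] at hT1
  -- the closure of the graph
  haveI : IsReduced γ.image := isReduced_image_of_isReduced γ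
  have hdense : DenseRange γ.toImage := denseRange_toImage_of_isReduced γ
  haveI : IrreducibleSpace γ.image := by
    rw [irreducibleSpace_def]
    convert ((IrreducibleSpace.isIrreducible_univ (U : Scheme.{u})).image _
      γ.toImage.continuous.continuousOn).closure
    simpa using hdense.closure_range.symm
  haveI : IsIntegral γ.image := isIntegral_of_irreducibleSpace_of_isReduced _
  have hfac : γ.toImage ≫ γ.imageι = γ := γ.toImage_imageι
  have hrange : Set.range γ.imageι = closure (Set.range γ) := range_imageι_of_isReduced γ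
  obtain ⟨q, hq⟩ : ∃ q : γ.image ⟶ CohB1.ProjSpace N k, q = γ.imageι ≫ pullback.snd f tP :=
    ⟨_, rfl⟩
  obtain ⟨p, hp⟩ : ∃ p : γ.image ⟶ X, p = γ.imageι ≫ pullback.fst f tP := ⟨_, rfl⟩
  haveI : IsProper q := hq ▸ inferInstance
  haveI : IsProper p := hp ▸ inferInstance
  haveI : IsProper (q ≫ CohB1.ProjSpace.toSpec N k) := inferInstance
  have hqe : ∀ u : (U : Scheme.{u}), q.base (γ.toImage.base u) = e.base u := fun u => by
    rw [hq, ← hγ2, ← hfac]; rfl
  have hpu : ∀ u : (U : Scheme.{u}), p.base (γ.toImage.base u) = u.1 := fun u => by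
    have h1 : p.base (γ.toImage.base u) = (γ ≫ pullback.fst f tP).base u := by
      rw [hp, ← hfac]; rfl
    rw [h1, hγ1]; rfl
  -- dimension of the image of `q`
  have hUdense : Dense (U : Set X) := U.isOpen.dense hne
  have hdimq : 2 ≤ topologicalKrullDim ↥(closure (Set.range q.base)) := by
    letI : X.Over (Spec (CommRingCat.of k)) := ⟨f⟩
    haveI : LocallyOfFiniteType (X ↘ Spec (CommRingCat.of k)) :=
      inferInstanceAs (LocallyOfFiniteType f)
    have h1 : topologicalKrullDim (U : Set X) = topologicalKrullDim X :=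
      Groth.Agent.Lib.Helper12.SchemeDimFT.topologicalKrullDim_dense_open k X U hUdense
    let θ : ↥(U : Scheme.{u}) → ↥(closure (Set.range q.base)) :=
      fun u => ⟨e.base u, subset_closure ⟨γ.toImage.base u, hqe u⟩⟩
    have hemb : Topology.IsEmbedding e.base := by
      rw [he]
      exact aι.isOpenEmbedding.isEmbedding.comp c.isClosedEmbedding.isEmbedding
    have hθ : Topology.IsInducing θ := by
      apply Topology.IsInducing.of_comp (g := Subtype.val)
      · exact Continuous.subtype_mk e.continuous _
      · exact continuous_subtype_val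
      · exact hemb.isInducing
    have h2 : topologicalKrullDim (U : Scheme.{u}) ≤
        topologicalKrullDim ↥(closure (Set.range q.base)) := hθ.topologicalKrullDim_le
    have h3 : topologicalKrullDim (U : Set X) = topologicalKrullDim (U : Scheme.{u}) := rfl
    rw [← h1, h3] at hdim
    exact hdim.trans h2
  have hconn := AmpleConn3.isConnected_preimage_compl_basicOpen k γ.image
    (q ≫ CohB1.ProjSpace.toSpec N k) N q rfl hdimq (MvPolynomial.X 0) (AffChart.X0_mem k N)
  -- identification of the sets
  have hset : (q.base ⁻¹' (Proj.basicOpen (CohB1.polyGrading N k)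
      (MvPolynomial.X 0)).carrier)ᶜ = p.base ⁻¹' ((U : Set X)ᶜ) := by
    ext w
    have hw : γ.imageι.base w ∈ closure (Set.range γ.base) := by
      rw [← hrange]; exact ⟨w, rfl⟩
    simp only [Set.mem_compl_iff, Set.mem_preimage]
    rw [not_iff_not, ← hrange_aι]
    constructor
    · intro h
      have h1 : γ.imageι.base w ∈ Set.range γ.base := by
        rw [← hT2]
        refine ⟨hw, ?_⟩
        rw [hq] at h
        exact h
      rw [← hT1] at h1
      rw [hp]
      exact h1.2
    · intro h
      have h1 : γ.imageι.base w ∈ Set.range γ.base := by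
        rw [← hT1]
        refine ⟨hw, ?_⟩
        rw [hp] at h
        exact h
      rw [← hT2] at h1
      rw [hq]
      exact h1.2
  -- surjectivity of `p`
  have hpsurj : Function.Surjective p.base := by
    have hcl : IsClosed (Set.range p.base) := p.isClosedMap.isClosed_range
    have hsub : (U : Set X) ⊆ Set.range p.base := fun x hx =>
      ⟨γ.toImage.base ⟨x, hx⟩, hpu ⟨x, hx⟩⟩
    have h1 : closure (U : Set X) ⊆ Set.range p.base := hcl.closure_subset_iff.mpr hsub
    rw [hUdense.closure_eq] at h1
    intro x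
    exact h1 (Set.mem_univ x)
  have himg : (U : Set X)ᶜ = p.base '' (p.base ⁻¹' ((U : Set X)ᶜ)) :=
    (Set.image_preimage_eq _ hpsurj).symm
  rw [himg, ← hset]
  exact hconn.image _ p.continuous.continuousOn

end Groth.Agent.Lib.Helper1.AmpleConn4
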