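import Groth.Agent.Lib.Helper1.AmpleConn4

/-!
# The complement of a nonempty affine open: irreducible (possibly non-reduced) version (helper1)
-/

set_option autoImplicit false
set_option linter.unusedSectionVars false
set_option linter.style.haveILetI false
universe u
open CategoryTheory CategoryTheory.Limits AlgebraicGeometry TopologicalSpace Opposite

noncomputable section

namespace Groth.Agent.Lib.Helper1.AmpleConn5

open Groth.Agent.Lib.Helper1

theorem isConnected_compl_affineOpen_of_irreducible (k : Type u) [Field k] (X : Scheme.{u})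
    (f : X ⟶ Spec (CommRingCat.of k)) [IsProper f] [IrreducibleSpace X]
    (hdim : (2 : WithBot ℕ∞) ≤ topologicalKrullDim X) (U : X.Opens) (hU : IsAffineOpen U)
    (hne : (U : Set X).Nonempty) : _root_.IsConnected ((U : Set X)ᶜ) := by
  obtain ⟨ι, hιdef⟩ : ∃ ι : X.nilradical.subscheme ⟶ X, ι = X.nilradical.subschemeι := ⟨_, rfl⟩
  haveI : IsClosedImmersion ι := hιdef ▸ inferInstance
  haveI : IsReduced X.nilradical.subscheme :=
    Groth.Agent.Lib.Helper7.isReduced_nilradical_subscheme _
  have hιs : Function.Surjective ι.base := by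
    rw [hιdef]
    exact Groth.Agent.Lib.Helper7.subschemeι_nilradical_surjective _
  have hι : IsHomeomorph ι.base :=
    isHomeomorph_iff_isEmbedding_surjective.mpr ⟨ι.isClosedEmbedding.isEmbedding, hιs⟩
  haveI : IrreducibleSpace ↥X.nilradical.subscheme :=
    AmpleConn2.irreducibleSpace_of_isHomeomorph _ hι
  haveI : IsIntegral X.nilradical.subscheme :=
    isIntegral_of_irreducibleSpace_of_isReduced _
  haveI : IsProper (ι ≫ f) := inferInstance
  have hdim' : (2 : WithBot ℕ∞) ≤ topologicalKrullDim X.nilradical.subscheme := by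
    rw [IsHomeomorph.topologicalKrullDim_eq _ hι]
    exact hdim
  have hU' : IsAffineOpen (ι ⁻¹ᵁ U) := hU.preimage ι
  have hne' : ((ι ⁻¹ᵁ U : X.nilradical.subscheme.Opens) : Set ↥X.nilradical.subscheme).Nonempty := by
    obtain ⟨x, hx⟩ := hne
    obtain ⟨y, rfl⟩ := hιs x
    exact ⟨y, hx⟩
  have hconn := AmpleConn4.isConnected_compl_affineOpen_of_isIntegral k X.nilradical.subscheme
    (ι ≫ f) hdim' (ι ⁻¹ᵁ U) hU' hne'
  have himg : (U : Set X)ᶜ = ι.base '' (((ι ⁻¹ᵁ U : X.nilradical.subscheme.Opens) : Set ↥X.nilradical.subscheme)ᶜ) := by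
    ext x
    constructor
    · intro hx
      obtain ⟨y, rfl⟩ := hιs x
      exact ⟨y, hx, rfl⟩
    · rintro ⟨y, hy, rfl⟩
      exact hy
  rw [himg]
  exact hconn.image _ ι.continuous.continuousOn

end Groth.Agent.Lib.Helper1.AmpleConn5
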