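import Groth.Agent.Lib.Helper1.AmpleConn5
import Groth.Agent.Lib.Helper22.SmoothRelDim
import Groth.Agent.Lib.Helper13.AbVarDim

/-!
# A closed subscheme of a smooth proper connected scheme of dimension `≥ 2` with affine complement
is connected (helper1)
-/

set_option autoImplicit false
set_option linter.unusedSectionVars false
set_option linter.style.haveILetI false
universe u
open CategoryTheory CategoryTheory.Limits AlgebraicGeometry TopologicalSpace Opposite

noncomputable section

namespace Groth.Agent.Lib.Helper1.AmpleConn6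

open Groth.Agent.Lib.Helper1

/-- a nonempty scheme smooth of relative dimension `d` over a field has dimension at least `d` -/
theorem le_topologicalKrullDim_of_smoothOfRelativeDimension (K : Type u) [Field K]
    {X : Scheme.{u}} (f : X ⟶ Spec (CommRingCat.of K)) (d : ℕ) [SmoothOfRelativeDimension d f]
    [Nonempty X] : ((d : ℕ) : WithBot ℕ∞) ≤ topologicalKrullDim X := by
  obtain ⟨x⟩ := ‹Nonempty X›
  obtain ⟨U', hU', V, hV, hxV, e, hss⟩ :=
    SmoothOfRelativeDimension.exists_isStandardSmoothOfRelativeDimension (n := d) (f := f) x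
  have hUtop : U' = ⊤ := by
    ext z
    simp only [TopologicalSpace.Opens.coe_top, Set.mem_univ, iff_true]
    have : z = f.base x := Subsingleton.elim _ _
    rw [this]; exact e hxV
  subst hUtop
  have hfield : IsField Γ(Spec (CommRingCat.of K), ⊤) :=
    MulEquiv.isField (Field.toIsField K)
      (Scheme.ΓSpecIso (CommRingCat.of K)).commRingCatIsoToRingEquiv.toMulEquiv
  letI : Field Γ(Spec (CommRingCat.of K), ⊤) := hfield.toField
  letI : Algebra Γ(Spec (CommRingCat.of K), ⊤) Γ(X, V) := (f.appLE ⊤ V e).hom.toAlgebra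
  haveI hsm : Algebra.IsStandardSmoothOfRelativeDimension d Γ(Spec (CommRingCat.of K), ⊤)
      Γ(X, V) := hss
  let q : PrimeSpectrum Γ(X, V) := hV.primeIdealOf ⟨x, hxV⟩
  have h1 := Groth.Agent.Lib.Helper22.SmoothRelDim.height_add_coheight_of_isStandardSmooth
    Γ(Spec (CommRingCat.of K), ⊤) d Γ(X, V) q
  have h2 : ((d : ℕ) : WithBot ℕ∞) ≤ ringKrullDim Γ(X, V) := by
    haveI : Nonempty (PrimeSpectrum Γ(X, V)) := ⟨q⟩
    unfold ringKrullDim
    rw [Order.krullDim_eq_iSup_height_add_coheight_of_nonempty]
    have h3 : ((d : ℕ) : ℕ∞) ≤ ⨆ a : PrimeSpectrum Γ(X, V), Order.height a + Order.coheight a := by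
      rw [← h1]
      exact le_iSup (fun a : PrimeSpectrum Γ(X, V) => Order.height a + Order.coheight a) q
    exact_mod_cast h3
  haveI : IsAffine (V : Scheme.{u}) := hV
  have h3 : topologicalKrullDim (V : Scheme.{u}) = ringKrullDim Γ((V : Scheme.{u}), ⊤) := by
    rw [← PrimeSpectrum.topologicalKrullDim_eq_ringKrullDim]
    exact IsHomeomorph.topologicalKrullDim_eq _
      (V : Scheme.{u}).isoSpec.hom.homeomorph.isHomeomorph
  have h4 : ringKrullDim Γ((V : Scheme.{u}), ⊤) = ringKrullDim Γ(X, V) :=
    ringKrullDim_eq_of_ringEquiv V.topIso.commRingCatIsoToRingEquiv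
  have h5 : topologicalKrullDim (V : Set X) ≤ topologicalKrullDim X :=
    topologicalKrullDim_subspace_le X V
  have h6 : topologicalKrullDim (V : Set X) = topologicalKrullDim (V : Scheme.{u}) := rfl
  rw [h6, h3, h4] at h5
  exact h2.trans h5

theorem connectedSpace_of_compl_affineOpen {K : Type u} [Field K] {X D : Scheme.{u}}
    (f : X ⟶ Spec (CommRingCat.of K)) (i : D ⟶ X) [IsProper f] (d : ℕ) (hd : 1 < d)
    [SmoothOfRelativeDimension d f] [IsClosedImmersion i] [ConnectedSpace X] (U : X.Opens)
    (hU : IsAffineOpen U) (hDU : Set.range i.base = (U : Set X)ᶜ) : ConnectedSpace D := by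
  haveI : Smooth f := SmoothOfRelativeDimension.smooth d f
  haveI : IsIntegral X := Groth.Agent.Lib.Helper13.AbVarDim.isIntegral_of_smooth_connected K f
  have hdim : (2 : WithBot ℕ∞) ≤ topologicalKrullDim X := by
    have h1 := le_topologicalKrullDim_of_smoothOfRelativeDimension K f d
    have h2 : (2 : WithBot ℕ∞) ≤ ((d : ℕ) : WithBot ℕ∞) := by exact_mod_cast hd
    exact h2.trans h1
  have hconn : _root_.IsConnected ((U : Set X)ᶜ) := by
    by_cases hne : (U : Set X).Nonempty
    · exact AmpleConn4.isConnected_compl_affineOpen_of_isIntegral K X f hdim U hU hne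
    · rw [Set.not_nonempty_iff_eq_empty] at hne
      rw [hne, Set.compl_empty]
      exact isConnected_univ
  exact Groth.Agent.Lib.Helper11.ZsConnD.connectedSpace_of_isEmbedding_of_range i
    i.isClosedEmbedding.isEmbedding _ hDU hconn

end Groth.Agent.Lib.Helper1.AmpleConn6
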