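import Mathlib
import Groth.Agent.Lib.Helper9.AssTensor

/-!
# Associated primes and length of `N ⊗[R] M` for a flat local homomorphism (helper1)

Local algebra behind EGA IV 3.3.1–3.3.5 (maximal-ideal case): for a local homomorphism of local
rings `R → S`, `N` an `S`-module flat over `R`, `M` an `R`-module:
`m_S ∈ Ass_S (N ⊗ M) ↔ m_R ∈ Ass_R M ∧ m_S ∈ Ass_S (N / m_R N)`, and the length-one analogue.
-/

set_option autoImplicit false
universe u
open TensorProduct

namespace Groth.Agent.Lib.Helper1.AssFlat1

open Groth.Agent.Lib.Helper9.AssTensor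

section surj
variable {S S' : Type u} [CommRing S] [CommRing S'] [Algebra S S']
  {P : Type u} [AddCommGroup P] [Module S P] [Module S' P] [IsScalarTower S S' P]

theorem colon_eq_comap (x : P) :
    ((⊥ : Submodule S P).colon {x}) =
      ((⊥ : Submodule S' P).colon {x}).comap (algebraMap S S') := by
  ext s
  rw [Ideal.mem_comap, Submodule.mem_colon_singleton, Submodule.mem_colon_singleton,
    Submodule.mem_bot, Submodule.mem_bot, algebraMap_smul]

theorem isAssociatedPrime_comap_iff (hsurj : Function.Surjective (algebraMap S S'))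
    (q : Ideal S') [hq : q.IsPrime] :
    IsAssociatedPrime (q.comap (algebraMap S S')) P ↔ IsAssociatedPrime q P := by
  constructor
  · rintro ⟨_, x, hx⟩
    refine ⟨hq, x, ?_⟩
    rw [colon_eq_comap (S' := S') x, ← Ideal.comap_radical] at hx
    exact Ideal.comap_injective_of_surjective _ hsurj hx
  · rintro ⟨_, x, hx⟩
    refine ⟨inferInstance, x, ?_⟩
    rw [colon_eq_comap (S' := S') x, ← Ideal.comap_radical, ← hx]

theorem comap_maximalIdeal_of_surjective [IsLocalRing S] [IsLocalRing S']
    (hsurj : Function.Surjective (algebraMap S S')) :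
    (IsLocalRing.maximalIdeal S').comap (algebraMap S S') = IsLocalRing.maximalIdeal S := by
  haveI := Ideal.comap_isMaximal_of_surjective (algebraMap S S') hsurj
    (K := IsLocalRing.maximalIdeal S')
  exact IsLocalRing.eq_maximalIdeal this

theorem isAssociatedPrime_maximalIdeal_iff [IsLocalRing S] [IsLocalRing S']
    (hsurj : Function.Surjective (algebraMap S S')) :
    IsAssociatedPrime (IsLocalRing.maximalIdeal S) P ↔
      IsAssociatedPrime (IsLocalRing.maximalIdeal S') P := by
  rw [← comap_maximalIdeal_of_surjective hsurj]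
  exact isAssociatedPrime_comap_iff hsurj _

end surj

section quot
variable {S S' : Type u} [CommRing S] [CommRing S'] [Algebra S S']
  {N : Type u} [AddCommGroup N] [Module S N]
  {P : Type u} [AddCommGroup P] [Module S P] [Module S' P] [IsScalarTower S S' P]

/-- Base change along a surjection is the quotient by the kernel. -/
theorem nonempty_baseChangeEquivQuot (hsurj : Function.Surjective (algebraMap S S'))
    (I : Ideal S) (hI : RingHom.ker (algebraMap S S') = I)
    (δ : N →ₗ[S] P) (hδ : IsBaseChange S' δ) :
    Nonempty (P ≃ₗ[S] N ⧸ I • (⊤ : Submodule S N)) := by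
  have hI' : RingHom.ker (Algebra.ofId S S') = I := by
    rw [← hI]; ext s; rw [RingHom.mem_ker, RingHom.mem_ker]; rfl
  subst hI'
  have hs' : Function.Surjective (Algebra.ofId S S') := hsurj
  exact ⟨(hδ.equiv.symm.restrictScalars S) ≪≫ₗ
    (LinearEquiv.rTensor N
      ((Ideal.quotientKerAlgEquivOfSurjective hs').symm.toLinearEquiv)) ≪≫ₗ
    (TensorProduct.quotTensorEquivQuotSMul N _)⟩

end quot

section tensorEquiv
variable {R S : Type u} [CommRing R] [CommRing S] [Algebra R S]
  {M : Type u} [AddCommGroup M] [Module R M]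
  {N : Type u} [AddCommGroup N] [Module S N] [Module R N] [IsScalarTower R S N]
  {Q : Type u} [AddCommGroup Q] [Module S Q] [Module R Q] [IsScalarTower R S Q]
  {T : Type u} [AddCommGroup T] [Module S T]

/-- `T ≅ Q ⊗_S N` with `Q = S ⊗_R M` gives `T ≅ N ⊗_R M`. -/
noncomputable def tensorEquiv (γ : M →ₗ[R] Q) (hγ : IsBaseChange S γ) (e : Q ⊗[S] N ≃ₗ[S] T) :
    T ≃ₗ[S] N ⊗[R] M :=
  e.symm ≪≫ₗ TensorProduct.comm S Q N ≪≫ₗ LinearEquiv.lTensor N hγ.equiv.symm ≪≫ₗ
    TensorProduct.AlgebraTensorModule.cancelBaseChange R S S N M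

end tensorEquiv

section main
variable {R S : Type u} [CommRing R] [CommRing S] [IsLocalRing R] [IsLocalRing S]
  [IsNoetherianRing R] [Algebra R S] [IsLocalHom (algebraMap R S)]
  {M : Type u} [AddCommGroup M] [Module R M]
  {N : Type u} [AddCommGroup N] [Module S N] [Module R N] [IsScalarTower R S N] [Module.Flat R N]

theorem isAssociatedPrime_tensor_iff :
    IsAssociatedPrime (IsLocalRing.maximalIdeal S) (N ⊗[R] M) ↔
      IsAssociatedPrime (IsLocalRing.maximalIdeal R) M ∧
      IsAssociatedPrime (IsLocalRing.maximalIdeal S)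
        (N ⧸ ((IsLocalRing.maximalIdeal R).map (algebraMap R S)) • (⊤ : Submodule S N)) := by
  constructor
  · intro hT
    have hT' : IsLocalRing.maximalIdeal S ∈ associatedPrimes S (N ⊗[R] M) := hT
    rw [associatedPrimes_tensor_eq] at hT'
    simp only [Set.mem_iUnion] at hT'
    obtain ⟨p, hp, hq⟩ := hT'
    haveI : p.IsPrime := hp.isPrime
    have hpe : (IsLocalRing.maximalIdeal S).comap (algebraMap R S) = p :=
      comap_eq_of_mem_quot assLike_associatedPrimes N p _ hq
    have hp2 : p = IsLocalRing.maximalIdeal R := by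
      rw [← hpe]; exact IsLocalRing.maximalIdeal_comap (algebraMap R S)
    subst hp2
    exact ⟨hp, hq⟩
  · rintro ⟨hM, hN⟩
    have : IsLocalRing.maximalIdeal S ∈ associatedPrimes S (N ⊗[R] M) := by
      rw [associatedPrimes_tensor_eq]
      simp only [Set.mem_iUnion]
      exact ⟨_, hM, hN⟩
    exact this

theorem faithfullyFlat_of_nontrivial_quot
    (hnt : Nontrivial (N ⧸ ((IsLocalRing.maximalIdeal R).map (algebraMap R S)) •
      (⊤ : Submodule S N))) : Module.FaithfullyFlat R N := by
  refine { (inferInstance : Module.Flat R N) with submodule_ne_top := ?_ }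
  intro m hmax htop
  have hm : m = IsLocalRing.maximalIdeal R := IsLocalRing.eq_maximalIdeal hmax
  subst hm
  rw [Submodule.Quotient.nontrivial_iff] at hnt
  apply hnt
  rw [Submodule.eq_top_iff']
  intro n
  have hn : n ∈ (IsLocalRing.maximalIdeal R) • (⊤ : Submodule R N) := by rw [htop]; trivial
  refine Submodule.smul_induction_on hn ?_ ?_
  · intro r hr n' _
    rw [← algebraMap_smul S r n']
    exact Submodule.smul_mem_smul (Ideal.mem_map_of_mem _ hr) Submodule.mem_top
  · intro a b ha hb
    exact Submodule.add_mem _ ha hb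

theorem length_tensor_eq_one_iff
    (hass : IsAssociatedPrime (IsLocalRing.maximalIdeal R) M)
    (hnt : Nontrivial (N ⧸ ((IsLocalRing.maximalIdeal R).map (algebraMap R S)) •
      (⊤ : Submodule S N))) :
    Module.length S (N ⊗[R] M) = 1 ↔
      Module.length R M = 1 ∧
      Module.length S (N ⧸ ((IsLocalRing.maximalIdeal R).map (algebraMap R S)) •
        (⊤ : Submodule S N)) = 1 := by
  obtain ⟨-, x, hx⟩ := isAssociatedPrime_iff.mp hass
  have hm : ∀ a : R, a • x = 0 ↔ a ∈ IsLocalRing.maximalIdeal R := by
    intro a; rw [hx, Submodule.mem_colon_singleton, Submodule.mem_bot]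
  have hinj : Function.Injective (quotToTensor (S := S) N (IsLocalRing.maximalIdeal R) x
      (fun a ha => (hm a).mpr ha)) := quotToTensor_injective (S := S) N _ x hm
  have hx0 : x ≠ 0 := by
    intro h0
    have : (1 : R) ∈ IsLocalRing.maximalIdeal R := (hm 1).mp (by rw [h0, smul_zero])
    exact (IsLocalRing.maximalIdeal.isMaximal R).ne_top ((Ideal.eq_top_iff_one _).mpr this)
  have hker : LinearMap.ker (LinearMap.toSpanSingleton R M x) = IsLocalRing.maximalIdeal R := by
    ext a
    rw [LinearMap.mem_ker, LinearMap.toSpanSingleton_apply]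
    exact hm a
  constructor
  · intro hlen
    haveI hsimp : IsSimpleModule S (N ⊗[R] M) := Module.length_eq_one_iff.mp hlen
    haveI hff := faithfullyFlat_of_nontrivial_quot (R := R) (S := S) (N := N) hnt
    -- the map is surjective
    have hrange : LinearMap.range (quotToTensor (S := S) N (IsLocalRing.maximalIdeal R) x
        (fun a ha => (hm a).mpr ha)) = ⊤ := by
      rcases eq_bot_or_eq_top (LinearMap.range (quotToTensor (S := S) N
        (IsLocalRing.maximalIdeal R) x (fun a ha => (hm a).mpr ha))) with h | h
      · exfalso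
        obtain ⟨a, b, hab⟩ := hnt
        apply hab
        apply hinj
        have ha : quotToTensor (S := S) N (IsLocalRing.maximalIdeal R) x
            (fun a ha => (hm a).mpr ha) a ∈ (⊥ : Submodule S (N ⊗[R] M)) := by
          rw [← h]; exact LinearMap.mem_range_self _ _
        have hb : quotToTensor (S := S) N (IsLocalRing.maximalIdeal R) x
            (fun a ha => (hm a).mpr ha) b ∈ (⊥ : Submodule S (N ⊗[R] M)) := by
          rw [← h]; exact LinearMap.mem_range_self _ _
        rw [Submodule.mem_bot] at ha hb
        rw [ha, hb]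
      · exact h
    have hsurj : Function.Surjective (quotToTensor (S := S) N (IsLocalRing.maximalIdeal R) x
        (fun a ha => (hm a).mpr ha)) := LinearMap.range_eq_top.mp hrange
    refine ⟨?_, ?_⟩
    · -- M is generated by x
      have hsub : Subsingleton (N ⊗[R] (M ⧸ Submodule.span R {x})) := by
        refine ⟨fun z w => ?_⟩
        have key : ∀ z : N ⊗[R] (M ⧸ Submodule.span R {x}), z = 0 := by
          intro z
          obtain ⟨w, rfl⟩ := LinearMap.lTensor_surjective N
            (Submodule.mkQ_surjective (Submodule.span R {x})) z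
          obtain ⟨a, rfl⟩ := hsurj w
          obtain ⟨n, rfl⟩ := Submodule.Quotient.mk_surjective _ a
          rw [quotToTensor_mk, LinearMap.lTensor_tmul, Submodule.mkQ_apply,
            (Submodule.Quotient.mk_eq_zero _).mpr (Submodule.mem_span_singleton_self x),
            TensorProduct.tmul_zero]
        rw [key z, key w]
      haveI := hsub
      have hM'' : Subsingleton (M ⧸ Submodule.span R {x}) :=
        Module.FaithfullyFlat.lTensor_reflects_triviality R N _
      have hspan : Submodule.span R {x} = ⊤ := Submodule.Quotient.subsingleton_iff.mp hM''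
      have hsurjx : Function.Surjective (LinearMap.toSpanSingleton R M x) := by
        rw [← LinearMap.range_eq_top, LinearMap.range_toSpanSingleton, hspan]
      rw [Module.length_eq_one_iff, isSimpleModule_iff_quot_maximal]
      exact ⟨IsLocalRing.maximalIdeal R, inferInstance,
        ⟨((Submodule.quotEquivOfEq _ _ hker).symm ≪≫ₗ
          LinearMap.quotKerEquivOfSurjective _ hsurjx).symm⟩⟩
    · rw [(LinearEquiv.ofBijective _ ⟨hinj, hsurj⟩).length_eq, hlen]
  · rintro ⟨hM, hN⟩
    haveI hsimp : IsSimpleModule R M := Module.length_eq_one_iff.mp hM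
    have hspan : Submodule.span R {x} = ⊤ := by
      rcases eq_bot_or_eq_top (Submodule.span R {x}) with h | h
      · exact absurd (Submodule.span_singleton_eq_bot.mp h) hx0
      · exact h
    have hsurj : Function.Surjective (quotToTensor (S := S) N (IsLocalRing.maximalIdeal R) x
        (fun a ha => (hm a).mpr ha)) := by
      intro z
      induction z using TensorProduct.induction_on with
      | zero => exact ⟨0, map_zero _⟩
      | tmul n m' =>
        have hm' : m' ∈ Submodule.span R {x} := by rw [hspan]; trivial
        obtain ⟨r, rfl⟩ := Submodule.mem_span_singleton.mp hm'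
        refine ⟨Submodule.Quotient.mk (r • n), ?_⟩
        rw [quotToTensor_mk, TensorProduct.smul_tmul]
      | add a b ha hb =>
        obtain ⟨a', rfl⟩ := ha
        obtain ⟨b', rfl⟩ := hb
        exact ⟨a' + b', map_add _ _ _⟩
    rw [← (LinearEquiv.ofBijective _ ⟨hinj, hsurj⟩).length_eq, hN]

end main

end Groth.Agent.Lib.Helper1.AssFlat1
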