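import Mathlib
import Groth.Prelude
import Groth.Agent.Lib.Helper1.AssFlat1
import Groth.Agent.Lib.Helper2.Stk.Tensor
import Groth.Agent.Lib.Helper17.PbStalk
import Groth.Agent.Lib.Helper17.FibreStalkMap

/-!
# Associated points of `f^*E ⊗ F` for `F` flat over the base, in terms of the fibres (helper1)
-/

set_option autoImplicit false
set_option linter.style.haveILetI false
universe u
open CategoryTheory CategoryTheory.Limits AlgebraicGeometry TopologicalSpace Opposite TensorProduct

namespace Groth.Agent.Lib.Helper1.AssFlat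

open Groth.Agent.Lib.Helper17 Groth.Agent.Lib.Helper2.Stk Groth.Agent.Lib.Helper1.AssFlat1

variable {X Y : Scheme.{u}}

theorem key (f : X ⟶ Y) [IsLocallyNoetherian Y] (E : Y.Modules) [E.IsQuasicoherent]
    (F : X.Modules) [F.IsQuasicoherent] (y : Y) (x' : f.fiber y)
    (hflat : FlatMod.IsFlatOverAt f F ((f.fiberι y) x')) :
    (Curv2.IsAssPoint (CohB1.tensorMod ((Scheme.Modules.pullback f).obj E) F) ((f.fiberι y) x') ↔
      Curv2.IsAssPoint E (f ((f.fiberι y) x')) ∧
        Curv2.IsAssPoint ((Scheme.Modules.pullback (f.fiberι y)).obj F) x') ∧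
    (Curv2.IsAssPoint (CohB1.tensorMod ((Scheme.Modules.pullback f).obj E) F) ((f.fiberι y) x') →
      (Module.length (X.presheaf.stalk ((f.fiberι y) x'))
          ((CohB1.tensorMod ((Scheme.Modules.pullback f).obj E) F).presheaf.stalk
            ((f.fiberι y) x')) = 1 ↔
        Module.length (Y.presheaf.stalk (f ((f.fiberι y) x')))
            (E.presheaf.stalk (f ((f.fiberι y) x'))) = 1 ∧
          Module.length ((f.fiber y).presheaf.stalk x')
            (((Scheme.Modules.pullback (f.fiberι y)).obj F).presheaf.stalk x') = 1)) := by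
  set x : X := (f.fiberι y) x' with hxdef
  letI algRS : Algebra (Y.presheaf.stalk (f x)) (X.presheaf.stalk x) :=
    (f.stalkMap x).hom.toAlgebra
  letI algSS' : Algebra (X.presheaf.stalk x) ((f.fiber y).presheaf.stalk x') :=
    ((f.fiberι y).stalkMap x').hom.toAlgebra
  haveI : IsLocalHom (algebraMap (Y.presheaf.stalk (f x)) (X.presheaf.stalk x)) :=
    inferInstanceAs (IsLocalHom (f.stalkMap x).hom)
  haveI : IsNoetherianRing (Y.presheaf.stalk (f x)) := inferInstance
  letI modRN : Module (Y.presheaf.stalk (f x)) (F.presheaf.stalk x) :=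
    FlatMod.moduleStalkOver f F x
  haveI towRN : IsScalarTower (Y.presheaf.stalk (f x)) (X.presheaf.stalk x)
      (F.presheaf.stalk x) :=
    ⟨fun a b n => mul_smul ((f.stalkMap x).hom a) b n⟩
  haveI : Module.Flat (Y.presheaf.stalk (f x)) (F.presheaf.stalk x) := hflat
  letI modRQ : Module (Y.presheaf.stalk (f x))
      (((Scheme.Modules.pullback f).obj E).presheaf.stalk x) :=
    Module.compHom _ (f.stalkMap x).hom
  obtain ⟨towRQ, γ, hγ⟩ := PbStalk.exists_isBaseChange_stalk f E x
  letI modSP : Module (X.presheaf.stalk x)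
      (((Scheme.Modules.pullback (f.fiberι y)).obj F).presheaf.stalk x') :=
    Module.compHom _ ((f.fiberι y).stalkMap x').hom
  obtain ⟨towSP, δ, hδ⟩ := PbStalk.exists_isBaseChange_stalk (f.fiberι y) F x'
  obtain ⟨hsurj, hker⟩ := FibreStalkMap.stalkMap_fiberι f y x'
  have hsurj' : Function.Surjective (algebraMap (X.presheaf.stalk x)
      ((f.fiber y).presheaf.stalk x')) := hsurj
  have hker' : RingHom.ker (algebraMap (X.presheaf.stalk x) ((f.fiber y).presheaf.stalk x')) =
      (IsLocalRing.maximalIdeal (Y.presheaf.stalk (f x))).map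
        (algebraMap (Y.presheaf.stalk (f x)) (X.presheaf.stalk x)) := hker
  let te := tensorEquiv γ hγ (tensorStalkLinearEquiv ((Scheme.Modules.pullback f).obj E) F x)
  obtain ⟨pe⟩ := nonempty_baseChangeEquivQuot hsurj' _ hker' δ hδ
  have hP : Curv2.IsAssPoint ((Scheme.Modules.pullback (f.fiberι y)).obj F) x' ↔
      IsAssociatedPrime (IsLocalRing.maximalIdeal (X.presheaf.stalk x))
        (F.presheaf.stalk x ⧸ ((IsLocalRing.maximalIdeal (Y.presheaf.stalk (f x))).map
          (algebraMap (Y.presheaf.stalk (f x)) (X.presheaf.stalk x))) •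
            (⊤ : Submodule (X.presheaf.stalk x) (F.presheaf.stalk x))) := by
    rw [← pe.isAssociatedPrime_iff]
    exact (isAssociatedPrime_maximalIdeal_iff hsurj').symm
  have hK1 : Curv2.IsAssPoint (CohB1.tensorMod ((Scheme.Modules.pullback f).obj E) F) x ↔
      Curv2.IsAssPoint E (f x) ∧
        Curv2.IsAssPoint ((Scheme.Modules.pullback (f.fiberι y)).obj F) x' := by
    rw [hP]
    refine Iff.trans ?_ isAssociatedPrime_tensor_iff
    exact te.isAssociatedPrime_iff
  refine ⟨hK1, fun hT => ?_⟩
  obtain ⟨hE, hF⟩ := hK1.mp hT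
  have hnt : Nontrivial (F.presheaf.stalk x ⧸ ((IsLocalRing.maximalIdeal
      (Y.presheaf.stalk (f x))).map
        (algebraMap (Y.presheaf.stalk (f x)) (X.presheaf.stalk x))) •
          (⊤ : Submodule (X.presheaf.stalk x) (F.presheaf.stalk x))) := by
    by_contra hcon
    rw [not_nontrivial_iff_subsingleton] at hcon
    exact not_isAssociatedPrime_of_subsingleton (hP.mp hF)
  have h1 := length_tensor_eq_one_iff (S := X.presheaf.stalk x) (N := F.presheaf.stalk x) hE hnt
  have h2 : Module.length (X.presheaf.stalk x)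
      ((CohB1.tensorMod ((Scheme.Modules.pullback f).obj E) F).presheaf.stalk x) =
      Module.length (X.presheaf.stalk x)
        (F.presheaf.stalk x ⊗[Y.presheaf.stalk (f x)] E.presheaf.stalk (f x)) := te.length_eq
  have h3 : Module.length ((f.fiber y).presheaf.stalk x')
      (((Scheme.Modules.pullback (f.fiberι y)).obj F).presheaf.stalk x') =
      Module.length (X.presheaf.stalk x) (F.presheaf.stalk x ⧸
        ((IsLocalRing.maximalIdeal (Y.presheaf.stalk (f x))).map
        (algebraMap (Y.presheaf.stalk (f x)) (X.presheaf.stalk x))) •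
          (⊤ : Submodule (X.presheaf.stalk x) (F.presheaf.stalk x))) := by
    rw [← pe.length_eq]
    exact (Module.length_eq_of_surjective hsurj').symm
  rw [h2, h3]
  exact h1

end Groth.Agent.Lib.Helper1.AssFlat
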