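import Mathlib
import Groth.Prelude.Def_FDesc
import Groth.Agent.Lib.Helper3.AssPoints

set_option autoImplicit false
open CategoryTheory AlgebraicGeometry Opposite TopologicalSpace
universe u
namespace Groth.Agent.Lib.Helper1.AssOpen

variable {X : Scheme.{u}}

theorem isAssPoint_iff_exists (F : X.Modules) (x : X) [IsNoetherianRing (X.presheaf.stalk x)] :
    Curv2.IsAssPoint F x ↔ ∃ n : F.presheaf.stalk x, n ≠ 0 ∧
      ∀ r : X.presheaf.stalk x, ¬ IsUnit r → r • n = 0 := by
  unfold Curv2.IsAssPoint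
  rw [isAssociatedPrime_iff]
  constructor
  · rintro ⟨_, n, hn⟩
    refine ⟨n, ?_, ?_⟩
    · rintro rfl
      have : (1 : X.presheaf.stalk x) ∈ IsLocalRing.maximalIdeal (X.presheaf.stalk x) := by
        rw [hn, Submodule.mem_colon_singleton]; simp
      exact (IsLocalRing.maximalIdeal.isMaximal _).ne_top ((Ideal.eq_top_iff_one _).2 this)
    · intro r hr
      have : r ∈ IsLocalRing.maximalIdeal (X.presheaf.stalk x) := hr
      rw [hn, Submodule.mem_colon_singleton] at this
      simpa using this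
  · rintro ⟨n, hn0, hn⟩
    refine ⟨inferInstance, n, ?_⟩
    have hle : IsLocalRing.maximalIdeal (X.presheaf.stalk x) ≤
        (⊥ : Submodule _ (F.presheaf.stalk x)).colon {n} := by
      intro r hr
      rw [Submodule.mem_colon_singleton]
      simpa using hn r hr
    refine ((IsLocalRing.maximalIdeal.isMaximal _).eq_of_le ?_ hle)
    intro htop
    have : (1 : X.presheaf.stalk x) ∈ (⊥ : Submodule _ (F.presheaf.stalk x)).colon {n} := by
      rw [htop]; trivial
    rw [Submodule.mem_colon_singleton] at this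
    simp at this
    exact hn0 this

theorem exists_iff_of_semilinear {R R' N N' : Type*} [CommRing R] [CommRing R']
    [AddCommGroup N] [AddCommGroup N'] [Module R N] [Module R' N']
    (σ : R →+* R') (hσ : Function.Bijective σ) (e : N →+ N') (he : Function.Bijective e)
    (h : ∀ r n, e (r • n) = σ r • e n) :
    (∃ n : N, n ≠ 0 ∧ ∀ r : R, ¬ IsUnit r → r • n = 0) ↔
      (∃ n' : N', n' ≠ 0 ∧ ∀ r' : R', ¬ IsUnit r' → r' • n' = 0) := by
  have hunit : ∀ r : R, IsUnit (σ r) → IsUnit r := by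
    intro r hr
    rw [isUnit_iff_exists_inv] at hr ⊢
    obtain ⟨s', hs'⟩ := hr
    obtain ⟨s, rfl⟩ := hσ.2 s'
    exact ⟨s, hσ.1 (by rw [map_mul, hs', map_one])⟩
  constructor
  · rintro ⟨n, hn0, hn⟩
    refine ⟨e n, fun h0 => hn0 (he.1 (by rw [h0, map_zero])), ?_⟩
    intro r' hr'
    obtain ⟨r, rfl⟩ := hσ.2 r'
    rw [← h, hn r (fun hu => hr' (hu.map σ)), map_zero]
  · rintro ⟨n', hn0, hn⟩
    obtain ⟨n, rfl⟩ := he.2 n'
    refine ⟨n, fun h0 => hn0 (by rw [h0, map_zero]), ?_⟩
    intro r hr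
    apply he.1
    rw [h, map_zero]
    exact hn _ (fun hu => hr (hunit r hu))

section push

variable {U' : Scheme.{u}} (f : U' ⟶ X) (M : U'.Modules)

/-- the comparison map on stalks -/
noncomputable def stalkPush (x : U') :
    ((Scheme.Modules.pushforward f).obj M).presheaf.stalk (f.base x) →+ M.presheaf.stalk x :=
  (M.presheaf.stalkPushforward Ab f.base x).hom

theorem stalkPush_germ (x : U') (V : X.Opens) (hx : f.base x ∈ V)
    (s : Γ(M, f ⁻¹ᵁ V)) :
    stalkPush f M x (((Scheme.Modules.pushforward f).obj M).presheaf.germ V (f.base x) hx s) =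
      M.presheaf.germ (f ⁻¹ᵁ V) x hx s := by
  have := TopCat.Presheaf.stalkPushforward_germ Ab f.base M.presheaf V x hx
  exact congrArg (fun φ => φ.hom s) this

theorem stalkPush_smul (x : U')
    (r : X.presheaf.stalk (f.base x))
    (n : ((Scheme.Modules.pushforward f).obj M).presheaf.stalk (f.base x)) :
    stalkPush f M x (r • n) = (f.stalkMap x).hom r • stalkPush f M x n := by
  obtain ⟨W, hW, g, rfl⟩ := X.presheaf.germ_exist (x := f.base x) r
  obtain ⟨W', hW', s, rfl⟩ :=
    ((Scheme.Modules.pushforward f).obj M).presheaf.germ_exist (x := f.base x) n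
  have hV : f.base x ∈ W ⊓ W' := ⟨hW, hW'⟩
  have h1 := TopCat.Presheaf.germ_res_apply X.presheaf
    (homOfLE (inf_le_left : W ⊓ W' ≤ W)) (f.base x) hV g
  have h2 := TopCat.Presheaf.germ_res_apply ((Scheme.Modules.pushforward f).obj M).presheaf
    (homOfLE (inf_le_right : W ⊓ W' ≤ W')) (f.base x) hV s
  rw [← h1, ← h2]
  set g' := X.presheaf.map (homOfLE (inf_le_left : W ⊓ W' ≤ W)).op g
  set s' := ((Scheme.Modules.pushforward f).obj M).presheaf.map
    (homOfLE (inf_le_right : W ⊓ W' ≤ W')).op s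
  rw [← Groth.Agent.Lib.Helper3.QS.germ_smul]
  let s'' : Γ(M, f ⁻¹ᵁ (W ⊓ W')) := s'
  have e1 : stalkPush f M x (((Scheme.Modules.pushforward f).obj M).presheaf.germ (W ⊓ W')
      (f.base x) hV (g' • s')) = M.presheaf.germ (f ⁻¹ᵁ (W ⊓ W')) x hV ((f.app (W ⊓ W') g') • s'') :=
    stalkPush_germ f M x (W ⊓ W') hV ((f.app (W ⊓ W') g') • s'')
  have e2 : stalkPush f M x (((Scheme.Modules.pushforward f).obj M).presheaf.germ (W ⊓ W')
      (f.base x) hV s') = M.presheaf.germ (f ⁻¹ᵁ (W ⊓ W')) x hV s'' :=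
    stalkPush_germ f M x (W ⊓ W') hV s''
  rw [e1, e2]
  refine (Groth.Agent.Lib.Helper3.QS.germ_smul M x hV (f.app (W ⊓ W') g') s'').trans ?_
  rw [Scheme.Hom.germ_stalkMap_apply]

theorem stalkPush_bijective [IsOpenImmersion f] (x : U') :
    Function.Bijective (stalkPush f M x) := by
  haveI : IsIso (M.presheaf.stalkPushforward Ab f.base x) :=
    TopCat.Presheaf.stalkPushforward.stalkPushforward_iso_of_isInducing (C := Ab)
      f.isOpenEmbedding.isInducing M.presheaf x
  exact ConcreteCategory.bijective_of_isIso (M.presheaf.stalkPushforward Ab f.base x)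

theorem isAssPoint_push_iff [IsOpenImmersion f] [IsLocallyNoetherian X] [IsLocallyNoetherian U']
    (x : U') :
    Curv2.IsAssPoint ((Scheme.Modules.pushforward f).obj M) (f.base x) ↔ Curv2.IsAssPoint M x := by
  rw [isAssPoint_iff_exists, isAssPoint_iff_exists]
  exact exists_iff_of_semilinear (f.stalkMap x).hom
    (ConcreteCategory.bijective_of_isIso (f.stalkMap x)) (stalkPush f M x)
    (stalkPush_bijective f M x) (stalkPush_smul f M x)

open Groth.Agent.Lib.Helper3 Groth.Agent.Lib.Helper3.QS in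
theorem not_isAssPoint_push [IsOpenImmersion f] [IsLocallyNoetherian X] (z : X)
    (hz : z ∉ Set.range f.base) :
    ¬ Curv2.IsAssPoint ((Scheme.Modules.pushforward f).obj M) z := by
  classical
  set N := (Scheme.Modules.pushforward f).obj M with hN
  rw [isAssPoint_iff_exists]
  rintro ⟨n, hn0, hn⟩
  obtain ⟨W, hW, s, rfl⟩ := N.presheaf.germ_exist (x := z) n
  obtain ⟨V, hV, hzV, hVW⟩ := exists_isAffineOpen_mem_and_subset (x := z) (U := W) hW
  obtain ⟨t, ht⟩ : ∃ t : Γ(N, V), N.presheaf.germ V z hzV t = N.presheaf.germ W z hW s :=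
    ⟨_, TopCat.Presheaf.germ_res_apply N.presheaf (homOfLE hVW) z hzV s⟩
  rw [← ht] at hn0 hn
  clear ht
  haveI : IsNoetherianRing Γ(X, V) := IsLocallyNoetherian.component_noetherian ⟨V, hV⟩
  set p := (hV.primeIdealOf ⟨z, hzV⟩).asIdeal with hp
  obtain ⟨T, hT⟩ : p.FG := IsNoetherian.noetherian p
  -- each `c ∈ p` kills `t` near `z`
  have hkill : ∀ c ∈ p, ∃ (W' : X.Opens) (h : W' ≤ V), z ∈ W' ∧
      N.presheaf.map (homOfLE h).op (c • t) = 0 := by
    intro c hc
    have hnu : ¬ IsUnit (X.presheaf.germ V z hzV c) := by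
      rw [← Scheme.mem_basicOpen _ _ _ hzV, mem_basicOpen_iff_notMem_primeIdealOf hV z hzV c]
      exact not_not.2 hc
    have h0 := hn _ hnu
    rw [← QS.germ_smul] at h0
    have h0' : N.presheaf.germ V z hzV (c • t) = N.presheaf.germ V z hzV 0 := by
      rw [h0, map_zero]
    obtain ⟨W', hzW', iU, iV, hi⟩ := TopCat.Presheaf.germ_eq N.presheaf z hzV hzV _ _ h0'
    refine ⟨W', iU.le, hzW', ?_⟩
    rw [map_zero] at hi
    exact hi
  -- common neighbourhood for a finite set
  have hfin : ∀ T' : Finset Γ(X, V), (↑T' : Set Γ(X, V)) ⊆ p →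
      ∃ (W' : X.Opens) (h : W' ≤ V), z ∈ W' ∧
        ∀ c ∈ T', N.presheaf.map (homOfLE h).op (c • t) = 0 := by
    intro T'
    induction T' using Finset.induction_on with
    | empty => intro _; exact ⟨V, le_rfl, hzV, fun c hc => absurd hc (Finset.notMem_empty c)⟩
    | insert a T' ha ih =>
      intro hsub
      obtain ⟨W₁, h₁, hz₁, hk₁⟩ := ih (fun c hc => hsub (Finset.mem_insert_of_mem hc))
      obtain ⟨W₂, h₂, hz₂, hk₂⟩ := hkill a (hsub (Finset.mem_insert_self a T'))
      refine ⟨W₁ ⊓ W₂, inf_le_left.trans h₁, ⟨hz₁, hz₂⟩, ?_⟩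
      intro c hc
      rw [Finset.mem_insert] at hc
      rcases hc with rfl | hc
      · have : N.presheaf.map (homOfLE (inf_le_left.trans h₁ : W₁ ⊓ W₂ ≤ V)).op =
            N.presheaf.map (homOfLE h₂).op ≫
              N.presheaf.map (homOfLE (inf_le_right : W₁ ⊓ W₂ ≤ W₂)).op := by
          rw [← Functor.map_comp]; rfl
        rw [this, ConcreteCategory.comp_apply, hk₂, map_zero]
      · have : N.presheaf.map (homOfLE (inf_le_left.trans h₁ : W₁ ⊓ W₂ ≤ V)).op =
            N.presheaf.map (homOfLE h₁).op ≫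
              N.presheaf.map (homOfLE (inf_le_left : W₁ ⊓ W₂ ≤ W₁)).op := by
          rw [← Functor.map_comp]; rfl
        rw [this, ConcreteCategory.comp_apply, hk₁ c hc, map_zero]
  obtain ⟨W', hW'V, hzW', hk⟩ := hfin T (by rw [← hT]; exact Ideal.subset_span)
  -- the restricted section
  set t' : Γ(M, f ⁻¹ᵁ W') := N.presheaf.map (homOfLE hW'V).op t with ht'
  have ht'0 : t' ≠ 0 := by
    intro h0
    apply hn0
    have h2 := TopCat.Presheaf.germ_res_apply N.presheaf (homOfLE hW'V) z hzW' t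
    rw [← h2]
    have h0' : N.presheaf.map (homOfLE hW'V).op t = 0 := h0
    rw [h0', map_zero]
  obtain ⟨y, hy, hyt⟩ : ∃ (y : U') (hy : y ∈ f ⁻¹ᵁ W'), M.presheaf.germ (f ⁻¹ᵁ W') y hy t' ≠ 0 := by
    by_contra hcon
    push_neg at hcon
    exact ht'0 (eq_zero_of_subsingleton_stalk M (f ⁻¹ᵁ W') t' hcon)
  have hyV : f.base y ∈ V := hW'V hy
  have hle : p ≤ (hV.primeIdealOf ⟨f.base y, hyV⟩).asIdeal := by
    rw [← hT, Ideal.span_le]
    intro c hc
    by_contra hcn
    have hb : f.base y ∈ X.basicOpen c :=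
      (mem_basicOpen_iff_notMem_primeIdealOf hV (f.base y) hyV c).2 hcn
    set c' := X.presheaf.map (homOfLE hW'V).op c with hc'
    have hb' : f.base y ∈ X.basicOpen c' := by
      rw [hc', Scheme.basicOpen_res]; exact ⟨hy, hb⟩
    have hb'' : y ∈ U'.basicOpen (f.app W' c') := by
      rw [← Scheme.preimage_basicOpen]; exact hb'
    rw [Scheme.mem_basicOpen _ _ _ hy] at hb''
    have hzero : (f.app W' c') • t' = 0 := by
      have := hk c hc
      rw [Scheme.Modules.map_smul] at this
      exact this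
    apply hyt
    have h3 := QS.germ_smul M y hy (f.app W' c') t'
    rw [hzero, map_zero] at h3
    exact (hb''.smul_left_cancel).1 (by rw [← h3, smul_zero])
  have hspec : z ⤳ f.base y := (primeIdealOf_le_iff_specializes hV z (f.base y) hzV hyV).1 hle
  exact hz (hspec.mem_open f.isOpenEmbedding.isOpen_range ⟨y, rfl⟩)

end push

end Groth.Agent.Lib.Helper1.AssOpen
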