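import Mathlib
import Groth.Prelude.Def_FDesc
import Groth.Agent.Lib.Helper17.DevTF
import Groth.Agent.Lib.Helper17.DevKey
import Groth.Agent.Lib.Helper17.AssPt
import Groth.Agent.Lib.Helper1.AssOpen
import Groth.Agent.Lib.Helper27.ModSections
import Groth.Agent.Lib.Helper3.QCProps

/-!
# Associated points of a coherent module: finiteness, sections with supports
-/

set_option autoImplicit false
set_option linter.style.haveILetI false
universe u
open CategoryTheory CategoryTheory.Limits AlgebraicGeometry Opposite TopologicalSpace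

namespace Groth.Agent.Lib.Helper1.AssFilt

open Groth.Agent.Lib.Helper3 Groth.Agent.Lib.Helper17 Groth.Agent.Lib.Helper17.DevBasic
  Groth.Agent.Lib.Helper17.StalkExact Groth.Agent.Lib.Helper27 Groth.Agent.Lib.Helper17.DevTF

variable {X : Scheme.{u}}

theorem finite_ass [IsNoetherian X] (N : X.Modules) (hN : Coh.IsCoh N) :
    (AssSch.Ass N).Finite := by
  haveI := hN.1
  haveI := hN.2
  obtain ⟨ι, hι, U, hU, -, hcov⟩ := QCSec.exists_finite_affine_cover (⊤ : X.Opens)
    (by simpa using isCompact_univ)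
  haveI := hι
  have hsub : AssSch.Ass N ⊆ ⋃ i, (AssSch.Ass N ∩ (U i : Set X)) := by
    intro x hx
    have h1 : x ∈ (⨆ i, U i : X.Opens) := hcov (by trivial)
    obtain ⟨i, hi⟩ := Opens.mem_iSup.mp h1
    exact Set.mem_iUnion.mpr ⟨i, hx, hi⟩
  refine (Set.finite_iUnion (fun i => ?_)).subset hsub
  haveI : IsNoetherianRing Γ(X, U i) := IsLocallyNoetherian.component_noetherian ⟨U i, hU i⟩
  haveI : Module.Finite Γ(X, U i) Γ(N, U i) := QCProps.finite_sections N (hU i)
  have hfin : (associatedPrimes Γ(X, U i) Γ(N, U i)).Finite := associatedPrimes.finite _ _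
  have h2 : ((fun x : U i => ((hU i).primeIdealOf x).asIdeal) ⁻¹'
      (associatedPrimes Γ(X, U i) Γ(N, U i))).Finite := by
    apply hfin.preimage
    intro x _ y _ hxy
    have hxy' : (hU i).primeIdealOf x = (hU i).primeIdealOf y := PrimeSpectrum.ext hxy
    have h3 := congrArg (fun p => (hU i).fromSpec p) hxy'
    simp only [IsAffineOpen.fromSpec_primeIdealOf] at h3
    exact Subtype.ext h3
  refine (h2.image Subtype.val).subset ?_
  rintro x ⟨hx, hxU⟩
  exact ⟨⟨x, hxU⟩, (ModSections.isAssPoint_iff N (hU i) x hxU).mp hx, rfl⟩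

theorem exists_generic_most {S : Set X} (hS : S.Finite) (hne : S.Nonempty) :
    ∃ x ∈ S, ∀ y ∈ S, y ⤳ x → y = x := by
  letI : Preorder X := specializationPreorder X
  obtain ⟨m, hm⟩ := hS.exists_maximal hne
  refine ⟨m, hm.prop, fun y hy hym => ?_⟩
  have h1 : m ⤳ y := hm.2 hy hym
  exact (hym.antisymm h1).eq

theorem ass_tors_subset [IsNoetherian X] (V : X.Opens) (N : X.Modules) (hN : Coh.IsCoh N) :
    AssSch.Ass (tors V N) ⊆ AssSch.Ass N \ (V : Set X) := by
  intro x hx
  refine ⟨?_, fun hxV => ?_⟩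
  · exact (ModSections.ass_of_shortExact _ (shortExact_tf V N) (isCoh_tors V N hN).1 hN.1
      (isCoh_tf V N hN).1).1 hx
  · exact notMem_support_tors V N x hxV
      (not_subsingleton_iff_nontrivial.mpr (AssPt.nontrivial_stalk_of_isAssPoint _ x hx))

theorem ass_tf_subset [IsNoetherian X] (V : X.Opens) (N : X.Modules) (hN : Coh.IsCoh N) :
    AssSch.Ass (tf V N) ⊆ AssSch.Ass N ∩ (V : Set X) := by
  intro x hx
  have hT := isCoh_tf V N hN
  haveI := hT.1
  have hxV : x ∈ V := by
    by_contra hxV
    haveI hmono : Mono (un V (tf V N)) := torsFree_tf V N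
    haveI := isQuasicoherent_pushRestrict V (tf V N)
    have h1 := (ModSections.ass_of_shortExact _ (DevKey.shortExact_of_mono (un V (tf V N))) hT.1
      (isQuasicoherent_pushRestrict V (tf V N)) (QCProps.isQuasicoherent_cokernel _)).1 hx
    refine AssOpen.not_isAssPoint_push V.ι _ x ?_ h1
    rintro ⟨z, rfl⟩
    exact hxV z.2
  refine ⟨?_, hxV⟩
  have hinj : Function.Injective (stalkLin (cokernel.π (kernel.ι (un V N))) x) := by
    rw [injective_iff_map_eq_zero]
    intro m hm
    obtain ⟨t, rfl⟩ := (stalkLin_exact _ (shortExact_tf V N).exact x m).mp hm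
    haveI : Subsingleton ((tors V N).presheaf.stalk x) :=
      not_not.mp (notMem_support_tors V N x hxV)
    rw [Subsingleton.elim t 0, map_zero]
  have hsurj := stalkLin_surjective (cokernel.π (kernel.ι (un V N))) x
  let e := LinearEquiv.ofBijective _ ⟨hinj, hsurj⟩
  exact IsAssociatedPrime.map_of_injective (f := e.symm.toLinearMap) hx e.symm.injective

end Groth.Agent.Lib.Helper1.AssFilt
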