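import Mathlib
import Groth.Agent.Lib.Helper1.AssFilt1

/-!
# A filtration of a coherent module with coprimary quotients
-/

set_option autoImplicit false
set_option linter.style.haveILetI false
universe u
open CategoryTheory CategoryTheory.Limits AlgebraicGeometry Opposite TopologicalSpace

namespace Groth.Agent.Lib.Helper1.AssFilt

open Groth.Agent.Lib.Helper3 Groth.Agent.Lib.Helper17 Groth.Agent.Lib.Helper17.DevBasic
  Groth.Agent.Lib.Helper17.StalkExact Groth.Agent.Lib.Helper27 Groth.Agent.Lib.Helper17.DevTF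

variable {X : Scheme.{u}}

theorem ass_subset_of_iso {A B : X.Modules} (e : A ≅ B) : AssSch.Ass A ⊆ AssSch.Ass B := by
  intro x hx
  exact IsAssociatedPrime.map_of_injective (f := stalkLin e.hom x) hx (stalkLin_injective e.hom x)

theorem ass_eq_of_iso {A B : X.Modules} (e : A ≅ B) : AssSch.Ass A = AssSch.Ass B :=
  (ass_subset_of_iso e).antisymm (ass_subset_of_iso e.symm)

theorem isZero_of_ass_eq_empty [IsLocallyNoetherian X] (N : X.Modules) [N.IsQuasicoherent]
    (h : AssSch.Ass N = ∅) : IsZero N := by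
  apply isZero_of_support_eq_empty
  rw [Set.eq_empty_iff_forall_notMem]
  intro y hy
  obtain ⟨z, hz, -⟩ := AssPt.exists_assPoint_specializes_of_nontrivial N y
    (not_subsingleton_iff_nontrivial.mp hy)
  have : z ∈ AssSch.Ass N := hz
  rw [h] at this
  exact this

/-- a chain of coherent subobjects with coprimary quotients, associated points in `S`. -/
def HasChain (M : X.Modules) (S : Set X) : Prop :=
  ∃ (n : ℕ) (F : ℕ → Subobject M) (hF : Antitone F),
    F 0 = ⊤ ∧ F n = ⊥ ∧ (∀ j, Coh.IsCoh ((F j : Subobject M) : X.Modules)) ∧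
    ∀ i, i < n →
      (IsZero (cokernel (Subobject.ofLE (F (i + 1)) (F i) (hF (Nat.le_succ i)))) ∨
        ∃ x ∈ S, AssSch.Ass (cokernel (Subobject.ofLE (F (i + 1)) (F i) (hF (Nat.le_succ i)))) = {x})

theorem HasChain.mono {M : X.Modules} {S T : Set X} (h : HasChain M S) (hST : S ⊆ T) :
    HasChain M T := by
  obtain ⟨n, F, hF, h0, hn, hc, hq⟩ := h
  refine ⟨n, F, hF, h0, hn, hc, fun i hi => ?_⟩
  rcases hq i hi with hz | ⟨x, hx, hA⟩
  · exact Or.inl hz
  · exact Or.inr ⟨x, hST hx, hA⟩

theorem hasChain_of_isZero {M : X.Modules} (hz : IsZero M) (S : Set X) : HasChain M S := by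
  refine ⟨0, fun _ => ⊤, fun _ _ _ => le_rfl, rfl, ?_, fun j => ?_, fun i hi => absurd hi (by omega)⟩
  · rw [Subobject.top_eq_id]
    exact Subobject.mk_eq_bot_iff_zero.mpr (hz.eq_of_src _ _)
  · exact isCoh_of_iso (asIso (⊤ : Subobject M).arrow).symm (isCoh_of_isZero hz)

theorem hasChain_step {N' N : X.Modules} (ι : N' ⟶ N) [Mono ι] (S : Set X) (hN : Coh.IsCoh N)
    (h : HasChain N' S)
    (hq0 : IsZero (cokernel ι) ∨ ∃ x ∈ S, AssSch.Ass (cokernel ι) = {x}) : HasChain N S := by
  obtain ⟨n, F, hF, h0, hn, hc, hq⟩ := h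
  let G : ℕ → Subobject N := fun j => Nat.casesOn j ⊤ (fun j => Subobject.mk ((F j).arrow ≫ ι))
  have hG0 : G 0 = ⊤ := rfl
  have hGs : ∀ j, G (j + 1) = Subobject.mk ((F j).arrow ≫ ι) := fun j => rfl
  have hGanti : Antitone G := by
    apply antitone_nat_of_succ_le
    intro j
    cases j with
    | zero => rw [hG0]; exact le_top
    | succ j =>
      rw [hGs, hGs]
      refine Subobject.mk_le_mk_of_comm (Subobject.ofLE _ _ (hF (Nat.le_succ j))) ?_
      rw [← Category.assoc, Subobject.ofLE_arrow]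
  refine ⟨n + 1, G, hGanti, hG0, ?_, ?_, ?_⟩
  · rw [hGs]
    apply Subobject.mk_eq_bot_iff_zero.mpr
    have : (F n).arrow = 0 := by
      rw [hn]
      exact Subobject.bot_arrow
    rw [this, zero_comp]
  · intro j
    cases j with
    | zero => exact isCoh_of_iso (asIso (⊤ : Subobject N).arrow).symm hN
    | succ j => exact isCoh_of_iso (Subobject.underlyingIso ((F j).arrow ≫ ι)).symm (hc j)
  · intro i hi
    cases i with
    | zero =>
      haveI : IsIso (F 0).arrow := (Subobject.isIso_arrow_iff_eq_top _).mpr h0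
      let p1 : ((G (0 + 1) : Subobject N) : X.Modules) ≅ ((F 0 : Subobject N') : X.Modules) :=
        Subobject.underlyingIso ((F 0).arrow ≫ ι)
      let p := p1 ≪≫ asIso (F 0).arrow
      have hIso0 : IsIso (G 0).arrow := (Subobject.isIso_arrow_iff_eq_top _).mpr hG0
      let q := @asIso _ _ _ _ (G 0).arrow hIso0
      have w : Subobject.ofLE (G (0 + 1)) (G 0) (hGanti (Nat.le_succ 0)) ≫ q.hom = p.hom ≫ ι := by
        have hL : Subobject.ofLE (G (0 + 1)) (G 0) (hGanti (Nat.le_succ 0)) ≫ q.hom = (G (0 + 1)).arrow :=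
          Subobject.ofLE_arrow _
        have hR : p.hom ≫ ι = (G (0 + 1)).arrow := by
          show (p1.hom ≫ (F 0).arrow) ≫ ι = (G (0 + 1)).arrow
          rw [Category.assoc]
          exact Subobject.underlyingIso_hom_comp_eq_mk _
        rw [hL, hR]
      let e := cokernel.mapIso _ _ p q w
      rcases hq0 with hz | ⟨x, hx, hA⟩
      · exact Or.inl (hz.of_iso e)
      · exact Or.inr ⟨x, hx, (ass_eq_of_iso e).trans hA⟩
    | succ i =>
      have hi' : i < n := by omega
      let p : ((G (i + 2) : Subobject N) : X.Modules) ≅ ((F (i + 1) : Subobject N') : X.Modules) :=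
        Subobject.underlyingIso ((F (i + 1)).arrow ≫ ι)
      let q : ((G (i + 1) : Subobject N) : X.Modules) ≅ ((F i : Subobject N') : X.Modules) :=
        Subobject.underlyingIso ((F i).arrow ≫ ι)
      have hle : F (i + 1) ≤ F i := hF (Nat.le_succ i)
      have w : Subobject.ofLE (G (i + 2)) (G (i + 1)) (hGanti (Nat.le_succ (i + 1))) ≫ q.hom =
          p.hom ≫ Subobject.ofLE (F (i + 1)) (F i) hle := by
        apply (cancel_mono ((F i).arrow ≫ ι)).mp
        have hq' : q.hom ≫ (F i).arrow ≫ ι = (G (i + 1)).arrow :=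
          Subobject.underlyingIso_hom_comp_eq_mk _
        have hp' : p.hom ≫ (F (i + 1)).arrow ≫ ι = (G (i + 2)).arrow :=
          Subobject.underlyingIso_hom_comp_eq_mk _
        rw [Category.assoc, hq', Subobject.ofLE_arrow, Category.assoc,
          ← Category.assoc (Subobject.ofLE _ _ _), Subobject.ofLE_arrow, hp']
      let e := cokernel.mapIso _ _ p q w
      rcases hq i hi' with hz | ⟨x, hx, hA⟩
      · exact Or.inl (hz.of_iso e)
      · exact Or.inr ⟨x, hx, (ass_eq_of_iso e).trans hA⟩

end Groth.Agent.Lib.Helper1.AssFilt
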