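import Mathlib
import Groth.Agent.Lib.Helper1.AssFilt2
import Groth.Agent.Lib.Helper1.ARees
import Groth.Agent.Lib.Helper1.IdealMulSec
import Groth.Agent.Lib.Helper3.AffinePoints

/-!
# Towards primary decomposition of coherent modules: local tools
-/

set_option autoImplicit false
set_option linter.style.haveILetI false
universe u
open CategoryTheory CategoryTheory.Limits AlgebraicGeometry Opposite TopologicalSpace

namespace Groth.Agent.Lib.Helper1.AssPrim

open Groth.Agent.Lib.Helper3 Groth.Agent.Lib.Helper17 Groth.Agent.Lib.Helper17.DevBasic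
  Groth.Agent.Lib.Helper17.StalkExact Groth.Agent.Lib.Helper27 Groth.Agent.Lib.Helper17.DevTF
  Groth.Agent.Lib.Helper1.AssFilt

variable {X : Scheme.{u}}

/-- the socle meets a high power trivially. -/
theorem exists_pow_socle {R : Type*} [CommRing R] [IsNoetherianRing R] (I : Ideal R)
    (M : Type*) [AddCommGroup M] [Module R M] [Module.Finite R M] :
    ∃ n : ℕ, ∀ m ∈ I ^ n • (⊤ : Submodule R M), (∀ a ∈ I, a • m = 0) → m = 0 := by
  let N : Submodule R M :=
    { carrier := {x | ∀ a ∈ I, a • x = 0}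
      add_mem' := fun {x y} hx hy a ha => by rw [smul_add, hx a ha, hy a ha, add_zero]
      zero_mem' := fun a _ => smul_zero a
      smul_mem' := fun c x hx a ha => by rw [smul_comm, hx a ha, smul_zero] }
  obtain ⟨k, hk⟩ := ARees.exists_pow_inf_eq_bot I N 1
    (by intro a ha x hx; rw [pow_one] at ha; exact hx a ha)
  refine ⟨k + 1, fun m hm hs => ?_⟩
  have h1 : m ∈ (I ^ (k + 1) • (⊤ : Submodule R M)) ⊓ N := ⟨hm, hs⟩
  rw [hk (k + 1) le_rfl] at h1
  exact (Submodule.mem_bot R).mp h1

/-- elements of the stalk killed by `M → M/JM` lie in `𝔞 M_y` when germs of `J` lie in `𝔞`. -/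
theorem mem_of_stalk_proj_eq_zero (J : X.IdealSheafData) (M : X.Modules) [M.IsQuasicoherent]
    (y : X) (𝔞 : Ideal (X.presheaf.stalk y))
    (h : ∀ (U : X.affineOpens) (hy : y ∈ U.1) (a : Γ(X, U.1)), a ∈ J.ideal U →
      X.presheaf.germ U.1 y hy a ∈ 𝔞)
    (m : M.presheaf.stalk y) (hm : stalkLin (DevStep.proj J M) y m = 0) :
    m ∈ 𝔞 • (⊤ : Submodule (X.presheaf.stalk y) (M.presheaf.stalk y)) := by
  have hS : (ShortComplex.mk (kernel.ι (DevStep.proj J M)) (DevStep.proj J M)
      (kernel.condition _)).ShortExact :=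
    ShortComplex.ShortExact.mk' (ShortComplex.exact_kernel _) (by dsimp; infer_instance)
      (by dsimp; infer_instance)
  haveI : Mono (ShortComplex.mk (kernel.ι (DevStep.proj J M)) (DevStep.proj J M)
      (kernel.condition _)).f := hS.mono_f
  obtain ⟨k, rfl⟩ := (stalkLin_exact _ hS.exact y m).mp hm
  obtain ⟨W, hyW, s, rfl⟩ := TopCat.Presheaf.exists_germ_eq
    ((Dual3.idealMul J).obj M).presheaf k
  obtain ⟨U, hU, hyU, hUW⟩ := Opens.isBasis_iff_nbhd.mp X.isBasis_affineOpens hyW
  show stalkLin (Dual3.idealMulι J M) y _ ∈ _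
  rw [stalkLin_apply, QS.stalkMap_germ,
    ← TopCat.Presheaf.germ_res_apply M.presheaf (homOfLE hUW) y hyU,
    ← ModBasic.app_res (Dual3.idealMulι J M) hUW s]
  have hmem := Dev9522.idealMulι_app_mem J M ⟨U, hU⟩
    (((Dual3.idealMul J).obj M).presheaf.map (homOfLE hUW).op s)
  refine Submodule.smul_induction_on
    (p := fun x => M.presheaf.germ U y hyU x ∈
      𝔞 • (⊤ : Submodule (X.presheaf.stalk y) (M.presheaf.stalk y))) hmem ?_ ?_
  · intro a ha x _
    rw [QS.germ_smul]
    exact Submodule.smul_mem_smul (h ⟨U, hU⟩ hyU a ha) trivial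
  · intro a b ha hb
    rw [map_add]
    exact Submodule.add_mem _ ha hb

theorem germ_mem_pow (y : X) (n : ℕ) (U : X.affineOpens) (hy : y ∈ U.1) (a : Γ(X, U.1))
    (ha : a ∈ ((Scheme.IdealSheafData.vanishingIdeal
      ⟨closure {y}, isClosed_closure⟩) ^ n).ideal U) :
    X.presheaf.germ U.1 y hy a ∈ IsLocalRing.maximalIdeal (X.presheaf.stalk y) ^ n := by
  have h1 : ∀ b ∈ (Scheme.IdealSheafData.vanishingIdeal
      ⟨closure {y}, isClosed_closure⟩).ideal U,
      X.presheaf.germ U.1 y hy b ∈ IsLocalRing.maximalIdeal (X.presheaf.stalk y) := by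
    intro b hb
    rw [Scheme.IdealSheafData.vanishingIdeal_ideal, PrimeSpectrum.mem_vanishingIdeal] at hb
    have h2 : b ∈ (U.2.primeIdealOf ⟨y, hy⟩).asIdeal := by
      apply hb
      show U.2.fromSpec (U.2.primeIdealOf ⟨y, hy⟩) ∈ closure {y}
      rw [U.2.fromSpec_primeIdealOf ⟨y, hy⟩]
      exact subset_closure rfl
    rw [IsLocalRing.mem_maximalIdeal, mem_nonunits_iff, ← Scheme.mem_basicOpen _ _ _ hy,
      mem_basicOpen_iff_notMem_primeIdealOf U.2 y hy b]
    exact not_not.mpr h2
  have h3 : Ideal.map (X.presheaf.germ U.1 y hy).hom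
      ((Scheme.IdealSheafData.vanishingIdeal ⟨closure {y}, isClosed_closure⟩).ideal U) ≤
      IsLocalRing.maximalIdeal (X.presheaf.stalk y) := by
    rw [Ideal.map_le_iff_le_comap]
    intro b hb
    exact h1 b hb
  have h4 := Ideal.pow_right_mono h3 n
  rw [← Ideal.map_pow] at h4
  exact h4 (Ideal.mem_map_of_mem _ ha)

section LN

variable [IsLocallyNoetherian X] (V : X.Opens)

theorem isQuasicoherent_pushRestrict' (F : X.Modules) [F.IsQuasicoherent] :
    ((Scheme.Modules.pushforward V.ι).obj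
      ((Scheme.Modules.restrictFunctor V.ι).obj F)).IsQuasicoherent := by
  haveI : ((Scheme.Modules.restrictFunctor V.ι).obj F).IsQuasicoherent :=
    Scheme.Modules.isQuasicoherent_restrictFunctor V.ι F
  exact QCSec.isQuasicoherent_pushforward V.ι _

theorem isCoh_tors' (F : X.Modules) (hF : Coh.IsCoh F) : Coh.IsCoh (tors V F) := by
  haveI := hF.1
  exact isCoh_kernel _ hF (isQuasicoherent_pushRestrict' V F)

theorem isCoh_tf' (F : X.Modules) (hF : Coh.IsCoh F) : Coh.IsCoh (tf V F) :=
  isCoh_cokernel _ (isCoh_tors' V F hF).1 hF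

omit [IsLocallyNoetherian X] in
theorem stalkLin_tfπ_injective (N : X.Modules) (x : X) (hxV : x ∈ V) :
    Function.Injective (stalkLin (cokernel.π (kernel.ι (un V N))) x) := by
  rw [injective_iff_map_eq_zero]
  intro m hm
  obtain ⟨t, rfl⟩ := (stalkLin_exact _ (shortExact_tf V N).exact x m).mp hm
  haveI : Subsingleton ((tors V N).presheaf.stalk x) :=
    not_not.mp (notMem_support_tors V N x hxV)
  rw [Subsingleton.elim t 0, map_zero]

theorem ass_tf_subset' (N : X.Modules) (hN : Coh.IsCoh N) :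
    AssSch.Ass (tf V N) ⊆ AssSch.Ass N ∩ (V : Set X) := by
  intro x hx
  have hT := isCoh_tf' V N hN
  haveI := hT.1
  have hxV : x ∈ V := by
    by_contra hxV
    haveI hmono : Mono (un V (tf V N)) := torsFree_tf V N
    haveI := isQuasicoherent_pushRestrict' V (tf V N)
    have h1 := (ModSections.ass_of_shortExact _ (DevKey.shortExact_of_mono (un V (tf V N))) hT.1
      (isQuasicoherent_pushRestrict' V (tf V N)) (QCProps.isQuasicoherent_cokernel _)).1 hx
    refine AssOpen.not_isAssPoint_push V.ι _ x ?_ h1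
    rintro ⟨z, rfl⟩
    exact hxV z.2
  refine ⟨?_, hxV⟩
  have hsurj := stalkLin_surjective (cokernel.π (kernel.ι (un V N))) x
  let e := LinearEquiv.ofBijective _ ⟨stalkLin_tfπ_injective V N x hxV, hsurj⟩
  exact IsAssociatedPrime.map_of_injective (f := e.symm.toLinearMap) hx e.symm.injective

theorem finite_ass_inter (N : X.Modules) (hN : Coh.IsCoh N) {U : X.Opens} (hU : IsAffineOpen U) :
    (AssSch.Ass N ∩ (U : Set X)).Finite := by
  haveI := hN.1
  haveI := hN.2
  haveI : IsNoetherianRing Γ(X, U) := IsLocallyNoetherian.component_noetherian ⟨U, hU⟩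
  haveI : Module.Finite Γ(X, U) Γ(N, U) := QCProps.finite_sections N hU
  have hfin : (associatedPrimes Γ(X, U) Γ(N, U)).Finite := associatedPrimes.finite _ _
  have h2 : ((fun x : U => (hU.primeIdealOf x).asIdeal) ⁻¹'
      (associatedPrimes Γ(X, U) Γ(N, U))).Finite := by
    apply hfin.preimage
    intro x _ y _ hxy
    have hxy' : hU.primeIdealOf x = hU.primeIdealOf y := PrimeSpectrum.ext hxy
    have h3 := congrArg (fun p => hU.fromSpec p) hxy'
    simp only [IsAffineOpen.fromSpec_primeIdealOf] at h3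
    exact Subtype.ext h3
  refine (h2.image Subtype.val).subset ?_
  rintro x ⟨hx, hxU⟩
  exact ⟨⟨x, hxU⟩, (ModSections.isAssPoint_iff N hU x hxU).mp hx, rfl⟩

end LN

end Groth.Agent.Lib.Helper1.AssPrim
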