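import Mathlib
import Groth.Agent.Lib.Helper1.AssPrim1
import Groth.Agent.Lib.Helper17.CohStalk
import Groth.Agent.Lib.Helper17.SuppKill

/-!
# Primary decomposition of coherent modules on locally Noetherian schemes
-/

set_option autoImplicit false
set_option linter.style.haveILetI false
universe u
open CategoryTheory CategoryTheory.Limits AlgebraicGeometry Opposite TopologicalSpace

namespace Groth.Agent.Lib.Helper1.AssPrim

open Groth.Agent.Lib.Helper3 Groth.Agent.Lib.Helper17 Groth.Agent.Lib.Helper17.DevBasic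
  Groth.Agent.Lib.Helper17.StalkExact Groth.Agent.Lib.Helper27 Groth.Agent.Lib.Helper17.DevTF
  Groth.Agent.Lib.Helper1.AssFilt

variable {X : Scheme.{u}} [IsLocallyNoetherian X]

theorem exists_primary_quotient (M : X.Modules) (hM : Coh.IsCoh M) (y : X)
    (hy : y ∈ AssSch.Ass M) :
    ∃ (G : X.Modules) (q : M ⟶ G), Epi q ∧ Coh.IsCoh G ∧ AssSch.Ass G = {y} ∧
      y ∉ AssSch.Ass (kernel q) := by
  haveI := hM.1
  haveI := hM.2
  haveI : Module.Finite (X.presheaf.stalk y) (M.presheaf.stalk y) := CohStalk.finite_stalk M y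
  obtain ⟨n, hn⟩ := exists_pow_socle (IsLocalRing.maximalIdeal (X.presheaf.stalk y))
    (M.presheaf.stalk y)
  set I := Scheme.IdealSheafData.vanishingIdeal ⟨closure {y}, isClosed_closure⟩ with hI
  have hM₂ : Coh.IsCoh (DevStep.quot (I ^ (n + 1)) M) := DevStep.isCoh_quot (I ^ (n + 1)) M hM
  haveI := hM₂.1
  have hsupp₂ : CohB1.support (DevStep.quot (I ^ (n + 1)) M) ⊆ closure {y} := by
    have h1 := SuppKill.support_subset_of_kill (DevStep.quot (I ^ (n + 1)) M) (I ^ (n + 1))
      ((killed_iff _ _).mp (DevStep.killed_quot (I ^ (n + 1)) M))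
    rw [Scheme.IdealSheafData.support_pow_succ, hI,
      Scheme.IdealSheafData.coe_support_vanishingIdeal] at h1
    exact h1
  obtain ⟨U₀, hU₀, hyU₀⟩ := ModSections.exists_affine_nbhd y
  have hfin := finite_ass_inter (DevStep.quot (I ^ (n + 1)) M) hM₂ hU₀
  let W : Set X := ⋃ z ∈ (AssSch.Ass (DevStep.quot (I ^ (n + 1)) M) ∩ (U₀ : Set X)) \ {y},
    closure {z}
  have hWc : IsClosed W :=
    (hfin.subset Set.diff_subset).isClosed_biUnion (fun z _ => isClosed_closure)
  let V' : X.Opens := U₀ ⊓ ⟨Wᶜ, hWc.isOpen_compl⟩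
  have hyV' : y ∈ V' := by
    refine ⟨hyU₀, ?_⟩
    show y ∈ Wᶜ
    intro hyW
    obtain ⟨z, hz, hyz⟩ := Set.mem_iUnion₂.mp hyW
    have h1 : z ⤳ y := specializes_iff_mem_closure.mpr hyz
    have h2 : y ⤳ z := specializes_iff_mem_closure.mpr
      (hsupp₂ (not_subsingleton_iff_nontrivial.mpr
        (AssPt.nontrivial_stalk_of_isAssPoint _ z hz.1.1)))
    exact hz.2 (h1.antisymm h2).eq
  refine ⟨tf V' (DevStep.quot (I ^ (n + 1)) M),
    DevStep.proj (I ^ (n + 1)) M ≫ cokernel.π (kernel.ι (un V' (DevStep.quot (I ^ (n + 1)) M))),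
    epi_comp _ _, isCoh_tf' V' _ hM₂, ?_, ?_⟩
  all_goals
    have core : ∀ m : M.presheaf.stalk y,
        (∀ a ∈ IsLocalRing.maximalIdeal (X.presheaf.stalk y), a • m = 0) →
        stalkLin (DevStep.proj (I ^ (n + 1)) M ≫
          cokernel.π (kernel.ι (un V' (DevStep.quot (I ^ (n + 1)) M)))) y m = 0 → m = 0 := by
      intro m hs hm
      rw [stalkLin_apply, QS.stalkMap_comp_apply] at hm
      have h1 : stalkLin (DevStep.proj (I ^ (n + 1)) M) y m = 0 := by
        apply stalkLin_tfπ_injective V' _ y hyV'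
        rw [map_zero]
        exact hm
      have h2 := mem_of_stalk_proj_eq_zero (I ^ (n + 1)) M y
        (IsLocalRing.maximalIdeal (X.presheaf.stalk y) ^ (n + 1))
        (fun U hyU a ha => germ_mem_pow y (n + 1) U hyU a ha) m h1
      have h3 : IsLocalRing.maximalIdeal (X.presheaf.stalk y) ^ (n + 1) •
          (⊤ : Submodule (X.presheaf.stalk y) (M.presheaf.stalk y)) ≤
          IsLocalRing.maximalIdeal (X.presheaf.stalk y) ^ n • ⊤ :=
        Submodule.smul_mono_left (Ideal.pow_le_pow_right (Nat.le_succ n))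
      exact hn m (h3 h2) hs
  · -- associated points of the quotient
    have hsub : AssSch.Ass (tf V' (DevStep.quot (I ^ (n + 1)) M)) ⊆ {y} := by
      intro z hz
      obtain ⟨hz1, hz2⟩ := ass_tf_subset' V' _ hM₂ hz
      by_contra hzy
      exact hz2.2 (Set.mem_iUnion₂.mpr ⟨z, ⟨⟨hz1, hz2.1⟩, hzy⟩, subset_closure rfl⟩)
    refine Set.Subset.antisymm hsub (Set.singleton_subset_iff.mpr ?_)
    obtain ⟨n₀, hn₀, hn₀'⟩ := (AssOpen.isAssPoint_iff_exists M y).mp hy
    have hne : stalkLin (DevStep.proj (I ^ (n + 1)) M ≫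
        cokernel.π (kernel.ι (un V' (DevStep.quot (I ^ (n + 1)) M)))) y n₀ ≠ 0 :=
      fun h0 => hn₀ (core n₀ (fun a ha => hn₀' a ha) h0)
    haveI := (isCoh_tf' V' _ hM₂).1
    obtain ⟨z, hz, -⟩ := AssPt.exists_assPoint_specializes_of_nontrivial
      (tf V' (DevStep.quot (I ^ (n + 1)) M)) y ⟨⟨_, 0, hne⟩⟩
    have hzy : z = y := hsub hz
    rw [← hzy]
    exact hz
  · -- the kernel has no `y`-torsion
    intro hk
    obtain ⟨k, hk0, hk'⟩ := (AssOpen.isAssPoint_iff_exists _ y).mp hk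
    apply hk0
    apply stalkLin_injective (kernel.ι (DevStep.proj (I ^ (n + 1)) M ≫
      cokernel.π (kernel.ι (un V' (DevStep.quot (I ^ (n + 1)) M))))) y
    rw [map_zero]
    apply core
    · intro a ha
      rw [← map_smul, hk' a ha, map_zero]
    · rw [stalkLin_apply, stalkLin_apply, ← QS.stalkMap_comp_apply, kernel.condition,
        QS.stalkMap_zero_apply]

end Groth.Agent.Lib.Helper1.AssPrim
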