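import Mathlib

/-!
# Going-down for a finite module which is flat over a base ring
-/

set_option autoImplicit false
universe u
open TensorProduct

namespace Groth.Agent.Lib.Helper1.FlatGD

section TorsionFree

variable {A N : Type*} [CommRing A] [AddCommGroup N] [Module A N]

/-- for a flat module `N` and a prime `p`, `N/pN` has no `a`-torsion for `a ∉ p`. -/
theorem mem_smul_top_of_smul_mem [Module.Flat A N] (p : Ideal A) [p.IsPrime] (a : A) (ha : a ∉ p)
    (n : N) (h : a • n ∈ p • (⊤ : Submodule A N)) : n ∈ p • (⊤ : Submodule A N) := by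
  let e := quotTensorEquivQuotSMul N p
  have hreg : IsSMulRegular ((A ⧸ p) ⊗[A] N) (Ideal.Quotient.mk p a) := by
    apply Module.Flat.isSMulRegular_of_isRegular
    apply isRegular_of_ne_zero
    intro h0
    exact ha (Ideal.Quotient.eq_zero_iff_mem.mp h0)
  have h1 : a • (Submodule.Quotient.mk n : N ⧸ (p • (⊤ : Submodule A N))) = 0 := by
    rw [← Submodule.Quotient.mk_smul]
    exact (Submodule.Quotient.mk_eq_zero _).mpr h
  have h2 : (Ideal.Quotient.mk p a) • e.symm (Submodule.Quotient.mk n) = 0 := by
    have : (Ideal.Quotient.mk p a) • e.symm (Submodule.Quotient.mk n) =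
        a • e.symm (Submodule.Quotient.mk n) := by
      rw [← Ideal.Quotient.algebraMap_eq, algebraMap_smul]
    rw [this, ← map_smul, h1, map_zero]
  have h3 : e.symm (Submodule.Quotient.mk n) = 0 :=
    hreg (show (Ideal.Quotient.mk p a) • e.symm (Submodule.Quotient.mk n) =
      (Ideal.Quotient.mk p a) • 0 by rw [h2, smul_zero])
  have h4 : (Submodule.Quotient.mk n : N ⧸ (p • (⊤ : Submodule A N))) = 0 := by
    have := congrArg e h3
    rwa [LinearEquiv.apply_symm_apply, map_zero] at this
  exact (Submodule.Quotient.mk_eq_zero _).mp h4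

end TorsionFree

theorem exists_prime_support_comap_eq
    {A R B : Type*} [CommRing A] [CommRing R] [CommRing B] [Algebra A R] [Algebra R B]
    (P : Ideal R) [P.IsPrime] [IsLocalization.AtPrime B P]
    {M N : Type*} [AddCommGroup M] [Module R M] [Module.Finite R M]
    [AddCommGroup N] [Module R N] [Module B N] [IsScalarTower R B N]
    [Module A N] [IsScalarTower A R N]
    (g : M →ₗ[R] N) [IsLocalizedModule P.primeCompl g]
    [Module.Flat A N] [Nontrivial N]
    (p : Ideal A) [p.IsPrime] (hp : p ≤ P.comap (algebraMap A R)) :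
    ∃ Q : Ideal R, Q.IsPrime ∧ Q ≤ P ∧ Q.comap (algebraMap A R) = p ∧
      ∃ m : M, ∀ r : R, r • m = 0 → r ∈ Q := by
  haveI : IsLocalRing B := IsLocalization.AtPrime.isLocalRing B P
  haveI : Module.Finite B N := Module.Finite.of_isLocalizedModule P.primeCompl (Rₚ := B) g
  -- the action of `A` through `B`
  have hAB : ∀ (a : A) (x : N), a • x = algebraMap R B (algebraMap A R a) • x := by
    intro a x
    rw [algebraMap_smul, algebraMap_smul]
  -- `pN` is stable under `B`
  have hstab : ∀ (b : B) (x : N), x ∈ p • (⊤ : Submodule A N) → b • x ∈ p • (⊤ : Submodule A N) := by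
    intro b x hx
    refine Submodule.smul_induction_on hx ?_ ?_
    · intro a ha y _
      have : b • a • y = a • b • y := by
        rw [hAB a y, hAB a (b • y), smul_smul, smul_smul, mul_comm]
      rw [this]
      exact Submodule.smul_mem_smul ha Submodule.mem_top
    · intro x y hx hy
      rw [smul_add]
      exact Submodule.add_mem _ hx hy
  -- Nakayama: `pN ≠ N`
  have hne : ∃ n₀ : N, n₀ ∉ p • (⊤ : Submodule A N) := by
    by_contra hcon
    push Not at hcon
    have hle : (⊤ : Submodule B N) ≤ IsLocalRing.maximalIdeal B • (⊤ : Submodule B N) := by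
      intro n _
      have hn := hcon n
      refine Submodule.smul_induction_on hn ?_ ?_
      · intro a ha y _
        rw [hAB a y]
        apply Submodule.smul_mem_smul _ Submodule.mem_top
        rw [IsLocalization.AtPrime.to_map_mem_maximal_iff B P]
        exact hp ha
      · intro x y hx hy
        exact Submodule.add_mem _ hx hy
    have hbot := Submodule.eq_bot_of_le_smul_of_le_jacobson_bot (IsLocalRing.maximalIdeal B)
      (⊤ : Submodule B N) Module.Finite.fg_top hle (IsLocalRing.maximalIdeal_le_jacobson _)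
    obtain ⟨x, hx⟩ := exists_ne (0 : N)
    have : x ∈ (⊤ : Submodule B N) := trivial
    rw [hbot] at this
    exact hx ((Submodule.mem_bot B).mp this)
  obtain ⟨n₀, hn₀⟩ := hne
  -- the ideal `(pN : n₀)` of `B`
  let 𝔞 : Ideal B :=
    { carrier := {b | b • n₀ ∈ p • (⊤ : Submodule A N)}
      add_mem' := fun {b c} hb hc => by
        show (b + c) • n₀ ∈ p • (⊤ : Submodule A N)
        rw [add_smul]
        exact Submodule.add_mem _ hb hc
      zero_mem' := by
        show (0 : B) • n₀ ∈ p • (⊤ : Submodule A N)
        rw [zero_smul]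
        exact Submodule.zero_mem _
      smul_mem' := fun c b hb => by
        show (c • b) • n₀ ∈ p • (⊤ : Submodule A N)
        rw [smul_eq_mul, mul_smul]
        exact hstab c _ hb }
  let ψ : A →+* B := (algebraMap R B).comp (algebraMap A R)
  have hdisj : Disjoint (𝔞 : Set B) (Submonoid.map ψ p.primeCompl : Submonoid B) := by
    rw [Set.disjoint_left]
    rintro _ hb ⟨a, ha, rfl⟩
    apply hn₀
    apply mem_smul_top_of_smul_mem p a ha n₀
    rw [hAB a n₀]
    exact hb
  obtain ⟨𝔮, h𝔮, hle, hd⟩ := Ideal.exists_le_prime_disjoint 𝔞 _ hdisj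
  refine ⟨𝔮.comap (algebraMap R B), Ideal.comap_isPrime _ _, ?_, ?_, ?_⟩
  · intro r hr
    rw [← IsLocalization.AtPrime.to_map_mem_maximal_iff B P]
    exact IsLocalRing.le_maximalIdeal h𝔮.ne_top hr
  · ext a
    rw [Ideal.mem_comap, Ideal.mem_comap]
    constructor
    · intro ha
      by_contra hap
      exact (Set.disjoint_left.mp hd) ha ⟨a, hap, rfl⟩
    · intro ha
      apply hle
      show (algebraMap R B (algebraMap A R a)) • n₀ ∈ p • (⊤ : Submodule A N)
      rw [← hAB a n₀]
      exact Submodule.smul_mem_smul ha Submodule.mem_top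
  · obtain ⟨⟨m, s⟩, hms⟩ := IsLocalizedModule.surj P.primeCompl g n₀
    refine ⟨m, fun r hr => ?_⟩
    have h1 : (algebraMap R B (r * s.1)) • n₀ = 0 := by
      rw [algebraMap_smul, mul_smul]
      have : (s.1 : R) • n₀ = g m := hms
      rw [this, ← map_smul, hr, map_zero]
    have h2 : algebraMap R B (r * s.1) ∈ 𝔮 := by
      apply hle
      show (algebraMap R B (r * s.1)) • n₀ ∈ p • (⊤ : Submodule A N)
      rw [h1]
      exact Submodule.zero_mem _
    have h3 : r * s.1 ∈ 𝔮.comap (algebraMap R B) := h2
    rcases (Ideal.comap_isPrime (algebraMap R B) 𝔮).mem_or_mem h3 with h | h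
    · exact h
    · exfalso
      have hsP : (s.1 : R) ∈ P := by
        rw [← IsLocalization.AtPrime.to_map_mem_maximal_iff B P]
        exact IsLocalRing.le_maximalIdeal h𝔮.ne_top h
      exact s.2 hsP

end Groth.Agent.Lib.Helper1.FlatGD
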