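import Mathlib
import Groth.Prelude
import Groth.Agent.Lib.Helper1.FlatGD1
import Groth.Agent.Lib.Helper3.AssPoints
import Groth.Agent.Lib.Helper3.QCProps
import Groth.Agent.Lib.Helper12.SchemeDimIneq
import Groth.Agent.Lib.Helper12.SchemeDimFT
import Groth.Agent.Lib.Helper17.AssGen
import Groth.Agent.Lib.Helper17.PbStalk
import Groth.Agent.Lib.Helper17.SuppTensor

/-!
# Going-down for the support of a module flat over the base
-/

set_option autoImplicit false
set_option linter.style.haveILetI false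
universe u
open CategoryTheory CategoryTheory.Limits AlgebraicGeometry TopologicalSpace Opposite

namespace Groth.Agent.Lib.Helper1.FlatGD

open Groth.Agent.Lib.Helper3 Groth.Agent.Lib.Helper17 Groth.Agent.Lib.Helper12

variable {X Y : Scheme.{u}}

theorem exists_generization_support (f : X ⟶ Y) (F : X.Modules) (hF : Coh.IsCoh F)
    (x : X) (hfl : FlatMod.IsFlatOverAt f F x) (hx : x ∈ CohB1.support F) (w : Y)
    (hw : w ⤳ f x) : ∃ z : X, z ⤳ x ∧ z ∈ CohB1.support F ∧ f z = w := by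
  haveI := hF.1
  haveI := hF.2
  obtain ⟨W, hW, hfxW⟩ := QCProps.exists_affine_nbhd (f x)
  obtain ⟨_, ⟨V, hV, rfl⟩, hxV, hVW⟩ := X.isBasis_affineOpens.exists_subset_of_mem_open
    (show x ∈ ((f ⁻¹ᵁ W : X.Opens) : Set X) from hfxW) (f ⁻¹ᵁ W).2
  have e : V ≤ f ⁻¹ᵁ W := hVW
  have hwW : w ∈ W := hw.mem_open W.2 hfxW
  -- the rings and modules
  letI algAR : Algebra Γ(Y, W) Γ(X, V) := (f.appLE W V e).hom.toAlgebra
  letI algRB : Algebra Γ(X, V) (X.presheaf.stalk x) :=
    TopCat.Presheaf.algebra_section_stalk X.presheaf (U := V) ⟨x, hxV⟩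
  letI modRN : Module Γ(X, V) (F.presheaf.stalk x) :=
    Module.compHom _ (algebraMap Γ(X, V) (X.presheaf.stalk x))
  haveI towRBN : IsScalarTower Γ(X, V) (X.presheaf.stalk x) (F.presheaf.stalk x) :=
    IsScalarTower.of_algebraMap_smul fun r y => rfl
  haveI locB : IsLocalization.AtPrime (X.presheaf.stalk x) (hV.primeIdealOf ⟨x, hxV⟩).asIdeal :=
    hV.isLocalization_stalk ⟨x, hxV⟩
  let g : Γ(F, V) →ₗ[Γ(X, V)] F.presheaf.stalk x :=
    { toFun := F.presheaf.germ V x hxV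
      map_add' := map_add _
      map_smul' := fun r m => QS.germ_smul F x hxV r m }
  haveI hloc : IsLocalizedModule (hV.primeIdealOf ⟨x, hxV⟩).asIdeal.primeCompl g :=
    QS.isLocalizedModule_germ hV F x hxV (fun r y => rfl) g (fun m => rfl)
  letI modAN : Module Γ(Y, W) (F.presheaf.stalk x) :=
    Module.compHom _ (algebraMap Γ(Y, W) Γ(X, V))
  haveI towARN : IsScalarTower Γ(Y, W) Γ(X, V) (F.presheaf.stalk x) :=
    IsScalarTower.of_algebraMap_smul fun r y => rfl
  haveI : Module.Finite Γ(X, V) Γ(F, V) := QCProps.finite_sections F hV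
  haveI : Nontrivial (F.presheaf.stalk x) := not_subsingleton_iff_nontrivial.mp hx
  -- flatness over `Γ(Y, W)`
  haveI hflat : Module.Flat Γ(Y, W) (F.presheaf.stalk x) := by
    letI algAC : Algebra Γ(Y, W) (Y.presheaf.stalk (f x)) :=
      TopCat.Presheaf.algebra_section_stalk Y.presheaf (U := W) ⟨f x, hfxW⟩
    haveI locC : IsLocalization.AtPrime (Y.presheaf.stalk (f x))
        (hW.primeIdealOf ⟨f x, hfxW⟩).asIdeal := hW.isLocalization_stalk ⟨f x, hfxW⟩
    letI modCN : Module (Y.presheaf.stalk (f x)) (F.presheaf.stalk x) :=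
      FlatMod.moduleStalkOver f F x
    haveI : Module.Flat (Y.presheaf.stalk (f x)) (F.presheaf.stalk x) := hfl
    haveI : Module.Flat Γ(Y, W) (Y.presheaf.stalk (f x)) :=
      IsLocalization.flat _ (hW.primeIdealOf ⟨f x, hfxW⟩).asIdeal.primeCompl
    haveI : IsScalarTower Γ(Y, W) (Y.presheaf.stalk (f x)) (F.presheaf.stalk x) := by
      refine IsScalarTower.of_algebraMap_smul fun a n => ?_
      show (f.stalkMap x).hom (Y.presheaf.germ W (f x) hfxW a) • n =
        X.presheaf.germ V x hxV ((f.appLE W V e).hom a) • n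
      rw [PbStalk.germ_appLE f e x hxV hfxW a]
    exact Module.Flat.trans Γ(Y, W) (Y.presheaf.stalk (f x)) (F.presheaf.stalk x)
  -- the prime of `w`
  haveI : (hW.primeIdealOf ⟨w, hwW⟩).asIdeal.IsPrime := (hW.primeIdealOf ⟨w, hwW⟩).isPrime
  have hp : (hW.primeIdealOf ⟨w, hwW⟩).asIdeal ≤
      (hV.primeIdealOf ⟨x, hxV⟩).asIdeal.comap (algebraMap Γ(Y, W) Γ(X, V)) := by
    have h1 := SchemeDimIneq.primeIdealOf_comap f hV hW e x hxV
    have h2 := AssGen.primeIdealOf_le_of_specializes hW hw hfxW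
    exact h2.trans (le_of_eq h1)
  obtain ⟨Q, hQ, hQP, hQp, m, hm⟩ := exists_prime_support_comap_eq
    (A := Γ(Y, W)) (R := Γ(X, V)) (B := X.presheaf.stalk x)
    (hV.primeIdealOf ⟨x, hxV⟩).asIdeal g (hW.primeIdealOf ⟨w, hwW⟩).asIdeal hp
  obtain ⟨⟨z, hzV⟩, hz⟩ := SchemeDimFT.exists_primeIdealOf_eq hV ⟨Q, hQ⟩
  have hzQ : (hV.primeIdealOf ⟨z, hzV⟩).asIdeal = Q := congrArg PrimeSpectrum.asIdeal hz
  refine ⟨z, ?_, ?_, ?_⟩
  · have h1 : hV.primeIdealOf ⟨z, hzV⟩ ⤳ hV.primeIdealOf ⟨x, hxV⟩ := by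
      rw [← PrimeSpectrum.le_iff_specializes]
      show (hV.primeIdealOf ⟨z, hzV⟩).asIdeal ≤ _
      rw [hzQ]
      exact hQP
    have h2 := h1.map hV.fromSpec.continuous
    rwa [hV.fromSpec_primeIdealOf ⟨z, hzV⟩, hV.fromSpec_primeIdealOf ⟨x, hxV⟩] at h2
  · rw [SuppTensor.mem_support_iff_affine F hV z hzV, Module.mem_support_iff_exists_annihilator]
    refine ⟨m, fun r hr => ?_⟩
    rw [hzQ]
    exact hm r ((Submodule.mem_annihilator_span_singleton _ _).mp hr)
  · have h1 := SchemeDimIneq.primeIdealOf_comap f hV hW e z hzV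
    rw [hzQ] at h1
    have h2 : hW.primeIdealOf ⟨f z, e hzV⟩ = hW.primeIdealOf ⟨w, hwW⟩ :=
      PrimeSpectrum.ext (h1.trans hQp)
    have h3 := (hW.isoSpec.hom.homeomorph).injective h2
    exact congrArg Subtype.val h3

end Groth.Agent.Lib.Helper1.FlatGD
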