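import Mathlib
import Groth.Prelude
import Groth.Agent.Lib.Helper1.FlatGD2
import Groth.Agent.Lib.Helper17.PbFinite

/-!
# Maximal points of the support of `f^*E ⊗ F` for `F` flat over the base
-/

set_option autoImplicit false
set_option linter.style.haveILetI false
universe u
open CategoryTheory CategoryTheory.Limits AlgebraicGeometry TopologicalSpace Opposite

namespace Groth.Agent.Lib.Helper1.FlatGD

open Groth.Agent.Lib.Helper3 Groth.Agent.Lib.Helper17 Groth.Agent.Lib.Helper12

variable {X Y : Scheme.{u}}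

theorem support_pullback_tensor (f : X ⟶ Y) (F : X.Modules) (hF : Coh.IsCoh F)
    (E : Y.Modules) (hE : Coh.IsCoh E) :
    CohB1.support (CohB1.tensorMod ((Scheme.Modules.pullback f).obj E) F) =
      f ⁻¹' CohB1.support E ∩ CohB1.support F := by
  haveI := hF.1
  haveI := hF.2
  haveI := hE.1
  haveI := hE.2
  haveI : ((Scheme.Modules.pullback f).obj E).IsQuasicoherent := PbStalk.isQuasicoherent_pullback f E
  haveI : ((Scheme.Modules.pullback f).obj E).IsFiniteType := PbFinite.isFiniteType_pullback f E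
  rw [SuppTensor.support_tensorMod, SuppTensor.support_pullback]

theorem key4653 (f : X ⟶ Y) (F : X.Modules) (hF : Coh.IsCoh F)
    (hfl : FlatMod.IsFlatOver f F) (E : Y.Modules) (hE : Coh.IsCoh E) (x : X) :
    (x ∈ CohB1.support (CohB1.tensorMod ((Scheme.Modules.pullback f).obj E) F) ∧
        ∀ z ∈ CohB1.support (CohB1.tensorMod ((Scheme.Modules.pullback f).obj E) F), z ⤳ x → z = x) ↔
      ((f x ∈ CohB1.support E ∧ ∀ w ∈ CohB1.support E, w ⤳ f x → w = f x) ∧
        (f.asFiber x ∈ CohB1.support ((Scheme.Modules.pullback (f.fiberι (f x))).obj F) ∧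
          ∀ z ∈ CohB1.support ((Scheme.Modules.pullback (f.fiberι (f x))).obj F),
            z ⤳ f.asFiber x → z = f.asFiber x)) := by
  haveI := hF.1
  haveI := hF.2
  rw [support_pullback_tensor f F hF E hE, SuppTensor.support_pullback (f.fiberι (f x)) F]
  have hsp : ∀ z z' : f.fiber (f x), z ⤳ z' ↔ f.fiberι (f x) z ⤳ f.fiberι (f x) z' :=
    fun z z' => ((f.fiberι (f x)).isEmbedding.isInducing.specializes_iff).symm
  have hinj := (f.fiberι (f x)).isEmbedding.injective
  constructor
  · rintro ⟨⟨hxE, hxF⟩, hmax⟩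
    refine ⟨⟨hxE, ?_⟩, ⟨?_, ?_⟩⟩
    · intro w hwE hw
      obtain ⟨z, hzx, hzF, hzw⟩ := exists_generization_support f F hF x (hfl x) hxF w hw
      have hz : z = x := hmax z ⟨by rw [Set.mem_preimage, hzw]; exact hwE, hzF⟩ hzx
      rw [← hzw, hz]
    · show f.fiberι (f x) (f.asFiber x) ∈ CohB1.support F
      rw [f.fiberι_asFiber]
      exact hxF
    · intro z hz hzx
      have hzF : f.fiberι (f x) z ∈ CohB1.support F := hz
      have hfz : f (f.fiberι (f x) z) = f x := by
        have : f.fiberι (f x) z ∈ Set.range (f.fiberι (f x)) := ⟨z, rfl⟩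
        rw [f.range_fiberι] at this
        exact this
      have h1 : f.fiberι (f x) z ⤳ x := by
        have := (hsp z (f.asFiber x)).mp hzx
        rwa [f.fiberι_asFiber] at this
      have h2 := hmax _ ⟨by rw [Set.mem_preimage, hfz]; exact hxE, hzF⟩ h1
      apply hinj
      rw [h2, f.fiberι_asFiber]
  · rintro ⟨⟨hxE, hmaxE⟩, ⟨hxF, hmaxF⟩⟩
    have hxF' : x ∈ CohB1.support F := by
      have : f.fiberι (f x) (f.asFiber x) ∈ CohB1.support F := hxF
      rwa [f.fiberι_asFiber] at this
    refine ⟨⟨hxE, hxF'⟩, ?_⟩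
    rintro z ⟨hzE, hzF⟩ hzx
    have hfz : f z = f x := hmaxE (f z) hzE (hzx.map f.continuous)
    have hzr : z ∈ Set.range (f.fiberι (f x)) := by
      rw [f.range_fiberι]
      exact hfz
    obtain ⟨z', rfl⟩ := hzr
    have h1 : z' ⤳ f.asFiber x := by
      rw [hsp, f.fiberι_asFiber]
      exact hzx
    rw [hmaxF z' hzF h1, f.fiberι_asFiber]

end Groth.Agent.Lib.Helper1.FlatGD
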