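import Mathlib
import Groth.Prelude
import Groth.Agent.Lib.Helper1.AssFlat2
import Groth.Agent.Lib.Helper1.AssPrim2
import Groth.Agent.Lib.Helper1.FlatGD3
import Groth.Agent.Lib.Helper17.AssPt
import Groth.Agent.Lib.Helper17.TensorSec

/-!
# Associated points of `f^*E ⊗ F`, `F` flat over the base: scheme-level consequences (helper1)
-/

set_option autoImplicit false
set_option linter.style.haveILetI false
universe u
open CategoryTheory CategoryTheory.Limits AlgebraicGeometry TopologicalSpace Opposite

namespace Groth.Agent.Lib.Helper1.AssFlat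

open Groth.Agent.Lib.Helper17 Groth.Agent.Lib.Helper1.FlatGD Groth.Agent.Lib.Helper1.AssPrim

variable {X Y : Scheme.{u}} (f : X ⟶ Y) (E : Y.Modules) (F : X.Modules)

theorem map_fiberι (y : Y) (a : f.fiber y) : f ((f.fiberι y) a) = y := by
  have : (f.fiberι y) a ∈ Set.range (f.fiberι y) := ⟨a, rfl⟩
  rw [Scheme.Hom.range_fiberι] at this
  exact this

section
variable [IsLocallyNoetherian Y] [E.IsQuasicoherent] [F.IsQuasicoherent]
  (hflat : FlatMod.IsFlatOver f F)
include hflat

theorem isAssPoint_fiberι_iff (y : Y) (a : f.fiber y) :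
    Curv2.IsAssPoint (CohB1.tensorMod ((Scheme.Modules.pullback f).obj E) F) ((f.fiberι y) a) ↔
      Curv2.IsAssPoint E y ∧
        Curv2.IsAssPoint ((Scheme.Modules.pullback (f.fiberι y)).obj F) a := by
  have h := (key f E F y a (hflat _)).1
  rw [map_fiberι f y a] at h
  exact h

theorem isAssPoint_tensor_iff (x : X) :
    Curv2.IsAssPoint (CohB1.tensorMod ((Scheme.Modules.pullback f).obj E) F) x ↔
      Curv2.IsAssPoint E (f x) ∧
        Curv2.IsAssPoint ((Scheme.Modules.pullback (f.fiberι (f x))).obj F) (f.asFiber x) := by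
  have h := isAssPoint_fiberι_iff f E F hflat (f x) (f.asFiber x)
  rw [f.fiberι_asFiber x] at h
  exact h

theorem length_fiberι_iff (y : Y) (a : f.fiber y)
    (ha : Curv2.IsAssPoint (CohB1.tensorMod ((Scheme.Modules.pullback f).obj E) F)
      ((f.fiberι y) a)) :
    Module.length (X.presheaf.stalk ((f.fiberι y) a))
        ((CohB1.tensorMod ((Scheme.Modules.pullback f).obj E) F).presheaf.stalk
          ((f.fiberι y) a)) = 1 ↔
      Module.length (Y.presheaf.stalk y) (E.presheaf.stalk y) = 1 ∧
        Module.length ((f.fiber y).presheaf.stalk a)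
          (((Scheme.Modules.pullback (f.fiberι y)).obj F).presheaf.stalk a) = 1 := by
  have h := (key f E F y a (hflat _)).2 ha
  rw [map_fiberι f y a] at h
  exact h

theorem length_tensor_iff (x : X)
    (hx : Curv2.IsAssPoint (CohB1.tensorMod ((Scheme.Modules.pullback f).obj E) F) x) :
    Module.length (X.presheaf.stalk x)
        ((CohB1.tensorMod ((Scheme.Modules.pullback f).obj E) F).presheaf.stalk x) = 1 ↔
      Module.length (Y.presheaf.stalk (f x)) (E.presheaf.stalk (f x)) = 1 ∧
        Module.length ((f.fiber (f x)).presheaf.stalk (f.asFiber x))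
          (((Scheme.Modules.pullback (f.fiberι (f x))).obj F).presheaf.stalk (f.asFiber x)) = 1 := by
  have hx' : Curv2.IsAssPoint (CohB1.tensorMod ((Scheme.Modules.pullback f).obj E) F)
      ((f.fiberι (f x)) (f.asFiber x)) := by rw [f.fiberι_asFiber x]; exact hx
  have h := length_fiberι_iff f E F hflat (f x) (f.asFiber x) hx'
  rw [f.fiberι_asFiber x] at h
  exact h

end

theorem mem_support_of_isAssPoint (G : X.Modules) (x : X) (hx : Curv2.IsAssPoint G x) :
    x ∈ CohB1.support G := by
  haveI := AssPt.nontrivial_stalk_of_isAssPoint G x hx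
  exact not_subsingleton _

variable [IsLocallyNoetherian X] [IsLocallyNoetherian Y]

/-- Existence of an associated point of `f^*E ⊗ F` in a given fibre. -/
theorem exists_assPoint_over (hE : Coh.IsCoh E) (hF : Coh.IsCoh F)
    (hflat : FlatMod.IsFlatOver f F) (x₀ : X) (hx₀ : x₀ ∈ CohB1.support F)
    (hy : f x₀ ∈ AssSch.Ass E) :
    ∃ z : X, Curv2.IsAssPoint (CohB1.tensorMod ((Scheme.Modules.pullback f).obj E) F) z ∧
      f z = f x₀ ∧ z ⤳ x₀ := by
  obtain ⟨G, q, hq, hG, hAssG, -⟩ := exists_primary_quotient E hE (f x₀) hy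
  haveI := hE.1
  haveI := hF.1
  haveI := hG.1
  have hfG : f x₀ ∈ AssSch.Ass G := by rw [hAssG]; rfl
  have hsupp : x₀ ∈ CohB1.support (CohB1.tensorMod ((Scheme.Modules.pullback f).obj G) F) := by
    rw [support_pullback_tensor f F hF G hG]
    exact ⟨mem_support_of_isAssPoint G _ hfG, hx₀⟩
  haveI : ((Scheme.Modules.pullback f).obj G).IsQuasicoherent :=
    PbStalk.isQuasicoherent_pullback f G
  haveI : (CohB1.tensorMod ((Scheme.Modules.pullback f).obj G) F).IsQuasicoherent :=
    TensorSec.isQuasicoherent_tensorMod _ _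
  have hnt : Nontrivial ((CohB1.tensorMod ((Scheme.Modules.pullback f).obj G) F).presheaf.stalk
      x₀) := not_subsingleton_iff_nontrivial.mp hsupp
  obtain ⟨z, hz, hzx⟩ := AssPt.exists_assPoint_specializes_of_nontrivial _ x₀ hnt
  have hzG := (isAssPoint_tensor_iff f G F hflat z).mp hz
  have hfz : f z = f x₀ := by
    have : f z ∈ AssSch.Ass G := hzG.1
    rw [hAssG] at this
    exact this
  refine ⟨z, ?_, hfz, hzx⟩
  rw [isAssPoint_tensor_iff f E F hflat z]
  refine ⟨?_, hzG.2⟩
  rw [hfz]
  exact hy

end Groth.Agent.Lib.Helper1.AssFlat
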