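import Mathlib
import Groth.Prelude.Def_CInt
import Groth.Agent.Lib.Helper16.FlatBC1
import Groth.Agent.Lib.Helper14.PiDecomp.FiberIso
import Groth.Agent.Lib.Helper12.FlatDim
import Groth.Agent.Lib.Helper17.FibreStalkMap
import Groth.Agent.Lib.Lead.CycPullGeo

/-!
# Fibres of a base change: dimension of local rings (helper1)
-/

set_option autoImplicit false
universe u
open CategoryTheory CategoryTheory.Limits AlgebraicGeometry IsLocalRing

namespace Groth.Agent.Lib.Helper1.FibBC

theorem height_map_mk_of_mem_minimalPrimes {T : Type*} [CommRing T] (I P : Ideal T)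
    (hP : P ∈ I.minimalPrimes) : (P.map (Ideal.Quotient.mk I)).height = 0 := by
  have hIP : I ≤ P := hP.1.2
  haveI := hP.1.1
  have hker : RingHom.ker (Ideal.Quotient.mk I) ≤ P := by rw [Ideal.mk_ker]; exact hIP
  haveI hprime : (Ideal.map (Ideal.Quotient.mk I) P).IsPrime :=
    Ideal.map_isPrime_of_surjective Ideal.Quotient.mk_surjective hker
  have hcomap : Ideal.comap (Ideal.Quotient.mk I) (Ideal.map (Ideal.Quotient.mk I) P) = P := by
    rw [Ideal.comap_map_of_surjective _ Ideal.Quotient.mk_surjective,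
      ← RingHom.ker_eq_comap_bot, Ideal.mk_ker]
    exact sup_eq_left.mpr hIP
  rw [Ideal.height_eq_zero_iff]
  refine ⟨⟨hprime, bot_le⟩, ?_⟩
  rintro Q' ⟨hQ'prime, -⟩ hQ'le
  haveI := hQ'prime
  have hQle : Ideal.comap (Ideal.Quotient.mk I) Q' ≤ P := by
    rw [← hcomap]; exact Ideal.comap_mono hQ'le
  have hIQ : I ≤ Ideal.comap (Ideal.Quotient.mk I) Q' := by
    intro x hx
    rw [Ideal.mem_comap, Ideal.Quotient.eq_zero_iff_mem.mpr hx]
    exact Q'.zero_mem
  have h2 : P ≤ Ideal.comap (Ideal.Quotient.mk I) Q' := hP.2 ⟨inferInstance, hIQ⟩ hQle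
  calc Ideal.map (Ideal.Quotient.mk I) P ≤ Ideal.map (Ideal.Quotient.mk I) (Ideal.comap (Ideal.Quotient.mk I) Q') :=
        Ideal.map_mono h2
    _ = Q' := Ideal.map_comap_of_surjective _ Ideal.Quotient.mk_surjective _

theorem exists_prime_height_le {R S0 : Type u} [CommRing R] [CommRing S0] [IsLocalRing R]
    [IsLocalRing S0] [IsNoetherianRing R] [IsNoetherianRing S0] (ψ : R →+* S0) [IsLocalHom ψ] :
    ∃ P : Ideal S0, P.IsPrime ∧ P.comap ψ = maximalIdeal R ∧
      P.height ≤ (maximalIdeal R).height := by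
  letI := ψ.toAlgebra
  let I : Ideal S0 := (maximalIdeal R).map ψ
  have hI : I ≤ maximalIdeal S0 := ((local_hom_TFAE ψ).out 0 2).mp ‹IsLocalHom ψ›
  obtain ⟨P, hP, -⟩ := Ideal.exists_minimalPrimes_le hI
  haveI hPp : P.IsPrime := hP.1.1
  have hcomap : P.comap ψ = maximalIdeal R :=
    ((maximalIdeal.isMaximal R).eq_of_le (Ideal.comap_ne_top _ hPp.ne_top)
      (Ideal.map_le_iff_le_comap.mp hP.1.2)).symm
  refine ⟨P, hPp, hcomap, ?_⟩
  haveI : P.LiesOver (maximalIdeal R) := ⟨hcomap.symm⟩
  have h := Ideal.height_le_height_add_of_liesOver (maximalIdeal R) P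
  have h0 : (P.map (Ideal.Quotient.mk I)).height = 0 := height_map_mk_of_mem_minimalPrimes I P hP
  have h0' : (P.map (Ideal.Quotient.mk ((maximalIdeal R).map (algebraMap R S0)))).height = 0 := h0
  rw [h0', add_zero] at h
  exact h

open Groth.Agent.Lib.Helper14.PiDecomp in
theorem dim_fiberStalk_fiberι {X Y : Scheme.{u}} (f : X ⟶ Y) (y : Y) (z : f.fiber y) :
    ringKrullDim (CInt.fiberStalk f (f.fiberι y z)) =
      ringKrullDim ((f.fiber y).presheaf.stalk z) := by
  obtain ⟨e⟩ := stalk_asFiber_fiberι f y z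
  exact ringKrullDim_eq_of_ringEquiv e

variable {X S S' : Scheme.{u}} (f : X ⟶ S) (g : S' ⟶ S)

open Groth.Agent.Lib.Helper14.PiDecomp in
theorem dim_le (y' : ↑(pullback f g)) :
    ringKrullDim (CInt.fiberStalk f (pullback.fst f g y')) ≤
      ringKrullDim (CInt.fiberStalk (pullback.snd f g) y') := by
  obtain ⟨φ, hφfl, hφ1, -⟩ := Groth.Agent.Lib.Helper16.FlatBC.exists_fiber_comparison f g
    (pullback.fst f g) (pullback.snd f g) (IsPullback.of_hasPullback f g) (pullback.snd f g y')
  have hz' : ((pullback.snd f g).fiberι (pullback.snd f g y')) ((pullback.snd f g).asFiber y') = y' :=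
    (pullback.snd f g).fiberι_asFiber y'
  have h1 : (f.fiberι (g (pullback.snd f g y'))) (φ ((pullback.snd f g).asFiber y')) =
      pullback.fst f g y' := by
    have := congrArg (fun h => h.base ((pullback.snd f g).asFiber y')) hφ1
    simp only [Scheme.Hom.comp_base, TopCat.hom_comp, ContinuousMap.comp_apply] at this
    rw [this, hz']
  haveI := hφfl
  have h2 := Groth.Agent.Lib.Helper12.FlatDim.ringKrullDim_stalk_le_of_flat φ
    ((pullback.snd f g).asFiber y')
  have hgb : g (pullback.snd f g y') = f (pullback.fst f g y') := by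
    have := congrArg (fun h => h.base y') (pullback.condition (f := f) (g := g))
    simp only [Scheme.Hom.comp_base, TopCat.hom_comp, ContinuousMap.comp_apply] at this
    exact this.symm
  obtain ⟨e⟩ := stalk_fiber_congr f (g (pullback.snd f g y')) (f (pullback.fst f g y')) hgb
    (φ ((pullback.snd f g).asFiber y')) (f.asFiber (pullback.fst f g y'))
    (by rw [h1, f.fiberι_asFiber])
  show ringKrullDim ((f.fiber (f (pullback.fst f g y'))).presheaf.stalk
    (f.asFiber (pullback.fst f g y'))) ≤ _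
  rw [← ringKrullDim_eq_of_ringEquiv e]
  exact h2

end Groth.Agent.Lib.Helper1.FibBC
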