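import Mathlib
import Groth.Agent.Lib.Helper1.FibBC1

/-!
# Fibres of a base change: points of minimal fibre dimension (helper1)
-/

set_option autoImplicit false
universe u
open CategoryTheory CategoryTheory.Limits AlgebraicGeometry IsLocalRing

namespace Groth.Agent.Lib.Helper1.FibBC

theorem isNoetherianRing_stalk_fiber {X Y : Scheme.{u}} (f : X ⟶ Y) [IsLocallyNoetherian X]
    (y : Y) (z : f.fiber y) : IsNoetherianRing ((f.fiber y).presheaf.stalk z) := by
  obtain ⟨hsurj, -⟩ := Groth.Agent.Lib.Helper17.FibreStalkMap.stalkMap_fiberι f y z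
  exact isNoetherianRing_of_surjective _ _ ((f.fiberι y).stalkMap z).hom hsurj

variable {X S S' : Scheme.{u}} (f : X ⟶ S) (g : S' ⟶ S)

open Groth.Agent.Lib.Helper14.PiDecomp Groth.Agent.Lib.Lead.CycPull in
theorem exists_dim_le [IsLocallyNoetherian X] [IsLocallyNoetherian (pullback f g)]
    (y' : ↑(pullback f g)) :
    ∃ y'' : ↑(pullback f g), pullback.fst f g y'' = pullback.fst f g y' ∧
      ringKrullDim (CInt.fiberStalk (pullback.snd f g) y'') ≤
        ringKrullDim (CInt.fiberStalk f (pullback.fst f g y')) := by
  obtain ⟨φ, hφfl, hφ1, -⟩ := Groth.Agent.Lib.Helper16.FlatBC.exists_fiber_comparison f g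
    (pullback.fst f g) (pullback.snd f g) (IsPullback.of_hasPullback f g) (pullback.snd f g y')
  have hz' : ((pullback.snd f g).fiberι (pullback.snd f g y')) ((pullback.snd f g).asFiber y') = y' :=
    (pullback.snd f g).fiberι_asFiber y'
  have hφpt : ∀ a : ↑((pullback.snd f g).fiber (pullback.snd f g y')),
      (f.fiberι (g (pullback.snd f g y'))) (φ a) =
        pullback.fst f g (((pullback.snd f g).fiberι (pullback.snd f g y')) a) := by
    intro a
    have := congrArg (fun h => h.base a) hφ1
    simpa only [Scheme.Hom.comp_base, TopCat.hom_comp, ContinuousMap.comp_apply] using this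
  have h1 : (f.fiberι (g (pullback.snd f g y'))) (φ ((pullback.snd f g).asFiber y')) =
      pullback.fst f g y' := by rw [hφpt, hz']
  have hgb : g (pullback.snd f g y') = f (pullback.fst f g y') := by
    have := congrArg (fun h => h.base y') (pullback.condition (f := f) (g := g))
    simp only [Scheme.Hom.comp_base, TopCat.hom_comp, ContinuousMap.comp_apply] at this
    exact this.symm
  obtain ⟨e⟩ := stalk_fiber_congr f (g (pullback.snd f g y')) (f (pullback.fst f g y')) hgb
    (φ ((pullback.snd f g).asFiber y')) (f.asFiber (pullback.fst f g y'))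
    (by rw [h1, f.fiberι_asFiber])
  haveI := isNoetherianRing_stalk_fiber f (g (pullback.snd f g y'))
    (φ ((pullback.snd f g).asFiber y'))
  haveI := isNoetherianRing_stalk_fiber (pullback.snd f g) (pullback.snd f g y')
    ((pullback.snd f g).asFiber y')
  obtain ⟨P, hPp, hPc, hPh⟩ := exists_prime_height_le (φ.stalkMap ((pullback.snd f g).asFiber y')).hom
  let Q : PrimeSpectrum (((pullback.snd f g).fiber (pullback.snd f g y')).presheaf.stalk
    ((pullback.snd f g).asFiber y')) := ⟨P, hPp⟩
  let z'' := ((pullback.snd f g).fiber (pullback.snd f g y')).fromSpecStalk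
    ((pullback.snd f g).asFiber y') Q
  have hz''z' : z'' ⤳ (pullback.snd f g).asFiber y' := specializes_fromSpecStalk _ Q
  have hφz'' : φ z'' = φ ((pullback.snd f g).asFiber y') := by
    have h3 := congrArg (fun h => h.base Q)
      (Scheme.SpecMap_stalkMap_fromSpecStalk φ (x := (pullback.snd f g).asFiber y'))
    simp only [Scheme.Hom.comp_base, TopCat.hom_comp, ContinuousMap.comp_apply] at h3
    show φ (((pullback.snd f g).fiber (pullback.snd f g y')).fromSpecStalk _ Q) = _
    rw [← h3]
    have h4 : (Spec.map (φ.stalkMap ((pullback.snd f g).asFiber y'))).base Q =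
        IsLocalRing.closedPoint _ := PrimeSpectrum.ext hPc
    rw [h4, Scheme.fromSpecStalk_closedPoint]
  refine ⟨((pullback.snd f g).fiberι (pullback.snd f g y')) z'', ?_, ?_⟩
  · rw [← hφpt, hφz'', h1]
  · rw [dim_fiberStalk_fiberι (pullback.snd f g) (pullback.snd f g y') z'']
    letI := (((pullback.snd f g).fiber (pullback.snd f g y')).presheaf.stalkSpecializes
      hz''z').hom.toAlgebra
    haveI : (RingHom.ker (Cyc.specMap ((pullback.snd f g).asFiber y') z'' hz''z')).IsPrime :=
      RingHom.ker_isPrime _
    haveI hloc := isLocalization_stalkSpecializes ((pullback.snd f g).asFiber y') z'' hz''z'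
    have hker : RingHom.ker (Cyc.specMap ((pullback.snd f g).asFiber y') z'' hz''z') = P := by
      rw [← primeOf_asIdeal]
      have := primeOf_fromSpecStalk ((pullback.snd f g).asFiber y') Q
      exact congrArg PrimeSpectrum.asIdeal this
    rw [IsLocalization.AtPrime.ringKrullDim_eq_height
      (RingHom.ker (Cyc.specMap ((pullback.snd f g).asFiber y') z'' hz''z')) _, hker]
    show (P.height : WithBot ℕ∞) ≤ ringKrullDim ((f.fiber (f (pullback.fst f g y'))).presheaf.stalk
      (f.asFiber (pullback.fst f g y')))
    rw [← ringKrullDim_eq_of_ringEquiv e, ← IsLocalRing.maximalIdeal_height_eq_ringKrullDim]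
    exact_mod_cast hPh

end Groth.Agent.Lib.Helper1.FibBC
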