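import Mathlib
import Groth.Agent.Lib.Helper1.AssFlat3
import Groth.Agent.Lib.Helper1.FibBC2
import Groth.Agent.Lib.Helper3.PbBasic
import Groth.Agent.Lib.Helper3.InvMonoidal
import Groth.Agent.Lib.Helper17.GenFin1
import Groth.Agent.Lib.Helper17.FibreFlat
import Groth.Agent.Lib.Helper3.QCOpen

/-!
# Associated points under flat pullback and base change (helper1)
-/

set_option autoImplicit false
universe u
open CategoryTheory CategoryTheory.Limits AlgebraicGeometry IsLocalRing TensorProduct

namespace Groth.Agent.Lib.Helper1.AssBC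

open Groth.Agent.Lib.Helper17 Groth.Agent.Lib.Helper1.AssFlat1

theorem isAssPoint_of_iso {X : Scheme.{u}} {M M' : X.Modules} (e : M ≅ M') (x : X)
    (h : Curv2.IsAssPoint M x) : Curv2.IsAssPoint M' x :=
  (GenFin.stalkEquivOfIso e x).isAssociatedPrime_iff.mp h

/-- associated points of a flat pullback map to associated points. -/
theorem isAssPoint_of_flat_pullback {A B : Scheme.{u}} (φ : A ⟶ B) [Flat φ] (H : B.Modules)
    [H.IsQuasicoherent] (a : A) [IsNoetherianRing (B.presheaf.stalk (φ a))]
    (h : Curv2.IsAssPoint ((Scheme.Modules.pullback φ).obj H) a) : Curv2.IsAssPoint H (φ a) := by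
  letI algRS : Algebra (B.presheaf.stalk (φ a)) (A.presheaf.stalk a) := (φ.stalkMap a).hom.toAlgebra
  haveI : IsLocalHom (algebraMap (B.presheaf.stalk (φ a)) (A.presheaf.stalk a)) :=
    inferInstanceAs (IsLocalHom (φ.stalkMap a).hom)
  haveI : Module.Flat (B.presheaf.stalk (φ a)) (A.presheaf.stalk a) := Flat.stalkMap φ a
  letI modRQ : Module (B.presheaf.stalk (φ a))
      (((Scheme.Modules.pullback φ).obj H).presheaf.stalk a) :=
    Module.compHom _ (φ.stalkMap a).hom
  obtain ⟨towRQ, γ, hγ⟩ := PbStalk.exists_isBaseChange_stalk φ H a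
  have h1 : IsAssociatedPrime (maximalIdeal (A.presheaf.stalk a))
      (A.presheaf.stalk a ⊗[B.presheaf.stalk (φ a)] H.presheaf.stalk (φ a)) :=
    hγ.equiv.isAssociatedPrime_iff.mpr h
  exact (isAssociatedPrime_tensor_iff.mp h1).1

end Groth.Agent.Lib.Helper1.AssBC
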