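import Mathlib
import Groth.Agent.Lib.Helper1.AssBC1

/-!
# Associated points of a relative tensor product map to associated points (helper1)
-/

set_option autoImplicit false
universe u
open CategoryTheory CategoryTheory.Limits AlgebraicGeometry IsLocalRing TensorProduct

namespace Groth.Agent.Lib.Helper1.AssBC

open Groth.Agent.Lib.Helper17 Groth.Agent.Lib.Helper1.AssFlat1 Groth.Agent.Lib.Helper3

theorem main {X Y S : Scheme.{u}} (f : X ⟶ S) (g : Y ⟶ S)
    [IsLocallyNoetherian X] [IsLocallyNoetherian Y] [IsLocallyNoetherian S]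
    (F : X.Modules) [F.IsQuasicoherent] (G : Y.Modules) [G.IsQuasicoherent]
    (hGfl : FlatMod.IsFlatOver g G)
    (hAss : ∀ x, Curv2.IsAssPoint F x → Curv2.IsAssPoint (Coh.structureModule S) (f x))
    (z : ↑(pullback f g))
    (hz : Curv2.IsAssPoint (CohB1.tensorMod ((Scheme.Modules.pullback (pullback.fst f g)).obj F)
      ((Scheme.Modules.pullback (pullback.snd f g)).obj G)) z) :
    Curv2.IsAssPoint G (pullback.snd f g z) := by
  have sq : IsPullback (pullback.snd f g) (pullback.fst f g) g f :=
    (IsPullback.of_hasPullback f g).flip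
  haveI : ((Scheme.Modules.pullback (pullback.snd f g)).obj G).IsQuasicoherent :=
    PbStalk.isQuasicoherent_pullback (pullback.snd f g) G
  have hflat : FlatMod.IsFlatOver (pullback.fst f g)
      ((Scheme.Modules.pullback (pullback.snd f g)).obj G) :=
    fun x' => FibreFlat.isFlatOverAt_baseChange sq G x' (hGfl _)
  obtain ⟨hF1, hF2⟩ := (Groth.Agent.Lib.Helper1.AssFlat.isAssPoint_tensor_iff (pullback.fst f g) F
    ((Scheme.Modules.pullback (pullback.snd f g)).obj G) hflat z).mp hz
  obtain ⟨φ, hφfl, hφ1, -⟩ := Groth.Agent.Lib.Helper16.FlatBC.exists_fiber_comparison g f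
    (pullback.snd f g) (pullback.fst f g) sq (pullback.fst f g z)
  let e := (Scheme.Modules.pullbackComp ((pullback.fst f g).fiberι (pullback.fst f g z))
      (pullback.snd f g)).app G ≪≫
    (Scheme.Modules.pullbackCongr hφ1.symm).app G ≪≫
    ((Scheme.Modules.pullbackComp φ (g.fiberι (f (pullback.fst f g z)))).app G).symm
  have h3 := isAssPoint_of_iso e _ hF2
  haveI := hφfl
  haveI : ((Scheme.Modules.pullback (g.fiberι (f (pullback.fst f g z)))).obj G).IsQuasicoherent :=
    PbStalk.isQuasicoherent_pullback _ G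
  haveI := Groth.Agent.Lib.Helper1.FibBC.isNoetherianRing_stalk_fiber g (f (pullback.fst f g z))
    (φ ((pullback.fst f g).asFiber z))
  have h4 := isAssPoint_of_flat_pullback φ _ ((pullback.fst f g).asFiber z) h3
  have hpt : (g.fiberι (f (pullback.fst f g z))) (φ ((pullback.fst f g).asFiber z)) =
      pullback.snd f g z := by
    have := congrArg (fun h => h.base ((pullback.fst f g).asFiber z)) hφ1
    simp only [Scheme.Hom.comp_base, TopCat.hom_comp, ContinuousMap.comp_apply] at this
    rw [this, (pullback.fst f g).fiberι_asFiber]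
  have h5 := (Groth.Agent.Lib.Helper1.AssFlat.isAssPoint_fiberι_iff g (Coh.structureModule S) G hGfl
    (f (pullback.fst f g z)) (φ ((pullback.fst f g).asFiber z))).mpr ⟨hAss _ hF1, h4⟩
  rw [hpt] at h5
  let e2 : CohB1.tensorMod ((Scheme.Modules.pullback g).obj (Coh.structureModule S)) G ≅ G :=
    (show CohB1.tensorMod ((Scheme.Modules.pullback g).obj (Coh.structureModule S)) G ≅
        CohB1.tensorMod (Coh.structureModule Y) G from
      (DCoh.tensorBi.mapIso (PbBasic.pbUnit g)).app G) ≪≫ InvMonoidal.unitorL G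
  exact isAssPoint_of_iso e2 _ h5

end Groth.Agent.Lib.Helper1.AssBC
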