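import Mathlib
import Groth.Agent.Lib.Helper25.NoEmbSch
import Groth.Agent.Lib.Helper3.WeakAssPush
import Groth.Agent.Lib.Helper12.SchemeDimFT

/-!
# Associated points of `Spec (K ⊗[k] L)` are its maximal points (helper1)
-/

set_option autoImplicit false
universe u
open CategoryTheory CategoryTheory.Limits AlgebraicGeometry IsLocalRing TensorProduct

namespace Groth.Agent.Lib.Helper1.AssBC

open Groth.Agent.Lib.Helper25.NoEmbBC Groth.Agent.Lib.Helper3 Groth.Agent.Lib.Helper12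

theorem isAssPoint_iff_maximal_of_tensor
    {Φ : Scheme.{u}} {k K L : Type u} [Field k] [Field K] [Field L] [Algebra k K] [Algebra k L]
    [Algebra.EssFiniteType k L]
    (ψ : Φ ≅ Spec (CommRingCat.of (K ⊗[k] L))) (ζ : Φ) :
    Curv2.IsAssPoint (Coh.structureModule Φ) ζ ↔ ∀ ζ'' : Φ, ζ'' ⤳ ζ → ζ'' = ζ := by
  haveI : IsNoetherianRing (K ⊗[k] L) := Algebra.EssFiniteType.isNoetherianRing K (K ⊗[k] L)
  haveI : IsLocallyNoetherian (Spec (CommRingCat.of (K ⊗[k] L))) := isLocallyNoetherian_Spec.mpr ‹_›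
  haveI : IsLocallyNoetherian Φ := isLocallyNoetherian_of_isOpenImmersion ψ.hom
  haveI : IsAffine Φ := IsAffine.of_isIso ψ.hom
  let e : (K ⊗[k] L) ≃+* Γ(Φ, ⊤) :=
    ((Scheme.ΓSpecIso (CommRingCat.of (K ⊗[k] L))).symm ≪≫
      Scheme.Γ.mapIso ψ.op).commRingCatIsoToRingEquiv
  haveI : IsNoetherianRing Γ(Φ, ⊤) := isNoetherianRing_of_ringEquiv _ e
  have hV := isAffineOpen_top Φ
  rw [isAssPoint_structure_iff hV ζ trivial]
  constructor
  · intro hP ζ'' hs
    have hP' : IsAssociatedPrime (hV.primeIdealOf ⟨ζ, trivial⟩).asIdeal Γ(Φ, ⊤) := hP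
    rw [isAssociatedPrime_iff] at hP'
    obtain ⟨hPp, x, hPx⟩ := hP'
    have hx0 : x ≠ 0 := by
      rintro rfl
      apply hPp.ne_top
      rw [hPx, Ideal.eq_top_iff_one, Submodule.mem_colon_singleton]
      simp
    have hann : ∀ r ∈ (hV.primeIdealOf ⟨ζ, trivial⟩).asIdeal, r * x = 0 := by
      intro r hr
      rw [hPx, Submodule.mem_colon_singleton, Submodule.mem_bot] at hr
      exact hr
    have hQP : hV.primeIdealOf ⟨ζ'', trivial⟩ ≤ hV.primeIdealOf ⟨ζ, trivial⟩ :=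
      (SchemeDimFT.primeIdealOf_le_iff hV ⟨ζ'', trivial⟩ ⟨ζ, trivial⟩).mpr hs
    have hle := le_of_annihilates_tensor (k := k) (K := L) (C₀ := K) e
      (hV.primeIdealOf ⟨ζ, trivial⟩).asIdeal (hV.primeIdealOf ⟨ζ'', trivial⟩).asIdeal
      (hV.primeIdealOf ⟨ζ'', trivial⟩).isPrime hQP x hx0 hann
    have heq : hV.primeIdealOf ⟨ζ'', trivial⟩ = hV.primeIdealOf ⟨ζ, trivial⟩ :=
      le_antisymm hQP hle
    exact congrArg Subtype.val (QS.primeIdealOf_injective hV _ _ heq)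
  · intro hmax
    have hmin : (hV.primeIdealOf ⟨ζ, trivial⟩).asIdeal ∈ (⊥ : Ideal Γ(Φ, ⊤)).minimalPrimes := by
      refine ⟨⟨(hV.primeIdealOf ⟨ζ, trivial⟩).isPrime, bot_le⟩, ?_⟩
      rintro Q ⟨hQ, -⟩ hQP
      haveI := hQ
      obtain ⟨z, hz, hzQ⟩ := QS.exists_point_of_prime hV Q
      have hs : z ⤳ ζ := by
        refine (SchemeDimFT.primeIdealOf_le_iff hV ⟨z, hz⟩ ⟨ζ, trivial⟩).mp ?_
        show (hV.primeIdealOf ⟨z, hz⟩).asIdeal ≤ _
        rw [hzQ]; exact hQP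
      have := hmax z hs
      subst this
      rw [← hzQ]
    have hann : Module.annihilator Γ(Φ, ⊤) Γ(Φ, ⊤) = ⊥ :=
      Module.annihilator_eq_bot.mpr inferInstance
    have := Module.associatedPrimes.minimalPrimes_annihilator_subset_associatedPrimes
      (R := Γ(Φ, ⊤)) (M := Γ(Φ, ⊤))
    rw [hann] at this
    exact this hmin

end Groth.Agent.Lib.Helper1.AssBC
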