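import Mathlib
import Groth.Agent.Lib.Helper1.AssBC3
import Groth.Agent.Lib.Helper14.CMFieldBCSch

/-!
# The fibre of a field base change over a point is `Spec (K ⊗[k] κ(w))` (helper1)
-/

set_option autoImplicit false
universe u
open CategoryTheory CategoryTheory.Limits AlgebraicGeometry IsLocalRing TensorProduct

namespace Groth.Agent.Lib.Helper1.AssBC

open Groth.Agent.Lib.Helper14

noncomputable section

theorem exists_fiber_iso_tensor {F0 F' : Scheme.{u}} (φ : F' ⟶ F0) {k K : Type u} [Field k]
    [Field K] [Algebra k K]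
    (t0 : F0 ⟶ Spec (CommRingCat.of k)) (t' : F' ⟶ Spec (CommRingCat.of K))
    (hpb : IsPullback φ t' t0 (Spec.map (CommRingCat.ofHom (algebraMap k K))))
    [LocallyOfFiniteType t0] (w : F0) :
    ∃ (_ : Algebra k (F0.residueField w)) (_ : Algebra.EssFiniteType k (F0.residueField w)),
      Nonempty (φ.fiber w ≅ Spec (CommRingCat.of (K ⊗[k] (F0.residueField w)))) := by
  letI algSt : Algebra k (F0.presheaf.stalk w) := StalkTensor.stalkAlgA t0 w
  have hcompat := StalkTensor.stalkAlgA_compat t0 w
  haveI hE : Algebra.EssFiniteType k (F0.presheaf.stalk w) := by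
    rw [← RingHom.essFiniteType_algebraMap, CMFieldBCSch.algebraMap_stalkAlgA]
    exact GeomRegSmooth.essFiniteType_stalkStr _ _
  letI algL : Algebra k (F0.residueField w) :=
    inferInstanceAs (Algebra k (IsLocalRing.ResidueField (F0.presheaf.stalk w)))
  haveI hEL : Algebra.EssFiniteType k (F0.residueField w) :=
    inferInstanceAs (Algebra.EssFiniteType k
      (F0.presheaf.stalk w ⧸ IsLocalRing.maximalIdeal (F0.presheaf.stalk w)))
  have h1 : F0.fromSpecResidueField w ≫ t0 =
      Spec.map (CommRingCat.ofHom (algebraMap k (F0.residueField w))) := by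
    rw [Scheme.fromSpecResidueField, Category.assoc, hcompat, ← Spec.map_comp]
    rfl
  have sqL : IsPullback (φ.fiberι w) (φ.fiberToSpecResidueField w) φ
      (F0.fromSpecResidueField w) := IsPullback.of_hasPullback _ _
  have sqP := sqL.paste_horiz hpb.flip
  rw [h1] at sqP
  exact ⟨algL, hEL, ⟨sqP.isoPullback ≪≫ pullbackSpecIso k K (F0.residueField w)⟩⟩

end

end Groth.Agent.Lib.Helper1.AssBC
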