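import Mathlib
import Groth.Agent.Lib.Helper1.AssBC2
import Groth.Agent.Lib.Helper1.AssBC4
import Groth.Agent.Lib.Helper14.LCF.Thickening
import Groth.Agent.Lib.Helper13.CBCEtStalk

/-!
# Relative associated points under arbitrary base change (helper1)
-/

set_option autoImplicit false
universe u
open CategoryTheory CategoryTheory.Limits AlgebraicGeometry IsLocalRing TensorProduct

namespace Groth.Agent.Lib.Helper1.AssBC

open Groth.Agent.Lib.Helper17 Groth.Agent.Lib.Helper3 Groth.Agent.Lib.Helper14

theorem isAssPoint_fiber_congr {X Y : Scheme.{u}} (f : X ⟶ Y) (F : X.Modules) (y₁ y₂ : Y)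
    (h : y₁ = y₂) (z₁ : f.fiber y₁) (z₂ : f.fiber y₂) (hz : f.fiberι y₁ z₁ = f.fiberι y₂ z₂) :
    Curv2.IsAssPoint ((Scheme.Modules.pullback (f.fiberι y₁)).obj F) z₁ ↔
      Curv2.IsAssPoint ((Scheme.Modules.pullback (f.fiberι y₂)).obj F) z₂ := by
  subst h
  have : z₁ = z₂ := (f.fiberι y₁).isEmbedding.injective hz
  subst this
  rfl

theorem map_fiberι' {X Y : Scheme.{u}} (f : X ⟶ Y) (y : Y) (a : f.fiber y) :
    f ((f.fiberι y) a) = y := by
  have : (f.fiberι y) a ∈ Set.range (f.fiberι y) := ⟨a, rfl⟩
  rw [Scheme.Hom.range_fiberι] at this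
  exact this

theorem exists_fiberι_eq {X Y : Scheme.{u}} (f : X ⟶ Y) (y : Y) (x : X) (hx : f x = y) :
    ∃ a : f.fiber y, (f.fiberι y) a = x := by
  have : x ∈ Set.range (f.fiberι y) := by
    rw [Scheme.Hom.range_fiberι]
    exact hx
  exact this

theorem main8885 {X S S' : Scheme.{u}} (f : X ⟶ S) [LocallyOfFiniteType f] (g : S' ⟶ S)
    (F : X.Modules) [F.IsQuasicoherent] (x' : ↑(pullback f g)) :
    Curv2.IsAssPoint
        ((Scheme.Modules.pullback ((pullback.snd f g).fiberι ((pullback.snd f g) x'))).obj
          ((Scheme.Modules.pullback (pullback.fst f g)).obj F))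
        ((pullback.snd f g).asFiber x') ↔
      Curv2.IsAssPoint ((Scheme.Modules.pullback (f.fiberι (f ((pullback.fst f g) x')))).obj F)
          (f.asFiber ((pullback.fst f g) x')) ∧
        ∀ x'' : ↥(pullback f g), (pullback.snd f g) x'' = (pullback.snd f g) x' →
          (pullback.fst f g) x'' = (pullback.fst f g) x' → x'' ⤳ x' → x'' = x' := by
  have hc : IsPullback (pullback.fst f g) (pullback.snd f g) f g := IsPullback.of_hasPullback f g
  obtain ⟨φ, hpb, he⟩ := LCF.exists_fibre_isPullback hc ((pullback.snd f g) x')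
  letI algK : Algebra (S.residueField (g ((pullback.snd f g) x')))
      (S'.residueField ((pullback.snd f g) x')) :=
    (g.residueFieldMap ((pullback.snd f g) x')).hom.toAlgebra
  have hfl : Flat (Spec.map (g.residueFieldMap ((pullback.snd f g) x'))) := by
    rw [Flat.SpecMap_iff]
    show Module.Flat ↑(S.residueField (g ((pullback.snd f g) x')))
      ↑(S'.residueField ((pullback.snd f g) x'))
    infer_instance
  haveI : Flat φ := MorphismProperty.of_isPullback hpb.flip hfl
  haveI lft0 : LocallyOfFiniteType (f.fiberToSpecResidueField (g ((pullback.snd f g) x'))) := by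
    change LocallyOfFiniteType (pullback.snd f _)
    infer_instance
  haveI : IsLocallyNoetherian (f.fiber (g ((pullback.snd f g) x'))) :=
    LocallyOfFiniteType.isLocallyNoetherian (f.fiberToSpecResidueField (g ((pullback.snd f g) x')))
  have hz' : ((pullback.snd f g).fiberι ((pullback.snd f g) x')) ((pullback.snd f g).asFiber x') = x' :=
    (pullback.snd f g).fiberι_asFiber x'
  have hφpt : ∀ a : ↑((pullback.snd f g).fiber ((pullback.snd f g) x')),
      (f.fiberι (g ((pullback.snd f g) x'))) (φ a) =
        pullback.fst f g (((pullback.snd f g).fiberι ((pullback.snd f g) x')) a) := by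
    intro a
    have := congrArg (fun h => h.base a) he
    simpa only [Scheme.Hom.comp_base, TopCat.hom_comp, ContinuousMap.comp_apply] using this
  have hfw : (f.fiberι (g ((pullback.snd f g) x'))) (φ ((pullback.snd f g).asFiber x')) =
      pullback.fst f g x' := by rw [hφpt, hz']
  have hgb : g ((pullback.snd f g) x') = f (pullback.fst f g x') := by
    have := congrArg (fun h => h.base x') (pullback.condition (f := f) (g := g))
    simp only [Scheme.Hom.comp_base, TopCat.hom_comp, ContinuousMap.comp_apply] at this
    exact this.symm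
  -- modules
  haveI hHq : ((Scheme.Modules.pullback (f.fiberι (g ((pullback.snd f g) x')))).obj F).IsQuasicoherent :=
    PbStalk.isQuasicoherent_pullback _ F
  let e := (Scheme.Modules.pullbackComp ((pullback.snd f g).fiberι ((pullback.snd f g) x'))
      (pullback.fst f g)).app F ≪≫
    (Scheme.Modules.pullbackCongr he.symm).app F ≪≫
    ((Scheme.Modules.pullbackComp φ (f.fiberι (g ((pullback.snd f g) x')))).app F).symm ≪≫
    (SecTwist.unitorR _).symm
  have hL : Curv2.IsAssPoint
        ((Scheme.Modules.pullback ((pullback.snd f g).fiberι ((pullback.snd f g) x'))).obj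
          ((Scheme.Modules.pullback (pullback.fst f g)).obj F))
        ((pullback.snd f g).asFiber x') ↔
      Curv2.IsAssPoint (CohB1.tensorMod ((Scheme.Modules.pullback φ).obj
        ((Scheme.Modules.pullback (f.fiberι (g ((pullback.snd f g) x')))).obj F))
          (Coh.structureModule _)) ((pullback.snd f g).asFiber x') :=
    ⟨isAssPoint_of_iso e _, isAssPoint_of_iso e.symm _⟩
  have hT := Groth.Agent.Lib.Helper1.AssFlat.isAssPoint_tensor_iff φ
    ((Scheme.Modules.pullback (f.fiberι (g ((pullback.snd f g) x')))).obj F)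
    (Coh.structureModule _) (Groth.Agent.Lib.Helper13.CBCEtStalk.isFlatOver_structureModule φ)
    ((pullback.snd f g).asFiber x')
  have hII := isAssPoint_fiber_congr f F (g ((pullback.snd f g) x')) (f (pullback.fst f g x')) hgb
    (φ ((pullback.snd f g).asFiber x')) (f.asFiber (pullback.fst f g x'))
    (by rw [hfw, f.fiberι_asFiber])
  have hU : Curv2.IsAssPoint ((Scheme.Modules.pullback (φ.fiberι (φ ((pullback.snd f g).asFiber x')))).obj
        (Coh.structureModule _)) (φ.asFiber ((pullback.snd f g).asFiber x')) ↔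
      Curv2.IsAssPoint (Coh.structureModule _) (φ.asFiber ((pullback.snd f g).asFiber x')) :=
    ⟨isAssPoint_of_iso (PbBasic.pbUnit _) _, isAssPoint_of_iso (PbBasic.pbUnit _).symm _⟩
  obtain ⟨algL, hEL, ⟨ψ⟩⟩ := exists_fiber_iso_tensor φ
    (k := S.residueField (g ((pullback.snd f g) x'))) (K := S'.residueField ((pullback.snd f g) x'))
    (f.fiberToSpecResidueField (g ((pullback.snd f g) x')))
    ((pullback.snd f g).fiberToSpecResidueField ((pullback.snd f g) x')) hpb
    (φ ((pullback.snd f g).asFiber x'))
  have hA := isAssPoint_iff_maximal_of_tensor ψ (φ.asFiber ((pullback.snd f g).asFiber x'))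
  have hζ : (φ.fiberι (φ ((pullback.snd f g).asFiber x'))) (φ.asFiber ((pullback.snd f g).asFiber x')) =
      (pullback.snd f g).asFiber x' := φ.fiberι_asFiber _
  have hIV : (∀ ζ'' : ↑(φ.fiber (φ ((pullback.snd f g).asFiber x'))),
        ζ'' ⤳ φ.asFiber ((pullback.snd f g).asFiber x') →
          ζ'' = φ.asFiber ((pullback.snd f g).asFiber x')) ↔
      ∀ x'' : ↥(pullback f g), (pullback.snd f g) x'' = (pullback.snd f g) x' →
          (pullback.fst f g) x'' = (pullback.fst f g) x' → x'' ⤳ x' → x'' = x' := by
    constructor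
    · intro hmax x'' h1 h2 h3
      obtain ⟨z'', hz''⟩ := exists_fiberι_eq (pullback.snd f g) _ x'' h1
      have hzs : z'' ⤳ (pullback.snd f g).asFiber x' := by
        apply ((pullback.snd f g).fiberι ((pullback.snd f g) x')).isEmbedding.isInducing.specializes_iff.mp
        rw [hz'', hz']
        exact h3
      have hφz : φ z'' = φ ((pullback.snd f g).asFiber x') := by
        apply (f.fiberι (g ((pullback.snd f g) x'))).isEmbedding.injective
        rw [hφpt, hz'', h2, hfw]
      obtain ⟨ζ'', hζ''⟩ := exists_fiberι_eq φ _ z'' hφz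
      have hζs : ζ'' ⤳ φ.asFiber ((pullback.snd f g).asFiber x') := by
        apply (φ.fiberι (φ ((pullback.snd f g).asFiber x'))).isEmbedding.isInducing.specializes_iff.mp
        rw [hζ'', hζ]
        exact hzs
      have := hmax ζ'' hζs
      rw [← hz'', ← hζ'', this, hζ, hz']
    · intro hx ζ'' hs
      have h1 := hs.map (φ.fiberι (φ ((pullback.snd f g).asFiber x'))).continuous
      rw [hζ] at h1
      have h2 := h1.map ((pullback.snd f g).fiberι ((pullback.snd f g) x')).continuous
      rw [hz'] at h2
      have h3 := hx _ (map_fiberι' (pullback.snd f g) _ _) (by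
        rw [← hφpt, map_fiberι' φ, hfw]) h2
      have h4 : (φ.fiberι (φ ((pullback.snd f g).asFiber x'))) ζ'' =
          (pullback.snd f g).asFiber x' := by
        apply ((pullback.snd f g).fiberι ((pullback.snd f g) x')).isEmbedding.injective
        rw [h3, hz']
      apply (φ.fiberι (φ ((pullback.snd f g).asFiber x'))).isEmbedding.injective
      rw [h4, hζ]
  rw [hL, hT, hII, hU, hA, hIV]

end Groth.Agent.Lib.Helper1.AssBC
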