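import Mathlib
import Groth.Agent.Lib.Helper1.AssBC5

/-!
# Relative assassin: fibre form, general base change squares, maximal points (helper1)
-/

set_option autoImplicit false
set_option linter.style.haveILetI false
universe u
open CategoryTheory CategoryTheory.Limits AlgebraicGeometry IsLocalRing TensorProduct

namespace Groth.Agent.Lib.Helper1.AssBC

open Groth.Agent.Lib.Helper17 Groth.Agent.Lib.Helper3 Groth.Agent.Lib.Helper14
  Groth.Agent.Lib.Helper1.AssFlat1

/-- the relative assassin in fibre form. -/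
theorem isAssPoint_fiber_iff_mem_relAss {X Y : Scheme.{u}} (f : X ⟶ Y) (F : X.Modules)
    [F.IsQuasicoherent] (y : Y) (x' : f.fiber y) :
    Curv2.IsAssPoint ((Scheme.Modules.pullback (f.fiberι y)).obj F) x' ↔
      (f.fiberι y) x' ∈ MoreMor.relAss f F := by
  set x : X := (f.fiberι y) x' with hxdef
  letI algRS : Algebra (Y.presheaf.stalk (f x)) (X.presheaf.stalk x) :=
    (f.stalkMap x).hom.toAlgebra
  letI algSS' : Algebra (X.presheaf.stalk x) ((f.fiber y).presheaf.stalk x') :=
    ((f.fiberι y).stalkMap x').hom.toAlgebra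
  letI modSP : Module (X.presheaf.stalk x)
      (((Scheme.Modules.pullback (f.fiberι y)).obj F).presheaf.stalk x') :=
    Module.compHom _ ((f.fiberι y).stalkMap x').hom
  obtain ⟨towSP, δ, hδ⟩ := PbStalk.exists_isBaseChange_stalk (f.fiberι y) F x'
  obtain ⟨hsurj, hker⟩ := FibreStalkMap.stalkMap_fiberι f y x'
  have hsurj' : Function.Surjective (algebraMap (X.presheaf.stalk x)
      ((f.fiber y).presheaf.stalk x')) := hsurj
  have hker' : RingHom.ker (algebraMap (X.presheaf.stalk x) ((f.fiber y).presheaf.stalk x')) =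
      (IsLocalRing.maximalIdeal (Y.presheaf.stalk (f x))).map
        (algebraMap (Y.presheaf.stalk (f x)) (X.presheaf.stalk x)) := hker
  obtain ⟨pe⟩ := nonempty_baseChangeEquivQuot hsurj' _ hker' δ hδ
  show _ ↔ IsAssociatedPrime (IsLocalRing.maximalIdeal (X.presheaf.stalk x))
        (F.presheaf.stalk x ⧸ ((IsLocalRing.maximalIdeal (Y.presheaf.stalk (f x))).map
          (algebraMap (Y.presheaf.stalk (f x)) (X.presheaf.stalk x))) •
            (⊤ : Submodule (X.presheaf.stalk x) (F.presheaf.stalk x)))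
  rw [← pe.isAssociatedPrime_iff]
  exact (isAssociatedPrime_maximalIdeal_iff hsurj').symm

theorem mem_relAss_iff {X Y : Scheme.{u}} (f : X ⟶ Y) (F : X.Modules) [F.IsQuasicoherent] (x : X) :
    x ∈ MoreMor.relAss f F ↔
      Curv2.IsAssPoint ((Scheme.Modules.pullback (f.fiberι (f x))).obj F) (f.asFiber x) := by
  rw [isAssPoint_fiber_iff_mem_relAss, f.fiberι_asFiber]

section general
variable {X S S' X' : Scheme.{u}} {f : X ⟶ S} {g : S' ⟶ S} {p1 : X' ⟶ X} {p2 : X' ⟶ S'}

theorem flat_of_fibre_isPullback (s' : S')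
    (φ : p2.fiber s' ⟶ f.fiber (g s'))
    (hpb : IsPullback φ (p2.fiberToSpecResidueField s') (f.fiberToSpecResidueField (g s'))
      (Spec.map (g.residueFieldMap s'))) : Flat φ := by
  letI algK : Algebra (S.residueField (g s')) (S'.residueField s') :=
    (g.residueFieldMap s').hom.toAlgebra
  have hfl : Flat (Spec.map (g.residueFieldMap s')) := by
    rw [Flat.SpecMap_iff]
    show Module.Flat ↑(S.residueField (g s')) ↑(S'.residueField s')
    infer_instance
  exact MorphismProperty.of_isPullback hpb.flip hfl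

variable [LocallyOfFiniteType f]

/-- associated points of the fibre of the base change, in terms of a point of the fibre of the
comparison morphism of fibres. -/
theorem ass_iff (F : X.Modules) [F.IsQuasicoherent] (s' : S')
    (φ : p2.fiber s' ⟶ f.fiber (g s'))
    (hpb : IsPullback φ (p2.fiberToSpecResidueField s') (f.fiberToSpecResidueField (g s'))
      (Spec.map (g.residueFieldMap s')))
    (he : φ ≫ f.fiberι (g s') = p2.fiberι s' ≫ p1) (w : f.fiber (g s')) (ζ : φ.fiber w) :
    Curv2.IsAssPoint ((Scheme.Modules.pullback (p2.fiberι s')).obj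
        ((Scheme.Modules.pullback p1).obj F)) ((φ.fiberι w) ζ) ↔
      Curv2.IsAssPoint ((Scheme.Modules.pullback (f.fiberι (g s'))).obj F) w ∧
        ∀ ζ'' : ↑(φ.fiber w), ζ'' ⤳ ζ → ζ'' = ζ := by
  letI algK : Algebra (S.residueField (g s')) (S'.residueField s') :=
    (g.residueFieldMap s').hom.toAlgebra
  haveI : Flat φ := flat_of_fibre_isPullback s' φ hpb
  haveI lft0 : LocallyOfFiniteType (f.fiberToSpecResidueField (g s')) := by
    change LocallyOfFiniteType (pullback.snd f _)
    infer_instance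
  haveI : IsLocallyNoetherian (f.fiber (g s')) :=
    LocallyOfFiniteType.isLocallyNoetherian (f.fiberToSpecResidueField (g s'))
  haveI hHq : ((Scheme.Modules.pullback (f.fiberι (g s'))).obj F).IsQuasicoherent :=
    PbStalk.isQuasicoherent_pullback _ F
  let e := (Scheme.Modules.pullbackComp (p2.fiberι s') p1).app F ≪≫
    (Scheme.Modules.pullbackCongr he.symm).app F ≪≫
    ((Scheme.Modules.pullbackComp φ (f.fiberι (g s'))).app F).symm ≪≫
    (SecTwist.unitorR _).symm
  have hL : Curv2.IsAssPoint ((Scheme.Modules.pullback (p2.fiberι s')).obj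
        ((Scheme.Modules.pullback p1).obj F)) ((φ.fiberι w) ζ) ↔
      Curv2.IsAssPoint (CohB1.tensorMod ((Scheme.Modules.pullback φ).obj
        ((Scheme.Modules.pullback (f.fiberι (g s'))).obj F))
          (Coh.structureModule _)) ((φ.fiberι w) ζ) :=
    ⟨isAssPoint_of_iso e _, isAssPoint_of_iso e.symm _⟩
  have hT := Groth.Agent.Lib.Helper1.AssFlat.isAssPoint_fiberι_iff φ
    ((Scheme.Modules.pullback (f.fiberι (g s'))).obj F)
    (Coh.structureModule _) (Groth.Agent.Lib.Helper13.CBCEtStalk.isFlatOver_structureModule φ) w ζ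
  have hU : Curv2.IsAssPoint ((Scheme.Modules.pullback (φ.fiberι w)).obj
        (Coh.structureModule _)) ζ ↔ Curv2.IsAssPoint (Coh.structureModule _) ζ :=
    ⟨isAssPoint_of_iso (PbBasic.pbUnit _) _, isAssPoint_of_iso (PbBasic.pbUnit _).symm _⟩
  obtain ⟨algL, hEL, ⟨ψ⟩⟩ := exists_fiber_iso_tensor φ
    (k := S.residueField (g s')) (K := S'.residueField s')
    (f.fiberToSpecResidueField (g s')) (p2.fiberToSpecResidueField s') hpb w
  have hA := isAssPoint_iff_maximal_of_tensor ψ ζ
  rw [hL, hT, hU, hA]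

/-- existence of maximal points in the fibres of the comparison morphism. -/
theorem exists_maximal (s' : S')
    (φ : p2.fiber s' ⟶ f.fiber (g s'))
    (hpb : IsPullback φ (p2.fiberToSpecResidueField s') (f.fiberToSpecResidueField (g s'))
      (Spec.map (g.residueFieldMap s')))
    (w : f.fiber (g s')) (hne : Nonempty ↑(φ.fiber w)) :
    ∃ ζ : ↑(φ.fiber w), ∀ ζ'' : ↑(φ.fiber w), ζ'' ⤳ ζ → ζ'' = ζ := by
  letI algK : Algebra (S.residueField (g s')) (S'.residueField s') :=
    (g.residueFieldMap s').hom.toAlgebra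
  haveI lft0 : LocallyOfFiniteType (f.fiberToSpecResidueField (g s')) := by
    change LocallyOfFiniteType (pullback.snd f _)
    infer_instance
  obtain ⟨algL, hEL, ⟨ψ⟩⟩ := exists_fiber_iso_tensor φ
    (k := S.residueField (g s')) (K := S'.residueField s')
    (f.fiberToSpecResidueField (g s')) (p2.fiberToSpecResidueField s') hpb w
  obtain ⟨ζ0⟩ := hne
  obtain ⟨P, hP, -⟩ := Ideal.exists_minimalPrimes_le
    (I := (⊥ : Ideal _)) (J := (ψ.hom ζ0).asIdeal) bot_le
  haveI := hP.1.1
  refine ⟨ψ.inv ⟨P, hP.1.1⟩, fun ζ'' hs => ?_⟩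
  have h1 := hs.map ψ.hom.continuous
  have h2 : ψ.hom (ψ.inv ⟨P, hP.1.1⟩) = ⟨P, hP.1.1⟩ := by
    rw [← Scheme.Hom.comp_apply, ψ.inv_hom_id]; rfl
  rw [h2] at h1
  have h3 : (ψ.hom ζ'').asIdeal ≤ P := (PrimeSpectrum.le_iff_specializes _ _).mpr h1
  have h4 : P ≤ (ψ.hom ζ'').asIdeal := hP.2 ⟨(ψ.hom ζ'').isPrime, bot_le⟩ h3
  have h5 : ψ.hom ζ'' = ⟨P, hP.1.1⟩ := PrimeSpectrum.ext (le_antisymm h3 h4)
  rw [← h5, ← Scheme.Hom.comp_apply, ψ.hom_inv_id]
  rfl

/-- maximality in the fibre of the comparison morphism is maximality among the points of the base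
change over the given pair of points. -/
theorem maximal_iff (s' : S')
    (φ : p2.fiber s' ⟶ f.fiber (g s'))
    (he : φ ≫ f.fiberι (g s') = p2.fiberι s' ≫ p1) (w : f.fiber (g s')) (ζ : φ.fiber w) :
    (∀ ζ'' : ↑(φ.fiber w), ζ'' ⤳ ζ → ζ'' = ζ) ↔
      ∀ x'' : X', p2 x'' = s' → p1 x'' = (f.fiberι (g s')) w →
        x'' ⤳ (p2.fiberι s') ((φ.fiberι w) ζ) → x'' = (p2.fiberι s') ((φ.fiberι w) ζ) := by
  have hφpt : ∀ a : ↑(p2.fiber s'),
      (f.fiberι (g s')) (φ a) = p1 ((p2.fiberι s') a) := by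
    intro a
    have := congrArg (fun h => h.base a) he
    simpa only [Scheme.Hom.comp_base, TopCat.hom_comp, ContinuousMap.comp_apply] using this
  have hφw : φ ((φ.fiberι w) ζ) = w := map_fiberι' φ w ζ
  constructor
  · intro hmax x'' h1 h2 h3
    obtain ⟨z'', hz''⟩ := exists_fiberι_eq p2 _ x'' h1
    have hzs : z'' ⤳ (φ.fiberι w) ζ := by
      apply (p2.fiberι s').isEmbedding.isInducing.specializes_iff.mp
      rw [hz'']
      exact h3
    have hφz : φ z'' = w := by
      apply (f.fiberι (g s')).isEmbedding.injective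
      rw [hφpt, hz'', h2]
    obtain ⟨ζ'', hζ''⟩ := exists_fiberι_eq φ _ z'' hφz
    have hζs : ζ'' ⤳ ζ := by
      apply (φ.fiberι w).isEmbedding.isInducing.specializes_iff.mp
      rw [hζ'']
      exact hzs
    have := hmax ζ'' hζs
    rw [← hz'', ← hζ'', this]
  · intro hx ζ'' hs
    have h1 := hs.map (φ.fiberι w).continuous
    have h2 := h1.map (p2.fiberι s').continuous
    have h3 := hx _ (map_fiberι' p2 _ _) (by rw [← hφpt, map_fiberι' φ]) h2
    have h4 : (φ.fiberι w) ζ'' = (φ.fiberι w) ζ := (p2.fiberι s').isEmbedding.injective h3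
    exact (φ.fiberι w).isEmbedding.injective h4

end general

end Groth.Agent.Lib.Helper1.AssBC
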