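import Mathlib
import Groth.Agent.Lib.Helper1.AssBC6

/-!
# The relative assassin of a fibre lies in an open iff it does after base change (helper1)
-/

set_option autoImplicit false
universe u
open CategoryTheory CategoryTheory.Limits AlgebraicGeometry IsLocalRing TensorProduct

namespace Groth.Agent.Lib.Helper1.AssBC

open Groth.Agent.Lib.Helper17 Groth.Agent.Lib.Helper3 Groth.Agent.Lib.Helper14

theorem main9780 {X S X' S' : Scheme.{u}} (f : X ⟶ S) [LocallyOfFiniteType f] (F : X.Modules)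
    [F.IsQuasicoherent] (U : X.Opens) (g : S' ⟶ S) (f' : X' ⟶ S') (g' : X' ⟶ X)
    (hc : IsPullback g' f' f g) (s' : S') :
    {x : ↑X | x ∈ MoreMor.relAss f F ∧ f x = g s'} ⊆ (U : Set ↑X) ↔
      {x' : ↑X' | x' ∈ MoreMor.relAss f' ((Scheme.Modules.pullback g').obj F) ∧ f' x' = s'} ⊆
        (g' ⁻¹ᵁ U : Set ↑X') := by
  obtain ⟨φ, hpb, he⟩ := LCF.exists_fibre_isPullback hc s'
  haveI : ((Scheme.Modules.pullback g').obj F).IsQuasicoherent :=
    PbStalk.isQuasicoherent_pullback g' F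
  have hφpt : ∀ a : ↑(f'.fiber s'), (f.fiberι (g s')) (φ a) = g' ((f'.fiberι s') a) := by
    intro a
    have := congrArg (fun h => h.base a) he
    simpa only [Scheme.Hom.comp_base, TopCat.hom_comp, ContinuousMap.comp_apply] using this
  constructor
  · rintro h x' ⟨hx', hfx'⟩
    obtain ⟨z', hz'⟩ := exists_fiberι_eq f' s' x' hfx'
    obtain ⟨ζ, hζ⟩ := exists_fiberι_eq φ (φ z') z' rfl
    have h1 : Curv2.IsAssPoint ((Scheme.Modules.pullback (f'.fiberι s')).obj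
        ((Scheme.Modules.pullback g').obj F)) z' :=
      (isAssPoint_fiber_iff_mem_relAss f' _ s' z').mpr (hz' ▸ hx')
    rw [← hζ] at h1
    have h2 := ((ass_iff F s' φ hpb he (φ z') ζ).mp h1).1
    have h3 : (f.fiberι (g s')) (φ z') ∈ MoreMor.relAss f F :=
      (isAssPoint_fiber_iff_mem_relAss f F (g s') (φ z')).mp h2
    have h4 : g' x' ∈ (U : Set ↑X) := by
      refine h ⟨?_, ?_⟩
      · rw [← hz', ← hφpt]; exact h3
      · rw [← hz', ← hφpt]; exact map_fiberι' f _ _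
    exact h4
  · rintro h x ⟨hx, hfx⟩
    obtain ⟨x'₀, h1, h2⟩ : ∃ x'₀ : X', g' x'₀ = x ∧ f' x'₀ = s' := by
      obtain ⟨t, ht1, ht2⟩ := Scheme.Pullback.exists_preimage_pullback (f := f) (g := g) x s' hfx
      refine ⟨hc.isoPullback.inv t, ?_, ?_⟩
      · rw [← Scheme.Hom.comp_apply, hc.isoPullback_inv_fst]; exact ht1
      · rw [← Scheme.Hom.comp_apply, hc.isoPullback_inv_snd]; exact ht2
    obtain ⟨z'₀, hz'₀⟩ := exists_fiberι_eq f' s' x'₀ h2
    have hw : (f.fiberι (g s')) (φ z'₀) = x := by rw [hφpt, hz'₀, h1]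
    have hne : Nonempty ↑(φ.fiber (φ z'₀)) := ⟨φ.asFiber z'₀⟩
    obtain ⟨ζ, hζ⟩ := exists_maximal s' φ hpb (φ z'₀) hne
    have hH : Curv2.IsAssPoint ((Scheme.Modules.pullback (f.fiberι (g s'))).obj F) (φ z'₀) :=
      (isAssPoint_fiber_iff_mem_relAss f F (g s') (φ z'₀)).mpr (hw ▸ hx)
    have hA := (ass_iff F s' φ hpb he (φ z'₀) ζ).mpr ⟨hH, hζ⟩
    have hx' := (isAssPoint_fiber_iff_mem_relAss f' _ s' ((φ.fiberι (φ z'₀)) ζ)).mp hA
    have hU : g' ((f'.fiberι s') ((φ.fiberι (φ z'₀)) ζ)) ∈ (U : Set ↑X) :=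
      h ⟨hx', map_fiberι' f' s' _⟩
    have hgx : g' ((f'.fiberι s') ((φ.fiberι (φ z'₀)) ζ)) = x := by
      rw [← hφpt, map_fiberι' φ, hw]
    rw [← hgx]
    exact hU

end Groth.Agent.Lib.Helper1.AssBC
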