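import Mathlib
import Groth.Agent.Lib.Helper1.AssBC6
import Groth.Agent.Lib.Helper1.AssFlat2b
import Groth.Agent.Lib.Helper1.FibBC2

/-!
# Associated points of `F ⊗_S G`: core statement in fibre coordinates (helper1)
-/

set_option autoImplicit false
set_option linter.style.haveILetI false
universe u
open CategoryTheory CategoryTheory.Limits AlgebraicGeometry IsLocalRing TensorProduct

namespace Groth.Agent.Lib.Helper1.AssTens

open Groth.Agent.Lib.Helper17 Groth.Agent.Lib.Helper3 Groth.Agent.Lib.Helper14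
  Groth.Agent.Lib.Helper1.AssFlat1 Groth.Agent.Lib.Helper1.AssBC

variable {X Y S : Scheme.{u}} (f : X ⟶ S) (g : Y ⟶ S)

theorem core [IsLocallyNoetherian X] [IsLocallyNoetherian Y]
    (F : X.Modules) [F.IsQuasicoherent] (G : Y.Modules) [G.IsQuasicoherent]
    (hGfl : FlatMod.IsFlatOver g G) (x : X)
    (φ : (pullback.fst f g).fiber x ⟶ g.fiber (f x))
    (hpb : IsPullback φ ((pullback.fst f g).fiberToSpecResidueField x)
      (g.fiberToSpecResidueField (f x)) (Spec.map (f.residueFieldMap x)))
    (he : φ ≫ g.fiberι (f x) = (pullback.fst f g).fiberι x ≫ pullback.snd f g)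
    (y' : g.fiber (f x)) (ζ : φ.fiber y') :
    Curv2.IsAssPoint (CohB1.tensorMod ((Scheme.Modules.pullback (pullback.fst f g)).obj F)
        ((Scheme.Modules.pullback (pullback.snd f g)).obj G))
        (((pullback.fst f g).fiberι x) ((φ.fiberι y') ζ)) ↔
      Curv2.IsAssPoint F x ∧
        Curv2.IsAssPoint ((Scheme.Modules.pullback (g.fiberι (f x))).obj G) y' ∧
        Curv2.IsAssPoint (Coh.structureModule (φ.fiber y')) ζ := by
  have sq : IsPullback (pullback.snd f g) (pullback.fst f g) g f :=
    (IsPullback.of_hasPullback f g).flip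
  haveI : ((Scheme.Modules.pullback (pullback.snd f g)).obj G).IsQuasicoherent :=
    PbStalk.isQuasicoherent_pullback (pullback.snd f g) G
  have hflat : FlatMod.IsFlatOver (pullback.fst f g)
      ((Scheme.Modules.pullback (pullback.snd f g)).obj G) :=
    fun x' => FibreFlat.isFlatOverAt_baseChange sq G x' (hGfl _)
  have h1 := Groth.Agent.Lib.Helper1.AssFlat.isAssPoint_fiberι_iff (pullback.fst f g) F
    ((Scheme.Modules.pullback (pullback.snd f g)).obj G) hflat x ((φ.fiberι y') ζ)
  haveI : Flat φ := flat_of_fibre_isPullback (f := g) (g := f)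
    (p2 := pullback.fst f g) x φ hpb
  haveI hHq : ((Scheme.Modules.pullback (g.fiberι (f x))).obj G).IsQuasicoherent :=
    PbStalk.isQuasicoherent_pullback _ G
  let e := (Scheme.Modules.pullbackComp ((pullback.fst f g).fiberι x) (pullback.snd f g)).app G ≪≫
    (Scheme.Modules.pullbackCongr he.symm).app G ≪≫
    ((Scheme.Modules.pullbackComp φ (g.fiberι (f x))).app G).symm ≪≫
    (SecTwist.unitorR _).symm
  have hL : Curv2.IsAssPoint ((Scheme.Modules.pullback ((pullback.fst f g).fiberι x)).obj
        ((Scheme.Modules.pullback (pullback.snd f g)).obj G)) ((φ.fiberι y') ζ) ↔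
      Curv2.IsAssPoint (CohB1.tensorMod ((Scheme.Modules.pullback φ).obj
        ((Scheme.Modules.pullback (g.fiberι (f x))).obj G))
          (Coh.structureModule _)) ((φ.fiberι y') ζ) :=
    ⟨isAssPoint_of_iso e _, isAssPoint_of_iso e.symm _⟩
  haveI := Groth.Agent.Lib.Helper1.FibBC.isNoetherianRing_stalk_fiber g (f x) y'
  have hT := Groth.Agent.Lib.Helper1.AssFlatB.isAssPoint_fiberι_iff φ
    ((Scheme.Modules.pullback (g.fiberι (f x))).obj G)
    (Coh.structureModule _) y' ζ
    (Groth.Agent.Lib.Helper13.CBCEtStalk.isFlatOver_structureModule φ _)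
  have hU : Curv2.IsAssPoint ((Scheme.Modules.pullback (φ.fiberι y')).obj
        (Coh.structureModule _)) ζ ↔ Curv2.IsAssPoint (Coh.structureModule _) ζ :=
    ⟨isAssPoint_of_iso (PbBasic.pbUnit _) _, isAssPoint_of_iso (PbBasic.pbUnit _).symm _⟩
  rw [h1, hL, hT, hU]

end Groth.Agent.Lib.Helper1.AssTens
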