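import Mathlib
import Groth.Agent.Lib.Helper1.AssTens1
import Groth.Agent.Lib.Helper12.FibreRes

/-!
# Associated points of `F ⊗_S G`: the fibre of the comparison morphism is `Spec κ(x) ×_S Spec κ(y)`
(helper1)
-/

set_option autoImplicit false
set_option linter.style.haveILetI false
universe u
open CategoryTheory CategoryTheory.Limits AlgebraicGeometry IsLocalRing TensorProduct

namespace Groth.Agent.Lib.Helper1.AssTens

open Groth.Agent.Lib.Helper17 Groth.Agent.Lib.Helper3 Groth.Agent.Lib.Helper14
  Groth.Agent.Lib.Helper1.AssFlat1 Groth.Agent.Lib.Helper1.AssBC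

theorem isPullback_comp_mono {C : Type*} [Category C] {P A B W Z : C} {a : P ⟶ A} {b : P ⟶ B}
    {u : A ⟶ W} {v : B ⟶ W} (h : IsPullback a b u v) (i : W ⟶ Z) [Mono i] :
    IsPullback a b (u ≫ i) (v ≫ i) :=
  ⟨⟨by rw [← Category.assoc, h.w, Category.assoc]⟩,
    ⟨PullbackCone.isLimitOfCompMono u v i _ h.isLimit⟩⟩

section
variable {X Y S : Scheme.{u}} (f : X ⟶ S) (g : Y ⟶ S) (x : X)
  (φ : (pullback.fst f g).fiber x ⟶ g.fiber (f x))
  (hpb : IsPullback φ ((pullback.fst f g).fiberToSpecResidueField x)
    (g.fiberToSpecResidueField (f x)) (Spec.map (f.residueFieldMap x)))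
  (he : φ ≫ g.fiberι (f x) = (pullback.fst f g).fiberι x ≫ pullback.snd f g)
  (y' : g.fiber (f x))

include hpb in
theorem isPullback_fiber :
    IsPullback (φ.fiberι y' ≫ (pullback.fst f g).fiberToSpecResidueField x)
      (φ.fiberToSpecResidueField y' ≫ Spec.map ((g.fiberι (f x)).residueFieldMap y'))
      (X.fromSpecResidueField x ≫ f) (Y.fromSpecResidueField (g.fiberι (f x) y') ≫ g) := by
  haveI hρ : IsIso ((g.fiberι (f x)).residueFieldMap y') :=
    (ConcreteCategory.isIso_iff_bijective _).2
      (Groth.Agent.Lib.Helper12.FibreRes.residueFieldMap_fiberι_bijective g (f x) y')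
  have h1 : IsPullback (φ.fiberι y') (φ.fiberToSpecResidueField y') φ
      ((g.fiber (f x)).fromSpecResidueField y') := IsPullback.of_hasPullback _ _
  have h2 := h1.paste_horiz hpb.flip
  have h3 : IsPullback (φ.fiberι y' ≫ (pullback.fst f g).fiberToSpecResidueField x)
      (φ.fiberToSpecResidueField y' ≫ Spec.map ((g.fiberι (f x)).residueFieldMap y'))
      (Spec.map (f.residueFieldMap x))
      (Spec.map (inv ((g.fiberι (f x)).residueFieldMap y')) ≫
        (g.fiber (f x)).fromSpecResidueField y' ≫ g.fiberToSpecResidueField (f x)) :=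
    h2.of_iso (Iso.refl _) (Iso.refl _) (asIso (Spec.map ((g.fiberι (f x)).residueFieldMap y')))
      (Iso.refl _) (by simp) (by simp) (by simp)
      (by simp [← Spec.map_comp_assoc])
  have h4 := isPullback_comp_mono h3 (S.fromSpecResidueField (f x))
  have e1 : Spec.map (f.residueFieldMap x) ≫ S.fromSpecResidueField (f x) =
      X.fromSpecResidueField x ≫ f := Scheme.Hom.SpecMap_residueFieldMap_fromSpecResidueField f x
  have e2 : (Spec.map (inv ((g.fiberι (f x)).residueFieldMap y')) ≫
        (g.fiber (f x)).fromSpecResidueField y' ≫ g.fiberToSpecResidueField (f x)) ≫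
          S.fromSpecResidueField (f x) = Y.fromSpecResidueField (g.fiberι (f x) y') ≫ g := by
    rw [Category.assoc, Category.assoc, ← Scheme.Hom.fiber_fac,
      ← Category.assoc ((g.fiber (f x)).fromSpecResidueField y'),
      ← Scheme.Hom.SpecMap_residueFieldMap_fromSpecResidueField, Category.assoc,
      ← Spec.map_comp_assoc, IsIso.hom_inv_id, Spec.map_id, Category.id_comp]
  rw [e1, e2] at h4
  exact h4

/-- the fibre of the comparison morphism is `Spec κ(x) ×_S Spec κ(y)`. -/
noncomputable def fiberIso :
    φ.fiber y' ≅ pullback (X.fromSpecResidueField x ≫ f)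
      (Y.fromSpecResidueField (g.fiberι (f x) y') ≫ g) :=
  (isPullback_fiber f g x φ hpb y').isoPullback

include he in
theorem fiberIso_hom_map :
    (fiberIso f g x φ hpb y').hom ≫
      pullback.map (X.fromSpecResidueField x ≫ f) (Y.fromSpecResidueField (g.fiberι (f x) y') ≫ g)
        f g (X.fromSpecResidueField x) (Y.fromSpecResidueField (g.fiberι (f x) y')) (𝟙 S)
        (Category.comp_id _) (Category.comp_id _) =
      φ.fiberι y' ≫ (pullback.fst f g).fiberι x := by
  apply pullback.hom_ext
  · rw [Category.assoc, pullback.lift_fst, ← Category.assoc, fiberIso,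
      IsPullback.isoPullback_hom_fst, Category.assoc, Category.assoc, Scheme.Hom.fiber_fac]
  · rw [Category.assoc, pullback.lift_snd, ← Category.assoc, fiberIso,
      IsPullback.isoPullback_hom_snd, Category.assoc, Category.assoc,
      Scheme.Hom.SpecMap_residueFieldMap_fromSpecResidueField, ← he, ← Category.assoc,
      ← Category.assoc, Scheme.Hom.fiber_fac]

end

end Groth.Agent.Lib.Helper1.AssTens
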