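import Mathlib
import Groth.Agent.Lib.Helper1.AssTens2

/-!
# Associated points of `F ⊗_S G`: the set-theoretic formula (helper1)
-/

set_option autoImplicit false
set_option linter.style.haveILetI false
universe u
open CategoryTheory CategoryTheory.Limits AlgebraicGeometry IsLocalRing TensorProduct

namespace Groth.Agent.Lib.Helper1.AssTens

open Groth.Agent.Lib.Helper17 Groth.Agent.Lib.Helper3 Groth.Agent.Lib.Helper14
  Groth.Agent.Lib.Helper1.AssFlat1 Groth.Agent.Lib.Helper1.AssBC

theorem isNoetherianRing_stalk_fiber' {X Y : Scheme.{u}} (f : X ⟶ Y) (y : Y) (z : f.fiber y)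
    [IsNoetherianRing (X.presheaf.stalk (f.fiberι y z))] :
    IsNoetherianRing ((f.fiber y).presheaf.stalk z) := by
  obtain ⟨hsurj, -⟩ := Groth.Agent.Lib.Helper17.FibreStalkMap.stalkMap_fiberι f y z
  exact isNoetherianRing_of_surjective _ _ ((f.fiberι y).stalkMap z).hom hsurj

theorem isNoetherianRing_stalk_of_iso {A B : Scheme.{u}} (θ : A ≅ B) (a : A)
    [IsNoetherianRing (A.presheaf.stalk a)] : IsNoetherianRing (B.presheaf.stalk (θ.hom a)) := by
  have e : B.presheaf.stalk (θ.hom a) ≅ A.presheaf.stalk a := asIso (θ.hom.stalkMap a)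
  exact isNoetherianRing_of_ringEquiv _ e.symm.commRingCatIsoToRingEquiv

theorem isAssPoint_structure_of_iso {A B : Scheme.{u}} (θ : A ≅ B) (a : A)
    [IsNoetherianRing (A.presheaf.stalk a)]
    (h : Curv2.IsAssPoint (Coh.structureModule A) a) :
    Curv2.IsAssPoint (Coh.structureModule B) (θ.hom a) := by
  haveI := isNoetherianRing_stalk_of_iso θ a
  exact isAssPoint_of_flat_pullback θ.hom (Coh.structureModule B) a
    (isAssPoint_of_iso (PbBasic.pbUnit θ.hom).symm a h)

section
variable {X Y S : Scheme.{u}} (f : X ⟶ S) (g : Y ⟶ S) [IsLocallyNoetherian (pullback f g)] (x : X)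
  (φ : (pullback.fst f g).fiber x ⟶ g.fiber (f x))
  (hpb : IsPullback φ ((pullback.fst f g).fiberToSpecResidueField x)
    (g.fiberToSpecResidueField (f x)) (Spec.map (f.residueFieldMap x)))
  (he : φ ≫ g.fiberι (f x) = (pullback.fst f g).fiberι x ≫ pullback.snd f g)
  (y' : g.fiber (f x))

theorem isNoetherianRing_stalk_Phi (ζ : φ.fiber y') :
    IsNoetherianRing ((φ.fiber y').presheaf.stalk ζ) := by
  haveI := Groth.Agent.Lib.Helper1.FibBC.isNoetherianRing_stalk_fiber (pullback.fst f g) x
    (φ.fiberι y' ζ)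
  exact isNoetherianRing_stalk_fiber' φ y' ζ

include hpb he in
theorem image_eq :
    ⇑(pullback.map (X.fromSpecResidueField x ≫ f) (Y.fromSpecResidueField (g.fiberι (f x) y') ≫ g)
        f g (X.fromSpecResidueField x) (Y.fromSpecResidueField (g.fiberι (f x) y')) (𝟙 S)
        (Category.comp_id _) (Category.comp_id _)) ''
      {t | Curv2.IsAssPoint (Coh.structureModule (pullback (X.fromSpecResidueField x ≫ f)
        (Y.fromSpecResidueField (g.fiberι (f x) y') ≫ g))) t} =
    {z | ∃ ζ : φ.fiber y', Curv2.IsAssPoint (Coh.structureModule (φ.fiber y')) ζ ∧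
      ((pullback.fst f g).fiberι x) ((φ.fiberι y') ζ) = z} := by
  have hpt : ∀ ζ : φ.fiber y', (pullback.map (X.fromSpecResidueField x ≫ f)
      (Y.fromSpecResidueField (g.fiberι (f x) y') ≫ g)
        f g (X.fromSpecResidueField x) (Y.fromSpecResidueField (g.fiberι (f x) y')) (𝟙 S)
        (Category.comp_id _) (Category.comp_id _)) ((fiberIso f g x φ hpb y').hom ζ) =
      ((pullback.fst f g).fiberι x) ((φ.fiberι y') ζ) := by
    intro ζ
    have := congrArg (fun h => h.base ζ) (fiberIso_hom_map f g x φ hpb he y')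
    simpa only [Scheme.Hom.comp_base, TopCat.hom_comp, ContinuousMap.comp_apply] using this
  ext z
  constructor
  · rintro ⟨t, ht, rfl⟩
    have ht' : (fiberIso f g x φ hpb y').hom ((fiberIso f g x φ hpb y').inv t) = t := by
      rw [← Scheme.Hom.comp_apply, Iso.inv_hom_id]; rfl
    refine ⟨(fiberIso f g x φ hpb y').inv t, ?_, ?_⟩
    · haveI := isNoetherianRing_stalk_Phi f g x φ y' ((fiberIso f g x φ hpb y').inv t)
      haveI : IsNoetherianRing ((pullback (X.fromSpecResidueField x ≫ f)
          (Y.fromSpecResidueField (g.fiberι (f x) y') ≫ g)).presheaf.stalk t) := by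
        have := isNoetherianRing_stalk_of_iso (fiberIso f g x φ hpb y')
          ((fiberIso f g x φ hpb y').inv t)
        rwa [ht'] at this
      exact isAssPoint_structure_of_iso (fiberIso f g x φ hpb y').symm t ht
    · rw [← hpt, ht']
  · rintro ⟨ζ, hζ, rfl⟩
    haveI := isNoetherianRing_stalk_Phi f g x φ y' ζ
    exact ⟨(fiberIso f g x φ hpb y').hom ζ,
      isAssPoint_structure_of_iso (fiberIso f g x φ hpb y') ζ hζ, hpt ζ⟩

end

end Groth.Agent.Lib.Helper1.AssTens
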