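import Mathlib
import Groth.Agent.Lib.Helper1.AssTens3
import Groth.Agent.Lib.Helper1.AssBC2

/-!
# Associated points of `F ⊗_S G`: the main formulas (helper1)
-/

set_option autoImplicit false
set_option linter.style.haveILetI false
universe u
open CategoryTheory CategoryTheory.Limits AlgebraicGeometry IsLocalRing TensorProduct

namespace Groth.Agent.Lib.Helper1.AssTens

open Groth.Agent.Lib.Helper17 Groth.Agent.Lib.Helper3 Groth.Agent.Lib.Helper14
  Groth.Agent.Lib.Helper1.AssFlat1 Groth.Agent.Lib.Helper1.AssBC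

variable {X Y S : Scheme.{u}} (f : X ⟶ S) (g : Y ⟶ S)

theorem main4668 [IsLocallyNoetherian X] [IsLocallyNoetherian Y]
    [IsLocallyNoetherian (pullback f g)]
    (F : X.Modules) [F.IsQuasicoherent] (G : Y.Modules) [G.IsQuasicoherent]
    (hGfl : FlatMod.IsFlatOver g G) :
    AssSch.Ass (CohB1.tensorMod ((Scheme.Modules.pullback (pullback.fst f g)).obj F)
        ((Scheme.Modules.pullback (pullback.snd f g)).obj G)) =
      ⋃ (x : ↥X) (_ : x ∈ AssSch.Ass F) (y' : ↥(g.fiber (f x)))
        (_ : y' ∈ AssSch.Ass ((Scheme.Modules.pullback (g.fiberι (f x))).obj G)) (y : ↥Y)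
        (_ : y = g.fiberι (f x) y'),
        ⇑(pullback.map (X.fromSpecResidueField x ≫ f) (Y.fromSpecResidueField y ≫ g) f g
            (X.fromSpecResidueField x)
            (Y.fromSpecResidueField y) (𝟙 S) (Category.comp_id _) (Category.comp_id _)) ''
          AssSch.Ass (Coh.structureModule
            (pullback (X.fromSpecResidueField x ≫ f) (Y.fromSpecResidueField y ≫ g))) := by
  have sq : IsPullback (pullback.snd f g) (pullback.fst f g) g f :=
    (IsPullback.of_hasPullback f g).flip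
  ext z
  simp only [Set.mem_iUnion]
  constructor
  · intro hz
    obtain ⟨φ, hpb, he⟩ := LCF.exists_fibre_isPullback sq (pullback.fst f g z)
    have e1 : ((pullback.fst f g).fiberι (pullback.fst f g z))
        ((φ.fiberι (φ ((pullback.fst f g).asFiber z))) (φ.asFiber ((pullback.fst f g).asFiber z)))
          = z := by
      rw [φ.fiberι_asFiber, (pullback.fst f g).fiberι_asFiber]
    have hz' : Curv2.IsAssPoint (CohB1.tensorMod
        ((Scheme.Modules.pullback (pullback.fst f g)).obj F)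
        ((Scheme.Modules.pullback (pullback.snd f g)).obj G)) z := hz
    rw [← e1] at hz'
    obtain ⟨hx, hy', hζ⟩ := (core f g F G hGfl _ φ hpb he _ _).mp hz'
    refine ⟨pullback.fst f g z, hx, φ ((pullback.fst f g).asFiber z), hy', _, rfl, ?_⟩
    have := image_eq f g (pullback.fst f g z) φ hpb he (φ ((pullback.fst f g).asFiber z))
    change z ∈ ⇑(pullback.map _ _ f g _ _ (𝟙 S) _ _) '' {t | Curv2.IsAssPoint _ t}
    rw [this]
    exact ⟨_, hζ, e1⟩
  · rintro ⟨x, hx, y', hy', y, rfl, hz⟩
    obtain ⟨φ, hpb, he⟩ := LCF.exists_fibre_isPullback sq x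
    have := image_eq f g x φ hpb he y'
    change z ∈ ⇑(pullback.map _ _ f g _ _ (𝟙 S) _ _) '' {t | Curv2.IsAssPoint _ t} at hz
    rw [this] at hz
    obtain ⟨ζ, hζ, rfl⟩ := hz
    exact (core f g F G hGfl x φ hpb he y' ζ).mpr ⟨hx, hy', hζ⟩

theorem isAssPoint_fiber_iff [IsLocallyNoetherian S]
    (G : Y.Modules) [G.IsQuasicoherent]
    (hGfl : FlatMod.IsFlatOver g G) (s : S) (y' : g.fiber s) :
    Curv2.IsAssPoint G (g.fiberι s y') ↔
      Curv2.IsAssPoint (Coh.structureModule S) s ∧
        Curv2.IsAssPoint ((Scheme.Modules.pullback (g.fiberι s)).obj G) y' := by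
  rw [← Groth.Agent.Lib.Helper1.AssFlat.isAssPoint_fiberι_iff g (Coh.structureModule S) G hGfl s y']
  let e2 : CohB1.tensorMod ((Scheme.Modules.pullback g).obj (Coh.structureModule S)) G ≅ G :=
    (show CohB1.tensorMod ((Scheme.Modules.pullback g).obj (Coh.structureModule S)) G ≅
        CohB1.tensorMod (Coh.structureModule Y) G from
      (DCoh.tensorBi.mapIso (PbBasic.pbUnit g)).app G) ≪≫ InvMonoidal.unitorL G
  exact ⟨isAssPoint_of_iso e2.symm _, isAssPoint_of_iso e2 _⟩

theorem main4669 [IsLocallyNoetherian X] [IsLocallyNoetherian Y] [IsLocallyNoetherian S]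
    [IsLocallyNoetherian (pullback f g)]
    (F : X.Modules) [F.IsQuasicoherent] (G : Y.Modules) [G.IsQuasicoherent]
    (hGfl : FlatMod.IsFlatOver g G)
    (hAss : ∀ x ∈ AssSch.Ass F, f x ∈ AssSch.Ass (Coh.structureModule S)) :
    AssSch.Ass (CohB1.tensorMod ((Scheme.Modules.pullback (pullback.fst f g)).obj F)
        ((Scheme.Modules.pullback (pullback.snd f g)).obj G)) =
      ⋃ (x : ↥X) (_ : x ∈ AssSch.Ass F) (y : ↥Y) (_ : y ∈ AssSch.Ass G) (_ : f x = g y),
        ⇑(pullback.map (X.fromSpecResidueField x ≫ f) (Y.fromSpecResidueField y ≫ g) f g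
            (X.fromSpecResidueField x)
            (Y.fromSpecResidueField y) (𝟙 S) (Category.comp_id _) (Category.comp_id _)) ''
          AssSch.Ass (Coh.structureModule
            (pullback (X.fromSpecResidueField x ≫ f) (Y.fromSpecResidueField y ≫ g))) := by
  rw [main4668 f g F G hGfl]
  ext z
  simp only [Set.mem_iUnion]
  constructor
  · rintro ⟨x, hx, y', hy', y, rfl, hz⟩
    exact ⟨x, hx, _, (isAssPoint_fiber_iff g G hGfl (f x) y').mpr ⟨hAss x hx, hy'⟩,
      (map_fiberι' g (f x) y').symm, hz⟩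
  · rintro ⟨x, hx, y, hy, hxy, hz⟩
    obtain ⟨y', rfl⟩ := exists_fiberι_eq g (f x) y hxy.symm
    exact ⟨x, hx, y', ((isAssPoint_fiber_iff g G hGfl (f x) y').mp hy).2, _, rfl, hz⟩

end Groth.Agent.Lib.Helper1.AssTens
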