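import Mathlib
import Groth.Agent.Lib.Helper25.NoEmbFib
import Groth.Agent.Lib.Helper25.NoEmbSch
import Groth.Agent.Lib.Helper3.AssPoints

/-!
# Primes of zero-divisors in `C₀ ⊗[k] K` are minimal, without finiteness (helper1)

Variants of helper25's `le_of_annihilates` chain where the prime `p` is only assumed to consist of
zero-divisors (no common annihilated element).
-/

set_option autoImplicit false
universe u

open TensorProduct

namespace Groth.Agent.Lib.Helper1.AssTens

lemma le_of_zeroDivisors {S₀ R' : Type*} [CommRing S₀] [IsDomain S₀] [CommRing R'] [Algebra S₀ R']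
    [Algebra.IsAlgebraic S₀ R'] [Module.Flat S₀ R']
    (p' q' : Ideal R') (hq : q'.IsPrime) (hqp : q' ≤ p')
    (hann : ∀ r ∈ p', ∃ x' : R', x' ≠ 0 ∧ r * x' = 0) : p' ≤ q' := by
  have hcomap : p'.comap (algebraMap S₀ R') = ⊥ := by
    rw [eq_bot_iff]
    intro s hs
    rw [Ideal.mem_bot]
    by_contra hs0
    have reg : IsSMulRegular S₀ s := fun a b hab => mul_left_cancel₀ hs0 hab
    have reg' : IsSMulRegular R' (algebraMap S₀ R' s) := IsSMulRegular.of_flat reg
    obtain ⟨x', hx', hrx⟩ := hann _ hs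
    apply hx'
    apply reg'
    change algebraMap S₀ R' s * x' = algebraMap S₀ R' s * 0
    rw [mul_zero]
    exact hrx
  by_contra hnot
  obtain ⟨r, hrp, hrq⟩ := Set.not_subset.1 hnot
  obtain ⟨P, hP0, hPr⟩ := Algebra.IsAlgebraic.isAlgebraic (R := S₀) r
  have hq0 : q'.comap (algebraMap S₀ R') = ⊥ := by
    rw [eq_bot_iff, ← hcomap]
    exact Ideal.comap_mono hqp
  have hinj : Function.Injective (Ideal.Quotient.mk (q'.comap (algebraMap S₀ R'))) := by
    rw [RingHom.injective_iff_ker_eq_bot, Ideal.mk_ker]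
    exact hq0
  have hlt := Ideal.comap_lt_comap_of_root_mem_sdiff (f := algebraMap S₀ R') (I := q') (J := p')
    hqp (r := r) ⟨hrp, hrq⟩ (p := P)
    (fun h => hP0 (Polynomial.map_injective _ hinj (h.trans (Polynomial.map_zero _).symm)))
    (by rw [← Polynomial.aeval_def, hPr]; exact q'.zero_mem)
  rw [hcomap] at hlt
  exact not_lt_bot hlt

lemma le_of_zeroDivisors_equiv {S₀ R' T : Type*} [CommRing S₀] [IsDomain S₀] [CommRing R']
    [Algebra S₀ R'] [Algebra.IsAlgebraic S₀ R'] [Module.Flat S₀ R'] [CommRing T]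
    (e : R' ≃+* T) (p q : Ideal T) (hq : q.IsPrime) (hqp : q ≤ p)
    (hann : ∀ r ∈ p, ∃ x : T, x ≠ 0 ∧ r * x = 0) : p ≤ q := by
  have hq' : (q.comap (e : R' →+* T)).IsPrime := Ideal.comap_isPrime _ _
  have hle : p.comap (e : R' →+* T) ≤ q.comap (e : R' →+* T) := by
    refine le_of_zeroDivisors (S₀ := S₀) _ _ hq' (Ideal.comap_mono hqp) ?_
    intro r hr
    obtain ⟨x, hx, hrx⟩ := hann (e r) hr
    refine ⟨e.symm x, ?_, ?_⟩
    · intro h
      apply hx
      have := congrArg e h
      rwa [e.apply_symm_apply, map_zero] at this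
    · have := congrArg e.symm hrx
      rwa [map_mul, e.symm_apply_apply, map_zero] at this
  intro r hr
  have h1 : e.symm r ∈ p.comap (e : R' →+* T) := by
    change e (e.symm r) ∈ p
    rwa [e.apply_symm_apply]
  have h2 := hle h1
  change e (e.symm r) ∈ q at h2
  rwa [e.apply_symm_apply] at h2

lemma le_of_zeroDivisors_subalgebra {k K C₀ T : Type u} [Field k] [Field K] [Algebra k K]
    [CommRing C₀] [IsDomain C₀] [Algebra k C₀] [CommRing T]
    (R₀ : Subalgebra k K) [Module.Flat R₀ K] [Algebra.IsAlgebraic R₀ K]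
    (hdom : IsDomain (R₀ ⊗[k] C₀))
    (e : C₀ ⊗[k] K ≃+* T) (p q : Ideal T) (hq : q.IsPrime) (hqp : q ≤ p)
    (hann : ∀ r ∈ p, ∃ x : T, x ≠ 0 ∧ r * x = 0) : p ≤ q := by
  haveI := hdom
  have hinj : Function.Injective (algebraMap R₀ (R₀ ⊗[k] C₀)) := by
    intro a b h
    apply Algebra.TensorProduct.includeLeft_injective (R := k) (S := R₀) (A := R₀) (B := C₀)
      (algebraMap k C₀).injective
    exact h
  haveI : FaithfulSMul R₀ (R₀ ⊗[k] C₀) := (faithfulSMul_iff_algebraMap_injective _ _).2 hinj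
  haveI : Algebra.IsAlgebraic (R₀ ⊗[k] C₀) ((R₀ ⊗[k] C₀) ⊗[R₀] K) := inferInstance
  haveI : Module.Flat (R₀ ⊗[k] C₀) ((R₀ ⊗[k] C₀) ⊗[R₀] K) := inferInstance
  exact le_of_zeroDivisors_equiv (S₀ := R₀ ⊗[k] C₀) (R' := (R₀ ⊗[k] C₀) ⊗[R₀] K)
    ((((Algebra.TensorProduct.comm R₀ (R₀ ⊗[k] C₀) K).toRingEquiv.trans
      (Algebra.TensorProduct.cancelBaseChange k R₀ K K C₀).toRingEquiv).trans
      (Algebra.TensorProduct.comm k K C₀).toRingEquiv).trans e) p q hq hqp hann

open scoped IntermediateField.algebraAdjoinAdjoin in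
/-- In `C₀ ⊗[k] K` (`C₀` a domain, `K/k` a field extension) a prime consisting of zero-divisors
is minimal. -/
theorem le_of_zeroDivisors_tensor {k K C₀ T : Type u} [Field k] [Field K] [Algebra k K]
    [CommRing C₀] [IsDomain C₀] [Algebra k C₀] [CommRing T]
    (e : C₀ ⊗[k] K ≃+* T) (p q : Ideal T) (hq : q.IsPrime) (hqp : q ≤ p)
    (hann : ∀ r ∈ p, ∃ x : T, x ≠ 0 ∧ r * x = 0) : p ≤ q := by
  classical
  obtain ⟨s, hs⟩ := exists_isTranscendenceBasis k K
  haveI halg : Algebra.IsAlgebraic (Algebra.adjoin k (Set.range ((↑) : s → K))) K :=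
    hs.isAlgebraic
  haveI hflat : Module.Flat (Algebra.adjoin k (Set.range ((↑) : s → K))) K := by
    haveI : Module.Flat (Algebra.adjoin k (Set.range ((↑) : s → K)))
        (IntermediateField.adjoin k (Set.range ((↑) : s → K))) :=
      IsLocalization.flat _ (nonZeroDivisors (Algebra.adjoin k (Set.range ((↑) : s → K))))
    exact Module.Flat.trans (Algebra.adjoin k (Set.range ((↑) : s → K)))
      (IntermediateField.adjoin k (Set.range ((↑) : s → K))) K
  refine le_of_zeroDivisors_subalgebra (Algebra.adjoin k (Set.range ((↑) : s → K))) ?_ e p q hq hqp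
    hann
  exact MulEquiv.isDomain (MvPolynomial s C₀)
    (((Algebra.TensorProduct.comm k (Algebra.adjoin k (Set.range ((↑) : s → K))) C₀).toRingEquiv.trans
      (Algebra.TensorProduct.congr (AlgEquiv.refl (R := C₀) (A₁ := C₀))
        hs.1.aevalEquiv.symm).toRingEquiv).trans
      (MvPolynomial.algebraTensorAlgEquiv k C₀).toRingEquiv).toMulEquiv

end Groth.Agent.Lib.Helper1.AssTens
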