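import Mathlib
import Groth.Agent.Lib.Helper1.AssTens5
import Groth.Agent.Lib.Helper1.AssBC3

/-!
# Associated points of `Spec (K ⊗[k] L)` are maximal points, without finiteness (helper1)
-/

set_option autoImplicit false
universe u
open CategoryTheory CategoryTheory.Limits AlgebraicGeometry IsLocalRing TensorProduct

namespace Groth.Agent.Lib.Helper1.AssTens

open Groth.Agent.Lib.Helper25.NoEmbBC Groth.Agent.Lib.Helper3 Groth.Agent.Lib.Helper12

theorem exists_zeroDivisor_of_isAssPoint {Φ : Scheme.{u}} {V : Φ.Opens} (hV : IsAffineOpen V)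
    (ζ : Φ) (hζ : ζ ∈ V) [IsNoetherianRing (Φ.presheaf.stalk ζ)]
    (h : Curv2.IsAssPoint (Coh.structureModule Φ) ζ) (r : Γ(Φ, V))
    (hr : r ∈ (hV.primeIdealOf ⟨ζ, hζ⟩).asIdeal) :
    ∃ x : Γ(Φ, V), x ≠ 0 ∧ r * x = 0 := by
  have h' : IsAssociatedPrime (IsLocalRing.maximalIdeal (Φ.presheaf.stalk ζ))
      ((Coh.structureModule Φ).presheaf.stalk ζ) := h
  rw [isAssociatedPrime_iff] at h'
  obtain ⟨hprime, ξ, hξ⟩ := h'
  have hξ0 : ξ ≠ 0 := by
    rintro rfl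
    apply hprime.ne_top
    rw [hξ, Ideal.eq_top_iff_one, Submodule.mem_colon_singleton]
    simp
  obtain ⟨c, m, hc, hcm⟩ := QS.exists_smul_eq_germ hV (Coh.structureModule Φ) ζ hζ ξ
  have hu : IsUnit (Φ.presheaf.germ V ζ hζ c) :=
    (Scheme.mem_basicOpen Φ c ζ hζ).mp ((mem_basicOpen_iff_notMem_primeIdealOf hV ζ hζ c).mpr hc)
  have hgm : (Coh.structureModule Φ).presheaf.germ V ζ hζ m ≠ 0 := by
    intro h0
    rw [h0] at hcm
    apply hξ0
    have := congrArg (fun w => (hu.unit⁻¹ : (Φ.presheaf.stalk ζ)ˣ).1 • w) hcm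
    simpa [smul_smul] using this
  have hgr : Φ.presheaf.germ V ζ hζ r ∈ IsLocalRing.maximalIdeal (Φ.presheaf.stalk ζ) := by
    rw [IsLocalRing.mem_maximalIdeal, mem_nonunits_iff]
    intro hur
    exact ((mem_basicOpen_iff_notMem_primeIdealOf hV ζ hζ r).mp
      ((Scheme.mem_basicOpen Φ r ζ hζ).mpr hur)) hr
  have hrξ : Φ.presheaf.germ V ζ hζ r • ξ = 0 := by
    rw [hξ, Submodule.mem_colon_singleton, Submodule.mem_bot] at hgr
    exact hgr
  have h0 : (Coh.structureModule Φ).presheaf.germ V ζ hζ (r • m) = 0 := by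
    rw [QS.germ_smul, ← hcm, smul_comm, hrξ, smul_zero]
  obtain ⟨c', hc', hc'm⟩ := (QS.germ_eq_zero_iff hV _ ζ hζ (r • m)).mp h0
  refine ⟨(secEquiv Φ V).symm (c' • m), ?_, ?_⟩
  · intro h1
    apply hgm
    refine (QS.germ_eq_zero_iff hV _ ζ hζ m).mpr ⟨c', hc', ?_⟩
    have := congrArg (secEquiv Φ V) h1
    rwa [LinearEquiv.apply_symm_apply, map_zero] at this
  · have : r • (secEquiv Φ V).symm (c' • m) = 0 := by
      rw [← map_smul, smul_comm, hc'm, map_zero]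
    exact this

/-- associated points of `Spec (K ⊗[k] L)` are maximal points. -/
theorem maximal_of_isAssPoint_tensor
    {Φ : Scheme.{u}} {k K L : Type u} [Field k] [Field K] [Field L] [Algebra k K] [Algebra k L]
    (ψ : Φ ≅ Spec (CommRingCat.of (K ⊗[k] L))) (ζ : Φ) [IsNoetherianRing (Φ.presheaf.stalk ζ)]
    (hP : Curv2.IsAssPoint (Coh.structureModule Φ) ζ) (ζ'' : Φ) (hs : ζ'' ⤳ ζ) : ζ'' = ζ := by
  haveI : IsAffine Φ := IsAffine.of_isIso ψ.hom
  let e : (K ⊗[k] L) ≃+* Γ(Φ, ⊤) :=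
    ((Scheme.ΓSpecIso (CommRingCat.of (K ⊗[k] L))).symm ≪≫
      Scheme.Γ.mapIso ψ.op).commRingCatIsoToRingEquiv
  have hV := isAffineOpen_top Φ
  have hQP : hV.primeIdealOf ⟨ζ'', trivial⟩ ≤ hV.primeIdealOf ⟨ζ, trivial⟩ :=
    (SchemeDimFT.primeIdealOf_le_iff hV ⟨ζ'', trivial⟩ ⟨ζ, trivial⟩).mpr hs
  have hle := le_of_zeroDivisors_tensor (k := k) (K := L) (C₀ := K) e
    (hV.primeIdealOf ⟨ζ, trivial⟩).asIdeal (hV.primeIdealOf ⟨ζ'', trivial⟩).asIdeal
    (hV.primeIdealOf ⟨ζ'', trivial⟩).isPrime hQP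
    (fun r hr => exists_zeroDivisor_of_isAssPoint hV ζ trivial hP r hr)
  have heq : hV.primeIdealOf ⟨ζ'', trivial⟩ = hV.primeIdealOf ⟨ζ, trivial⟩ :=
    le_antisymm hQP hle
  exact congrArg Subtype.val (QS.primeIdealOf_injective hV _ _ heq)

end Groth.Agent.Lib.Helper1.AssTens
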