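import Mathlib
import Groth.Agent.Lib.Helper1.AssTens4
import Groth.Agent.Lib.Helper1.AssTens6

/-!
# `F ⊗_S G` has no embedded associated points (helper1)
-/

set_option autoImplicit false
set_option linter.style.haveILetI false
universe u
open CategoryTheory CategoryTheory.Limits AlgebraicGeometry IsLocalRing TensorProduct

namespace Groth.Agent.Lib.Helper1.AssTens

open Groth.Agent.Lib.Helper17 Groth.Agent.Lib.Helper3 Groth.Agent.Lib.Helper14
  Groth.Agent.Lib.Helper1.AssFlat1 Groth.Agent.Lib.Helper1.AssBC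

noncomputable section

theorem maximal_of_isPullback_fields {Φ : Scheme.{u}} {k K L : Type u} [Field k] [Field K]
    [Field L] (a : CommRingCat.of k ⟶ CommRingCat.of K) (b : CommRingCat.of k ⟶ CommRingCat.of L)
    (p : Φ ⟶ Spec (CommRingCat.of K)) (q : Φ ⟶ Spec (CommRingCat.of L))
    (h : IsPullback p q (Spec.map a) (Spec.map b)) (ζ : Φ)
    [IsNoetherianRing (Φ.presheaf.stalk ζ)]
    (hζ : Curv2.IsAssPoint (Coh.structureModule Φ) ζ) (ζ'' : Φ)
    (hs : ζ'' ⤳ ζ) : ζ'' = ζ := by
  letI algK : Algebra k K := a.hom.toAlgebra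
  letI algL : Algebra k L := b.hom.toAlgebra
  have h3 : IsPullback p q (Spec.map (CommRingCat.ofHom (algebraMap k K)))
      (Spec.map (CommRingCat.ofHom (algebraMap k L))) := h
  let ψ : Φ ≅ Spec (CommRingCat.of (K ⊗[k] L)) := h3.isoPullback ≪≫ pullbackSpecIso k K L
  exact maximal_of_isAssPoint_tensor ψ ζ hζ ζ'' hs

section
variable {X Y S : Scheme.{u}} (f : X ⟶ S) (g : Y ⟶ S) [IsLocallyNoetherian (pullback f g)] (x : X)
  (φ : (pullback.fst f g).fiber x ⟶ g.fiber (f x))
  (hpb : IsPullback φ ((pullback.fst f g).fiberToSpecResidueField x)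
    (g.fiberToSpecResidueField (f x)) (Spec.map (f.residueFieldMap x)))
  (y' : g.fiber (f x))

include hpb in
theorem maximal_of_isAssPoint_Phi (ζ : φ.fiber y')
    (hζ : Curv2.IsAssPoint (Coh.structureModule (φ.fiber y')) ζ) (ζ'' : φ.fiber y')
    (hs : ζ'' ⤳ ζ) : ζ'' = ζ := by
  have h1 : IsPullback (φ.fiberι y') (φ.fiberToSpecResidueField y') φ
      ((g.fiber (f x)).fromSpecResidueField y') := IsPullback.of_hasPullback _ _
  have h2 := h1.paste_horiz hpb.flip
  have hσ : Spec.map (Spec.preimage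
      ((g.fiber (f x)).fromSpecResidueField y' ≫ g.fiberToSpecResidueField (f x))) =
      (g.fiber (f x)).fromSpecResidueField y' ≫ g.fiberToSpecResidueField (f x) :=
    Spec.map_preimage _
  rw [← hσ] at h2
  haveI := isNoetherianRing_stalk_Phi f g x φ y' ζ
  exact maximal_of_isPullback_fields (k := S.residueField (f x)) (K := X.residueField x)
    (L := (g.fiber (f x)).residueField y') _ _ _ _ h2 ζ hζ ζ'' hs

end

variable {X Y S : Scheme.{u}} (f : X ⟶ S) (g : Y ⟶ S)

/-- general form: no embedded points of `F ⊗_S G` from no embedded points of `F` and of the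
restrictions of `G` to the fibres over associated points of `F`. -/
theorem noEmbedded_general [IsLocallyNoetherian X] [IsLocallyNoetherian Y]
    [IsLocallyNoetherian (pullback f g)]
    (F : X.Modules) [F.IsQuasicoherent] (G : Y.Modules) [G.IsQuasicoherent]
    (hGfl : FlatMod.IsFlatOver g G) (hFne : AssSch.NoEmbedded F)
    (H : ∀ x : X, Curv2.IsAssPoint F x → ∀ y1 y2 : g.fiber (f x),
      Curv2.IsAssPoint ((Scheme.Modules.pullback (g.fiberι (f x))).obj G) y1 →
      Curv2.IsAssPoint ((Scheme.Modules.pullback (g.fiberι (f x))).obj G) y2 → y2 ⤳ y1 → y1 = y2) :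
    AssSch.NoEmbedded (CohB1.tensorMod ((Scheme.Modules.pullback (pullback.fst f g)).obj F)
        ((Scheme.Modules.pullback (pullback.snd f g)).obj G)) := by
  have sq : IsPullback (pullback.snd f g) (pullback.fst f g) g f :=
    (IsPullback.of_hasPullback f g).flip
  haveI : ((Scheme.Modules.pullback (pullback.snd f g)).obj G).IsQuasicoherent :=
    PbStalk.isQuasicoherent_pullback (pullback.snd f g) G
  have hflat : FlatMod.IsFlatOver (pullback.fst f g)
      ((Scheme.Modules.pullback (pullback.snd f g)).obj G) :=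
    fun x' => FibreFlat.isFlatOverAt_baseChange sq G x' (hGfl _)
  have hfst : ∀ z, Curv2.IsAssPoint (CohB1.tensorMod
      ((Scheme.Modules.pullback (pullback.fst f g)).obj F)
        ((Scheme.Modules.pullback (pullback.snd f g)).obj G)) z →
      Curv2.IsAssPoint F (pullback.fst f g z) := fun z hz =>
    ((Groth.Agent.Lib.Helper1.AssFlat.isAssPoint_tensor_iff (pullback.fst f g) F
      ((Scheme.Modules.pullback (pullback.snd f g)).obj G) hflat z).mp hz).1
  intro z1 hz1 z2 hz2 hs
  have hx1 := hfst z1 hz1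
  have hx2 := hfst z2 hz2
  have hxx : pullback.fst f g z1 = pullback.fst f g z2 :=
    hFne _ hx1 _ hx2 (hs.map (pullback.fst f g).continuous)
  obtain ⟨φ, hpb, he⟩ := LCF.exists_fibre_isPullback sq (pullback.fst f g z1)
  obtain ⟨a1, ha1⟩ := exists_fiberι_eq (pullback.fst f g) (pullback.fst f g z1) z1 rfl
  obtain ⟨a2, ha2⟩ := exists_fiberι_eq (pullback.fst f g) (pullback.fst f g z1) z2 hxx.symm
  have hsa : a2 ⤳ a1 := by
    apply ((pullback.fst f g).fiberι (pullback.fst f g z1)).isEmbedding.isInducing.specializes_iff.mp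
    rw [ha1, ha2]
    exact hs
  obtain ⟨ζ1, hζ1⟩ := exists_fiberι_eq φ (φ a1) a1 rfl
  obtain ⟨ζ2, hζ2⟩ := exists_fiberι_eq φ (φ a2) a2 rfl
  have hz1' : Curv2.IsAssPoint (CohB1.tensorMod
      ((Scheme.Modules.pullback (pullback.fst f g)).obj F)
        ((Scheme.Modules.pullback (pullback.snd f g)).obj G)) z1 := hz1
  have hz2' : Curv2.IsAssPoint (CohB1.tensorMod
      ((Scheme.Modules.pullback (pullback.fst f g)).obj F)
        ((Scheme.Modules.pullback (pullback.snd f g)).obj G)) z2 := hz2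
  rw [← ha1, ← hζ1] at hz1'
  obtain ⟨-, hy1, hζ1A⟩ := (core f g F G hGfl _ φ hpb he _ _).mp hz1'
  have hz2'' := hz2'
  rw [← ha2, ← hζ2] at hz2''
  obtain ⟨-, hy2, -⟩ := (core f g F G hGfl _ φ hpb he _ _).mp hz2''
  have hyy : φ a1 = φ a2 := H _ hx1 _ _ hy1 hy2 (hsa.map φ.continuous)
  obtain ⟨ζ2', hζ2'⟩ := exists_fiberι_eq φ (φ a1) a2 hyy.symm
  rw [← ha2, ← hζ2'] at hz2'
  obtain ⟨-, -, hζ2A⟩ := (core f g F G hGfl _ φ hpb he _ _).mp hz2'
  have hsζ : ζ2' ⤳ ζ1 := by
    apply (φ.fiberι (φ a1)).isEmbedding.isInducing.specializes_iff.mp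
    rw [hζ1, hζ2']
    exact hsa
  have := maximal_of_isAssPoint_Phi f g _ φ hpb (φ a1) ζ1 hζ1A ζ2' hsζ
  rw [← ha1, ← ha2, ← hζ1, ← hζ2', this]

theorem main4685 [IsLocallyNoetherian X] [IsLocallyNoetherian Y]
    [IsLocallyNoetherian (pullback f g)]
    (F : X.Modules) [F.IsQuasicoherent] (G : Y.Modules) [G.IsQuasicoherent]
    (hGfl : FlatMod.IsFlatOver g G) (hFne : AssSch.NoEmbedded F)
    (hGne : ∀ s : ↥S, AssSch.NoEmbedded ((Scheme.Modules.pullback (g.fiberι s)).obj G)) :
    AssSch.NoEmbedded (CohB1.tensorMod ((Scheme.Modules.pullback (pullback.fst f g)).obj F)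
        ((Scheme.Modules.pullback (pullback.snd f g)).obj G)) :=
  noEmbedded_general f g F G hGfl hFne fun x _ y1 y2 h1 h2 hs => hGne (f x) y1 h1 y2 h2 hs

theorem main4671 [IsLocallyNoetherian X] [IsLocallyNoetherian Y] [IsLocallyNoetherian S]
    [IsLocallyNoetherian (pullback f g)]
    (F : X.Modules) [F.IsQuasicoherent] (G : Y.Modules) [G.IsQuasicoherent]
    (hGfl : FlatMod.IsFlatOver g G)
    (hAss : ∀ x ∈ AssSch.Ass F, f x ∈ AssSch.Ass (Coh.structureModule S))
    (hFne : AssSch.NoEmbedded F) (hGne : AssSch.NoEmbedded G) :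
    AssSch.NoEmbedded (CohB1.tensorMod ((Scheme.Modules.pullback (pullback.fst f g)).obj F)
        ((Scheme.Modules.pullback (pullback.snd f g)).obj G)) := by
  refine noEmbedded_general f g F G hGfl hFne fun x hx y1 y2 h1 h2 hs => ?_
  have hs' := hAss x hx
  have e1 := (isAssPoint_fiber_iff g G hGfl (f x) y1).mpr ⟨hs', h1⟩
  have e2 := (isAssPoint_fiber_iff g G hGfl (f x) y2).mpr ⟨hs', h2⟩
  exact (g.fiberι (f x)).isEmbedding.injective
    (hGne _ e1 _ e2 (hs.map (g.fiberι (f x)).continuous))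

end

end Groth.Agent.Lib.Helper1.AssTens
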