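import Mathlib
import Groth.Agent.Lib.Helper1.AssTens7
import Groth.Agent.Lib.Helper26.RefShC

/-!
# Lengths of the stalks of `F ⊗_S G` at associated points (helper1)
-/

set_option autoImplicit false
set_option linter.style.haveILetI false
universe u
open CategoryTheory CategoryTheory.Limits AlgebraicGeometry IsLocalRing TensorProduct

namespace Groth.Agent.Lib.Helper1.AssFlatB

variable {X Y : Scheme.{u}}

theorem length_fiberι_iff (f : X ⟶ Y) (E : Y.Modules) (F : X.Modules) [E.IsQuasicoherent]
    [F.IsQuasicoherent] (y : Y) (a : f.fiber y) [IsNoetherianRing (Y.presheaf.stalk y)]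
    (hflat : FlatMod.IsFlatOverAt f F ((f.fiberι y) a))
    (ha : Curv2.IsAssPoint (CohB1.tensorMod ((Scheme.Modules.pullback f).obj E) F)
      ((f.fiberι y) a)) :
    Module.length (X.presheaf.stalk ((f.fiberι y) a))
        ((CohB1.tensorMod ((Scheme.Modules.pullback f).obj E) F).presheaf.stalk
          ((f.fiberι y) a)) = 1 ↔
      Module.length (Y.presheaf.stalk y) (E.presheaf.stalk y) = 1 ∧
        Module.length ((f.fiber y).presheaf.stalk a)
          (((Scheme.Modules.pullback (f.fiberι y)).obj F).presheaf.stalk a) = 1 := by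
  haveI : IsNoetherianRing (Y.presheaf.stalk (f ((f.fiberι y) a))) := by
    rw [map_fiberι f y a]; infer_instance
  have h := (key f E F y a hflat).2 ha
  rw [map_fiberι f y a] at h
  exact h

end Groth.Agent.Lib.Helper1.AssFlatB

namespace Groth.Agent.Lib.Helper1.AssTens

open Groth.Agent.Lib.Helper17 Groth.Agent.Lib.Helper3 Groth.Agent.Lib.Helper14
  Groth.Agent.Lib.Helper1.AssFlat1 Groth.Agent.Lib.Helper1.AssBC

variable {X Y S : Scheme.{u}} (f : X ⟶ S) (g : Y ⟶ S)

theorem length_structure_stalk {Z : Scheme.{u}} (z : Z) :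
    Module.length (Z.presheaf.stalk z) ((Coh.structureModule Z).presheaf.stalk z) =
      Module.length (Z.presheaf.stalk z) (Z.presheaf.stalk z) :=
  (Groth.Agent.Lib.Helper26.RefSh.unitEquiv z).length_eq

theorem core_length [IsLocallyNoetherian X] [IsLocallyNoetherian Y]
    (F : X.Modules) [F.IsQuasicoherent] (G : Y.Modules) [G.IsQuasicoherent]
    (hGfl : FlatMod.IsFlatOver g G) (x : X)
    (φ : (pullback.fst f g).fiber x ⟶ g.fiber (f x))
    (hpb : IsPullback φ ((pullback.fst f g).fiberToSpecResidueField x)
      (g.fiberToSpecResidueField (f x)) (Spec.map (f.residueFieldMap x)))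
    (he : φ ≫ g.fiberι (f x) = (pullback.fst f g).fiberι x ≫ pullback.snd f g)
    (y' : g.fiber (f x)) (ζ : φ.fiber y')
    (hz : Curv2.IsAssPoint (CohB1.tensorMod ((Scheme.Modules.pullback (pullback.fst f g)).obj F)
        ((Scheme.Modules.pullback (pullback.snd f g)).obj G))
        (((pullback.fst f g).fiberι x) ((φ.fiberι y') ζ))) :
    Module.length ((pullback f g).presheaf.stalk (((pullback.fst f g).fiberι x) ((φ.fiberι y') ζ)))
      ((CohB1.tensorMod ((Scheme.Modules.pullback (pullback.fst f g)).obj F)
        ((Scheme.Modules.pullback (pullback.snd f g)).obj G)).presheaf.stalk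
          (((pullback.fst f g).fiberι x) ((φ.fiberι y') ζ))) = 1 ↔
      Module.length (X.presheaf.stalk x) (F.presheaf.stalk x) = 1 ∧
        Module.length ((g.fiber (f x)).presheaf.stalk y')
          (((Scheme.Modules.pullback (g.fiberι (f x))).obj G).presheaf.stalk y') = 1 ∧
        Module.length ((φ.fiber y').presheaf.stalk ζ) ((φ.fiber y').presheaf.stalk ζ) = 1 := by
  have sq : IsPullback (pullback.snd f g) (pullback.fst f g) g f :=
    (IsPullback.of_hasPullback f g).flip
  haveI : ((Scheme.Modules.pullback (pullback.snd f g)).obj G).IsQuasicoherent :=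
    PbStalk.isQuasicoherent_pullback (pullback.snd f g) G
  have hflat : FlatMod.IsFlatOver (pullback.fst f g)
      ((Scheme.Modules.pullback (pullback.snd f g)).obj G) :=
    fun x' => FibreFlat.isFlatOverAt_baseChange sq G x' (hGfl _)
  have h1 := Groth.Agent.Lib.Helper1.AssFlat.length_fiberι_iff (pullback.fst f g) F
    ((Scheme.Modules.pullback (pullback.snd f g)).obj G) hflat x ((φ.fiberι y') ζ) hz
  have hz1 := ((Groth.Agent.Lib.Helper1.AssFlat.isAssPoint_fiberι_iff (pullback.fst f g) F
    ((Scheme.Modules.pullback (pullback.snd f g)).obj G) hflat x ((φ.fiberι y') ζ)).mp hz).2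
  haveI : Flat φ := flat_of_fibre_isPullback (f := g) (g := f)
    (p2 := pullback.fst f g) x φ hpb
  haveI hHq : ((Scheme.Modules.pullback (g.fiberι (f x))).obj G).IsQuasicoherent :=
    PbStalk.isQuasicoherent_pullback _ G
  let e := (Scheme.Modules.pullbackComp ((pullback.fst f g).fiberι x) (pullback.snd f g)).app G ≪≫
    (Scheme.Modules.pullbackCongr he.symm).app G ≪≫
    ((Scheme.Modules.pullbackComp φ (g.fiberι (f x))).app G).symm ≪≫
    (SecTwist.unitorR _).symm
  have hL : Module.length (((pullback.fst f g).fiber x).presheaf.stalk ((φ.fiberι y') ζ))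
      (((Scheme.Modules.pullback ((pullback.fst f g).fiberι x)).obj
        ((Scheme.Modules.pullback (pullback.snd f g)).obj G)).presheaf.stalk ((φ.fiberι y') ζ)) =
      Module.length (((pullback.fst f g).fiber x).presheaf.stalk ((φ.fiberι y') ζ))
        ((CohB1.tensorMod ((Scheme.Modules.pullback φ).obj
          ((Scheme.Modules.pullback (g.fiberι (f x))).obj G))
            (Coh.structureModule _)).presheaf.stalk ((φ.fiberι y') ζ)) :=
    (GenFin.stalkEquivOfIso e ((φ.fiberι y') ζ)).length_eq
  have hz2 := isAssPoint_of_iso e _ hz1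
  haveI := Groth.Agent.Lib.Helper1.FibBC.isNoetherianRing_stalk_fiber g (f x) y'
  have hT := Groth.Agent.Lib.Helper1.AssFlatB.length_fiberι_iff φ
    ((Scheme.Modules.pullback (g.fiberι (f x))).obj G)
    (Coh.structureModule _) y' ζ
    (Groth.Agent.Lib.Helper13.CBCEtStalk.isFlatOver_structureModule φ _) hz2
  have hU := (GenFin.stalkEquivOfIso (PbBasic.pbUnit (φ.fiberι y')) ζ).length_eq
  rw [h1, hL, hT, hU, length_structure_stalk]

end Groth.Agent.Lib.Helper1.AssTens
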