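import Mathlib
import Groth.Agent.Lib.Helper1.AssRed1

/-!
# Transfer of associated points, lengths and reducedness of modules along isomorphisms (helper1)
-/

set_option autoImplicit false
set_option linter.style.haveILetI false
universe u
open CategoryTheory CategoryTheory.Limits AlgebraicGeometry IsLocalRing TensorProduct

namespace Groth.Agent.Lib.Helper1.AssRed

open Groth.Agent.Lib.Helper17 Groth.Agent.Lib.Helper3 Groth.Agent.Lib.Helper14
  Groth.Agent.Lib.Helper1.AssFlat1 Groth.Agent.Lib.Helper1.AssBC

/-- pure algebra: base change along a bijective ring map. -/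
theorem nonempty_equiv_of_isBaseChange_bijective {R S M N : Type u} [CommRing R] [CommRing S]
    [Algebra R S] [AddCommGroup M] [Module R M] [AddCommGroup N] [Module R N] [Module S N]
    [IsScalarTower R S N] (γ : M →ₗ[R] N) (hγ : IsBaseChange S γ)
    (hbij : Function.Bijective (algebraMap R S)) : Nonempty (M ≃ₗ[R] N) := by
  let eRS : R ≃ₗ[R] S := LinearEquiv.ofBijective (Algebra.linearMap R S) hbij
  exact ⟨(TensorProduct.lid R M).symm ≪≫ₗ TensorProduct.congr eRS (LinearEquiv.refl R M) ≪≫ₗ
    hγ.equiv.restrictScalars R⟩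

variable {X' X : Scheme.{u}} (p : X' ⟶ X) (F : X.Modules) [F.IsQuasicoherent]

theorem isAssPoint_and_length_of_bijective (x' : X')
    (hbij : Function.Bijective (p.stalkMap x').hom) :
    (Curv2.IsAssPoint ((Scheme.Modules.pullback p).obj F) x' ↔ Curv2.IsAssPoint F (p x')) ∧
      Module.length (X'.presheaf.stalk x')
        (((Scheme.Modules.pullback p).obj F).presheaf.stalk x') =
        Module.length (X.presheaf.stalk (p x')) (F.presheaf.stalk (p x')) := by
  letI algRS : Algebra (X.presheaf.stalk (p x')) (X'.presheaf.stalk x') :=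
    (p.stalkMap x').hom.toAlgebra
  letI modRQ : Module (X.presheaf.stalk (p x'))
      (((Scheme.Modules.pullback p).obj F).presheaf.stalk x') :=
    Module.compHom _ (p.stalkMap x').hom
  obtain ⟨towRQ, γ, hγ⟩ := PbStalk.exists_isBaseChange_stalk p F x'
  have hbij' : Function.Bijective (algebraMap (X.presheaf.stalk (p x'))
      (X'.presheaf.stalk x')) := hbij
  obtain ⟨e⟩ := nonempty_equiv_of_isBaseChange_bijective γ hγ hbij'
  constructor
  · show IsAssociatedPrime (maximalIdeal (X'.presheaf.stalk x'))
        (((Scheme.Modules.pullback p).obj F).presheaf.stalk x') ↔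
      IsAssociatedPrime (maximalIdeal (X.presheaf.stalk (p x'))) (F.presheaf.stalk (p x'))
    rw [← isAssociatedPrime_maximalIdeal_iff hbij'.2]
    exact e.isAssociatedPrime_iff.symm
  · rw [← Module.length_eq_of_surjective hbij'.2]
    exact e.length_eq.symm

variable [IsIso p]

theorem stalkMap_bijective_of_isIso (x' : X') : Function.Bijective (p.stalkMap x').hom :=
  ConcreteCategory.bijective_of_isIso (p.stalkMap x')

theorem isReducedMod_of_pullback_isIso
    (h : AssSch.IsReducedMod ((Scheme.Modules.pullback p).obj F)) : AssSch.IsReducedMod F := by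
  have hpt : ∀ x : X, p ((inv p) x) = x := by
    intro x
    rw [← Scheme.Hom.comp_apply, IsIso.inv_hom_id]
    rfl
  have key : ∀ x : X, Curv2.IsAssPoint F x →
      Curv2.IsAssPoint ((Scheme.Modules.pullback p).obj F) ((inv p) x) := by
    intro x hx
    rw [(isAssPoint_and_length_of_bijective p F _ (stalkMap_bijective_of_isIso p _)).1, hpt]
    exact hx
  refine ⟨?_, ?_⟩
  · intro x1 h1 x2 h2 hs
    have := h.1 _ (key x1 h1) _ (key x2 h2) (hs.map (inv p).continuous)
    rw [← hpt x1, ← hpt x2, this]
  · intro x hx
    have h1 := h.2 _ (key x hx)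
    rw [(isAssPoint_and_length_of_bijective p F _ (stalkMap_bijective_of_isIso p _)).2] at h1
    have h2 : ∀ (a b : X) (hab : a = b),
        Module.length (X.presheaf.stalk a) (F.presheaf.stalk a) =
          Module.length (X.presheaf.stalk b) (F.presheaf.stalk b) := by
      intro a b hab; subst hab; rfl
    rw [← h2 _ _ (hpt x)]
    exact h1

end Groth.Agent.Lib.Helper1.AssRed
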