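import Mathlib
import Groth.Prelude.Def_LCI2
import Groth.Agent.Lib.Helper14.KoszulBC2
import Groth.Agent.Lib.Helper14.KoszulLCI
import Groth.Agent.Lib.Helper14.KoszulH0

set_option autoImplicit false
set_option linter.style.haveILetI false
universe u
open CategoryTheory CategoryTheory.Limits CochainComplex

namespace Groth.Agent.Lib.Helper1.KoszulConcat

attribute [local instance] HasDerivedCategory.standard

section Cone

variable {C : Type*} [Category C] [Abelian C] [HasDerivedCategory C]

/-- the map induced on mapping cones by a commutative square of quasi-isomorphisms is a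
quasi-isomorphism -/
theorem quasiIso_map {K₁ L₁ K₂ L₂ : CochainComplex C ℤ} (φ₁ : K₁ ⟶ L₁) (φ₂ : K₂ ⟶ L₂)
    (a : K₁ ⟶ K₂) (b : L₁ ⟶ L₂) (comm : φ₁ ≫ b = a ≫ φ₂) [QuasiIso a] [QuasiIso b] :
    QuasiIso (mappingCone.map φ₁ φ₂ a b comm) := by
  rw [← DerivedCategory.isIso_Q_map_iff_quasiIso]
  let T := DerivedCategory.Q.mapTriangle.map (mappingCone.triangleMap φ₁ φ₂ a b comm)
  have h1 : IsIso T.hom₁ := (DerivedCategory.isIso_Q_map_iff_quasiIso (φ := a)).mpr inferInstance
  have h2 : IsIso T.hom₂ := (DerivedCategory.isIso_Q_map_iff_quasiIso (φ := b)).mpr inferInstance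
  exact Pretriangulated.isIso₃_of_isIso₁₂ T (DerivedCategory.mappingCone_triangle_distinguished φ₁)
    (DerivedCategory.mappingCone_triangle_distinguished φ₂) h1 h2

omit [HasDerivedCategory C] in
theorem isStrictlyLE_mappingCone {K L : CochainComplex C ℤ} (f : K ⟶ L) (n : ℤ)
    [K.IsStrictlyLE n] [L.IsStrictlyLE n] : (mappingCone f).IsStrictlyLE n := by
  rw [isStrictlyLE_iff]
  intro i hi
  simp only [mappingCone.isZero_X_iff]
  exact ⟨K.isZero_of_isStrictlyLE n _, L.isZero_of_isStrictlyLE n _⟩

end Cone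

section Iter

variable {A : Type u} [CommRing A]

/-- iterated cones of multiplications -/
noncomputable def iterCone : List A → CochainComplex (ModuleCat.{u} A) ℤ →
    CochainComplex (ModuleCat.{u} A) ℤ
  | [], X => X
  | g :: s, X => mappingCone (g • 𝟙 (iterCone s X))

theorem koszul_append (s l : List A) :
    Koszul.koszul A (s ++ l) = iterCone s (Koszul.koszul A l) := by
  induction s with
  | nil => rfl
  | cons g s ih =>
    change mappingCone (g • 𝟙 (Koszul.koszul A (s ++ l))) =
      mappingCone (g • 𝟙 (iterCone s (Koszul.koszul A l)))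
    rw [ih]

theorem koszulCx_eq_iterCone (M : ModuleCat.{u} A) (s : List A) :
    CohIII.koszulCx M s =
      iterCone s ((HomologicalComplex.single (ModuleCat.{u} A) (ComplexShape.up ℤ) 0).obj M) := by
  induction s with
  | nil => rfl
  | cons g s ih =>
    change mappingCone (g • 𝟙 (CohIII.koszulCx M s)) = mappingCone (g • 𝟙 (iterCone s _))
    rw [ih]

theorem smul_comm_hom {X Y : CochainComplex (ModuleCat.{u} A) ℤ} (g : A) (ψ : X ⟶ Y) :
    (g • 𝟙 X) ≫ ψ = ψ ≫ (g • 𝟙 Y) := by
  rw [Linear.smul_comp, Linear.comp_smul, Category.id_comp, Category.comp_id]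

noncomputable def iterConeMap : ∀ (s : List A) {X Y : CochainComplex (ModuleCat.{u} A) ℤ}
    (_ : X ⟶ Y), iterCone s X ⟶ iterCone s Y
  | [], _, _, φ => φ
  | g :: s, _, _, φ =>
    mappingCone.map _ _ (iterConeMap s φ) (iterConeMap s φ) (smul_comm_hom g _)

theorem quasiIso_iterConeMap (s : List A) {X Y : CochainComplex (ModuleCat.{u} A) ℤ}
    (φ : X ⟶ Y) [QuasiIso φ] : QuasiIso (iterConeMap s φ) := by
  induction s with
  | nil => exact inferInstanceAs (QuasiIso φ)
  | cons g s ih =>
    haveI := ih
    exact quasiIso_map _ _ _ _ _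

theorem isZero_homology_iff_of_quasiIso {X Y : CochainComplex (ModuleCat.{u} A) ℤ}
    (φ : X ⟶ Y) [QuasiIso φ] (i : ℤ) : IsZero (X.homology i) ↔ IsZero (Y.homology i) :=
  (asIso (HomologicalComplex.homologyMap φ i)).isZero_iff

end Iter

section Main

open Groth.Agent.Lib.Helper14.KoszulFun

variable {A : Type u} [CommRing A]

theorem isStrictlyLE_koszulCx (M : ModuleCat.{u} A) (l : List A) :
    (CohIII.koszulCx M l).IsStrictlyLE 0 := by
  induction l with
  | nil =>
    exact inferInstanceAs
      (((CochainComplex.singleFunctor (ModuleCat.{u} A) 0).obj M).IsStrictlyLE 0)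
  | cons g l ih =>
    haveI := ih
    exact isStrictlyLE_mappingCone _ 0

/-- the quotient `A ⧸ I` with its standard module structure is the restriction of scalars of the
regular module over `A ⧸ I` -/
noncomputable def quotIso (I : Ideal A) :
    ModuleCat.of A (A ⧸ I) ≅ (ModuleCat.restrictScalars.{u} (Ideal.Quotient.mk I)).obj
      (ModuleCat.of (A ⧸ I) (A ⧸ I)) :=
  LinearEquiv.toModuleIso
    { toFun := fun x => x
      invFun := fun x => x
      left_inv := fun _ => rfl
      right_inv := fun _ => rfl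
      map_add' := fun _ _ => rfl
      map_smul' := fun a x => by
        obtain ⟨b, rfl⟩ := Ideal.Quotient.mk_surjective x
        rfl }

/-- `H^0` of the Koszul complex is the quotient -/
theorem nonempty_h0_iso (l : List A) :
    Nonempty (ModuleCat.of A (A ⧸ Ideal.ofList l) ≅
      (CohIII.koszulCx (ModuleCat.of A A) l).homology 0) := by
  let f : A →ₗ[A] ((CohIII.koszulCx (ModuleCat.of A A) l).homology 0) :=
    (toH0 (ModuleCat.of A A) l).hom
  have hsurj : Function.Surjective f := toH0_surjective (ModuleCat.of A A) l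
  have hker : LinearMap.ker f = Ideal.ofList l := by
    ext x
    rw [LinearMap.mem_ker]
    refine (toH0_eq_zero_iff (ModuleCat.of A A) l x).trans ?_
    change x ∈ Ideal.ofList l • (⊤ : Ideal A) ↔ _
    rw [smul_eq_mul, Ideal.mul_top]
  exact ⟨LinearEquiv.toModuleIso
    ((Submodule.quotEquivOfEq _ _ hker).symm ≪≫ₗ f.quotKerEquivOfSurjective hsurj)⟩

set_option maxHeartbeats 800000 in
/-- If `l` is Koszul-regular, the Koszul homology of `s ++ l` vanishes in degree `i` iff the
Koszul homology of the image of `s` in the quotient by `l` does. -/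
theorem isZero_homology_append_iff (l : List A) (hl : LCI.IsKoszulRegularSeq A l) (s : List A)
    (i : ℤ) :
    IsZero ((Koszul.koszul A (s ++ l)).homology i) ↔
      IsZero ((Koszul.koszul (A ⧸ Ideal.ofList l)
        (s.map (Ideal.Quotient.mk (Ideal.ofList l)))).homology i) := by
  rw [koszul_append, koszul_eq_koszulCx A l, koszul_eq_koszulCx (A ⧸ Ideal.ofList l)]
  rw [isKoszulRegularSeq_iff] at hl
  set K := CohIII.koszulCx (ModuleCat.of A A) l with hK
  haveI : K.IsStrictlyLE 0 := isStrictlyLE_koszulCx _ l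
  haveI : K.IsGE 0 := by
    rw [isGE_iff]
    intro j hj
    rw [HomologicalComplex.exactAt_iff_isZero_homology]
    exact hl j (ne_of_lt hj)
  obtain ⟨M, ⟨e⟩⟩ := exists_iso_single (K.truncGE 0) 0
  let φ : K ⟶ (HomologicalComplex.single (ModuleCat.{u} A) (ComplexShape.up ℤ) 0).obj M :=
    K.πTruncGE 0 ≫ e.hom
  haveI : QuasiIso φ := inferInstanceAs (QuasiIso (K.πTruncGE 0 ≫ e.hom))
  haveI := quasiIso_iterConeMap s φ
  rw [isZero_homology_iff_of_quasiIso (iterConeMap s φ) i, ← koszulCx_eq_iterCone]
  -- identify `M`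
  obtain ⟨e₀⟩ := nonempty_h0_iso l
  let e₁ : K.homology 0 ≅ M :=
    asIso (HomologicalComplex.homologyMap φ 0) ≪≫
      HomologicalComplex.singleObjHomologySelfIso (ComplexShape.up ℤ) (0 : ℤ) M
  let e₂ : M ≅ (ModuleCat.restrictScalars.{u} (Ideal.Quotient.mk (Ideal.ofList l))).obj
      (ModuleCat.of (A ⧸ Ideal.ofList l) (A ⧸ Ideal.ofList l)) :=
    e₁.symm ≪≫ e₀.symm ≪≫ quotIso (Ideal.ofList l)
  rw [← isZero_homology_koszul_restrictScalars_iff (Ideal.Quotient.mk (Ideal.ofList l))]
  exact ((HomologicalComplex.homologyFunctor _ _ i).mapIso (koszulIso e₂ s)).isZero_iff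

theorem isKoszulRegularSeq_append (l s : List A) (hl : LCI.IsKoszulRegularSeq A l)
    (hs : LCI.IsKoszulRegularSeq (A ⧸ Ideal.ofList l)
      (s.map (Ideal.Quotient.mk (Ideal.ofList l)))) :
    LCI.IsKoszulRegularSeq A (s ++ l) :=
  fun i hi => (isZero_homology_append_iff l hl s i).mpr (hs i hi)

theorem isKoszulRegularSeq_quotient (l s : List A) (hl : LCI.IsKoszulRegularSeq A l)
    (hsl : LCI.IsKoszulRegularSeq A (s ++ l)) :
    LCI.IsKoszulRegularSeq (A ⧸ Ideal.ofList l) (s.map (Ideal.Quotient.mk (Ideal.ofList l))) :=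
  fun i hi => (isZero_homology_append_iff l hl s i).mp (hsl i hi)

/-- `B` as an `A`-module is the restriction of scalars of the regular `B`-module -/
noncomputable def algIso (B : Type u) [CommRing B] [Algebra A B] :
    ModuleCat.of A B ≅ (ModuleCat.restrictScalars.{u} (algebraMap A B)).obj (ModuleCat.of B B) where
  hom := ModuleCat.ofHom
    (Y := ((ModuleCat.restrictScalars.{u} (algebraMap A B)).obj (ModuleCat.of B B)))
    { toFun := fun x => x
      map_add' := fun _ _ => rfl
      map_smul' := fun a x => by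
        change a • x = algebraMap A B a * x
        exact Algebra.smul_def a x }
  inv := ModuleCat.ofHom
    (X := ((ModuleCat.restrictScalars.{u} (algebraMap A B)).obj (ModuleCat.of B B)))
    { toFun := fun x => x
      map_add' := fun _ _ => rfl
      map_smul' := fun a x => by
        exact (Algebra.smul_def a (show B from x)).symm }
  hom_inv_id := rfl
  inv_hom_id := rfl

open MonoidalCategory in
/-- flat base change of Koszul-regular sequences -/
theorem isKoszulRegularSeq_map_of_flat {B : Type u} [CommRing B] [Algebra A B] [Module.Flat A B]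
    (l : List A) (hl : LCI.IsKoszulRegularSeq A l) :
    LCI.IsKoszulRegularSeq B (l.map (algebraMap A B)) := by
  rw [isKoszulRegularSeq_iff] at hl ⊢
  intro i hi
  haveI : Module.Flat A (ModuleCat.of A B) := inferInstanceAs (Module.Flat A B)
  have h1 := isZero_homology_koszul_tensorLeft (ModuleCat.of A B) (ModuleCat.of A A) l i (hl i hi)
  rw [← isZero_homology_koszul_restrictScalars_iff (algebraMap A B)]
  let e : ModuleCat.of A B ⊗ ModuleCat.of A A ≅
      (ModuleCat.restrictScalars.{u} (algebraMap A B)).obj (ModuleCat.of B B) :=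
    ρ_ (ModuleCat.of A B) ≪≫ algIso B
  exact ((HomologicalComplex.homologyFunctor _ _ i).mapIso (koszulIso e l)).isZero_iff.mp h1

end Main

end Groth.Agent.Lib.Helper1.KoszulConcat
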