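import Mathlib
import Groth.Prelude.Def_OmAff
import Groth.Agent.Lib.Helper3.IdealMod
import Groth.Agent.Lib.Helper1.PbSect

set_option autoImplicit false
set_option linter.style.haveILetI false
set_option linter.unusedVariables false
universe u
open CategoryTheory CategoryTheory.Limits AlgebraicGeometry TopologicalSpace Opposite

namespace Groth.Agent.Lib.Helper1.OmSect

section SqZ

variable {B : Type u} [CommRing B] (M : Type u) [AddCommGroup M] [Module B M]

/-- the right action -/
@[reducible] noncomputable def opModule : Module Bᵐᵒᵖ M :=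
  Module.compHom M (RingHom.fromOpposite (RingHom.id B) (fun a b => mul_comm _ _))

theorem isCentral : letI := opModule (B := B) M; IsCentralScalar B M := by
  letI := opModule (B := B) M
  exact ⟨fun r m => rfl⟩

/-- `b ↦ (b, D b)` as a ring hom into the trivial square zero extension. -/
noncomputable def derHom (D : B →+ M) (hD : ∀ a b, D (a * b) = a • D b + b • D a) :
    letI := opModule (B := B) M
    haveI := isCentral (B := B) M
    B →+* TrivSqZeroExt B M :=
  letI := opModule (B := B) M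
  haveI := isCentral (B := B) M
  { toFun := fun b => TrivSqZeroExt.inl b + TrivSqZeroExt.inr (D b)
    map_one' := by
      have : D 1 = 0 := by
        have := hD 1 1
        simp at this
        exact this
      rw [this]; simp
    map_mul' := fun a b => by
      ext
      · simp
      · simp [hD, add_comm]
    map_zero' := by simp
    map_add' := fun a b => by
      ext
      · simp
      · simp }

end SqZ

variable {A B R : CommRingCat.{u}} {φ : A ⟶ B} {p₁ p₂ : B ⟶ R} (hpo : IsPushout φ φ p₁ p₂)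
  {μ : R ⟶ B} (h₁ : p₁ ≫ μ = 𝟙 B) (h₂ : p₂ ≫ μ = 𝟙 B)

include hpo h₁ h₂ in
theorem mem_span_of_map_eq_zero (r : R) (hr : μ r = 0) :
    r ∈ Ideal.span (Set.range (fun b : B => p₂ b - p₁ b)) := by
  set J : Ideal R := Ideal.span (Set.range (fun b : B => p₂ b - p₁ b)) with hJ
  let π : R ⟶ CommRingCat.of (R ⧸ J) := CommRingCat.ofHom (Ideal.Quotient.mk J)
  have hπ : p₁ ≫ π = p₂ ≫ π := by
    ext b
    change Ideal.Quotient.mk J (p₁ b) = Ideal.Quotient.mk J (p₂ b)
    rw [eq_comm, Ideal.Quotient.eq]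
    exact Ideal.subset_span ⟨b, rfl⟩
  have key : μ ≫ p₁ ≫ π = π := by
    apply hpo.hom_ext
    · rw [reassoc_of% h₁]
    · rw [reassoc_of% h₂, hπ]
  have h3 := congr($key r)
  change Ideal.Quotient.mk J (p₁ (μ r)) = Ideal.Quotient.mk J r at h3
  rw [hr, map_zero, map_zero, eq_comm, Ideal.Quotient.eq_zero_iff_mem] at h3
  exact h3

section L

variable (M : Type u) [AddCommGroup M] [Module B M] (D : B →+ M)
  (hD : ∀ a b, D (a * b) = a • D b + b • D a) (hDφ : ∀ a, D (φ a) = 0)

include hpo h₁ h₂ hD hDφ in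
/-- the map `ker (B ⊗_A B → B) → M` induced by a derivation `D`, defined on the whole ring. -/
theorem exists_l : ∃ l : R →+ M, (∀ b, l (p₂ b - p₁ b) = D b) ∧
    ∀ r k, μ k = 0 → l (r * k) = μ r • l k := by
  letI := opModule (B := B) M
  haveI := isCentral (B := B) M
  let E : CommRingCat.{u} := CommRingCat.of (TrivSqZeroExt B M)
  let i₁ : B ⟶ E := CommRingCat.ofHom (TrivSqZeroExt.inlHom B M)
  let i₂ : B ⟶ E := CommRingCat.ofHom (derHom M D hD)
  have hi : φ ≫ i₁ = φ ≫ i₂ := by
    refine CommRingCat.hom_ext (RingHom.ext fun a => ?_)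
    change TrivSqZeroExt.inl (φ a) = TrivSqZeroExt.inl (φ a) + TrivSqZeroExt.inr (D (φ a))
    rw [hDφ]; simp
  let χ : R ⟶ E := hpo.desc i₁ i₂ hi
  have hχ₁ : ∀ b, χ (p₁ b) = TrivSqZeroExt.inl b := fun b => congr($(hpo.inl_desc i₁ i₂ hi) b)
  have hχ₂ : ∀ b, χ (p₂ b) = TrivSqZeroExt.inl b + TrivSqZeroExt.inr (D b) :=
    fun b => congr($(hpo.inr_desc i₁ i₂ hi) b)
  let fstE : E ⟶ B := CommRingCat.ofHom (TrivSqZeroExt.fstHom B B M).toRingHom
  have hfst : χ ≫ fstE = μ := by
    apply hpo.hom_ext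
    · rw [← Category.assoc, hpo.inl_desc, h₁]
      ext b
      change TrivSqZeroExt.fst (TrivSqZeroExt.inl b : TrivSqZeroExt B M) = b
      simp
    · rw [← Category.assoc, hpo.inr_desc, h₂]
      ext b
      change TrivSqZeroExt.fst ((TrivSqZeroExt.inl b : TrivSqZeroExt B M) + TrivSqZeroExt.inr (D b)) = b
      simp
  have hfst' : ∀ r, TrivSqZeroExt.fst (χ r) = μ r := fun r => congr($hfst r)
  refine ⟨⟨⟨fun r => TrivSqZeroExt.snd (χ r), ?_⟩, fun a b => ?_⟩, fun b => ?_,
    fun r k hk => ?_⟩
  · rw [map_zero]; exact TrivSqZeroExt.snd_zero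
  · change TrivSqZeroExt.snd (χ (a + b)) = _
    rw [map_add]; exact TrivSqZeroExt.snd_add _ _
  · change TrivSqZeroExt.snd (χ (p₂ b - p₁ b)) = D b
    rw [map_sub, hχ₁, hχ₂]
    simp
  · change TrivSqZeroExt.snd (χ (r * k)) = μ r • TrivSqZeroExt.snd (χ k)
    rw [map_mul, TrivSqZeroExt.snd_mul, hfst', hfst', hk]
    simp

end L

section Sch

variable {X Y : Scheme.{u}} (f : X ⟶ Y) {U : X.Opens} (hU : IsAffineOpen U) {V : Y.Opens}
  (hV : IsAffineOpen V) (h : U ≤ f ⁻¹ᵁ V)

include hU hV h in
theorem isAffineOpen_diagNbhd : IsAffineOpen (OmegaSh.diagNbhd f U) := by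
  have : IsAffine _ := hU
  have : IsAffine _ := hV
  exact .of_isIso (Scheme.Hom.isPullback_resLE (IsPullback.of_hasPullback f f) h h rfl).isoPullback.hom

include hU hV in
theorem isPushout_diag :
    IsPushout (f.appLE V U h) (f.appLE V U h)
      ((pullback.fst f f).appLE U (OmegaSh.diagNbhd f U) inf_le_left)
      ((pullback.snd f f).appLE U (OmegaSh.diagNbhd f U) inf_le_right) := by
  have := isIso_pushoutSection_of_isAffineOpen (IsPullback.of_hasPullback f f) h h
    (UY := OmegaSh.diagNbhd f U) rfl hV hU hU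
  exact (isIso_pushoutSection_iff (IsPullback.of_hasPullback f f) h h rfl).mp this

section Ideal

open Groth.Agent.Lib.Helper3

variable {P Z : Scheme.{u}} (i : Z ⟶ P) [QuasiCompact i] {W : P.Opens} (hW : IsAffineOpen W)

include hW in
theorem app_val_eq_zero (s : Γ(ClSub.idealMod i.ker, W)) : i.app W (IdealMod.val i.ker s) = 0 := by
  have h1 := IdealMod.app_val i.ker s
  have h2 : IdealMod.val i.ker s ∈ RingHom.ker (i.ker.subschemeι.app W).hom := h1
  rw [Scheme.IdealSheafData.ker_subschemeι_app i.ker ⟨W, hW⟩, Scheme.Hom.ker_apply] at h2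
  exact h2

include hW in
theorem exists_val_eq_of_app_eq_zero (g : Γ(P, W)) (hg : i.app W g = 0) :
    ∃ s : Γ(ClSub.idealMod i.ker, W), IdealMod.val i.ker s = g := by
  apply IdealMod.exists_val_eq
  have h2 : g ∈ RingHom.ker (i.app W).hom := hg
  rw [← Scheme.Hom.ker_apply i ⟨W, hW⟩, ← Scheme.IdealSheafData.ker_subschemeι_app i.ker ⟨W, hW⟩]
    at h2
  exact h2

end Ideal

section Lift

variable [QuasiSeparated f]

theorem val_idealLift (b : Γ(X, U)) :
    Groth.Agent.Lib.Helper3.IdealMod.val (pullback.diagonal f).ker (OmegaSh.idealLift f U b) =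
      OmegaSh.diagDiff f U b := by
  change Groth.Agent.Lib.Helper3.InvGen.toFun _ ((ClSub.idealModι _).app _ (OmegaSh.idealLift f U b)) = _
  rw [OmegaSh.ι_idealLift]
  rfl

end Lift

section Final

variable [QuasiSeparated f]

open Groth.Agent.Lib.Helper3 Groth.Agent.Lib.Helper1.PbSect

theorem dSect_eq_pullRes (b : Γ(X, U)) :
    OmegaSh.dSect f U b = pullRes (pullback.diagonal f) (ClSub.idealMod (pullback.diagonal f).ker)
      (OmegaSh.le_preimage_diagNbhd f U) (OmegaSh.idealLift f U b) := rfl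

/-- `μ = Δ♯` restricted to `U`. -/
noncomputable abbrev mu : Γ(pullback f f, OmegaSh.diagNbhd f U) ⟶ Γ(X, U) :=
  (pullback.diagonal f).appLE (OmegaSh.diagNbhd f U) U (OmegaSh.le_preimage_diagNbhd f U)

omit [QuasiSeparated f] in
theorem fst_mu : (pullback.fst f f).appLE U (OmegaSh.diagNbhd f U) inf_le_left ≫ mu f (U := U) =
    𝟙 _ := by
  ext a
  exact OmegaSh.res_diagonal_app_appLE f _ (pullback.diagonal_fst f) U inf_le_left a

omit [QuasiSeparated f] in
theorem snd_mu : (pullback.snd f f).appLE U (OmegaSh.diagNbhd f U) inf_le_right ≫ mu f (U := U) =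
    𝟙 _ := by
  ext a
  exact OmegaSh.res_diagonal_app_appLE f _ (pullback.diagonal_snd f) U inf_le_right a

omit [QuasiSeparated f] in
theorem app_eq_zero_of_mu (k : Γ(pullback f f, OmegaSh.diagNbhd f U)) (hk : mu f k = 0) :
    (pullback.diagonal f).app (OmegaSh.diagNbhd f U) k = 0 := by
  have h1 := congrArg (X.presheaf.map
    (homOfLE (OmegaSh.diagonal_preimage_le f (le_refl (OmegaSh.diagNbhd f U)))).op) hk
  rw [map_zero] at h1
  change X.presheaf.map _ (X.presheaf.map _ ((pullback.diagonal f).app _ k)) = 0 at h1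
  rwa [OmegaSh.res_res, OmegaSh.res_refl] at h1

omit [QuasiSeparated f] in
theorem mu_eq_zero_of_app (k : Γ(pullback f f, OmegaSh.diagNbhd f U))
    (hk : (pullback.diagonal f).app (OmegaSh.diagNbhd f U) k = 0) : mu f k = 0 := by
  change X.presheaf.map _ ((pullback.diagonal f).app _ k) = 0
  rw [hk, map_zero]

include hU hV in
/-- **Affine case of the sheaf of differentials** (`S15741`). -/
theorem toSect_bijective : Function.Bijective (OmAff.toSect f V U h) := by
  let Δ := pullback.diagonal f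
  let W₀ := OmegaSh.diagNbhd f U
  have hW₀ : IsAffineOpen W₀ := isAffineOpen_diagNbhd f hU hV h
  let e₀ : U ≤ Δ ⁻¹ᵁ W₀ := OmegaSh.le_preimage_diagNbhd f U
  let I := ClSub.idealMod Δ.ker
  let φ := f.appLE V U h
  let p₁ := (pullback.fst f f).appLE U W₀ inf_le_left
  let p₂ := (pullback.snd f f).appLE U W₀ inf_le_right
  have hpo : IsPushout φ φ p₁ p₂ := isPushout_diag f hU hV h
  let θ := pullRes Δ I e₀
  have hθd : ∀ b, OmegaSh.dSect f U b = θ (OmegaSh.idealLift f U b) := fun b => rfl
  have hval0 : ∀ i : Γ(I, W₀), mu f (IdealMod.val Δ.ker i) = 0 := fun i =>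
    mu_eq_zero_of_app f _ (app_val_eq_zero Δ hW₀ i)
  constructor
  · -- injectivity via a retraction
    obtain ⟨l, hl₁, hl₂⟩ := exists_l hpo (fst_mu f) (snd_mu f)
      (CommRingCat.KaehlerDifferential φ)
      (AddMonoidHom.mk' (fun b => CommRingCat.KaehlerDifferential.d (f := φ) b)
        (Groth.Agent.Lib.Helper1.DerSpec.kd_add φ))
      (Groth.Agent.Lib.Helper1.DerSpec.kd_mul φ) (Groth.Agent.Lib.Helper1.DerSpec.kd_map φ)
    let g : Γ(I, W₀) →+ CommRingCat.KaehlerDifferential φ :=
      AddMonoidHom.mk' (fun i => l (IdealMod.val Δ.ker i)) (fun a b => by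
        rw [IdealMod.val_add, map_add])
    obtain ⟨ρ, hρ, -⟩ := existsUnique_lift Δ I hW₀ hU e₀ (CommRingCat.KaehlerDifferential φ) g
      (fun r i => by
        change l (IdealMod.val Δ.ker (r • i)) = _
        rw [IdealMod.val_smul, hl₂ _ _ (hval0 i)]
        rfl)
    have hcomp : OmAff.toSect f V U h ≫ ModuleCat.ofHom ρ = 𝟙 _ := by
      apply CommRingCat.KaehlerDifferential.ext
      intro b
      change ρ (OmAff.toSect f V U h (CommRingCat.KaehlerDifferential.d b)) = _
      rw [OmAff.toSect_d, hθd, hρ]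
      change l (IdealMod.val Δ.ker (OmegaSh.idealLift f U b)) = _
      rw [val_idealLift]
      exact hl₁ b
    intro x y hxy
    have := congrArg ρ hxy
    have hx := congr($hcomp x)
    have hy := congr($hcomp y)
    change ρ (OmAff.toSect f V U h x) = x at hx
    change ρ (OmAff.toSect f V U h y) = y at hy
    rw [hx, hy] at this
    exact this
  · -- surjectivity
    let T : Submodule Γ(X, U) Γ((Scheme.Modules.pullback Δ).obj I, U) :=
      LinearMap.range (OmAff.toSect f V U h).hom
    have hval_zero : IdealMod.val Δ.ker (0 : Γ(I, W₀)) = 0 := by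
      have := IdealMod.val_add Δ.ker (0 : Γ(I, W₀)) 0
      rw [add_zero] at this
      exact left_eq_add.mp this
    have key : ∀ r ∈ Ideal.span (Set.range (fun b : Γ(X, U) => p₂ b - p₁ b)),
        ∃ i : Γ(I, W₀), IdealMod.val Δ.ker i = r ∧ θ i ∈ T := by
      intro r hr
      induction hr using Submodule.span_induction with
      | mem x hx =>
        obtain ⟨b, rfl⟩ := hx
        refine ⟨OmegaSh.idealLift f U b, val_idealLift f b, ?_⟩
        rw [← hθd, ← OmAff.toSect_d f V U h]
        exact ⟨_, rfl⟩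
      | zero => exact ⟨0, hval_zero, by rw [map_zero]; exact T.zero_mem⟩
      | add x y _ _ ihx ihy =>
        obtain ⟨ix, hix, hix'⟩ := ihx
        obtain ⟨iy, hiy, hiy'⟩ := ihy
        exact ⟨ix + iy, by rw [IdealMod.val_add, hix, hiy], by
          rw [map_add]; exact T.add_mem hix' hiy'⟩
      | smul r x _ ihx =>
        obtain ⟨ix, hix, hix'⟩ := ihx
        refine ⟨r • ix, by rw [IdealMod.val_smul, hix]; rfl, ?_⟩
        have := pullRes_smul Δ I e₀ r ix
        change θ (r • ix) = _ at this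
        rw [this]
        exact T.smul_mem _ hix'
    have hT : ∀ i : Γ(I, W₀), θ i ∈ T := by
      intro i
      obtain ⟨i', hi', hi''⟩ := key _
        (mem_span_of_map_eq_zero hpo (fst_mu f) (snd_mu f) _ (hval0 i))
      rwa [IdealMod.val_injective Δ.ker W₀ hi'] at hi''
    have htop : (⊤ : Submodule Γ(X, U) Γ((Scheme.Modules.pullback Δ).obj I, U)) ≤ T := by
      have h1 := span_range_pullRes Δ I hW₀ hU e₀
      have h2 : Submodule.span Γ(X, U) (Set.range θ) ≤ T := by
        refine Submodule.span_le.mpr ?_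
        rintro _ ⟨i, rfl⟩
        exact hT i
      exact (le_of_eq h1.symm).trans h2
    intro x
    obtain ⟨y, hy⟩ := htop (Submodule.mem_top (x := x))
    exact ⟨y, hy⟩

end Final

end Sch

end Groth.Agent.Lib.Helper1.OmSect
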