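import Mathlib
import Groth.Agent.Lib.Helper1.PbSect

set_option linter.style.haveILetI false
set_option autoImplicit false
universe u
open CategoryTheory AlgebraicGeometry TopologicalSpace Opposite

/-! Sections of a pullback `f^*F` over an affine `V ⊆ f⁻¹U` when `Γ(X,U) → Γ(Y,V)` is surjective:
`Γ(f^*F, V) = Γ(F,U) / I Γ(F,U)`. -/

namespace Groth.Agent.Lib.Helper1.PbSurj

open Groth.Agent.Lib.Helper1.PbSect

variable {X Y : Scheme.{u}} (f : Y ⟶ X) (F : X.Modules) [F.IsQuasicoherent]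
  {U : X.Opens} (hU : IsAffineOpen U) {V : Y.Opens} (hV : IsAffineOpen V) (e : V ≤ f ⁻¹ᵁ U)
  (hρ : Function.Surjective (f.appLE U V e).hom)

include hU hV hρ in
theorem pullRes_surjective : Function.Surjective (pullRes f F e) := by
  intro y
  have hy : y ∈ Submodule.span Γ(Y, V) (Set.range (pullRes f F e)) := by
    rw [span_range_pullRes f F hU hV e]; trivial
  induction hy using Submodule.span_induction with
  | mem x hx => exact hx
  | zero => exact ⟨0, map_zero _⟩
  | add a b _ _ ha hb =>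
    obtain ⟨a', rfl⟩ := ha
    obtain ⟨b', rfl⟩ := hb
    exact ⟨a' + b', map_add _ _ _⟩
  | smul c a _ ha =>
    obtain ⟨a', rfl⟩ := ha
    obtain ⟨c', rfl⟩ := hρ c
    exact ⟨c' • a', pullRes_smul f F e c' a'⟩

include hU hV hρ in
theorem pullRes_eq_zero_iff (m : Γ(F, U)) :
    pullRes f F e m = 0 ↔
      m ∈ (RingHom.ker (f.appLE U V e).hom) • (⊤ : Submodule Γ(X, U) Γ(F, U)) := by
  constructor
  · intro hm
    -- the quotient `M / I M` as a module over `Γ(Y, V)`
    let I := RingHom.ker (f.appLE U V e).hom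
    let ψ : Γ(Y, V) →+* Γ(X, U) ⧸ I :=
      (RingHom.quotientKerEquivOfSurjective hρ).symm.toRingHom
    have hψ : ∀ a : Γ(X, U), ψ ((f.appLE U V e).hom a) = Ideal.Quotient.mk I a := by
      intro a
      change (RingHom.quotientKerEquivOfSurjective hρ).symm ((f.appLE U V e).hom a) = _
      rw [RingEquiv.symm_apply_eq]
      rfl
    letI : Module Γ(Y, V) (Γ(F, U) ⧸ (I • (⊤ : Submodule Γ(X, U) Γ(F, U)))) :=
      Module.compHom _ ψ
    let g : Γ(F, U) →+ (ModuleCat.of Γ(Y, V) (Γ(F, U) ⧸ (I • (⊤ : Submodule Γ(X, U) Γ(F, U))))) :=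
      (I • (⊤ : Submodule Γ(X, U) Γ(F, U))).mkQ.toAddMonoidHom
    obtain ⟨g', hg', -⟩ := existsUnique_lift f F hU hV e
      (ModuleCat.of Γ(Y, V) (Γ(F, U) ⧸ (I • (⊤ : Submodule Γ(X, U) Γ(F, U))))) g (by
        intro a m'
        change (I • (⊤ : Submodule Γ(X, U) Γ(F, U))).mkQ (a • m') =
          ψ ((f.appLE U V e).hom a) • (I • (⊤ : Submodule Γ(X, U) Γ(F, U))).mkQ m'
        rw [hψ, map_smul]
        rfl)
    have h1 := hg' m
    rw [hm, map_zero] at h1
    have h2 : (I • (⊤ : Submodule Γ(X, U) Γ(F, U))).mkQ m = 0 := h1.symm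
    rwa [Submodule.mkQ_apply, Submodule.Quotient.mk_eq_zero] at h2
  · intro hm
    refine Submodule.smul_induction_on hm (fun a ha n _ => ?_) (fun x y hx hy => ?_)
    · rw [pullRes_smul, (RingHom.mem_ker).mp ha, zero_smul]
    · rw [map_add, hx, hy, add_zero]

end Groth.Agent.Lib.Helper1.PbSurj
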