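import Mathlib
import Groth.Agent.Lib.Helper1.PbSurj
import Groth.Agent.Lib.Helper1.OmSect

set_option autoImplicit false
set_option linter.style.haveILetI false
universe u
open CategoryTheory CategoryTheory.Limits AlgebraicGeometry TopologicalSpace Opposite

/-! Affine-local structure of the conormal sheaf `Omega.conormal i = i^*(ker i)` of a quasi-compact
immersion: on a "good" affine open `U` (with `i⁻¹U` affine and `Γ(X,U) → Γ(Z,i⁻¹U)` surjective with
kernel `I`), the sections of the conormal sheaf over `i⁻¹U` are `I/I²`. -/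

namespace Groth.Agent.Lib.Helper1.Conorm

open Groth.Agent.Lib.Helper1.PbSect Groth.Agent.Lib.Helper3

variable {Z X : Scheme.{u}} (i : Z ⟶ X)

/-- good affine opens exist around every point of `Z` -/
theorem exists_good [IsImmersion i] (z : Z) (W₀ : X.Opens) (hz : i z ∈ W₀) :
    ∃ U : X.Opens, IsAffineOpen U ∧ i z ∈ U ∧ U ≤ W₀ ∧ IsAffineOpen (i ⁻¹ᵁ U) ∧
      Function.Surjective (i.app U) := by
  have hzW : i z ∈ i.coborderRange := by
    have h1 : i z = i.coborderRange.ι (i.liftCoborder z) := by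
      rw [← Scheme.Hom.comp_apply, Scheme.Hom.liftCoborder_ι]
    rw [h1]
    exact (i.liftCoborder z).2
  obtain ⟨_, ⟨U : X.Opens, hU, rfl⟩, hzU, hUle⟩ := X.isBasis_affineOpens.exists_subset_of_mem_open
    (show i z ∈ ((i.coborderRange ⊓ W₀ : X.Opens) : Set X) from ⟨hzW, hz⟩) (i.coborderRange ⊓ W₀).2
  have hUW : U ≤ i.coborderRange := fun y hy => (hUle hy).1
  have hUW₀ : U ≤ W₀ := fun y hy => (hUle hy).2
  refine ⟨U, hU, hzU, hUW₀, ?_, ?_⟩
  all_goals
    have hU' : IsAffineOpen (i.coborderRange.ι ⁻¹ᵁ U) :=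
      hU.preimage_of_isOpenImmersion _ (by rwa [Scheme.Opens.opensRange_ι])
    have him : i.coborderRange.ι ''ᵁ (i.coborderRange.ι ⁻¹ᵁ U) = U := by
      rw [Scheme.Hom.image_preimage_eq_opensRange_inf, Scheme.Opens.opensRange_ι]
      exact inf_eq_right.mpr hUW
    have hpre := i.liftCoborder_preimage (i.coborderRange.ι ⁻¹ᵁ U)
    rw [him] at hpre
  · rw [← hpre]
    exact hU'.preimage i.liftCoborder
  · have hs := i.liftCoborder.app_surjective _ hU'
    rw [liftCoborder_app] at hs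
    have hs2 : Function.Surjective (i.app (i.coborderRange.ι ''ᵁ (i.coborderRange.ι ⁻¹ᵁ U))) := by
      intro y
      obtain ⟨x, hx⟩ := hs (Z.presheaf.map (eqToHom
        (i.liftCoborder_preimage (i.coborderRange.ι ⁻¹ᵁ U))).op y)
      refine ⟨x, ?_⟩
      have hinj : Function.Injective (Z.presheaf.map (eqToHom
        (i.liftCoborder_preimage (i.coborderRange.ι ⁻¹ᵁ U))).op) :=
        ((ConcreteCategory.isIso_iff_bijective _).mp inferInstance).1
      exact hinj hx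
    rw [him] at hs2
    exact hs2

theorem idealSect_eq_val (I : X.IdealSheafData) (U : X.Opens) (s : Γ(ClSub.idealMod I, U)) :
    OmegaSh.idealSect I U s = IdealMod.val I s := rfl

theorem conormalSect_eq_pullRes (U : X.Opens) (s : Γ(ClSub.idealMod i.ker, U)) :
    OmegaSh.conormalSect i U s = pullRes i (ClSub.idealMod i.ker) (le_refl (i ⁻¹ᵁ U)) s := by
  rw [pullRes_apply, OmegaSh.conormalSect_eq]
  have : (homOfLE (le_refl (i ⁻¹ᵁ U))).op = 𝟙 _ := rfl
  rw [this, CategoryTheory.Functor.map_id]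
  rfl

theorem conormalSect_smul (U : X.Opens) (b : Γ(X, U)) (s : Γ(ClSub.idealMod i.ker, U)) :
    OmegaSh.conormalSect i U (b • s) = i.app U b • OmegaSh.conormalSect i U s :=
  OmegaSh.pullSect_smul i _ U b s

theorem appLE_refl (U : X.Opens) : i.appLE U (i ⁻¹ᵁ U) le_rfl = i.app U := by
  rw [Scheme.Hom.appLE]
  have : (homOfLE (le_refl (i ⁻¹ᵁ U))).op = 𝟙 _ := rfl
  rw [this, CategoryTheory.Functor.map_id, Category.comp_id]

section Good

variable [QuasiCompact i] {U : X.Opens} (hU : IsAffineOpen U) (hV : IsAffineOpen (i ⁻¹ᵁ U))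
  (hs : Function.Surjective (i.app U))

include hU in
theorem val_mem_ker (s : Γ(ClSub.idealMod i.ker, U)) :
    IdealMod.val i.ker s ∈ RingHom.ker (i.app U).hom :=
  OmSect.app_val_eq_zero i hU s

include hU in
theorem exists_val_eq (b : Γ(X, U)) (hb : b ∈ RingHom.ker (i.app U).hom) :
    ∃ s : Γ(ClSub.idealMod i.ker, U), IdealMod.val i.ker s = b :=
  OmSect.exists_val_eq_of_app_eq_zero i hU b hb

include hU hV hs in
theorem conormalSect_surjective : Function.Surjective (OmegaSh.conormalSect i U) := by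
  have hρ : Function.Surjective (i.appLE U (i ⁻¹ᵁ U) le_rfl).hom := by
    rw [appLE_refl]; exact hs
  intro y
  obtain ⟨s, hs'⟩ := PbSurj.pullRes_surjective i (ClSub.idealMod i.ker) hU hV le_rfl hρ y
  exact ⟨s, (conormalSect_eq_pullRes i U s).trans hs'⟩

include hU hV hs in
theorem conormalSect_eq_zero_iff (s : Γ(ClSub.idealMod i.ker, U)) :
    OmegaSh.conormalSect i U s = 0 ↔ IdealMod.val i.ker s ∈ (RingHom.ker (i.app U).hom) ^ 2 := by
  have hρ : Function.Surjective (i.appLE U (i ⁻¹ᵁ U) le_rfl).hom := by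
    rw [appLE_refl]; exact hs
  refine Iff.trans (b := pullRes i (ClSub.idealMod i.ker) (le_refl (i ⁻¹ᵁ U)) s = 0)
    ⟨fun h => (conormalSect_eq_pullRes i U s).symm.trans h,
      fun h => (conormalSect_eq_pullRes i U s).trans h⟩ ?_
  refine (PbSurj.pullRes_eq_zero_iff i (ClSub.idealMod i.ker) hU hV le_rfl hρ s).trans ?_
  rw [appLE_refl]
  set I := RingHom.ker (i.app U).hom with hI
  constructor
  · intro h
    refine Submodule.smul_induction_on h (fun a ha n _ => ?_) (fun x y hx hy => ?_)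
    · rw [IdealMod.val_smul, pow_two]
      exact Ideal.mul_mem_mul ha (val_mem_ker i hU n)
    · rw [IdealMod.val_add]
      exact Ideal.add_mem _ hx hy
  · intro h
    rw [pow_two] at h
    -- every element of `I * I` is the value of an element of `I • ⊤`
    have key : ∀ b ∈ I * I, ∃ t ∈ I • (⊤ : Submodule Γ(X, U) Γ(ClSub.idealMod i.ker, U)),
        IdealMod.val i.ker t = b := by
      intro b hb
      refine Submodule.mul_induction_on hb (fun a ha b' hb' => ?_) (fun x y hx hy => ?_)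
      · obtain ⟨t, ht⟩ := exists_val_eq i hU b' hb'
        exact ⟨a • t, Submodule.smul_mem_smul ha trivial, by rw [IdealMod.val_smul, ht]⟩
      · obtain ⟨t₁, ht₁, h₁⟩ := hx
        obtain ⟨t₂, ht₂, h₂⟩ := hy
        exact ⟨t₁ + t₂, Submodule.add_mem _ ht₁ ht₂, by rw [IdealMod.val_add, h₁, h₂]⟩
    obtain ⟨t, ht, htv⟩ := key _ h
    have : t = s := IdealMod.val_injective i.ker U htv
    rwa [this] at ht

end Good

/-- for an immersion with a retraction there are good affine opens stable under the retraction -/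
theorem exists_good_with_retraction (i : Z ⟶ X) (g : X ⟶ Z) (hgi : i ≫ g = 𝟙 Z) (z : Z)
    (W₀ : X.Opens) (hz : i z ∈ W₀) :
    ∃ (U : X.Opens) (hle : U ≤ g ⁻¹ᵁ (i ⁻¹ᵁ U)), IsAffineOpen U ∧ i z ∈ U ∧ U ≤ W₀ ∧
      IsAffineOpen (i ⁻¹ᵁ U) ∧
      ∀ s, (i.app U).hom ((g.appLE (i ⁻¹ᵁ U) U hle).hom s) = s := by
  have hgz : g (i z) = z := by
    rw [← Scheme.Hom.comp_apply, hgi]; rfl
  obtain ⟨_, ⟨V₀ : Z.Opens, hV₀, rfl⟩, hzV₀, -⟩ := Z.isBasis_affineOpens.exists_subset_of_mem_open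
    (Set.mem_univ z) isOpen_univ
  have hzV₀' : z ∈ V₀ := hzV₀
  obtain ⟨_, ⟨U₀ : X.Opens, hU₀, rfl⟩, hzU₀, hU₀le⟩ :=
    X.isBasis_affineOpens.exists_subset_of_mem_open
      (show i z ∈ ((g ⁻¹ᵁ V₀ ⊓ W₀ : X.Opens) : Set X) from ⟨by
        change g (i z) ∈ V₀
        rw [hgz]; exact hzV₀', hz⟩) (g ⁻¹ᵁ V₀ ⊓ W₀).2
  have hU₀g : U₀ ≤ g ⁻¹ᵁ V₀ := fun y hy => (hU₀le hy).1
  have hU₀W : U₀ ≤ W₀ := fun y hy => (hU₀le hy).2
  have hzU₀' : i z ∈ U₀ := hzU₀
  obtain ⟨h, hhle, hzh⟩ := (show IsAffineOpen V₀ from hV₀).exists_basicOpen_le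
    (V := i ⁻¹ᵁ U₀ ⊓ V₀) ⟨z, ⟨hzU₀', hzV₀'⟩⟩ hzV₀'
  have hzh' : z ∈ Z.basicOpen h := hzh
  let U₁ : X.Opens := X.basicOpen (g.appLE V₀ U₀ hU₀g h)
  have hU₁ : IsAffineOpen U₁ := (show IsAffineOpen U₀ from hU₀).basicOpen _
  have hU₁eq : U₁ = U₀ ⊓ g ⁻¹ᵁ (Z.basicOpen h) := Scheme.basicOpen_appLE g U₀ V₀ hU₀g h
  have hig : ∀ W : Z.Opens, i ⁻¹ᵁ (g ⁻¹ᵁ W) = W := by
    intro W
    change (i ≫ g) ⁻¹ᵁ W = W
    rw [hgi]; rfl
  have hpre : i ⁻¹ᵁ U₁ = Z.basicOpen h := by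
    rw [hU₁eq, Scheme.Hom.preimage_inf, hig]
    exact inf_eq_right.mpr (hhle.trans inf_le_left)
  have hle : U₁ ≤ g ⁻¹ᵁ (i ⁻¹ᵁ U₁) := by
    rw [hpre, hU₁eq]; exact inf_le_right
  refine ⟨U₁, hle, hU₁, ?_, ?_, ?_, ?_⟩
  · rw [hU₁eq]
    refine ⟨hzU₀', ?_⟩
    change g (i z) ∈ Z.basicOpen h
    rw [hgz]; exact hzh'
  · rw [hU₁eq]; exact inf_le_left.trans hU₀W
  · rw [hpre]; exact (show IsAffineOpen V₀ from hV₀).basicOpen h
  · intro s
    have h1 : g.appLE (i ⁻¹ᵁ U₁) U₁ hle ≫ i.appLE U₁ (i ⁻¹ᵁ U₁) le_rfl =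
        (i ≫ g).appLE (i ⁻¹ᵁ U₁) (i ⁻¹ᵁ U₁) (by rw [Scheme.Hom.comp_preimage, hig]) :=
      Scheme.Hom.appLE_comp_appLE _ _ _ _ _ _ _
    have h2 : ∀ (k : Z ⟶ Z) (hk : k = 𝟙 Z) (W : Z.Opens) (e : W ≤ k ⁻¹ᵁ W),
        k.appLE W W e = 𝟙 _ := by
      intro k hk W e
      subst hk
      rw [Scheme.Hom.appLE, Scheme.Hom.id_app]
      exact (Category.id_comp _).trans (Z.presheaf.map_id _)
    rw [h2 _ hgi, appLE_refl] at h1
    exact congr($h1 s)

end Groth.Agent.Lib.Helper1.Conorm
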