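import Mathlib
import Groth.Prelude.Def_Omega4
import Groth.Agent.Lib.Helper1.Conorm

set_option autoImplicit false
set_option linter.style.haveILetI false
set_option linter.unusedSectionVars false
universe u
open CategoryTheory CategoryTheory.Limits AlgebraicGeometry TopologicalSpace Opposite

/-! An immersion locally of finite presentation is an open immersion near a point iff the
stalk of the conormal sheaf vanishes there. -/

namespace Groth.Agent.Lib.Helper1.ConormOpen

open Groth.Agent.Lib.Helper1 Groth.Agent.Lib.Helper3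

variable {Y X : Scheme.{u}} (j : Y ⟶ X)

/-- opens of the source of an immersion are preimages of opens of the target. -/
theorem exists_preimage_eq [IsImmersion j] (N : Y.Opens) : ∃ W' : X.Opens, j ⁻¹ᵁ W' = N := by
  obtain ⟨t, ht, hN⟩ := (j.isEmbedding.isInducing.isOpen_iff).mp N.isOpen
  exact ⟨⟨t, ht⟩, Opens.ext hN⟩

section Fwd

variable [IsImmersion j] [QuasiCompact j] (UY : Y.Opens) [IsOpenImmersion (UY.ι ≫ j)]
  {U : X.Opens} (hU : IsAffineOpen U) (hV : IsAffineOpen (j ⁻¹ᵁ U))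
  (hs : Function.Surjective (j.app U)) (hUO : U ≤ (UY.ι ≫ j).opensRange)

include hUO in
theorem app_injective : Function.Injective (j.app U) := by
  haveI : IsIso ((UY.ι ≫ j).app U) := Scheme.Hom.isIso_app (UY.ι ≫ j) U hUO
  have hinj : Function.Injective ((UY.ι ≫ j).app U) :=
    ((ConcreteCategory.isIso_iff_bijective _).mp inferInstance).1
  have e : (UY.ι ≫ j).app U = j.app U ≫ UY.ι.app (j ⁻¹ᵁ U) := Scheme.Hom.comp_app _ _ _
  intro a b hab
  apply hinj
  rw [e]
  exact congrArg (UY.ι.app (j ⁻¹ᵁ U)) hab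

include hU hV hs hUO in
theorem sections_eq_zero (t : Γ(Omega.conormal j, j ⁻¹ᵁ U)) : t = 0 := by
  obtain ⟨s, rfl⟩ := Conorm.conormalSect_surjective j hU hV hs t
  have h1 : IdealMod.val j.ker s = 0 := by
    apply app_injective j UY hUO
    rw [map_zero]
    exact Conorm.val_mem_ker j hU s
  have h2 : s = 0 := by
    apply IdealMod.val_injective j.ker U
    rw [h1]
    exact (map_zero (ClSub.idealModι j.ker |>.app U).hom).symm
  rw [h2, map_zero]

end Fwd

theorem subsingleton_stalk [IsImmersion j] [QuasiCompact j] (y : Y) (UY : Y.Opens) (hy : y ∈ UY)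
    [IsOpenImmersion (UY.ι ≫ j)] : Subsingleton ((Omega.conormal j).presheaf.stalk y) := by
  have key : ∀ a : (Omega.conormal j).presheaf.stalk y, a = 0 := by
    intro a
    obtain ⟨N, hyN, t, rfl⟩ := TopCat.Presheaf.exists_germ_eq _ a
    obtain ⟨W', hW'⟩ := exists_preimage_eq j N
    have hjyO : j y ∈ (UY.ι ≫ j).opensRange := ⟨⟨y, hy⟩, rfl⟩
    have hjyW : j y ∈ W' := by
      have : y ∈ j ⁻¹ᵁ W' := by rw [hW']; exact hyN
      exact this
    obtain ⟨U, hU, hjyU, hUle, hV, hs⟩ := Conorm.exists_good j y (W' ⊓ (UY.ι ≫ j).opensRange)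
      ⟨hjyW, hjyO⟩
    have hle : j ⁻¹ᵁ U ≤ N := by
      rw [← hW']
      exact j.preimage_mono (hUle.trans inf_le_left)
    have hz := sections_eq_zero j UY hU hV hs (hUle.trans inf_le_right)
      ((Omega.conormal j).presheaf.map (homOfLE hle).op t)
    rw [← TopCat.Presheaf.germ_res_apply _ (homOfLE hle) y hjyU t, hz, map_zero]
  exact ⟨fun a b => (key a).trans (key b).symm⟩

section Bwd

theorem ker_fg_of_fp {A B : Type u} [CommRing A] [CommRing B] (φ : A →+* B)
    (hφ : φ.FinitePresentation) (hs : Function.Surjective φ) : (RingHom.ker φ).FG := by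
  letI := φ.toAlgebra
  haveI : Algebra.FinitePresentation A B := hφ
  exact Algebra.FinitePresentation.ker_fG_of_surjective (Algebra.ofId A B) hs

theorem exists_open_forall_eq_zero {M : Y.Modules} (y : Y)
    (hsub : Subsingleton (M.presheaf.stalk y)) {W₀ : Y.Opens} (hy : y ∈ W₀) {ι : Type*}
    (G : Finset ι) (σ : ι → Γ(M, W₀)) :
    ∃ W : Y.Opens, y ∈ W ∧ ∃ hW : W ≤ W₀, ∀ g ∈ G, M.presheaf.map (homOfLE hW).op (σ g) = 0 := by
  classical
  induction G using Finset.induction_on with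
  | empty => exact ⟨W₀, hy, le_rfl, fun g hg => absurd hg (Finset.notMem_empty g)⟩
  | insert a G ha ih =>
    obtain ⟨W, hyW, hW, hWz⟩ := ih
    have h0 : M.presheaf.germ W₀ y hy (σ a) = M.presheaf.germ W₀ y hy 0 := Subsingleton.elim _ _
    obtain ⟨Wa, hyWa, iU, iV, e⟩ := TopCat.Presheaf.germ_eq M.presheaf y hy hy _ _ h0
    rw [map_zero] at e
    refine ⟨W ⊓ Wa, ⟨hyW, hyWa⟩, inf_le_left.trans hW, fun g hg => ?_⟩
    rcases Finset.mem_insert.mp hg with rfl | hg
    · have : M.presheaf.map (homOfLE (inf_le_left.trans hW : W ⊓ Wa ≤ W₀)).op (σ g) =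
          M.presheaf.map (homOfLE (inf_le_right : W ⊓ Wa ≤ Wa)).op (M.presheaf.map iU.op (σ g)) :=
        (OmegaSh.resM_resM iU (homOfLE inf_le_right) (σ g)).symm
      rw [this, e, map_zero]
    · have : M.presheaf.map (homOfLE (inf_le_left.trans hW : W ⊓ Wa ≤ W₀)).op (σ g) =
          M.presheaf.map (homOfLE (inf_le_left : W ⊓ Wa ≤ W)).op
            (M.presheaf.map (homOfLE hW).op (σ g)) :=
        (OmegaSh.resM_resM (homOfLE hW) (homOfLE inf_le_left) (σ g)).symm
      rw [this, hWz g hg, map_zero]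

theorem exists_open_of_subsingleton [IsImmersion j] [QuasiCompact j]
    [LocallyOfFinitePresentation j] (y : Y)
    (hsub : Subsingleton ((Omega.conormal j).presheaf.stalk y)) :
    ∃ U : Y.Opens, y ∈ U ∧ IsOpenImmersion (U.ι ≫ j) := by
  classical
  obtain ⟨U, hU, hjy, -, hV, hs⟩ := Conorm.exists_good j y ⊤ trivial
  have hfp : (j.app U).hom.FinitePresentation := by
    have := j.finitePresentation_appLE hU hV le_rfl
    rwa [Conorm.appLE_refl] at this
  obtain ⟨G, hG⟩ := ker_fg_of_fp (j.app U).hom hfp hs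
  have hex : ∀ g : Γ(X, U), ∃ s : Γ(ClSub.idealMod j.ker, U),
      g ∈ G → IdealMod.val j.ker s = g := by
    intro g
    by_cases hg : g ∈ G
    · obtain ⟨s, hs'⟩ := Conorm.exists_val_eq j hU g (by rw [← hG]; exact Ideal.subset_span hg)
      exact ⟨s, fun _ => hs'⟩
    · exact ⟨0, fun h => absurd h hg⟩
  choose s hsv using hex
  obtain ⟨W, hyW, hW, hWz⟩ := exists_open_forall_eq_zero y hsub (show y ∈ j ⁻¹ᵁ U from hjy) G
    (fun g => OmegaSh.conormalSect j U (s g))
  obtain ⟨W', hW'⟩ := exists_preimage_eq j W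
  have hjyW' : j y ∈ W' := by
    have : y ∈ j ⁻¹ᵁ W' := by rw [hW']; exact hyW
    exact this
  obtain ⟨U', hU', hjy', hU'le, hV', hs'⟩ := Conorm.exists_good j y (U ⊓ W') ⟨hjy, hjyW'⟩
  have hU'U : U' ≤ U := hU'le.trans inf_le_left
  have hV'W : j ⁻¹ᵁ U' ≤ W := by
    rw [← hW']
    exact j.preimage_mono (hU'le.trans inf_le_right)
  have hmap : Ideal.map (X.presheaf.map (homOfLE hU'U).op).hom (RingHom.ker (j.app U).hom) =
      RingHom.ker (j.app U').hom := by
    have := j.ker.map_ideal (U := ⟨U', hU'⟩) (V := ⟨U, hU⟩) hU'U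
    rwa [Scheme.Hom.ker_apply, Scheme.Hom.ker_apply] at this
  have hgen : ∀ g ∈ G, (X.presheaf.map (homOfLE hU'U).op).hom g ∈
      RingHom.ker (j.app U').hom ^ 2 := by
    intro g hg
    have e1 : (X.presheaf.map (homOfLE hU'U).op).hom g =
        IdealMod.val j.ker (QCSec.res _ hU'U (s g)) := by
      rw [IdealMod.val_res, hsv g hg]
    rw [e1, ← Conorm.conormalSect_eq_zero_iff j hU' hV' hs', OmegaSh.conormalSect_eq]
    have e2 := OmegaSh.pullSect_map j (ClSub.idealMod j.ker) hU'U (s g)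
    refine e2.trans ?_
    have e3 : ((Scheme.Modules.pullback j).obj (ClSub.idealMod j.ker)).presheaf.map
        (homOfLE (j.preimage_mono hU'U)).op (OmegaSh.pullSect j (ClSub.idealMod j.ker) U (s g)) =
        (Omega.conormal j).presheaf.map (homOfLE hV'W).op
          ((Omega.conormal j).presheaf.map (homOfLE hW).op (OmegaSh.conormalSect j U (s g))) :=
      (OmegaSh.resM_resM (M := Omega.conormal j) (homOfLE hW) (homOfLE hV'W) _).symm
    rw [e3, hWz g hg, map_zero]
  have hle : RingHom.ker (j.app U').hom ≤ RingHom.ker (j.app U').hom ^ 2 := by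
    rw [← hmap, ← hG, Ideal.map_span, Ideal.span_le]
    rintro _ ⟨g, hg, rfl⟩
    have := hgen g hg
    rwa [← hmap, ← hG, Ideal.map_span] at this
  have hidem : IsIdempotentElem (RingHom.ker (j.app U').hom) := by
    apply le_antisymm
    · exact Ideal.mul_le_right
    · rw [← pow_two]; exact hle
  have hfg' : (RingHom.ker (j.app U').hom).FG := by
    rw [← hmap]
    exact Ideal.FG.map ⟨G, hG⟩ _
  obtain ⟨e, he, hIe⟩ := (Ideal.isIdempotentElem_iff_of_fg _ hfg').mp hidem
  have hoi : IsOpenImmersion (Spec.map (j.appLE U' (j ⁻¹ᵁ U') le_rfl)) := by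
    rw [Conorm.appLE_refl]
    exact (isOpenImmersion_SpecMap_iff_of_surjective (j.app U') hs').mpr ⟨e, he, hIe⟩
  refine ⟨j ⁻¹ᵁ U', hjy', ?_⟩
  have e2 : (j ⁻¹ᵁ U').ι ≫ j =
      hV'.isoSpec.hom ≫ Spec.map (j.appLE U' (j ⁻¹ᵁ U') le_rfl) ≫ hU'.fromSpec := by
    rw [hU'.SpecMap_appLE_fromSpec j hV' le_rfl, ← Category.assoc]
    congr 1
    rw [← IsAffineOpen.isoSpec_inv_ι, Iso.hom_inv_id_assoc]
  rw [e2]
  infer_instance

end Bwd

end Groth.Agent.Lib.Helper1.ConormOpen
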