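import Mathlib
import Groth.Agent.Lib.Helper1.DerSpec
import Groth.Prelude.Def_OmAff

set_option linter.style.haveILetI false
set_option autoImplicit false
universe u
open CategoryTheory AlgebraicGeometry TopologicalSpace Opposite

namespace Groth.Agent.Lib.Helper1.DerStruct

open Groth.Agent.Lib.Helper1.DerAff Groth.Agent.Lib.Helper1.DerRes Groth.Agent.Lib.Helper1.DerBase
  Groth.Agent.Lib.Helper1.DerSpec

section Unique

variable {X Y : Scheme.{u}} {f : X ⟶ Y} {Ω₁ Ω₂ : X.Modules} (d₁ : OmegaSh.Der f Ω₁)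
  (d₂ : OmegaSh.Der f Ω₂)

theorem postcomp_comp {Ω₃ : X.Modules} (α : Ω₁ ⟶ Ω₂) (β : Ω₂ ⟶ Ω₃) :
    d₁.postcomp (α ≫ β).val = (d₁.postcomp α.val).postcomp β.val := by
  apply PresheafOfModules.Derivation.ext
  funext W
  ext s
  rfl

theorem postcomp_id : d₁.postcomp (𝟙 Ω₁ : Ω₁ ⟶ Ω₁).val = d₁ := by
  apply PresheafOfModules.Derivation.ext
  funext W
  ext s
  rfl

/-- A comparison map between universal derivations is an isomorphism. -/
theorem isIso_of_isUniversal (h₁ : OmegaSh.IsUniversal d₁) (h₂ : OmegaSh.IsUniversal d₂)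
    (α : Ω₁ ⟶ Ω₂) (hα : d₁.postcomp α.val = d₂) : IsIso α := by
  obtain ⟨β, hβ, -⟩ := h₂ Ω₁ d₁
  refine ⟨β, ?_, ?_⟩
  · obtain ⟨γ, -, hγu⟩ := h₁ Ω₁ d₁
    have e1 : d₁.postcomp (α ≫ β).val = d₁ := by
      rw [postcomp_comp, hα, hβ]
    rw [hγu (α ≫ β) e1, hγu (𝟙 _) (postcomp_id d₁)]
  · obtain ⟨γ, -, hγu⟩ := h₂ Ω₂ d₂
    have e1 : d₂.postcomp (β ≫ α).val = d₂ := by
      rw [postcomp_comp, hβ, hα]
    rw [hγu (β ≫ α) e1, hγu (𝟙 _) (postcomp_id d₂)]

end Unique

section Sections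

variable {X Y : Scheme.{u}} (f : X ⟶ Y) {Ω' : X.Modules} (d : OmegaSh.Der f Ω')

theorem der_appLE (V : Y.Opens) (U : X.Opens) (h : U ≤ f ⁻¹ᵁ V) (c : Γ(Y, V)) :
    d.app U (f.appLE V U h c) = 0 := by
  rw [Scheme.Hom.appLE]
  change d.app U (X.presheaf.map (homOfLE h).op (f.app V c)) = 0
  have h1 := d.d_map (homOfLE h).op (f.app V c)
  have h2 : d.d (X := op (f ⁻¹ᵁ V)) (f.app V c) = 0 := d.d_app (X := op V) c
  rw [h2, map_zero] at h1
  exact h1

/-- the derivation of sections over `U` relative to sections over `V` induced by `d` -/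
noncomputable def derSect (V : Y.Opens) (U : X.Opens) (h : U ≤ f ⁻¹ᵁ V) :
    (OmAff.sectMod Ω' U).Derivation (f.appLE V U h) :=
  ModuleCat.Derivation.mk (fun b => d.app U b) (fun b b' => map_add _ b b')
    (fun b b' => d.d_mul b b') (der_appLE f d V U h)

theorem derSect_d (V : Y.Opens) (U : X.Opens) (h : U ≤ f ⁻¹ᵁ V) (b : Γ(X, U)) :
    (derSect f d V U h).d b = d.app U b := rfl

/-- the comparison map `Ω_{Γ(X,U)/Γ(Y,V)} → Γ(Ω', U)` -/
noncomputable def toSect (V : Y.Opens) (U : X.Opens) (h : U ≤ f ⁻¹ᵁ V) :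
    CommRingCat.KaehlerDifferential (f.appLE V U h) ⟶ OmAff.sectMod Ω' U :=
  (derSect f d V U h).desc

theorem toSect_d (V : Y.Opens) (U : X.Opens) (h : U ≤ f ⁻¹ᵁ V) (b : Γ(X, U)) :
    toSect f d V U h (CommRingCat.KaehlerDifferential.d b) = d.app U b :=
  (derSect f d V U h).desc_d b

end Sections

section Main

variable {X Y : Scheme.{u}} (f : X ⟶ Y) {Ω' : X.Modules} (d : OmegaSh.Der f Ω')
  {U : X.Opens} (hU : IsAffineOpen U) {V : Y.Opens} (hV : IsAffineOpen V) (h : U ≤ f ⁻¹ᵁ V)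

/-- the restricted derivation on `Spec Γ(X,U)` -/
noncomputable def dSpec : OmegaSh.Der (Spec.map (f.appLE V U h)) (Ω'.restrict hU.fromSpec) :=
  ofComp (Spec.map (f.appLE V U h)) hV.fromSpec
    (congr (IsAffineOpen.SpecMap_appLE_fromSpec f hV hU h).symm (restrictDer hU.fromSpec f d))

theorem dSpec_app (W : (Spec Γ(X, U)).Opens) (s : Γ(Spec Γ(X, U), W)) :
    (dSpec f d hU hV h).app W s =
      d.app (hU.fromSpec ''ᵁ W) ((hU.fromSpec.appIso W).inv s) := by
  rw [dSpec, ofComp_app, congr_app, restrictDer_app]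

theorem isUniversal_dSpec (hd : OmegaSh.IsUniversal d) :
    OmegaSh.IsUniversal (dSpec f d hU hV h) :=
  isUniversal_ofComp _ _ _ (isUniversal_congr _ _ (isUniversal_restrictDer _ _ d hd))

/-- the comparison morphism `tilde Ω → Ω'|_U` -/
noncomputable def tildeHom : tilde (M (f.appLE V U h)) ⟶ Ω'.restrict hU.fromSpec :=
  (isUniversal_dTilde (f.appLE V U h) _ (dSpec f d hU hV h)).choose

theorem tildeHom_spec :
    (dTilde (f.appLE V U h)).postcomp (tildeHom f d hU hV h).val = dSpec f d hU hV h :=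
  (isUniversal_dTilde (f.appLE V U h) _ (dSpec f d hU hV h)).choose_spec.1

theorem isIso_tildeHom (hd : OmegaSh.IsUniversal d) : IsIso (tildeHom f d hU hV h) :=
  isIso_of_isUniversal _ _ (isUniversal_dTilde _) (isUniversal_dSpec f d hU hV h hd) _
    (tildeHom_spec f d hU hV h)

theorem image_top_eq : hU.fromSpec ''ᵁ ⊤ = U := by
  rw [Scheme.Hom.image_top_eq_opensRange, hU.opensRange_fromSpec]

theorem appIso_inv_ΓSpecIso_inv (b : Γ(X, U)) :
    (hU.fromSpec.appIso ⊤).inv ((Scheme.ΓSpecIso Γ(X, U)).inv b) =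
      resR X (image_top_eq hU).le b := by
  have e : (⊤ : (Spec Γ(X, U)).Opens) ≤ hU.fromSpec ⁻¹ᵁ U := by
    rw [hU.fromSpec_preimage_self]
  have h1 : hU.fromSpec.appLE U ⊤ e = (Scheme.ΓSpecIso Γ(X, U)).inv := by
    rw [Scheme.Hom.appLE, hU.fromSpec_app_self, Category.assoc, ← Functor.map_comp]
    convert Category.comp_id _
    exact (Spec Γ(X, U)).presheaf.map_id _
  have h2 := hU.fromSpec.appLE_appIso_inv e
  rw [h1] at h2
  exact congr($h2 b)

/-- the composite `Ω → Γ(tilde Ω, ⊤) → Γ(Ω', j(⊤)) → Γ(Ω', U)` -/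
noncomputable def Ψ (m : M (f.appLE V U h)) : Γ(Ω', U) :=
  resM Ω' (image_top_eq hU).ge ((tildeHom f d hU hV h).app ⊤ (toTop _ m))

theorem Ψ_add (m m' : M (f.appLE V U h)) :
    Ψ f d hU hV h (m + m') = Ψ f d hU hV h m + Ψ f d hU hV h m' := by
  simp only [Ψ, map_add]
  exact map_add _ _ _

theorem smul_restrict_top (r : Γ(Spec Γ(X, U), ⊤)) (y : Γ(Ω'.restrict hU.fromSpec, ⊤)) :
    r • y = (show Γ(Ω', hU.fromSpec ''ᵁ ⊤) from
      ((hU.fromSpec.appIso ⊤).inv r) • (show Γ(Ω', hU.fromSpec ''ᵁ ⊤) from y)) := rfl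

theorem Ψ_smul (b : Γ(X, U)) (m : M (f.appLE V U h)) :
    Ψ f d hU hV h (b • m) = b • Ψ f d hU hV h m := by
  simp only [Ψ]
  rw [toTop_smul, Scheme.Modules.Hom.app_smul, smul_restrict_top, appIso_inv_ΓSpecIso_inv]
  change resM Ω' (image_top_eq hU).ge (resR X (image_top_eq hU).le b • _) = _
  rw [resM_smul, resR_resR, resR_refl]

theorem Ψ_d (b : Γ(X, U)) :
    Ψ f d hU hV h (CommRingCat.KaehlerDifferential.d b) = d.app U b := by
  have h1 : toTop (M (f.appLE V U h)) (CommRingCat.KaehlerDifferential.d b) =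
      (dTilde (f.appLE V U h)).app ⊤ ((Scheme.ΓSpecIso Γ(X, U)).inv b) := by
    rw [dTilde_app_top, δ_apply]
    congr 2
    exact (congr($((Scheme.ΓSpecIso Γ(X, U)).inv_hom_id) b)).symm
  have h2 : (tildeHom f d hU hV h).app ⊤
      ((dTilde (f.appLE V U h)).app ⊤ ((Scheme.ΓSpecIso Γ(X, U)).inv b)) =
      (dSpec f d hU hV h).app ⊤ ((Scheme.ΓSpecIso Γ(X, U)).inv b) := by
    rw [← tildeHom_spec]
    rfl
  rw [Ψ, h1, h2, dSpec_app, appIso_inv_ΓSpecIso_inv]
  have h3 : d.app (hU.fromSpec ''ᵁ ⊤) (resR X (image_top_eq hU).le b) =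
      resM Ω' (image_top_eq hU).le (d.app U b) := d.d_map (homOfLE (image_top_eq hU).le).op b
  rw [h3, resM_resM, resM_refl]

/-- `Ψ` as a morphism of modules -/
noncomputable def ΨHom :
    CommRingCat.KaehlerDifferential (f.appLE V U h) ⟶ OmAff.sectMod Ω' U :=
  ModuleCat.ofHom (Y := OmAff.sectMod Ω' U)
    { toFun := Ψ f d hU hV h
      map_add' := Ψ_add f d hU hV h
      map_smul' := Ψ_smul f d hU hV h }

theorem toSect_eq_ΨHom : toSect f d V U h = ΨHom f d hU hV h := by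
  apply CommRingCat.KaehlerDifferential.ext
  intro b
  rw [toSect_d]
  exact (Ψ_d f d hU hV h b).symm

theorem resM_bijective_of_le {F : X.Modules} {W W' : X.Opens} (h₁ : W' ≤ W) (h₂ : W ≤ W') :
    Function.Bijective (resM F h₁) := by
  refine ⟨resM_injective_of_le F h₁ h₂, fun y => ⟨resM F h₂ y, ?_⟩⟩
  rw [resM_resM, resM_refl]

theorem Ψ_bijective (hd : OmegaSh.IsUniversal d) : Function.Bijective (Ψ f d hU hV h) := by
  have h1 : Function.Bijective (toTop (M (f.appLE V U h))) := by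
    have : IsIso (tilde.toOpen (M (f.appLE V U h)) ⊤) := inferInstance
    exact (ConcreteCategory.isIso_iff_bijective (tilde.toOpen (M (f.appLE V U h)) ⊤)).mp this
  have h2 : Function.Bijective ((tildeHom f d hU hV h).app ⊤) := by
    have := isIso_tildeHom f d hU hV h hd
    have : IsIso ((tildeHom f d hU hV h).app ⊤) := inferInstance
    exact (ConcreteCategory.isIso_iff_bijective _).mp this
  have h3 := resM_bijective_of_le (F := Ω') (image_top_eq hU).ge (image_top_eq hU).le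
  exact h3.comp (h2.comp h1)

include hU hV in
/-- **Structure theorem**: for a universal derivation `d : O_X → Ω'` relative to `f : X ⟶ Y` and affine opens
`U ≤ f⁻¹ V`, the comparison map `Ω_{Γ(X,U)/Γ(Y,V)} → Γ(Ω', U)` is bijective. -/
theorem toSect_bijective (hd : OmegaSh.IsUniversal d) :
    Function.Bijective (toSect f d V U h) := by
  rw [toSect_eq_ΨHom]
  exact Ψ_bijective f d hU hV h hd

include hU hV in
theorem isIso_toSect (hd : OmegaSh.IsUniversal d) : IsIso (toSect f d V U h) :=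
  (ConcreteCategory.isIso_iff_bijective _).mpr (toSect_bijective f d hU hV h hd)

end Main

end Groth.Agent.Lib.Helper1.DerStruct
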