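import Mathlib
import Groth.Agent.Lib.Helper1.DerStruct

set_option linter.style.haveILetI false
set_option autoImplicit false
universe u
open CategoryTheory AlgebraicGeometry TopologicalSpace Opposite

namespace Groth.Agent.Lib.Helper1.DerCompat

open Groth.Agent.Lib.Helper1.DerAff Groth.Agent.Lib.Helper1.DerRes Groth.Agent.Lib.Helper1.DerBase

variable {X S X' S' : Scheme.{u}} (f : X ⟶ S) (f' : X' ⟶ S') (h : X' ⟶ X) (b : S' ⟶ S)
    (hsq : f' ≫ b = h ≫ f) {Ω : X.Modules} (d : OmegaSh.Der f Ω)
    {Ω' : X'.Modules} (d' : OmegaSh.Der f' Ω')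

/-- the derivation `O_X → h_* Ω'`, `s ↦ d'(h♯ s)` -/
noncomputable def pushD : OmegaSh.Der f ((Scheme.Modules.pushforward h).obj Ω') :=
  pushDer h f (congr hsq (compRight f' b d'))

theorem pushD_app (U : X.Opens) (s : Γ(X, U)) :
    (pushD f f' h b hsq d').app U s = d'.app (h ⁻¹ᵁ U) (h.app U s) := by
  rw [pushD, pushDer_app, congr_app, compRight_app]

theorem isDiffCompat_iff (c : (Scheme.Modules.pullback h).obj Ω ⟶ Ω') :
    OmegaSh.IsDiffCompat h d d' c ↔
      d.postcomp (((Scheme.Modules.pullbackPushforwardAdjunction h).homEquiv Ω Ω') c).val =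
        pushD f f' h b hsq d' := by
  have key : ∀ (U : X.Opens) (s : Γ(X, U)),
      OmegaSh.Der.app (d.postcomp
        (((Scheme.Modules.pullbackPushforwardAdjunction h).homEquiv Ω Ω') c).val) U s =
        c.app (h ⁻¹ᵁ U) (OmegaSh.pullSect h Ω U (d.app U s)) := by
    intro U s
    rw [Adjunction.homEquiv_unit]
    rfl
  constructor
  · intro hc
    apply PresheafOfModules.Derivation.ext
    funext W
    ext s
    exact (key W.unop s).trans ((hc W.unop s).trans (pushD_app f f' h b hsq d' W.unop s).symm)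
  · intro hc U s
    rw [← key, hc, pushD_app]

include b hsq in
theorem existsUnique_isDiffCompat (hd : OmegaSh.IsUniversal d) :
    ∃! c : (Scheme.Modules.pullback h).obj Ω ⟶ Ω', OmegaSh.IsDiffCompat h d d' c := by
  obtain ⟨α, hα, hαu⟩ := hd _ (pushD f f' h b hsq d')
  let e := (Scheme.Modules.pullbackPushforwardAdjunction h).homEquiv Ω Ω'
  refine ⟨e.symm α, ?_, ?_⟩
  · refine (isDiffCompat_iff f f' h b hsq d d' (e.symm α)).mpr ?_
    have : e (e.symm α) = α := Equiv.apply_symm_apply e α
    rw [this]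
    exact hα
  · intro c hc
    have hc' := (isDiffCompat_iff f f' h b hsq d d' c).mp hc
    have := hαu (e c) hc'
    exact (Equiv.symm_apply_apply e c).symm.trans (congrArg e.symm this)

end Groth.Agent.Lib.Helper1.DerCompat
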