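import Mathlib

set_option autoImplicit false
set_option linter.style.haveILetI false
universe u
open CategoryTheory CategoryTheory.Limits AlgebraicGeometry TopologicalSpace Opposite

/-! Functions on a fibre product are locally generated by functions pulled back from the factors. -/

namespace Groth.Agent.Lib.Helper1.PbGen

variable {X Y S Z : Scheme.{u}} {a : X ⟶ S} {b : Y ⟶ S} {p : Z ⟶ X} {q : Z ⟶ Y}

/-- Let `Z = X ×_S Y`. A family of subrings `K V ⊆ Γ(Z, V)` which is stable under restriction,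
local, stable under inverses and contains all functions pulled back from `X` and from `Y`
is everything. -/
theorem eq_top (hZ : IsPullback p q a b) (K : ∀ V : Z.Opens, Subring Γ(Z, V))
    (hres : ∀ (V V' : Z.Opens) (h : V' ≤ V) (s : Γ(Z, V)), s ∈ K V →
      Z.presheaf.map (homOfLE h).op s ∈ K V')
    (hloc : ∀ (V : Z.Opens) (s : Γ(Z, V)), (∀ x ∈ V, ∃ (V' : Z.Opens) (h : V' ≤ V), x ∈ V' ∧
      Z.presheaf.map (homOfLE h).op s ∈ K V') → s ∈ K V)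
    (hinv : ∀ (V : Z.Opens) (s t : Γ(Z, V)), s ∈ K V → s * t = 1 → t ∈ K V)
    (hp : ∀ (U : X.Opens) (r : Γ(X, U)), p.app U r ∈ K (p ⁻¹ᵁ U))
    (hq : ∀ (U : Y.Opens) (r : Γ(Y, U)), q.app U r ∈ K (q ⁻¹ᵁ U))
    (V : Z.Opens) (s : Γ(Z, V)) : s ∈ K V := by
  apply hloc
  intro x hxV
  -- choose the affine opens
  obtain ⟨_, ⟨W : S.Opens, hW, rfl⟩, hsW, -⟩ := S.isBasis_affineOpens.exists_subset_of_mem_open
    (Set.mem_univ (a (p x))) isOpen_univ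
  have hs' : b (q x) ∈ W := by
    have : b (q x) = a (p x) := by
      rw [← Scheme.Hom.comp_apply, ← Scheme.Hom.comp_apply, hZ.w]
    rw [this]; exact hsW
  obtain ⟨_, ⟨V' : Y.Opens, hV', rfl⟩, hxV', hV'W⟩ :=
    Y.isBasis_affineOpens.exists_subset_of_mem_open
      (show q x ∈ ((b ⁻¹ᵁ W : Y.Opens) : Set Y) from hs') (b ⁻¹ᵁ W).2
  obtain ⟨_, ⟨U : X.Opens, hU, rfl⟩, hxU, hUW⟩ :=
    X.isBasis_affineOpens.exists_subset_of_mem_open
      (show p x ∈ ((a ⁻¹ᵁ W : X.Opens) : Set X) from hsW) (a ⁻¹ᵁ W).2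
  have eb : V' ≤ b ⁻¹ᵁ W := hV'W
  have ea : U ≤ a ⁻¹ᵁ W := hUW
  let Z₀ : Z.Opens := p ⁻¹ᵁ U ⊓ q ⁻¹ᵁ V'
  have hZ₀ : IsAffineOpen Z₀ := by
    have : IsAffine _ := hU
    have : IsAffine _ := hW
    have : IsAffine _ := hV'
    exact .of_isIso (Scheme.Hom.isPullback_resLE hZ eb ea rfl).isoPullback.hom
  have ep : Z₀ ≤ p ⁻¹ᵁ U := inf_le_left
  have eq : Z₀ ≤ q ⁻¹ᵁ V' := inf_le_right
  have hxZ₀ : x ∈ Z₀ := ⟨hxU, hxV'⟩
  have hpo : IsPushout (a.appLE W U ea) (b.appLE W V' eb) (p.appLE U Z₀ ep) (q.appLE V' Z₀ eq) :=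
    (isIso_pushoutSection_iff hZ eb ea rfl).mp
      (isIso_pushoutSection_of_isAffineOpen hZ eb ea rfl hW hV' hU)
  -- `K Z₀ = ⊤`
  have hK₀ : ∀ t : Γ(Z, Z₀), t ∈ K Z₀ := by
    letI alg₁ : Algebra Γ(S, W) Γ(X, U) := (a.appLE W U ea).hom.toAlgebra
    letI alg₂ : Algebra Γ(Y, V') Γ(Z, Z₀) := (q.appLE V' Z₀ eq).hom.toAlgebra
    letI alg₃ : Algebra Γ(X, U) Γ(Z, Z₀) := (p.appLE U Z₀ ep).hom.toAlgebra
    letI alg₄ : Algebra Γ(S, W) Γ(Y, V') := (b.appLE W V' eb).hom.toAlgebra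
    letI alg₅ : Algebra Γ(S, W) Γ(Z, Z₀) :=
      ((p.appLE U Z₀ ep).hom.comp (a.appLE W U ea).hom).toAlgebra
    haveI t₁ : IsScalarTower Γ(S, W) Γ(X, U) Γ(Z, Z₀) := IsScalarTower.of_algebraMap_eq fun _ => rfl
    haveI t₂ : IsScalarTower Γ(S, W) Γ(Y, V') Γ(Z, Z₀) :=
      IsScalarTower.of_algebraMap_eq fun r => congr($(hpo.w) r)
    have hpush : Algebra.IsPushout Γ(S, W) Γ(Y, V') Γ(X, U) Γ(Z, Z₀) :=
      CommRingCat.isPushout_iff_isPushout.mp hpo.flip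
    intro t
    refine hpush.out.inductionOn t (fun t => t ∈ K Z₀) (K Z₀).zero_mem ?_ ?_ ?_
    · intro r
      exact hres _ _ ep _ (hp U r)
    · intro c n hn
      rw [Algebra.smul_def]
      exact (K Z₀).mul_mem (hres _ _ eq _ (hq V' c)) hn
    · intro n₁ n₂ h₁ h₂
      exact (K Z₀).add_mem h₁ h₂
  -- shrink to a basic open inside `V`
  obtain ⟨g, hgV, hxg⟩ := hZ₀.exists_basicOpen_le (V := V ⊓ Z₀) ⟨x, ⟨hxV, hxZ₀⟩⟩ hxZ₀
  have hDV : Z.basicOpen g ≤ V := hgV.trans inf_le_left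
  have hDZ₀ : Z.basicOpen g ≤ Z₀ := Z.basicOpen_le g
  refine ⟨Z.basicOpen g, hDV, hxg, ?_⟩
  -- `K (D(g)) = ⊤`
  have hloc' := hZ₀.isLocalization_basicOpen g
  have hu : IsUnit (Z.presheaf.map (homOfLE hDZ₀).op g) := RingedSpace.isUnit_res_basicOpen _ g
  obtain ⟨ginv, hginv⟩ := hu.exists_right_inv
  have hgK : Z.presheaf.map (homOfLE hDZ₀).op g ∈ K (Z.basicOpen g) := hres _ _ hDZ₀ _ (hK₀ g)
  have hginvK : ginv ∈ K (Z.basicOpen g) := hinv _ _ _ hgK hginv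
  obtain ⟨⟨t', ⟨_, n, rfl⟩⟩, ht'⟩ := IsLocalization.surj (Submonoid.powers g)
    (Z.presheaf.map (homOfLE hDV).op s)
  have ht'' : Z.presheaf.map (homOfLE hDV).op s * (Z.presheaf.map (homOfLE hDZ₀).op g) ^ n =
      Z.presheaf.map (homOfLE hDZ₀).op t' := by
    simpa [RingHom.algebraMap_toAlgebra] using ht'
  have : Z.presheaf.map (homOfLE hDV).op s = Z.presheaf.map (homOfLE hDZ₀).op t' * ginv ^ n := by
    rw [← ht'', mul_assoc, ← mul_pow, hginv, one_pow, mul_one]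
  rw [this]
  exact (K _).mul_mem (hres _ _ hDZ₀ _ (hK₀ t')) ((K _).pow_mem hginvK n)

end Groth.Agent.Lib.Helper1.PbGen
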