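import Mathlib
import Groth.Agent.Lib.Helper1.PbGen
import Groth.Agent.Lib.Helper1.DerStruct

set_option autoImplicit false
set_option linter.style.haveILetI false
universe u
open CategoryTheory CategoryTheory.Limits AlgebraicGeometry TopologicalSpace Opposite

/-! Derivations and functions on a fibre product: two derivations which agree on functions pulled back
from the two factors agree on all functions pulled back from the fibre product. -/

namespace Groth.Agent.Lib.Helper1.DerPb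

variable {X' X Y S Z : Scheme.{u}} {a : X ⟶ S} {b : Y ⟶ S} {p : Z ⟶ X} {q : Z ⟶ Y}

theorem app_mul {B : Scheme.{u}} {g : X' ⟶ B} {M : X'.Modules} (D : OmegaSh.Der g M) (U : X'.Opens)
    (x y : Γ(X', U)) : D.app U (x * y) = x • D.app U y + y • D.app U x :=
  D.d_mul (X := op U) x y

theorem app_one {B : Scheme.{u}} {g : X' ⟶ B} {M : X'.Modules} (D : OmegaSh.Der g M) (U : X'.Opens) :
    D.app U 1 = 0 := D.d_one (op U)

theorem app_map {B : Scheme.{u}} {g : X' ⟶ B} {M : X'.Modules} (D : OmegaSh.Der g M)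
    {U U' : X'.Opens} (h : U' ≤ U) (x : Γ(X', U)) :
    D.app U' (X'.presheaf.map (homOfLE h).op x) = M.presheaf.map (homOfLE h).op (D.app U x) :=
  D.d_map (homOfLE h).op x

theorem app_inv {B : Scheme.{u}} {g : X' ⟶ B} {M : X'.Modules} (D : OmegaSh.Der g M) (U : X'.Opens)
    (x y : Γ(X', U)) (hxy : x * y = 1) : D.app U y = -((y * y) • D.app U x) := by
  have h1 : D.app U (x * y) = 0 := by rw [hxy, app_one]
  rw [app_mul] at h1
  have h2 : y • (x • D.app U y + y • D.app U x) = 0 := by rw [h1, smul_zero]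
  rw [smul_add, ← mul_smul, ← mul_smul, mul_comm y x, hxy, one_smul] at h2
  exact eq_neg_of_add_eq_zero_left h2

theorem eq_on_pullback (φ : X' ⟶ Z) (hZ : IsPullback p q a b) {M : X'.Modules}
    {B₁ B₂ : Scheme.{u}} {g₁ : X' ⟶ B₁} {g₂ : X' ⟶ B₂} (D₁ : OmegaSh.Der g₁ M) (D₂ : OmegaSh.Der g₂ M)
    (hp : ∀ (U : X.Opens) (r : Γ(X, U)), D₁.app _ (φ.app _ (p.app U r)) = D₂.app _ (φ.app _ (p.app U r)))
    (hq : ∀ (U : Y.Opens) (r : Γ(Y, U)), D₁.app _ (φ.app _ (q.app U r)) = D₂.app _ (φ.app _ (q.app U r)))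
    (V : Z.Opens) (c : Γ(Z, V)) :
    D₁.app (φ ⁻¹ᵁ V) (φ.app V c) = D₂.app (φ ⁻¹ᵁ V) (φ.app V c) := by
  let K : ∀ V : Z.Opens, Subring Γ(Z, V) := fun V =>
    { carrier := {c | D₁.app (φ ⁻¹ᵁ V) (φ.app V c) = D₂.app (φ ⁻¹ᵁ V) (φ.app V c)}
      mul_mem' := by
        intro x y hx hy
        simp only [Set.mem_setOf_eq] at hx hy ⊢
        rw [map_mul, app_mul, app_mul, hx, hy]
      one_mem' := by
        simp only [Set.mem_setOf_eq]
        rw [map_one, app_one, app_one]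
      add_mem' := by
        intro x y hx hy
        simp only [Set.mem_setOf_eq] at hx hy ⊢
        rw [map_add, map_add, map_add, hx, hy]
      zero_mem' := by
        simp only [Set.mem_setOf_eq]
        rw [map_zero, map_zero, map_zero]
      neg_mem' := by
        intro x hx
        simp only [Set.mem_setOf_eq] at hx ⊢
        rw [map_neg, map_neg, map_neg, hx] }
  have hres : ∀ (V V' : Z.Opens) (h : V' ≤ V) (s : Γ(Z, V)), s ∈ K V →
      Z.presheaf.map (homOfLE h).op s ∈ K V' := by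
    intro V V' h s hs
    change D₁.app (φ ⁻¹ᵁ V) (φ.app V s) = D₂.app (φ ⁻¹ᵁ V) (φ.app V s) at hs
    change D₁.app (φ ⁻¹ᵁ V') (φ.app V' _) = D₂.app (φ ⁻¹ᵁ V') (φ.app V' _)
    have hh : φ ⁻¹ᵁ V' ≤ φ ⁻¹ᵁ V := fun _ hx => h hx
    have nat : φ.app V' (Z.presheaf.map (homOfLE h).op s) =
        X'.presheaf.map (homOfLE hh).op (φ.app V s) :=
      congr($(φ.naturality (homOfLE h).op) s)
    rw [nat, app_map, app_map, hs]
  refine PbGen.eq_top hZ K hres ?_ ?_ ?_ ?_ V c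
  · intro V s hs
    change D₁.app (φ ⁻¹ᵁ V) (φ.app V s) = D₂.app (φ ⁻¹ᵁ V) (φ.app V s)
    let Ms : TopCat.Sheaf Ab X' := ⟨M.presheaf, M.isSheaf⟩
    refine Ms.eq_of_locally_eq' (fun i : {V' : Z.Opens // ∃ h : V' ≤ V,
        Z.presheaf.map (homOfLE h).op s ∈ K V'} => φ ⁻¹ᵁ i.1) (φ ⁻¹ᵁ V)
      (fun i => homOfLE (fun _ hx => i.2.choose hx)) ?_ _ _ ?_
    · intro x hx
      obtain ⟨V', h, hxV', hV'⟩ := hs (φ x) hx
      exact Opens.mem_iSup.mpr ⟨⟨V', h, hV'⟩, hxV'⟩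
    · rintro ⟨V', h, hV'⟩
      change D₁.app (φ ⁻¹ᵁ V') (φ.app V' _) = D₂.app (φ ⁻¹ᵁ V') (φ.app V' _) at hV'
      have hh : φ ⁻¹ᵁ V' ≤ φ ⁻¹ᵁ V := fun _ hx => h hx
      have nat : φ.app V' (Z.presheaf.map (homOfLE h).op s) =
          X'.presheaf.map (homOfLE hh).op (φ.app V s) :=
        congr($(φ.naturality (homOfLE h).op) s)
      rw [nat, app_map, app_map] at hV'
      exact hV'
  · intro V s t hs hst
    change D₁.app (φ ⁻¹ᵁ V) (φ.app V s) = D₂.app (φ ⁻¹ᵁ V) (φ.app V s) at hs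
    change D₁.app (φ ⁻¹ᵁ V) (φ.app V t) = D₂.app (φ ⁻¹ᵁ V) (φ.app V t)
    have h1 : φ.app V s * φ.app V t = 1 := by rw [← map_mul, hst, map_one]
    rw [app_inv D₁ _ _ _ h1, app_inv D₂ _ _ _ h1, hs]
  · intro U r
    exact hp U r
  · intro U r
    exact hq U r

end Groth.Agent.Lib.Helper1.DerPb
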