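import Mathlib
import Groth.Prelude.Def_Omega4
import Groth.Agent.Lib.Helper3.QCExact

set_option autoImplicit false
set_option linter.style.haveILetI false
universe u
open CategoryTheory CategoryTheory.Limits AlgebraicGeometry TopologicalSpace Opposite

/-! Local criteria for equality of morphisms and exactness in `X.Modules`. -/

namespace Groth.Agent.Lib.Helper1.ModLocal

open Groth.Agent.Lib.Helper3

variable {X : Scheme.{u}}

/-- two morphisms of modules which agree on sections over all affine opens are equal -/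
theorem hom_ext_affine {M P : X.Modules} (α β : M ⟶ P)
    (h : ∀ U : X.Opens, IsAffineOpen U → ∀ m : Γ(M, U), α.app U m = β.app U m) : α = β := by
  apply Scheme.Modules.hom_ext
  intro W
  ext s
  let Ps : TopCat.Sheaf Ab X := ⟨P.presheaf, P.isSheaf⟩
  refine Ps.eq_of_locally_eq' (fun U : {U : X.Opens // IsAffineOpen U ∧ U ≤ W} => U.1) W
    (fun U => homOfLE U.2.2) ?_ _ _ ?_
  · intro x hx
    obtain ⟨_, ⟨U : X.Opens, hU, rfl⟩, hxU, hUW⟩ :=
      X.isBasis_affineOpens.exists_subset_of_mem_open hx W.2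
    exact Opens.mem_iSup.mpr ⟨⟨U, hU, hUW⟩, hxU⟩
  · rintro ⟨U, hU, hUW⟩
    have h1 := QCExact.app_res' α hUW s
    have h2 := QCExact.app_res' β hUW s
    exact h1.symm.trans ((h U hU _).trans h2)

/-- two morphisms out of a pullback which agree on pulled back sections over affine opens are equal -/
theorem pullback_hom_ext {X' : Scheme.{u}} (h : X' ⟶ X) {M : X.Modules} {N : X'.Modules}
    (α β : (Scheme.Modules.pullback h).obj M ⟶ N)
    (hαβ : ∀ U : X.Opens, IsAffineOpen U → ∀ m : Γ(M, U),
      α.app (h ⁻¹ᵁ U) (OmegaSh.pullSect h M U m) = β.app (h ⁻¹ᵁ U) (OmegaSh.pullSect h M U m)) :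
    α = β := by
  apply ((Scheme.Modules.pullbackPushforwardAdjunction h).homEquiv M N).injective
  apply hom_ext_affine
  intro U hU m
  have key : ∀ γ : (Scheme.Modules.pullback h).obj M ⟶ N,
      (((Scheme.Modules.pullbackPushforwardAdjunction h).homEquiv M N) γ).app U m =
        γ.app (h ⁻¹ᵁ U) (OmegaSh.pullSect h M U m) := by
    intro γ
    rw [Adjunction.homEquiv_unit]
    rfl
  rw [key, key]
  exact hαβ U hU m

/-- exactness of a complex of quasi-coherent modules can be checked on sections over an affine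
open cover -/
theorem exact_of_exact_on_affine_cover (S : ShortComplex X.Modules) [S.X₂.IsQuasicoherent]
    [S.X₃.IsQuasicoherent]
    (h : ∀ x : X, ∃ (U : X.Opens) (_ : IsAffineOpen U), x ∈ U ∧
      ∀ m : Γ(S.X₂, U), S.g.app U m = 0 → ∃ m' : Γ(S.X₁, U), S.f.app U m' = m) : S.Exact := by
  rw [S.exact_iff_epi_kernel_lift]
  haveI : (kernel S.g : X.Modules).IsQuasicoherent := QCProps.isQuasicoherent_kernel S.g
  apply QCExact.epi_of_surjective_on_affine_cover
  intro x
  obtain ⟨U, hU, hxU, hex⟩ := h x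
  refine ⟨U, hU, hxU, fun k => ?_⟩
  have hk : S.g.app U ((kernel.ι S.g).app U k) = 0 := by
    change (kernel.ι S.g ≫ S.g).app U k = 0
    rw [kernel.condition]; rfl
  obtain ⟨m', hm'⟩ := hex _ hk
  refine ⟨m', ?_⟩
  apply QCExact.injective_sections (kernel.ι S.g) U
  change (kernel.lift S.g S.f S.zero ≫ kernel.ι S.g).app U m' = _
  rw [kernel.lift_ι]
  exact hm'

end Groth.Agent.Lib.Helper1.ModLocal
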