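import Mathlib
import Groth.Agent.Lib.Helper1.DerStruct

set_option linter.style.haveILetI false
set_option autoImplicit false
universe u
open CategoryTheory AlgebraicGeometry TopologicalSpace Opposite

namespace Groth.Agent.Lib.Helper1.DerUnram

open Groth.Agent.Lib.Helper1.DerAff Groth.Agent.Lib.Helper1.DerStruct

variable {X Y : Scheme.{u}}

theorem isZero_iff_forall_subsingleton (M : X.Modules) :
    Limits.IsZero M ↔ ∀ W : X.Opens, Subsingleton Γ(M, W) := by
  constructor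
  · intro hM W
    refine ⟨fun a b => ?_⟩
    have h0 : (𝟙 M : M ⟶ M) = 0 := hM.eq_of_src _ _
    have h1 : ∀ x : Γ(M, W), x = 0 := by
      intro x
      have : (𝟙 M : M ⟶ M).app W x = (0 : M ⟶ M).app W x := by rw [h0]
      exact this
    rw [h1 a, h1 b]
  · intro h
    rw [Limits.IsZero.iff_id_eq_zero]
    apply Scheme.Modules.hom_ext
    intro W
    ext x
    exact (h W).elim _ _

/-- A module all of whose sections over a basis-like family of opens vanish is zero. -/
theorem subsingleton_of_forall_exists (M : X.Modules)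
    (h : ∀ (x : X) (W : X.Opens), x ∈ W → ∃ U : X.Opens, x ∈ U ∧ U ≤ W ∧ Subsingleton Γ(M, U))
    (W : X.Opens) : Subsingleton Γ(M, W) := by
  refine ⟨fun a b => ?_⟩
  let Ms : TopCat.Sheaf Ab X := ⟨M.presheaf, M.isSheaf⟩
  refine Ms.eq_of_locally_eq' (fun i : {U : X.Opens // U ≤ W ∧ Subsingleton Γ(M, U)} => i.1) W
    (fun i => homOfLE i.2.1) ?_ a b (fun i => i.2.2.elim _ _)
  intro x hx
  obtain ⟨U, hxU, hUW, hU⟩ := h x W hx
  exact Opens.mem_iSup.mpr ⟨⟨U, hUW, hU⟩, hxU⟩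

theorem subsingleton_kaehler_iff {A B : CommRingCat.{u}} (φ : A ⟶ B) :
    Subsingleton (CommRingCat.KaehlerDifferential φ) ↔ φ.hom.FormallyUnramified := by
  letI := φ.hom.toAlgebra
  exact (Algebra.formallyUnramified_iff (R := A) (A := B)).symm

/-- small affine neighbourhoods -/
theorem exists_small_affine (f : X ⟶ Y) (x : X) (W : X.Opens) (hx : x ∈ W) :
    ∃ (U : X.Opens) (V : Y.Opens), IsAffineOpen U ∧ IsAffineOpen V ∧ x ∈ U ∧ U ≤ W ∧ U ≤ f ⁻¹ᵁ V := by
  obtain ⟨_, ⟨V : Y.Opens, hV, rfl⟩, hfxV, -⟩ :=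
    Y.isBasis_affineOpens.exists_subset_of_mem_open (Set.mem_univ (f x)) isOpen_univ
  have hx' : x ∈ W ⊓ f ⁻¹ᵁ V := ⟨hx, hfxV⟩
  obtain ⟨_, ⟨U : X.Opens, hU, rfl⟩, hxU, hUW⟩ :=
    X.isBasis_affineOpens.exists_subset_of_mem_open hx' (W ⊓ f ⁻¹ᵁ V).isOpen
  exact ⟨U, V, hU, hV, hxU, fun y hy => (hUW hy).1, fun y hy => (hUW hy).2⟩

theorem formallyUnramified_iff_isZero (f : X ⟶ Y) (Ω' : X.Modules) (d : OmegaSh.Der f Ω')
    (hd : OmegaSh.IsUniversal d) : FormallyUnramified f ↔ Limits.IsZero Ω' := by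
  rw [isZero_iff_forall_subsingleton]
  constructor
  · intro hf
    apply subsingleton_of_forall_exists
    intro x W hx
    obtain ⟨U, V, hU, hV, hxU, hUW, hUV⟩ := exists_small_affine f x W hx
    refine ⟨U, hxU, hUW, ?_⟩
    have h1 := (subsingleton_kaehler_iff (f.appLE V U hUV)).mpr (f.formallyUnramified_appLE hV hU hUV)
    exact (toSect_bijective f d hU hV hUV hd).2.subsingleton
  · intro h
    refine ⟨fun {V} hV {U} hU e => ?_⟩
    rw [← subsingleton_kaehler_iff]
    exact (toSect_bijective f d hU hV e hd).1.subsingleton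

end Groth.Agent.Lib.Helper1.DerUnram
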