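import Mathlib
import Groth.Agent.Lib.Helper1.DerUnram
import Groth.Agent.Lib.Helper3.QCProps

set_option linter.style.haveILetI false
set_option autoImplicit false
universe u
open CategoryTheory AlgebraicGeometry TopologicalSpace Opposite

namespace Groth.Agent.Lib.Helper1.DerFin

open Groth.Agent.Lib.Helper1.DerAff Groth.Agent.Lib.Helper1.DerStruct Groth.Agent.Lib.Helper1.DerUnram
  Groth.Agent.Lib.Helper1.DerSpec

variable {X Y : Scheme.{u}} (f : X ⟶ Y) {Ω' : X.Modules} (d : OmegaSh.Der f Ω')
  {U : X.Opens} (hU : IsAffineOpen U) {V : Y.Opens} (hV : IsAffineOpen V) (h : U ≤ f ⁻¹ᵁ V)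

include hV h in
theorem isQuasicoherent_restrict (hd : OmegaSh.IsUniversal d) :
    (Ω'.restrict hU.fromSpec).IsQuasicoherent := by
  have := isIso_tildeHom f d hU hV h hd
  let e : tilde (M (f.appLE V U h)) ≅ Ω'.restrict hU.fromSpec := asIso (tildeHom f d hU hV h)
  exact (SheafOfModules.isQuasicoherent (Spec Γ(X, U)).ringCatSheaf).prop_of_iso
    e (inferInstance : (tilde (M (f.appLE V U h))).IsQuasicoherent)

/-- the sections as a module are linearly equivalent to the Kähler differentials -/
noncomputable def sectEquiv (hd : OmegaSh.IsUniversal d) :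
    letI := (f.appLE V U h).hom.toAlgebra
    Ω[Γ(X, U)⁄Γ(Y, V)] ≃ₗ[Γ(X, U)] Γ(Ω', U) :=
  letI := (f.appLE V U h).hom.toAlgebra
  haveI := isIso_toSect f d hU hV h hd
  (asIso (toSect f d V U h)).toLinearEquiv

include hU hV h in
theorem finite_sections [LocallyOfFiniteType f] (hd : OmegaSh.IsUniversal d) :
    Module.Finite Γ(X, U) Γ(Ω', U) := by
  letI := (f.appLE V U h).hom.toAlgebra
  have : Algebra.FiniteType Γ(Y, V) Γ(X, U) := f.finiteType_appLE hV hU h
  exact Module.Finite.equiv (sectEquiv f d hU hV h hd)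

include hU hV h in
theorem finitePresentation_sections [LocallyOfFinitePresentation f] (hd : OmegaSh.IsUniversal d) :
    Module.FinitePresentation Γ(X, U) Γ(Ω', U) := by
  letI := (f.appLE V U h).hom.toAlgebra
  have : Algebra.FinitePresentation Γ(Y, V) Γ(X, U) := f.finitePresentation_appLE hV hU h
  exact Module.FinitePresentation.of_equiv (sectEquiv f d hU hV h hd)

theorem isFT [LocallyOfFiniteType f] (hd : OmegaSh.IsUniversal d) : CohB1.IsFT Ω' := by
  apply Groth.Agent.Lib.Helper3.QCProps.isFiniteType_of_charts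
  intro x
  obtain ⟨U, V, hU, hV, hxU, -, hUV⟩ := exists_small_affine f x ⊤ trivial
  exact ⟨U, hU, hxU, isQuasicoherent_restrict f d hU hV hUV hd, finite_sections f d hU hV hUV hd⟩

theorem isFP [LocallyOfFinitePresentation f] (hd : OmegaSh.IsUniversal d) : CohB1.IsFP Ω' := by
  apply Groth.Agent.Lib.Helper3.QCProps.isFinitePresentation_of_charts
  intro x
  obtain ⟨U, V, hU, hV, hxU, -, hUV⟩ := exists_small_affine f x ⊤ trivial
  exact ⟨U, hU, hxU, isQuasicoherent_restrict f d hU hV hUV hd,
    finitePresentation_sections f d hU hV hUV hd⟩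

end Groth.Agent.Lib.Helper1.DerFin
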