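import Mathlib
import Groth.Prelude.Def_MoreMor

set_option linter.style.haveILetI false
set_option autoImplicit false
universe u
open CategoryTheory AlgebraicGeometry TopologicalSpace Opposite

namespace Groth.Agent.Lib.Helper1.FSmoothHom

variable {X Y : Scheme.{u}} (f : X ⟶ Y)

theorem formallySmooth_appLE (hf : MoreMor.IsFormallySmoothHom f) {U : X.Opens} (hU : IsAffineOpen U)
    {V : Y.Opens} (hV : IsAffineOpen V) (h : U ≤ f ⁻¹ᵁ V) :
    (f.appLE V U h).hom.FormallySmooth := by
  letI := (f.appLE V U h).hom.toAlgebra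
  change Algebra.FormallySmooth Γ(Y, V) Γ(X, U)
  apply Algebra.FormallySmooth.of_comp_surjective
  intro C _ _ I hI g
  let gr : Γ(X, U) ⟶ CommRingCat.of (C ⧸ I) := CommRingCat.ofHom g.toRingHom
  let a : Spec (CommRingCat.of (C ⧸ I)) ⟶ X := Spec.map gr ≫ hU.fromSpec
  let cr : Γ(Y, V) ⟶ CommRingCat.of C := CommRingCat.ofHom (algebraMap Γ(Y, V) C)
  let b : Spec (CommRingCat.of C) ⟶ Y := Spec.map cr ≫ hV.fromSpec
  let q : CommRingCat.of C ⟶ CommRingCat.of (C ⧸ I) := CommRingCat.ofHom (Ideal.Quotient.mk I)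
  have hcomm : f.appLE V U h ≫ gr = cr ≫ q := by
    ext x
    exact g.commutes x
  have hsq : Spec.map q ≫ b = a ≫ f := by
    simp only [a, b, Category.assoc]
    rw [← IsAffineOpen.SpecMap_appLE_fromSpec f hV hU h, ← Spec.map_comp_assoc,
      ← Spec.map_comp_assoc, hcomm]
  obtain ⟨l, hl1, hl2⟩ := hf C I hI a b hsq
  have hsurj : Function.Surjective (Spec.map q).base := by
    have hle : I ≤ nilradical C := by
      intro x hx
      refine ⟨2, ?_⟩
      have : x ^ 2 ∈ I ^ 2 := Ideal.pow_mem_pow hx 2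
      rw [hI] at this
      simpa using this
    exact (PrimeSpectrum.comap_quotientMk_bijective_of_le_nilradical hle).2
  have hrange : Set.range l.base ⊆ Set.range hU.fromSpec.base := by
    rintro _ ⟨y, rfl⟩
    obtain ⟨z, rfl⟩ := hsurj y
    refine ⟨(Spec.map gr).base z, ?_⟩
    have := congrArg (fun k => k.base z) hl1
    simpa [a] using this.symm
  let l' : Spec (CommRingCat.of C) ⟶ Spec Γ(X, U) := IsOpenImmersion.lift hU.fromSpec l hrange
  have hl' : l' ≫ hU.fromSpec = l := IsOpenImmersion.lift_fac _ _ _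
  let ψ : Γ(X, U) ⟶ CommRingCat.of C := Spec.preimage l'
  have hψ : Spec.map ψ = l' := Spec.map_preimage l'
  have h1 : ψ ≫ q = gr := by
    apply Spec.map_injective
    rw [Spec.map_comp, hψ, ← cancel_mono hU.fromSpec, Category.assoc, hl', hl1]
  have h2 : f.appLE V U h ≫ ψ = cr := by
    apply Spec.map_injective
    rw [Spec.map_comp, hψ, ← cancel_mono hV.fromSpec, Category.assoc,
      IsAffineOpen.SpecMap_appLE_fromSpec f hV hU h, ← Category.assoc, hl', hl2]
  refine ⟨{ toRingHom := ψ.hom, commutes' := fun x => congr($h2 x) }, ?_⟩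
  ext x
  exact congr($h1 x)

end Groth.Agent.Lib.Helper1.FSmoothHom
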