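import Mathlib
import Groth.Agent.Lib.Helper1.DerFin
import Groth.Agent.Lib.Helper1.FSmoothHom
import Groth.Agent.Lib.Helper3.LocFreeCrit

set_option linter.style.haveILetI false
set_option autoImplicit false
universe u
open CategoryTheory AlgebraicGeometry TopologicalSpace Opposite

namespace Groth.Agent.Lib.Helper1.DerSmooth

open Groth.Agent.Lib.Helper1.DerAff Groth.Agent.Lib.Helper1.DerStruct Groth.Agent.Lib.Helper1.DerUnram
  Groth.Agent.Lib.Helper1.DerSpec Groth.Agent.Lib.Helper1.DerFin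

variable {X Y : Scheme.{u}} (f : X ⟶ Y) {Ω' : X.Modules} (d : OmegaSh.Der f Ω')

theorem isQuasicoherent (hd : OmegaSh.IsUniversal d) :
    SheafOfModules.IsQuasicoherent (R := X.ringCatSheaf) Ω' := by
  apply Groth.Agent.Lib.Helper3.QCProps.isQuasicoherent_of_charts
  intro x
  obtain ⟨U, V, hU, hV, hxU, -, hUV⟩ := exists_small_affine f x ⊤ trivial
  exact ⟨U, hU, hxU, isQuasicoherent_restrict f d hU hV hUV hd⟩

theorem isFinLocFree (hf : MoreMor.IsFormallySmoothHom f) [LocallyOfFiniteType f]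
    (hd : OmegaSh.IsUniversal d) : FlatMod.IsFinLocFree Ω' := by
  haveI := isQuasicoherent f d hd
  apply Groth.Agent.Lib.Helper3.LocFreeCrit.isFinLocFree_of_forall_mem_freeLocus
  intro x
  obtain ⟨U, V, hU, hV, hxU, -, hUV⟩ := exists_small_affine f x ⊤ trivial
  letI := (f.appLE V U hUV).hom.toAlgebra
  have h1 : Algebra.FormallySmooth Γ(Y, V) Γ(X, U) :=
    Groth.Agent.Lib.Helper1.FSmoothHom.formallySmooth_appLE f hf hU hV hUV
  have h2 : Algebra.FiniteType Γ(Y, V) Γ(X, U) := f.finiteType_appLE hV hU hUV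
  have e := sectEquiv f d hU hV hUV hd
  have hfp : Module.FinitePresentation Γ(X, U) Γ(Ω', U) := Module.FinitePresentation.of_equiv e
  have hproj : Module.Projective Γ(X, U) Γ(Ω', U) := Module.Projective.of_equiv e
  refine ⟨U, hU, hxU, hfp, ?_⟩
  rw [Module.freeLocus_eq_univ_iff.mpr hproj]
  trivial

end Groth.Agent.Lib.Helper1.DerSmooth
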