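import Mathlib
import Groth.Agent.Lib.Helper1.PbSect
import Groth.Agent.Lib.Helper1.DerStruct
import Groth.Agent.Lib.Helper1.DerSmooth

set_option autoImplicit false
set_option linter.style.haveILetI false
set_option linter.unusedVariables false
universe u
open CategoryTheory CategoryTheory.Limits AlgebraicGeometry TopologicalSpace Opposite

namespace Groth.Agent.Lib.Helper1.OmBC

open Groth.Agent.Lib.Helper1.PbSect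

variable {X₁ S₁ X₂ S₂ : Scheme.{u}} (p₁ : X₁ ⟶ S₁) (p₂ : X₂ ⟶ S₂) (f : X₂ ⟶ X₁)
  {Ω₁ : X₁.Modules} (d₁ : OmegaSh.Der p₁ Ω₁) {Ω₂ : X₂.Modules} (d₂ : OmegaSh.Der p₂ Ω₂)
  (c : (Scheme.Modules.pullback f).obj Ω₁ ⟶ Ω₂) (hc : OmegaSh.IsDiffCompat f d₁ d₂ c)

include hc in
theorem app_pullRes_d {U₁ : X₁.Opens} {U₂ : X₂.Opens} (e : U₂ ≤ f ⁻¹ᵁ U₁) (b : Γ(X₁, U₁)) :
    c.app U₂ (pullRes f Ω₁ e (d₁.app U₁ b)) = d₂.app U₂ (f.appLE U₁ U₂ e b) := by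
  have h1 := hc U₁ b
  have h2 := congrArg (Ω₂.presheaf.map (homOfLE e).op) h1
  have nat := congr($(c.mapPresheaf.naturality (homOfLE e).op)
    (OmegaSh.pullSect f Ω₁ U₁ (d₁.app U₁ b)))
  have h3 := d₂.d_map (homOfLE e).op (f.app U₁ b)
  exact nat.trans (h2.trans h3.symm)

section Main

open TensorProduct

variable {p₁ p₂ f d₁ d₂ c}
variable (hd₁ : OmegaSh.IsUniversal d₁) (hd₂ : OmegaSh.IsUniversal d₂)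
  {U₁ : X₁.Opens} (hU₁ : IsAffineOpen U₁) {U₂ : X₂.Opens} (hU₂ : IsAffineOpen U₂)
  {V₁ : S₁.Opens} (hV₁ : IsAffineOpen V₁) {V₂ : S₂.Opens} (hV₂ : IsAffineOpen V₂)
  (e : U₂ ≤ f ⁻¹ᵁ U₁) (e₁ : U₁ ≤ p₁ ⁻¹ᵁ V₁) (e₂ : U₂ ≤ p₂ ⁻¹ᵁ V₂)

include hc hd₁ hd₂ hU₁ hU₂ hV₁ hV₂ in
/-- **Affine description of the canonical map `c : f^*Ω₁ → Ω₂`**: on affine opens it is the
canonical map `B₂ ⊗_{B₁} Ω_{B₁/A₁} → Ω_{B₂/A₂}`, up to isomorphisms of source and target. -/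
theorem exists_equivs [Algebra Γ(S₁, V₁) Γ(X₁, U₁)] [Algebra Γ(S₂, V₂) Γ(X₂, U₂)]
    [Algebra Γ(X₁, U₁) Γ(X₂, U₂)] [Algebra Γ(S₁, V₁) Γ(S₂, V₂)] [Algebra Γ(S₁, V₁) Γ(X₂, U₂)]
    [IsScalarTower Γ(S₁, V₁) Γ(X₁, U₁) Γ(X₂, U₂)] [IsScalarTower Γ(S₁, V₁) Γ(S₂, V₂) Γ(X₂, U₂)]
    (h₁ : algebraMap Γ(S₁, V₁) Γ(X₁, U₁) = (p₁.appLE V₁ U₁ e₁).hom)
    (h₂ : algebraMap Γ(S₂, V₂) Γ(X₂, U₂) = (p₂.appLE V₂ U₂ e₂).hom)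
    (h₃ : algebraMap Γ(X₁, U₁) Γ(X₂, U₂) = (f.appLE U₁ U₂ e).hom) [Ω₁.IsQuasicoherent] :
    ∃ (E : Γ(X₂, U₂) ⊗[Γ(X₁, U₁)] Ω[Γ(X₁, U₁)⁄Γ(S₁, V₁)] ≃+ Γ((Scheme.Modules.pullback f).obj Ω₁, U₂))
      (T : Ω[Γ(X₂, U₂)⁄Γ(S₂, V₂)] ≃+ Γ(Ω₂, U₂)),
      ∀ z, c.app U₂ (E z) = T ((KaehlerDifferential.map Γ(S₁, V₁) Γ(S₂, V₂) Γ(X₁, U₁)
        Γ(X₂, U₂)).liftBaseChange Γ(X₂, U₂) z) := by
  rename_i inst₁ inst₂ inst₃ inst₄ inst₅ inst₆ inst₇ _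
  have hi₁ : inst₁ = (p₁.appLE V₁ U₁ e₁).hom.toAlgebra :=
    Algebra.algebra_ext _ _ (fun r => congr($h₁ r))
  have hi₂ : inst₂ = (p₂.appLE V₂ U₂ e₂).hom.toAlgebra :=
    Algebra.algebra_ext _ _ (fun r => congr($h₂ r))
  subst hi₁
  subst hi₂
  letI alg₁ : Algebra Γ(S₁, V₁) Γ(X₁, U₁) := (p₁.appLE V₁ U₁ e₁).hom.toAlgebra
  letI alg₂ : Algebra Γ(S₂, V₂) Γ(X₂, U₂) := (p₂.appLE V₂ U₂ e₂).hom.toAlgebra
  -- the comparison isomorphisms on sections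
  have b₁ := DerStruct.toSect_bijective p₁ d₁ hU₁ hV₁ e₁ hd₁
  have b₂ := DerStruct.toSect_bijective p₂ d₂ hU₂ hV₂ e₂ hd₂
  let T₁ : Ω[Γ(X₁, U₁)⁄Γ(S₁, V₁)] ≃ₗ[Γ(X₁, U₁)] Γ(Ω₁, U₁) :=
    LinearEquiv.ofBijective (DerStruct.toSect p₁ d₁ V₁ U₁ e₁).hom b₁
  let T₂ : Ω[Γ(X₂, U₂)⁄Γ(S₂, V₂)] ≃ₗ[Γ(X₂, U₂)] Γ(Ω₂, U₂) :=
    LinearEquiv.ofBijective (DerStruct.toSect p₂ d₂ V₂ U₂ e₂).hom b₂
  have hT₁ : ∀ b, T₁ (KaehlerDifferential.D _ _ b) = d₁.app U₁ b :=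
    fun b => DerStruct.toSect_d p₁ d₁ V₁ U₁ e₁ b
  have hT₂ : ∀ b, T₂ (KaehlerDifferential.D _ _ b) = d₂.app U₂ b :=
    fun b => DerStruct.toSect_d p₂ d₂ V₂ U₂ e₂ b
  -- module structures over `B₁`
  let N := (Scheme.Modules.pullback f).obj Ω₁
  letI modN : Module Γ(X₁, U₁) Γ(N, U₂) := Module.compHom _ (algebraMap Γ(X₁, U₁) Γ(X₂, U₂))
  haveI towN : IsScalarTower Γ(X₁, U₁) Γ(X₂, U₂) Γ(N, U₂) :=
    IsScalarTower.of_algebraMap_smul fun _ _ => rfl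
  have hφ : ∀ r, algebraMap Γ(X₁, U₁) Γ(X₂, U₂) r = (f.appLE U₁ U₂ e).hom r := fun r => congr($h₃ r)
  let pl : Γ(Ω₁, U₁) →ₗ[Γ(X₁, U₁)] Γ(N, U₂) :=
    { toFun := pullRes f Ω₁ e
      map_add' := map_add _
      map_smul' := fun r m => by
        rw [pullRes_smul, RingHom.id_apply, ← hφ]
        rfl }
  have hpl : IsBaseChange Γ(X₂, U₂) pl :=
    isBaseChange_pullRes f Ω₁ hU₁ hU₂ e hφ pl (fun _ => rfl)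
  let Λ : Ω[Γ(X₁, U₁)⁄Γ(S₁, V₁)] →ₗ[Γ(X₁, U₁)] Γ(N, U₂) := pl.comp T₁.toLinearMap
  have hΛ : IsBaseChange Γ(X₂, U₂) Λ := IsBaseChange.comp_equiv T₁ pl hpl
  have hE : ∀ b ω, hΛ.equiv (b ⊗ₜ ω) = b • pullRes f Ω₁ e (T₁ ω) := fun b ω => hΛ.equiv_tmul b ω
  -- the key compatibility on `Ω[B₁⁄A₁]`
  have key : ∀ ω : Ω[Γ(X₁, U₁)⁄Γ(S₁, V₁)], c.app U₂ (pullRes f Ω₁ e (T₁ ω)) =
      T₂ (KaehlerDifferential.map Γ(S₁, V₁) Γ(S₂, V₂) Γ(X₁, U₁) Γ(X₂, U₂) ω) := by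
    intro ω
    have hω : ω ∈ Submodule.span Γ(X₁, U₁) (Set.range (KaehlerDifferential.D Γ(S₁, V₁) Γ(X₁, U₁))) := by
      rw [KaehlerDifferential.span_range_derivation]; trivial
    induction hω using Submodule.span_induction with
    | mem y hy =>
      obtain ⟨b, rfl⟩ := hy
      rw [hT₁, app_pullRes_d p₁ p₂ f d₁ d₂ c hc e b, KaehlerDifferential.map_D, hT₂, hφ]
    | zero => simp only [map_zero]
    | add y z _ _ hy hz => simp only [map_add, hy, hz]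
    | smul r y _ hy =>
      rw [map_smul, pullRes_smul, Scheme.Modules.Hom.app_smul, hy, map_smul,
        ← algebraMap_smul Γ(X₂, U₂) r, map_smul, hφ]
  refine ⟨hΛ.equiv.toAddEquiv, T₂.toAddEquiv, fun z => ?_⟩
  induction z using TensorProduct.induction_on with
  | zero => simp only [map_zero]
  | add x y hx hy => simp only [map_add, hx, hy]
  | tmul b ω =>
    change c.app U₂ (hΛ.equiv (b ⊗ₜ ω)) = T₂ _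
    rw [hE, Scheme.Modules.Hom.app_smul, key, LinearMap.liftBaseChange_tmul, map_smul]

end Main

end Groth.Agent.Lib.Helper1.OmBC
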