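import Mathlib
import Groth.Agent.Lib.Helper1.OmBC
import Groth.Agent.Lib.Helper1.DerSmooth
import Groth.Agent.Lib.Helper17.PbStalk

set_option autoImplicit false
set_option linter.style.haveILetI false
universe u
open CategoryTheory CategoryTheory.Limits AlgebraicGeometry TopologicalSpace Opposite TensorProduct

/-! First exact sequence of differentials: affine-local form of `c : f^*Ω_{Y/S} → Ω_{X/S}`. -/

namespace Groth.Agent.Lib.Helper1.OmSeq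

section Ring

variable (A B₁ B₂ : Type u) [CommRing A] [CommRing B₁] [CommRing B₂] [Algebra A B₁] [Algebra B₁ B₂]
  [Algebra A B₂] [IsScalarTower A B₁ B₂]

theorem liftBaseChange_eq_mapBaseChange (z : B₂ ⊗[B₁] Ω[B₁⁄A]) :
    (KaehlerDifferential.map A A B₁ B₂).liftBaseChange B₂ z =
      KaehlerDifferential.mapBaseChange A B₁ B₂ z := by
  induction z using TensorProduct.induction_on with
  | zero => simp only [map_zero]
  | add x y hx hy => simp only [map_add, hx, hy]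
  | tmul b ω =>
    rw [LinearMap.liftBaseChange_tmul, KaehlerDifferential.mapBaseChange_tmul]

theorem mapBaseChange_surjective_iff :
    Function.Surjective (KaehlerDifferential.mapBaseChange A B₁ B₂) ↔
      Algebra.FormallyUnramified B₁ B₂ := by
  rw [Algebra.formallyUnramified_iff]
  constructor
  · intro hs
    refine ⟨fun a b => ?_⟩
    have h0 : ∀ ω : Ω[B₂⁄B₁], ω = 0 := by
      intro ω
      obtain ⟨ω', rfl⟩ := KaehlerDifferential.map_surjective A B₁ B₂ ω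
      obtain ⟨z, rfl⟩ := hs ω'
      exact (KaehlerDifferential.exact_mapBaseChange_map A B₁ B₂ _).mpr ⟨z, rfl⟩
    rw [h0 a, h0 b]
  · intro hs x
    exact (KaehlerDifferential.exact_mapBaseChange_map A B₁ B₂ x).mp (Subsingleton.elim _ _)

theorem mapBaseChange_injective_of_formallySmooth [Algebra.FormallySmooth B₁ B₂] :
    Function.Injective (KaehlerDifferential.mapBaseChange A B₁ B₂) := by
  rw [injective_iff_map_eq_zero]
  intro x hx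
  obtain ⟨x, rfl⟩ := (Algebra.H1Cotangent.exact_δ_mapBaseChange A B₁ B₂ x).mp hx
  rw [Subsingleton.elim x 0, map_zero]

end Ring

section Sheaf

variable {X Y S : Scheme.{u}} (g : Y ⟶ S) (f : X ⟶ Y)
  {ΩY : Y.Modules} (dY : OmegaSh.Der g ΩY) (hY : OmegaSh.IsUniversal dY)
  {ΩX : X.Modules} (dX : OmegaSh.Der (f ≫ g) ΩX) (hX : OmegaSh.IsUniversal dX)
  (c : (Scheme.Modules.pullback f).obj ΩY ⟶ ΩX) (hc : OmegaSh.IsDiffCompat f dY dX c)
  {V : S.Opens} (hV : IsAffineOpen V) {U₁ : Y.Opens} (hU₁ : IsAffineOpen U₁)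
  {U₂ : X.Opens} (hU₂ : IsAffineOpen U₂) (e : U₂ ≤ f ⁻¹ᵁ U₁) (e₁ : U₁ ≤ g ⁻¹ᵁ V)

include hY hX hc hV hU₁ hU₂ in
/-- affine-local form of `c` for a composite `X ⟶ Y ⟶ S` -/
theorem exists_equivs_tower :
    letI := (g.appLE V U₁ e₁).hom.toAlgebra
    letI := (f.appLE U₁ U₂ e).hom.toAlgebra
    letI := ((f.appLE U₁ U₂ e).hom.comp (g.appLE V U₁ e₁).hom).toAlgebra
    haveI : IsScalarTower Γ(S, V) Γ(Y, U₁) Γ(X, U₂) := IsScalarTower.of_algebraMap_eq fun _ => rfl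
    ∃ (E : Γ(X, U₂) ⊗[Γ(Y, U₁)] Ω[Γ(Y, U₁)⁄Γ(S, V)] ≃+ Γ((Scheme.Modules.pullback f).obj ΩY, U₂))
      (T : Ω[Γ(X, U₂)⁄Γ(S, V)] ≃+ Γ(ΩX, U₂)),
      ∀ z, c.app U₂ (E z) = T (KaehlerDifferential.mapBaseChange Γ(S, V) Γ(Y, U₁) Γ(X, U₂) z) := by
  letI alg₁ := (g.appLE V U₁ e₁).hom.toAlgebra
  letI alg₃ := (f.appLE U₁ U₂ e).hom.toAlgebra
  letI alg₅ := ((f.appLE U₁ U₂ e).hom.comp (g.appLE V U₁ e₁).hom).toAlgebra
  haveI t₁ : IsScalarTower Γ(S, V) Γ(Y, U₁) Γ(X, U₂) := IsScalarTower.of_algebraMap_eq fun _ => rfl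
  have e₂ : U₂ ≤ (f ≫ g) ⁻¹ᵁ V := fun y hy => e₁ (e hy)
  haveI : ΩY.IsQuasicoherent := DerSmooth.isQuasicoherent g dY hY
  have hw : (f ≫ g).appLE V U₂ e₂ = g.appLE V U₁ e₁ ≫ f.appLE U₁ U₂ e :=
    (Scheme.Hom.appLE_comp_appLE _ _ _ _ _ _ _).symm
  obtain ⟨E, T, hET⟩ := OmBC.exists_equivs (p₁ := g) (p₂ := f ≫ g) (f := f) (d₁ := dY) (d₂ := dX)
    (c := c) hc hY hX hU₁ hU₂ hV hV e e₁ e₂ rfl (by rw [hw]; rfl) rfl
  refine ⟨E, T, fun z => ?_⟩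
  rw [hET, liftBaseChange_eq_mapBaseChange]

include hY hX hc hV hU₁ hU₂ e₁ in
theorem app_surjective_iff :
    Function.Surjective (c.app U₂) ↔ (f.appLE U₁ U₂ e).hom.FormallyUnramified := by
  letI alg₁ := (g.appLE V U₁ e₁).hom.toAlgebra
  letI alg₃ := (f.appLE U₁ U₂ e).hom.toAlgebra
  letI alg₅ := ((f.appLE U₁ U₂ e).hom.comp (g.appLE V U₁ e₁).hom).toAlgebra
  haveI t₁ : IsScalarTower Γ(S, V) Γ(Y, U₁) Γ(X, U₂) := IsScalarTower.of_algebraMap_eq fun _ => rfl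
  obtain ⟨E, T, hET⟩ := exists_equivs_tower g f dY hY dX hX c hc hV hU₁ hU₂ e e₁
  change _ ↔ Algebra.FormallyUnramified Γ(Y, U₁) Γ(X, U₂)
  rw [← mapBaseChange_surjective_iff Γ(S, V) Γ(Y, U₁) Γ(X, U₂)]
  have : (c.app U₂ : _ → _) = T ∘ (KaehlerDifferential.mapBaseChange Γ(S, V) Γ(Y, U₁) Γ(X, U₂)) ∘
      E.symm := by
    funext y
    obtain ⟨z, rfl⟩ := E.surjective y
    rw [hET]
    simp only [Function.comp_apply, AddEquiv.symm_apply_apply]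
  rw [this]
  constructor
  · intro h
    have h2 := (T.symm.surjective.comp h).comp E.surjective
    convert h2 using 1
    funext z
    simp only [Function.comp_apply, AddEquiv.symm_apply_apply]
  · intro h
    exact T.surjective.comp (h.comp E.symm.surjective)

include hY hX hc hV hU₁ hU₂ e₁ in
theorem app_injective_of_formallySmooth (hf : (f.appLE U₁ U₂ e).hom.FormallySmooth) :
    Function.Injective (c.app U₂) := by
  letI alg₁ := (g.appLE V U₁ e₁).hom.toAlgebra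
  letI alg₃ := (f.appLE U₁ U₂ e).hom.toAlgebra
  letI alg₅ := ((f.appLE U₁ U₂ e).hom.comp (g.appLE V U₁ e₁).hom).toAlgebra
  haveI t₁ : IsScalarTower Γ(S, V) Γ(Y, U₁) Γ(X, U₂) := IsScalarTower.of_algebraMap_eq fun _ => rfl
  obtain ⟨E, T, hET⟩ := exists_equivs_tower g f dY hY dX hX c hc hV hU₁ hU₂ e e₁
  haveI : Algebra.FormallySmooth Γ(Y, U₁) Γ(X, U₂) := hf
  have hi := mapBaseChange_injective_of_formallySmooth Γ(S, V) Γ(Y, U₁) Γ(X, U₂)
  have : (c.app U₂ : _ → _) = T ∘ (KaehlerDifferential.mapBaseChange Γ(S, V) Γ(Y, U₁) Γ(X, U₂)) ∘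
      E.symm := by
    funext y
    obtain ⟨z, rfl⟩ := E.surjective y
    rw [hET]
    simp only [Function.comp_apply, AddEquiv.symm_apply_apply]
  rw [this]
  exact T.injective.comp (hi.comp E.symm.injective)

/-- small affine triples -/
theorem exists_affine_triple (x : X) (W : X.Opens) (hx : x ∈ W) :
    ∃ (V : S.Opens) (U₁ : Y.Opens) (U₂ : X.Opens), IsAffineOpen V ∧ IsAffineOpen U₁ ∧
      IsAffineOpen U₂ ∧ x ∈ U₂ ∧ U₂ ≤ W ∧ U₂ ≤ f ⁻¹ᵁ U₁ ∧ U₁ ≤ g ⁻¹ᵁ V := by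
  obtain ⟨_, ⟨V : S.Opens, hV, rfl⟩, hsV, -⟩ := S.isBasis_affineOpens.exists_subset_of_mem_open
    (Set.mem_univ (g (f x))) isOpen_univ
  obtain ⟨_, ⟨U₁ : Y.Opens, hU₁, rfl⟩, hxU₁, hU₁V⟩ :=
    Y.isBasis_affineOpens.exists_subset_of_mem_open
      (show f x ∈ ((g ⁻¹ᵁ V : Y.Opens) : Set Y) from hsV) (g ⁻¹ᵁ V).2
  obtain ⟨_, ⟨U₂ : X.Opens, hU₂, rfl⟩, hxU₂, hU₂le⟩ :=
    X.isBasis_affineOpens.exists_subset_of_mem_open
      (show x ∈ ((W ⊓ f ⁻¹ᵁ U₁ : X.Opens) : Set X) from ⟨hx, hxU₁⟩) (W ⊓ f ⁻¹ᵁ U₁).2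
  exact ⟨V, U₁, U₂, hV, hU₁, hU₂, hxU₂, fun y hy => (hU₂le hy).1, fun y hy => (hU₂le hy).2, hU₁V⟩

end Sheaf

end Groth.Agent.Lib.Helper1.OmSeq
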