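import Mathlib
import Groth.Agent.Lib.Helper1.OmBC2
import Groth.Agent.Lib.Helper1.OmSeq

set_option autoImplicit false
set_option linter.style.haveILetI false
universe u
open CategoryTheory CategoryTheory.Limits AlgebraicGeometry TopologicalSpace Opposite TensorProduct

namespace Groth.Agent.Lib.Helper1.OmSeq2

open Groth.Agent.Lib.Helper1.PbSect

variable {X Y S : Scheme.{u}} (g : Y ⟶ S) (f : X ⟶ Y)
  {ΩY : Y.Modules} (dY : OmegaSh.Der g ΩY) (hY : OmegaSh.IsUniversal dY)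
  {ΩX : X.Modules} (dX : OmegaSh.Der (f ≫ g) ΩX) (hX : OmegaSh.IsUniversal dX)
  (c : (Scheme.Modules.pullback f).obj ΩY ⟶ ΩX) (hc : OmegaSh.IsDiffCompat f dY dX c)
  {V : S.Opens} (hV : IsAffineOpen V) {U₁ : Y.Opens} (hU₁ : IsAffineOpen U₁)
  {U₂ : X.Opens} (hU₂ : IsAffineOpen U₂) (e : U₂ ≤ f ⁻¹ᵁ U₁) (e₁ : U₁ ≤ g ⁻¹ᵁ V)

include hY hX hc hV hU₁ hU₂ in
/-- affine-local form of `c` for a composite `X ⟶ Y ⟶ S`, with values -/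
theorem exists_equivs_tower :
    letI := (g.appLE V U₁ e₁).hom.toAlgebra
    letI := (f.appLE U₁ U₂ e).hom.toAlgebra
    letI := ((f.appLE U₁ U₂ e).hom.comp (g.appLE V U₁ e₁).hom).toAlgebra
    haveI : IsScalarTower Γ(S, V) Γ(Y, U₁) Γ(X, U₂) := IsScalarTower.of_algebraMap_eq fun _ => rfl
    ∃ (E : Γ(X, U₂) ⊗[Γ(Y, U₁)] Ω[Γ(Y, U₁)⁄Γ(S, V)] ≃+ Γ((Scheme.Modules.pullback f).obj ΩY, U₂))
      (T : Ω[Γ(X, U₂)⁄Γ(S, V)] ≃+ Γ(ΩX, U₂)),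
      (∀ z, c.app U₂ (E z) =
        T (KaehlerDifferential.mapBaseChange Γ(S, V) Γ(Y, U₁) Γ(X, U₂) z)) ∧
      (∀ (b₂ : Γ(X, U₂)) (b : Γ(Y, U₁)),
        E (b₂ ⊗ₜ KaehlerDifferential.D Γ(S, V) Γ(Y, U₁) b) =
          b₂ • pullRes f ΩY e (dY.app U₁ b)) ∧
      (∀ (b₂ : Γ(X, U₂)) z, E (b₂ • z) = b₂ • E z) ∧
      (∀ b : Γ(X, U₂), T (KaehlerDifferential.D Γ(S, V) Γ(X, U₂) b) = dX.app U₂ b) ∧
      (∀ (b₂ : Γ(X, U₂)) ω, T (b₂ • ω) = b₂ • T ω) := by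
  letI alg₁ := (g.appLE V U₁ e₁).hom.toAlgebra
  letI alg₃ := (f.appLE U₁ U₂ e).hom.toAlgebra
  letI alg₅ := ((f.appLE U₁ U₂ e).hom.comp (g.appLE V U₁ e₁).hom).toAlgebra
  haveI t₁ : IsScalarTower Γ(S, V) Γ(Y, U₁) Γ(X, U₂) := IsScalarTower.of_algebraMap_eq fun _ => rfl
  have e₂ : U₂ ≤ (f ≫ g) ⁻¹ᵁ V := fun y hy => e₁ (e hy)
  haveI : ΩY.IsQuasicoherent := DerSmooth.isQuasicoherent g dY hY
  have hw : (f ≫ g).appLE V U₂ e₂ = g.appLE V U₁ e₁ ≫ f.appLE U₁ U₂ e :=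
    (Scheme.Hom.appLE_comp_appLE _ _ _ _ _ _ _).symm
  obtain ⟨E, T, h1, h2, h3, h4, h5⟩ := OmBC2.exists_equivs (p₁ := g) (p₂ := f ≫ g) (f := f)
    (d₁ := dY) (d₂ := dX) (c := c) hc hY hX hU₁ hU₂ hV hV e e₁ e₂ rfl (by rw [hw]; rfl) rfl
  refine ⟨E, T, fun z => ?_, h2, h3, h4, h5⟩
  rw [h1, OmSeq.liftBaseChange_eq_mapBaseChange]

end Groth.Agent.Lib.Helper1.OmSeq2
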