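import Mathlib
import Groth.Agent.Lib.Helper1.Conorm
import Groth.Agent.Lib.Helper1.OmSeq2
import Groth.Agent.Lib.Helper1.ModLocal
import Groth.Agent.Lib.Helper1.DerCompat
import Groth.Agent.Lib.Helper1.DerPb

set_option autoImplicit false
set_option linter.style.haveILetI false
universe u
open CategoryTheory CategoryTheory.Limits AlgebraicGeometry TopologicalSpace Opposite TensorProduct

/-! The conormal sequence `C_{Z/X} → i^*Ω_{X/S} → Ω_{Z/S} → 0` of a quasi-compact immersion. -/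

namespace Groth.Agent.Lib.Helper1.ConormSeq

open Groth.Agent.Lib.Helper1.PbSect Groth.Agent.Lib.Helper3

section Ring

variable (R P S : Type u) [CommRing R] [CommRing P] [CommRing S] [Algebra R P] [Algebra P S]
  [Algebra R S] [IsScalarTower R P S]

/-- second exact sequence, elementwise -/
theorem exists_of_mapBaseChange_eq_zero (hs : Function.Surjective (algebraMap P S))
    (t : S ⊗[P] Ω[P⁄R]) (ht : KaehlerDifferential.mapBaseChange R P S t = 0) :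
    ∃ x ∈ RingHom.ker (algebraMap P S), t = 1 ⊗ₜ KaehlerDifferential.D R P x := by
  obtain ⟨xb, rfl⟩ := (KaehlerDifferential.exact_kerCotangentToTensor_mapBaseChange R P S hs t).mp ht
  obtain ⟨⟨x, hx⟩, rfl⟩ := Ideal.toCotangent_surjective _ xb
  exact ⟨x, hx, rfl⟩

/-- with an algebra section the conormal map is injective -/
theorem mem_sq_of_tmul_D_eq_zero (ρ : S →ₐ[R] P) (hρ : ∀ s, algebraMap P S (ρ s) = s)
    (x : P) (hx : x ∈ RingHom.ker (algebraMap P S))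
    (h0 : (1 : S) ⊗ₜ[P] KaehlerDifferential.D R P x = 0) :
    x ∈ RingHom.ker (algebraMap P S) ^ 2 := by
  have hs : Function.Surjective (algebraMap P S) := fun s => ⟨ρ s, hρ s⟩
  let g : S →ₐ[R] P ⧸ (RingHom.ker (algebraMap P S) ^ 2) :=
    (Ideal.Quotient.mkₐ R (RingHom.ker (algebraMap P S) ^ 2)).comp ρ
  have hg : (IsScalarTower.toAlgHom R P S).kerSquareLift.comp g = AlgHom.id R S := by
    ext s
    change (IsScalarTower.toAlgHom R P S).kerSquareLift (Ideal.Quotient.mk _ (ρ s)) = s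
    exact hρ s
  obtain ⟨l, hl⟩ := (retractionKerCotangentToTensorEquivSection
    (R := R) hs).symm ⟨g, hg⟩
  have h1 : KaehlerDifferential.kerCotangentToTensor R P S (Ideal.toCotangent _ ⟨x, hx⟩) = 0 := h0
  have h2 := congr($hl (Ideal.toCotangent _ ⟨x, hx⟩))
  simp only [LinearMap.coe_comp, Function.comp_apply, LinearMap.id_coe, id_eq] at h2
  rw [h1, map_zero] at h2
  exact (Ideal.toCotangent_eq_zero _ _).mp h2.symm

end Ring

variable {Z X S : Scheme.{u}} (f : X ⟶ S) (i : Z ⟶ X)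
  {ΩX : X.Modules} (dX : OmegaSh.Der f ΩX) (hX : OmegaSh.IsUniversal dX)
  {ΩZ : Z.Modules} (dZ : OmegaSh.Der (i ≫ f) ΩZ) (hZ : OmegaSh.IsUniversal dZ)
  (φ : Omega.conormal i ⟶ (Scheme.Modules.pullback i).obj ΩX) (hφ : OmegaSh.IsConormalDiff i dX φ)
  (c : (Scheme.Modules.pullback i).obj ΩX ⟶ ΩZ) (hc : OmegaSh.IsDiffCompat i dX dZ c)

include hφ hc in
theorem comp_eq_zero [QuasiCompact i] : φ ≫ c = 0 := by
  apply ModLocal.pullback_hom_ext i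
  intro U hU s
  have h1 : (φ ≫ c).app (i ⁻¹ᵁ U) (OmegaSh.pullSect i _ U s) =
      c.app _ (φ.app _ (OmegaSh.conormalSect i U s)) := rfl
  refine h1.trans ?_
  have h2 : φ.app _ (OmegaSh.conormalSect i U s) =
      OmegaSh.pullSect i ΩX U (dX.app U (OmegaSh.idealSect i.ker U s)) := hφ U s
  have h3 : i.app U (OmegaSh.idealSect i.ker U s) = 0 := Conorm.val_mem_ker i hU s
  have h4 := hc U (OmegaSh.idealSect i.ker U s)
  rw [h2]
  refine h4.trans ?_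
  rw [h3, map_zero]
  rfl

theorem pullRes_refl {X Y : Scheme.{u}} (h : Y ⟶ X) (F : X.Modules) (U : X.Opens) (m : Γ(F, U)) :
    pullRes h F (le_refl (h ⁻¹ᵁ U)) m = OmegaSh.pullSect h F U m := by
  rw [pullRes_apply]
  have : (homOfLE (le_refl (h ⁻¹ᵁ U))).op = 𝟙 _ := rfl
  rw [this, CategoryTheory.Functor.map_id]
  rfl

variable [QuasiCompact i] {U : X.Opens} (hU : IsAffineOpen U) (hV : IsAffineOpen (i ⁻¹ᵁ U))
  (hs : Function.Surjective (i.app U)) {VS : S.Opens} (hVS : IsAffineOpen VS) (hUVS : U ≤ f ⁻¹ᵁ VS)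

include hX hZ hφ hc hU hV hs hVS hUVS in
/-- exactness of the conormal sequence on the sections over a good affine open -/
theorem exact_on_good (y : Γ((Scheme.Modules.pullback i).obj ΩX, i ⁻¹ᵁ U))
    (hy : c.app (i ⁻¹ᵁ U) y = 0) : ∃ m' : Γ(Omega.conormal i, i ⁻¹ᵁ U), φ.app (i ⁻¹ᵁ U) m' = y := by
  letI alg₁ := (f.appLE VS U hUVS).hom.toAlgebra
  letI alg₃ := (i.appLE U (i ⁻¹ᵁ U) le_rfl).hom.toAlgebra
  letI alg₅ := ((i.appLE U (i ⁻¹ᵁ U) le_rfl).hom.comp (f.appLE VS U hUVS).hom).toAlgebra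
  haveI t₁ : IsScalarTower Γ(S, VS) Γ(X, U) Γ(Z, i ⁻¹ᵁ U) :=
    IsScalarTower.of_algebraMap_eq fun _ => rfl
  obtain ⟨E, T, h1, h2, -, -, -⟩ :=
    OmSeq2.exists_equivs_tower f i dX hX dZ hZ c hc hVS hU hV le_rfl hUVS
  have hsurj : Function.Surjective (algebraMap Γ(X, U) Γ(Z, i ⁻¹ᵁ U)) := by
    change Function.Surjective (i.appLE U (i ⁻¹ᵁ U) le_rfl).hom
    rw [Conorm.appLE_refl]; exact hs
  obtain ⟨t, rfl⟩ := E.surjective y
  rw [h1] at hy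
  have ht : KaehlerDifferential.mapBaseChange Γ(S, VS) Γ(X, U) Γ(Z, i ⁻¹ᵁ U) t = 0 := by
    apply T.injective
    rw [hy, map_zero]
  obtain ⟨x, hx, rfl⟩ := exists_of_mapBaseChange_eq_zero _ _ _ hsurj t ht
  have hx' : x ∈ RingHom.ker (i.app U).hom := by
    have : x ∈ RingHom.ker (i.appLE U (i ⁻¹ᵁ U) le_rfl).hom := hx
    rwa [Conorm.appLE_refl] at this
  obtain ⟨s, hsx⟩ := Conorm.exists_val_eq i hU x hx'
  refine ⟨OmegaSh.conormalSect i U s, ?_⟩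
  rw [hφ U s, Conorm.idealSect_eq_val, hsx, h2, one_smul, pullRes_refl]

include hX hZ hφ hc hU hV hs hVS hUVS in
/-- injectivity of `φ` on the sections over a good affine open with a ring section -/
theorem injective_on_good (ρ : Γ(Z, i ⁻¹ᵁ U) →+* Γ(X, U))
    (hρ₁ : ∀ a, ρ ((i.app U).hom ((f.appLE VS U hUVS).hom a)) = (f.appLE VS U hUVS).hom a)
    (hρ₂ : ∀ s, (i.app U).hom (ρ s) = s) :
    Function.Injective (φ.app (i ⁻¹ᵁ U)) := by
  letI alg₁ := (f.appLE VS U hUVS).hom.toAlgebra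
  letI alg₃ := (i.appLE U (i ⁻¹ᵁ U) le_rfl).hom.toAlgebra
  letI alg₅ := ((i.appLE U (i ⁻¹ᵁ U) le_rfl).hom.comp (f.appLE VS U hUVS).hom).toAlgebra
  haveI t₁ : IsScalarTower Γ(S, VS) Γ(X, U) Γ(Z, i ⁻¹ᵁ U) :=
    IsScalarTower.of_algebraMap_eq fun _ => rfl
  obtain ⟨E, T, h1, h2, -, -, -⟩ :=
    OmSeq2.exists_equivs_tower f i dX hX dZ hZ c hc hVS hU hV le_rfl hUVS
  have halg : ∀ b : Γ(X, U), algebraMap Γ(X, U) Γ(Z, i ⁻¹ᵁ U) b = (i.app U).hom b := by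
    intro b
    change (i.appLE U (i ⁻¹ᵁ U) le_rfl).hom b = _
    rw [Conorm.appLE_refl]
  let ρ' : Γ(Z, i ⁻¹ᵁ U) →ₐ[Γ(S, VS)] Γ(X, U) :=
    { ρ with
      commutes' := fun a => by
        change ρ (algebraMap Γ(X, U) Γ(Z, i ⁻¹ᵁ U) ((f.appLE VS U hUVS).hom a)) = _
        rw [halg]
        exact hρ₁ a }
  have hρ' : ∀ s, algebraMap Γ(X, U) Γ(Z, i ⁻¹ᵁ U) (ρ' s) = s := by
    intro s
    rw [halg]
    exact hρ₂ s
  rw [injective_iff_map_eq_zero]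
  intro y hy
  obtain ⟨s, rfl⟩ := Conorm.conormalSect_surjective i hU hV hs y
  rw [hφ U s, Conorm.idealSect_eq_val] at hy
  have h3 : E ((1 : Γ(Z, i ⁻¹ᵁ U)) ⊗ₜ KaehlerDifferential.D Γ(S, VS) Γ(X, U)
      (IdealMod.val i.ker s)) = 0 := by
    rw [h2, one_smul, pullRes_refl]
    exact hy
  have h4 : (1 : Γ(Z, i ⁻¹ᵁ U)) ⊗ₜ[Γ(X, U)] KaehlerDifferential.D Γ(S, VS) Γ(X, U)
      (IdealMod.val i.ker s) = 0 := by
    apply E.injective
    rw [h3, map_zero]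
  have hker : IdealMod.val i.ker s ∈ RingHom.ker (algebraMap Γ(X, U) Γ(Z, i ⁻¹ᵁ U)) := by
    rw [RingHom.mem_ker, halg]
    exact Conorm.val_mem_ker i hU s
  have h5 := mem_sq_of_tmul_D_eq_zero Γ(S, VS) Γ(X, U) Γ(Z, i ⁻¹ᵁ U) ρ' hρ' _ hker h4
  have hkereq : RingHom.ker (algebraMap Γ(X, U) Γ(Z, i ⁻¹ᵁ U)) = RingHom.ker (i.app U).hom := by
    ext b
    rw [RingHom.mem_ker, RingHom.mem_ker, halg]
  rw [hkereq] at h5
  exact (Conorm.conormalSect_eq_zero_iff i hU hV hs s).mpr h5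

theorem rmap_map_any {Z : Scheme.{u}} {A B C : Z.Opensᵒᵖ} (a : A ⟶ B) (b : B ⟶ C) (c : A ⟶ C)
    (y : Z.presheaf.obj A) : Z.presheaf.map b (Z.presheaf.map a y) = Z.presheaf.map c y := by
  rw [← ConcreteCategory.comp_apply, ← Functor.map_comp]
  rfl

/-- a section of `c` from a retraction `g` of `i` -/
theorem exists_section {Z X S : Scheme.{u}} (f : X ⟶ S) (i : Z ⟶ X)
    (g : X ⟶ Z) (hgi : i ≫ g = 𝟙 Z) (hgS : g ≫ i ≫ f = f)
    (ΩX : X.Modules) (dX : OmegaSh.Der f ΩX)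
    (ΩZ : Z.Modules) (dZ : OmegaSh.Der (i ≫ f) ΩZ) (hZ : OmegaSh.IsUniversal dZ)
    (c : (Scheme.Modules.pullback i).obj ΩX ⟶ ΩZ) (hc : OmegaSh.IsDiffCompat i dX dZ c) :
    ∃ σ : ΩZ ⟶ (Scheme.Modules.pullback i).obj ΩX, σ ≫ c = 𝟙 _ := by
  have hsq : f ≫ 𝟙 S = g ≫ (i ≫ f) := by rw [Category.comp_id, hgS]
  obtain ⟨θ, hθ, -⟩ := hZ _ (DerCompat.pushD (i ≫ f) f g (𝟙 S) hsq dX)
  have hθ' : ∀ (V : Z.Opens) (s : Γ(Z, V)),
      θ.app V (dZ.app V s) = dX.app (g ⁻¹ᵁ V) (g.app V s) := by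
    intro V s
    have := congr($(PresheafOfModules.Derivation.congr_d hθ (X := op V) s))
    exact this.trans (DerCompat.pushD_app (i ≫ f) f g (𝟙 S) hsq dX V s)
  let N := (Scheme.Modules.pullback i).obj ΩX
  let η := (Scheme.Modules.pullbackPushforwardAdjunction i).unit.app ΩX
  let σ : ΩZ ⟶ N := θ ≫ (Scheme.Modules.pushforward g).map η ≫
    (Scheme.Modules.pushforwardComp i g).hom.app N ≫
    (Scheme.Modules.pushforwardCongr hgi).hom.app N ≫ (Scheme.Modules.pushforwardId Z).hom.app N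
  refine ⟨σ, ?_⟩
  obtain ⟨α, -, hαu⟩ := hZ ΩZ dZ
  refine (hαu _ ?_).trans (hαu _ (DerStruct.postcomp_id dZ)).symm
  apply PresheafOfModules.Derivation.ext
  funext W
  ext s
  obtain ⟨V⟩ := W
  change c.app V (σ.app V (dZ.app V s)) = dZ.app V s
  have hop : (i ≫ g) ⁻¹ᵁ V = (𝟙 Z) ⁻¹ᵁ V := by rw [hgi]
  have h1 : σ.app V (dZ.app V s) = N.presheaf.map (eqToHom hop.symm).op
      (OmegaSh.pullSect i ΩX (g ⁻¹ᵁ V) (dX.app (g ⁻¹ᵁ V) (g.app V s))) := by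
    change N.presheaf.map _ (η.app (g ⁻¹ᵁ V) (θ.app V (dZ.app V s))) = _
    rw [hθ']
    rfl
  rw [h1]
  have h2 := congr($(c.mapPresheaf.naturality (eqToHom hop.symm).op)
    (OmegaSh.pullSect i ΩX (g ⁻¹ᵁ V) (dX.app (g ⁻¹ᵁ V) (g.app V s))))
  refine h2.trans ?_
  have h3 := hc (g ⁻¹ᵁ V) (g.app V s)
  have h4 : c.app (i ⁻¹ᵁ (g ⁻¹ᵁ V)) (OmegaSh.pullSect i ΩX (g ⁻¹ᵁ V) (dX.app (g ⁻¹ᵁ V) (g.app V s))) =
      dZ.app (i ⁻¹ᵁ (g ⁻¹ᵁ V)) (i.app (g ⁻¹ᵁ V) (g.app V s)) := h3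
  change ΩZ.presheaf.map (eqToHom hop.symm).op (c.app (i ⁻¹ᵁ (g ⁻¹ᵁ V)) _) = _
  rw [h4]
  have h5 := dZ.d_map (eqToHom hop.symm).op (i.app (g ⁻¹ᵁ V) (g.app V s))
  refine h5.symm.trans ?_
  congr 1
  have h6 := Scheme.Hom.congr_app hgi V
  have h7 : (i ≫ g).app V s = i.app (g ⁻¹ᵁ V) (g.app V s) := rfl
  rw [← h7, h6]
  change Z.presheaf.map _ (Z.presheaf.map _ s) = s
  exact (rmap_map_any _ _ (𝟙 _) s).trans (congr($(Z.presheaf.map_id _) s))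

end Groth.Agent.Lib.Helper1.ConormSeq
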