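import Mathlib
import Groth.Prelude.Def_Omega3
import Groth.Agent.Lib.Helper1.DerStruct

set_option autoImplicit false
set_option linter.style.haveILetI false
universe u
open CategoryTheory CategoryTheory.Limits AlgebraicGeometry TopologicalSpace Opposite

namespace Groth.Agent.Lib.Helper1.DerExists

variable {X Y : Scheme.{u}} (f : X ⟶ Y)

/-- the subring of `Γ(X, U)` generated by the functions coming from the base -/
def sub (U : X.Opens) : Subring Γ(X, U) :=
  Subring.closure (⋃ (V : Y.Opens) (hV : U ≤ f ⁻¹ᵁ V), Set.range (f.appLE V U hV))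

theorem appLE_mem (U : X.Opens) (V : Y.Opens) (hV : U ≤ f ⁻¹ᵁ V) (c : Γ(Y, V)) :
    f.appLE V U hV c ∈ sub f U :=
  Subring.subset_closure (Set.mem_iUnion.mpr ⟨V, Set.mem_iUnion.mpr ⟨hV, ⟨c, rfl⟩⟩⟩)

theorem map_mem {U U' : X.Opens} (i : U' ≤ U) (s : Γ(X, U)) (hs : s ∈ sub f U) :
    X.presheaf.map (homOfLE i).op s ∈ sub f U' := by
  induction hs using Subring.closure_induction with
  | mem x hx =>
    obtain ⟨V, hx⟩ := Set.mem_iUnion.mp hx
    obtain ⟨hV, c, rfl⟩ := Set.mem_iUnion.mp hx
    have : X.presheaf.map (homOfLE i).op (f.appLE V U hV c) = f.appLE V U' (i.trans hV) c := by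
      rw [← ConcreteCategory.comp_apply, Scheme.Hom.appLE_map]
    rw [this]
    exact appLE_mem f U' V _ c
  | zero => rw [map_zero]; exact Subring.zero_mem _
  | one => rw [map_one]; exact Subring.one_mem _
  | add x y _ _ hx hy => rw [map_add]; exact Subring.add_mem _ hx hy
  | neg x _ hx => rw [map_neg]; exact Subring.neg_mem _ hx
  | mul x y _ _ hx hy => rw [map_mul]; exact Subring.mul_mem _ hx hy

/-- the presheaf of subrings -/
noncomputable def S' : X.Opensᵒᵖ ⥤ CommRingCat.{u} where
  obj U := CommRingCat.of (sub f U.unop)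
  map {U U'} i := CommRingCat.ofHom
    ((X.presheaf.map i).hom.restrict (sub f U.unop) (sub f U'.unop)
      (fun s hs => map_mem f (leOfHom i.unop) s hs))
  map_id U := by
    ext s
    change X.presheaf.map (𝟙 U) s.1 = s.1
    rw [X.presheaf.map_id]
    rfl
  map_comp {U U' U''} i j := by
    ext s
    change X.presheaf.map (i ≫ j) s.1 = X.presheaf.map j (X.presheaf.map i s.1)
    rw [X.presheaf.map_comp]
    rfl

/-- the inclusion -/
noncomputable def φ' : S' f ⟶ X.presheaf where
  app U := CommRingCat.ofHom (sub f U.unop).subtype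
  naturality _ _ _ := rfl

variable {f}

/-- derivations for `f` are derivations for the subring presheaf -/
def toDer' {M : X.PresheafOfModules} (D : PresheafOfModules.Derivation (S := Y.presheaf)
    (F := Opens.map f.base) (R := X.presheaf) M f.c) :
    PresheafOfModules.Derivation' (R := X.presheaf) M (φ' f) where
  d := D.d
  d_mul := D.d_mul
  d_map := D.d_map
  d_app {U} a := by
    obtain ⟨a, ha⟩ := a
    change D.d a = 0
    induction ha using Subring.closure_induction with
    | mem x hx =>
      obtain ⟨V, hx⟩ := Set.mem_iUnion.mp hx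
      obtain ⟨hV, c, rfl⟩ := Set.mem_iUnion.mp hx
      rw [Scheme.Hom.appLE]
      change D.d (X.presheaf.map (homOfLE hV).op (f.app V c)) = 0
      have h1 := D.d_map (homOfLE hV).op (f.app V c)
      have h2 : D.d (X := op (f ⁻¹ᵁ V)) (f.app V c) = 0 := D.d_app (X := op V) c
      rw [h2, map_zero] at h1
      exact h1
    | zero => exact map_zero _
    | one => exact D.d_one _
    | add x y _ _ hx hy => rw [map_add, hx, hy, add_zero]
    | neg x _ hx => rw [map_neg, hx, neg_zero]
    | mul x y _ _ hx hy => rw [D.d_mul, hx, hy, smul_zero, smul_zero, add_zero]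

/-- and conversely -/
def ofDer' {M : X.PresheafOfModules} (D : PresheafOfModules.Derivation' (R := X.presheaf) M (φ' f)) :
    PresheafOfModules.Derivation (S := Y.presheaf)
    (F := Opens.map f.base) (R := X.presheaf) M f.c where
  d := D.d
  d_mul := D.d_mul
  d_map := D.d_map
  d_app {V} c := by
    have := PresheafOfModules.Derivation'.d_app D (X := op (f ⁻¹ᵁ V.unop))
      ⟨f.appLE V.unop (f ⁻¹ᵁ V.unop) le_rfl c, appLE_mem f _ _ _ c⟩
    refine Eq.trans ?_ this
    congr 1
    change _ = f.appLE V.unop (f ⁻¹ᵁ V.unop) le_rfl c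
    rw [Scheme.Hom.appLE]
    simp

variable (f)

open PresheafOfModules in
/-- the presheaf of differentials -/
noncomputable def ΩPre : X.PresheafOfModules :=
  DifferentialsConstruction.relativeDifferentials' (φ' f)

/-- the sheaf of differentials (abstract) -/
noncomputable def Ωsh : X.Modules :=
  (Scheme.Modules.toPresheafOfModules X).leftAdjoint.obj (ΩPre f)

/-- the sheafification adjunction -/
noncomputable def adj : (Scheme.Modules.toPresheafOfModules X).leftAdjoint ⊣
    Scheme.Modules.toPresheafOfModules X :=
  Adjunction.ofIsRightAdjoint _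

/-- the unit -/
noncomputable def η : ΩPre f ⟶ (Ωsh f).val := (adj (X := X)).unit.app (ΩPre f)

open PresheafOfModules in
/-- the abstract universal derivation -/
noncomputable def dsh : OmegaSh.Der f (Ωsh f) :=
  ofDer' ((DifferentialsConstruction.derivation' (φ' f)).postcomp (η f))

open PresheafOfModules in
theorem isUniversal_dsh : OmegaSh.IsUniversal (dsh f) := by
  intro F D
  let D' := toDer' D
  let γ : ΩPre f ⟶ F.val := (DifferentialsConstruction.isUniversal' (φ' f)).desc D'
  have hγ : (DifferentialsConstruction.derivation' (φ' f)).postcomp γ = D' :=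
    (DifferentialsConstruction.isUniversal' (φ' f)).fac D'
  let α : Ωsh f ⟶ F := ((adj (X := X)).homEquiv (ΩPre f) F).symm γ
  have hα : η f ≫ α.val = γ := by
    have h1 := (adj (X := X)).homEquiv_unit (X := ΩPre f) (Y := F) (f := α)
    have h2 : (adj (X := X)).homEquiv (ΩPre f) F α = γ := Equiv.apply_symm_apply _ _
    exact h1.symm.trans h2
  have key : ∀ β : Ωsh f ⟶ F, (dsh f).postcomp β.val = D ↔
      (DifferentialsConstruction.derivation' (φ' f)).postcomp (η f ≫ β.val) = D' := by
    intro β
    constructor
    · intro h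
      ext U b
      have := congrArg (fun E => E.d (X := U) b) h
      exact this
    · intro h
      ext U b
      have := congrArg (fun E => E.d (X := U) b) h
      exact this
  refine ⟨α, (key α).mpr (hα ▸ hγ), fun β hβ => ?_⟩
  have h1 := (key β).mp hβ
  have h2 : η f ≫ β.val = γ :=
    (DifferentialsConstruction.isUniversal' (φ' f)).postcomp_injective _ _ (h1.trans hγ.symm)
  have h3 : (adj (X := X)).homEquiv (ΩPre f) F β = γ :=
    ((adj (X := X)).homEquiv_unit (X := ΩPre f) (Y := F) (f := β)).trans h2
  exact ((adj (X := X)).homEquiv (ΩPre f) F).injective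
    (h3.trans (Equiv.apply_symm_apply _ _).symm)

end Groth.Agent.Lib.Helper1.DerExists
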