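import Mathlib
import Groth.Agent.Lib.Helper3.QCExact
import Groth.Agent.Lib.Helper17.PbFlat

set_option autoImplicit false
set_option linter.style.haveILetI false
universe u
open CategoryTheory CategoryTheory.Limits AlgebraicGeometry TopologicalSpace Opposite

namespace Groth.Agent.Lib.Helper1.QcMono

open Groth.Agent.Lib.Helper3 Groth.Agent.Lib.Helper3.QCSec Groth.Agent.Lib.Helper3.QCExact

variable {X : Scheme.{u}} {M N : X.Modules} [M.IsQuasicoherent] [N.IsQuasicoherent]

/-- injective on an affine open implies injective on each of its basic opens -/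
theorem injective_basicOpen (φ : M ⟶ N) {U : X.Opens} (hU : IsAffineOpen U)
    (h : Function.Injective (φ.app U)) (g : Γ(X, U)) :
    Function.Injective (φ.app (X.basicOpen g)) := by
  have hDU : X.basicOpen g ≤ U := X.basicOpen_le g
  have hM := isLocSec_of_isQuasicoherent M hU g (X.basicOpen g) rfl hDU
  have hN := isLocSec_of_isQuasicoherent N hU g (X.basicOpen g) rfl hDU
  have hu : IsUnit (rres X hDU g) := RingedSpace.isUnit_res_basicOpen _ g
  rw [injective_iff_map_eq_zero]
  intro m hm
  obtain ⟨k, m', hm'⟩ := hM.surj m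
  have h1 : res N hDU (φ.app U m') = 0 := by
    rw [← app_res', hm', Scheme.Modules.Hom.app_smul, hm, smul_zero]
  obtain ⟨j, hj⟩ := hN.inj _ h1
  have h2 : g ^ j • m' = 0 := by
    apply h
    rw [Scheme.Modules.Hom.app_smul, hj, map_zero]
  have h3 : (rres X hDU g) ^ (j + k) • m = 0 := by
    rw [pow_add, mul_smul, ← hm', ← map_pow, ← res_smul, h2]
    exact map_zero (M.presheaf.map (homOfLE hDU).op).hom
  exact (hu.pow (j + k)).smul_eq_zero.mp h3

/-- a morphism of quasi-coherent modules which is injective on the sections over the members of an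
affine open cover is a monomorphism. -/
theorem mono_of_injective_on_affine_cover (φ : M ⟶ N)
    (h : ∀ x : X, ∃ U : X.Opens, IsAffineOpen U ∧ x ∈ U ∧ Function.Injective (φ.app U)) :
    Mono φ := by
  apply Groth.Agent.Lib.Helper17.PbFlat.mono_of_injective_on_basis
  intro W x hxW
  obtain ⟨U, hU, hxU, hinj⟩ := h x
  obtain ⟨g, hgW, hxg⟩ := hU.exists_basicOpen_le (V := W ⊓ U) ⟨x, ⟨hxW, hxU⟩⟩ hxU
  exact ⟨X.basicOpen g, hxg, hgW.trans inf_le_left, injective_basicOpen φ hU hinj g⟩

end Groth.Agent.Lib.Helper1.QcMono
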