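import Mathlib
import Groth.Agent.Lib.Helper1.ConormSeq
import Groth.Agent.Lib.Helper14.Conormal
import Groth.Agent.Lib.Helper1.DerExists
import Groth.Agent.Lib.Helper1.DerCompat
import Groth.Agent.Lib.Helper1.DerUnram
import Groth.Agent.Lib.Helper1.DerSmooth
import Groth.Agent.Lib.Helper17.PbStalk
import Groth.Agent.Lib.Helper1.QcMono

set_option autoImplicit false
set_option linter.style.haveILetI false
set_option linter.unusedSimpArgs false
universe u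
open CategoryTheory CategoryTheory.Limits AlgebraicGeometry TopologicalSpace Opposite

/-! Tools for maps of conormal sheaves: sections of `(pullback 𝟙).obj M`, good pairs of affine opens
for a composite immersion, sections of the ideal over arbitrary opens. -/

namespace Groth.Agent.Lib.Helper1.ConormMap

open Groth.Agent.Lib.Helper1.PbSect Groth.Agent.Lib.Helper3

section PullbackId

theorem pullbackId_hom_pullSect {Z : Scheme.{u}} (M : Z.Modules) (V : Z.Opens) (m : Γ(M, V)) :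
    ((Scheme.Modules.pullbackId Z).hom.app M).app V (OmegaSh.pullSect (𝟙 Z) M V m) = m := by
  have h := Scheme.Modules.conjugateEquiv_pullbackId_hom Z
  have h2 := congr(($h).app M)
  rw [conjugateEquiv_apply_app] at h2
  have h3 := congr(($h2).app V m)
  simp only [Adjunction.id_counit, Functor.rightUnitor_hom_app, Functor.id_obj,
    CategoryTheory.Functor.map_id, Category.comp_id] at h3
  exact h3

theorem pullbackId_inv_app {Z : Scheme.{u}} (M : Z.Modules) (V : Z.Opens) (m : Γ(M, V)) :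
    ((Scheme.Modules.pullbackId Z).inv.app M).app V m = OmegaSh.pullSect (𝟙 Z) M V m := by
  have h1 : ((Scheme.Modules.pullbackId Z).inv.app M).app V
      (((Scheme.Modules.pullbackId Z).hom.app M).app V (OmegaSh.pullSect (𝟙 Z) M V m)) =
      OmegaSh.pullSect (𝟙 Z) M V m := by
    have : (Scheme.Modules.pullbackId Z).hom.app M ≫ (Scheme.Modules.pullbackId Z).inv.app M =
      𝟙 _ := Iso.hom_inv_id_app _ _
    exact congr(($this).app V (OmegaSh.pullSect (𝟙 Z) M V m))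
  rw [pullbackId_hom_pullSect] at h1
  exact h1

end PullbackId

section Good

variable {Z X : Scheme.{u}} (i : Z ⟶ X)

theorem mem_coborderRange [IsImmersion i] (z : Z) : i z ∈ i.coborderRange := by
  have h1 : i z = i.coborderRange.ι (i.liftCoborder z) := by
    rw [← Scheme.Hom.comp_apply, Scheme.Hom.liftCoborder_ι]
  rw [h1]
  exact (i.liftCoborder z).2

theorem good_of_le_coborderRange [IsImmersion i] {U : X.Opens} (hU : IsAffineOpen U)
    (hUW : U ≤ i.coborderRange) :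
    IsAffineOpen (i ⁻¹ᵁ U) ∧ Function.Surjective (i.app U) := by
  have hU' : IsAffineOpen (i.coborderRange.ι ⁻¹ᵁ U) :=
    hU.preimage_of_isOpenImmersion _ (by rwa [Scheme.Opens.opensRange_ι])
  have him : i.coborderRange.ι ''ᵁ (i.coborderRange.ι ⁻¹ᵁ U) = U := by
    rw [Scheme.Hom.image_preimage_eq_opensRange_inf, Scheme.Opens.opensRange_ι]
    exact inf_eq_right.mpr hUW
  have hpre := i.liftCoborder_preimage (i.coborderRange.ι ⁻¹ᵁ U)
  rw [him] at hpre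
  refine ⟨?_, ?_⟩
  · rw [← hpre]
    exact hU'.preimage i.liftCoborder
  · have hs := i.liftCoborder.app_surjective _ hU'
    rw [liftCoborder_app] at hs
    have hs2 : Function.Surjective (i.app (i.coborderRange.ι ''ᵁ (i.coborderRange.ι ⁻¹ᵁ U))) := by
      intro y
      obtain ⟨x, hx⟩ := hs (Z.presheaf.map (eqToHom
        (i.liftCoborder_preimage (i.coborderRange.ι ⁻¹ᵁ U))).op y)
      refine ⟨x, ?_⟩
      have hinj : Function.Injective (Z.presheaf.map (eqToHom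
        (i.liftCoborder_preimage (i.coborderRange.ι ⁻¹ᵁ U))).op) :=
        ((ConcreteCategory.isIso_iff_bijective _).mp inferInstance).1
      exact hinj hx
    rw [him] at hs2
    exact hs2

end Good

section Pair

variable {Z X Y : Scheme.{u}} (i : Z ⟶ X)

theorem exists_good_pair [IsImmersion i] (p : X ⟶ Y) [IsImmersion (i ≫ p)] (z : Z) :
    ∃ (VY : Y.Opens) (U : X.Opens), IsAffineOpen VY ∧ IsAffineOpen U ∧ i z ∈ U ∧ U ≤ p ⁻¹ᵁ VY ∧
      U ≤ i.coborderRange ∧ VY ≤ (i ≫ p).coborderRange ∧ (i ≫ p) ⁻¹ᵁ VY ≤ i ⁻¹ᵁ U := by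
  obtain ⟨_, ⟨VY₀ : Y.Opens, hVY₀, rfl⟩, hzVY₀, hVY₀le⟩ :=
    Y.isBasis_affineOpens.exists_subset_of_mem_open
      (mem_coborderRange (i ≫ p) z) (i ≫ p).coborderRange.2
  have hzp : i z ∈ i.coborderRange ⊓ p ⁻¹ᵁ VY₀ := ⟨mem_coborderRange i z, hzVY₀⟩
  obtain ⟨_, ⟨U₀ : X.Opens, hU₀, rfl⟩, hzU₀, hU₀le⟩ :=
    X.isBasis_affineOpens.exists_subset_of_mem_open hzp (i.coborderRange ⊓ p ⁻¹ᵁ VY₀).2
  have hU₀c : U₀ ≤ i.coborderRange := fun y hy => (hU₀le hy).1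
  have hU₀p : U₀ ≤ p ⁻¹ᵁ VY₀ := fun y hy => (hU₀le hy).2
  obtain ⟨hW, hsurj⟩ := good_of_le_coborderRange (i ≫ p) hVY₀ hVY₀le
  have hzW : z ∈ (i ≫ p) ⁻¹ᵁ VY₀ := hzVY₀
  obtain ⟨a, ha1, ha2⟩ := hW.exists_basicOpen_le (V := i ⁻¹ᵁ U₀) ⟨z, hzU₀⟩ hzW
  obtain ⟨a', rfl⟩ := hsurj a
  have hpre : (i ≫ p) ⁻¹ᵁ (Y.basicOpen a') = Z.basicOpen ((i ≫ p).app VY₀ a') :=
    Scheme.preimage_basicOpen _ _
  set b := (p.appLE VY₀ U₀ hU₀p).hom a' with hb
  have hUeq : X.basicOpen b = U₀ ⊓ p ⁻¹ᵁ (Y.basicOpen a') := by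
    rw [hb, Scheme.Hom.appLE]
    change X.basicOpen (X.presheaf.map (homOfLE hU₀p).op (p.app VY₀ a')) = _
    rw [Scheme.basicOpen_res, Scheme.preimage_basicOpen]
  refine ⟨Y.basicOpen a', X.basicOpen b, hVY₀.basicOpen a', hU₀.basicOpen b, ?_, ?_, ?_, ?_, ?_⟩
  · rw [hUeq]
    refine ⟨hzU₀, ?_⟩
    have : z ∈ (i ≫ p) ⁻¹ᵁ (Y.basicOpen a') := by rw [hpre]; exact ha2
    exact this
  · rw [hUeq]; exact inf_le_right
  · exact (X.basicOpen_le b).trans hU₀c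
  · exact (Y.basicOpen_le a').trans hVY₀le
  · intro z' hz'
    have h1 : z' ∈ Z.basicOpen ((i ≫ p).app VY₀ a') := by rw [← hpre]; exact hz'
    have h2 : i z' ∈ U₀ := ha1 h1
    change i z' ∈ X.basicOpen b
    rw [hUeq]
    exact ⟨h2, hz'⟩

theorem subschemeι_app_eq_zero [QuasiCompact i] (W : X.Opens) (g : Γ(X, W))
    (hg : i.app W g = 0) : i.ker.subschemeι.app W g = 0 := by
  let T : Scheme.{u} := i.ker.subscheme
  let ι : T ⟶ X := i.ker.subschemeι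
  change ι.app W g = 0
  refine T.sheaf.eq_of_locally_eq'
    (fun U : {U : X.Opens // IsAffineOpen U ∧ U ≤ W} => ι ⁻¹ᵁ U.1) (ι ⁻¹ᵁ W)
    (fun U => homOfLE (ι.preimage_mono U.2.2)) ?_ _ _ ?_
  · intro x hx
    obtain ⟨_, ⟨U : X.Opens, hU, rfl⟩, hxU, hUW⟩ :=
      X.isBasis_affineOpens.exists_subset_of_mem_open (show ι x ∈ (W : Set X) from hx) W.2
    exact Opens.mem_iSup.mpr ⟨⟨U, hU, hUW⟩, hxU⟩
  · rintro ⟨U, hU, hUW⟩
    have h0 : (ConcreteCategory.hom (T.presheaf.map (homOfLE (ι.preimage_mono hUW)).op)) 0 = 0 :=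
      map_zero _
    refine Eq.trans ?_ h0.symm
    have h1 : T.presheaf.map (homOfLE (ι.preimage_mono hUW)).op (ι.app W g) =
        ι.app U (X.presheaf.map (homOfLE hUW).op g) := by
      have := ι.naturality (homOfLE hUW).op
      exact congr($this g).symm
    refine h1.trans ?_
    have h2 : i.app U (X.presheaf.map (homOfLE hUW).op g) = 0 := by
      have := i.naturality (homOfLE hUW).op
      have h3 := congr($this g)
      refine h3.trans ?_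
      change Z.presheaf.map _ (i.app W g) = 0
      rw [hg, map_zero]
    have h4 : X.presheaf.map (homOfLE hUW).op g ∈ RingHom.ker (i.app U).hom := h2
    rw [← Scheme.Hom.ker_apply i ⟨U, hU⟩, ← Scheme.IdealSheafData.ker_subschemeι_app i.ker ⟨U, hU⟩]
      at h4
    exact h4

theorem exists_val_eq_of_app_eq_zero' [QuasiCompact i] (W : X.Opens) (g : Γ(X, W))
    (hg : i.app W g = 0) : ∃ s : Γ(ClSub.idealMod i.ker, W), IdealMod.val i.ker s = g :=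
  IdealMod.exists_val_eq i.ker g (subschemeι_app_eq_zero i W g hg)

end Pair



section Ring

theorem mem_sq_of_algebraMap_mem_sq (A B C : Type u) [CommRing A] [CommRing B] [CommRing C]
    [Algebra A B] [Algebra B C] [Algebra A C] [IsScalarTower A B C] [Algebra.FormallySmooth A B]
    (hAC : Function.Surjective (algebraMap A C)) (a : A)
    (ha : algebraMap A B a ∈ RingHom.ker (algebraMap B C) ^ 2) :
    a ∈ RingHom.ker (algebraMap A C) ^ 2 := by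
  set I := RingHom.ker (algebraMap A C) with hI
  set J := RingHom.ker (algebraMap B C) with hJ
  let f : B →ₐ[A] C := IsScalarTower.toAlgHom A B C
  have hle : ∀ x ∈ I ^ 2, (Algebra.ofId A C) x = 0 := by
    intro x hx
    exact Ideal.pow_le_self two_ne_zero hx
  let g : A ⧸ I ^ 2 →ₐ[A] C := Ideal.Quotient.liftₐ (I ^ 2) (Algebra.ofId A C) hle
  have hg : Function.Surjective g := by
    intro c
    obtain ⟨x, rfl⟩ := hAC c
    exact ⟨Ideal.Quotient.mk _ x, rfl⟩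
  have hker : RingHom.ker (g : A ⧸ I ^ 2 →+* C) ^ 2 = ⊥ := by
    refine eq_bot_iff.mpr ?_
    refine (pow_two (RingHom.ker (g : A ⧸ I ^ 2 →+* C))).le.trans ?_
    refine Ideal.mul_le.mpr ?_
    intro x hx y hy
    obtain ⟨x, rfl⟩ := Ideal.Quotient.mk_surjective x
    obtain ⟨y, rfl⟩ := Ideal.Quotient.mk_surjective y
    have hx' : x ∈ I := hx
    have hy' : y ∈ I := hy
    rw [Ideal.mem_bot, ← map_mul, Ideal.Quotient.eq_zero_iff_mem, pow_two]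
    exact Ideal.mul_mem_mul hx' hy'
  let σ : B →ₐ[A] A ⧸ I ^ 2 := Algebra.FormallySmooth.liftOfSurjective f g hg ⟨2, hker⟩
  have hσ : ∀ b, g (σ b) = f b := Algebra.FormallySmooth.liftOfSurjective_apply f g hg ⟨2, hker⟩
  have h1 : ∀ b ∈ J, σ b ∈ RingHom.ker (g : A ⧸ I ^ 2 →+* C) := by
    intro b hb
    rw [RingHom.mem_ker]
    exact (hσ b).trans hb
  have h2 : ∀ b ∈ J ^ 2, σ b = 0 := by
    intro b hb
    rw [pow_two] at hb
    refine Submodule.mul_induction_on hb (fun x hx y hy => ?_) (fun x y hx hy => ?_)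
    · rw [map_mul]
      have h5 : σ x * σ y ∈ RingHom.ker (g : A ⧸ I ^ 2 →+* C) ^ 2 :=
        (pow_two (RingHom.ker (g : A ⧸ I ^ 2 →+* C))).ge (Ideal.mul_mem_mul (h1 x hx) (h1 y hy))
      exact (Ideal.mem_bot).mp (hker.le h5)
    · rw [map_add, hx, hy, add_zero]
  have h3 := h2 _ ha
  rw [AlgHom.commutes] at h3
  exact Ideal.Quotient.eq_zero_iff_mem.mp h3

end Ring

section Main

open TensorProduct

variable {Z X Y : Scheme.{u}} (p : X ⟶ Y) (i : Z ⟶ X)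
  {Ω : X.Modules} (d : OmegaSh.Der p Ω)
  (ψ : (Scheme.Modules.pullback (𝟙 Z)).obj (Omega.conormal (i ≫ p)) ⟶ Omega.conormal i)
  (hψ : OmegaSh.IsConormalMap i (i ≫ p) p (𝟙 Z) ψ)
  (φ : Omega.conormal i ⟶ (Scheme.Modules.pullback i).obj Ω) (hφ : OmegaSh.IsConormalDiff i d φ)

theorem map_refl {Z : Scheme.{u}} (M : Z.Modules) (V : Z.Opens) (y : Γ(M, V)) :
    M.presheaf.map (homOfLE (le_refl V)).op y = y := by
  have : (homOfLE (le_refl V)).op = 𝟙 (op V) := rfl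
  rw [this, CategoryTheory.Functor.map_id]
  rfl

theorem exists_pullback_ideal [QuasiCompact i] [QuasiCompact (i ≫ p)] (U' : Y.Opens) (hU' : IsAffineOpen U')
    (s' : Γ(ClSub.idealMod (i ≫ p).ker, U')) :
    ∃ s : Γ(ClSub.idealMod i.ker, p ⁻¹ᵁ U'),
      OmegaSh.idealSect i.ker (p ⁻¹ᵁ U') s = p.app U' (OmegaSh.idealSect (i ≫ p).ker U' s') := by
  apply exists_val_eq_of_app_eq_zero' i (p ⁻¹ᵁ U')
  have h := OmSect.app_val_eq_zero (i ≫ p) hU' s'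
  exact h

theorem val_zero {X : Scheme.{u}} (I : X.IdealSheafData) (W : X.Opens) :
    IdealMod.val I (0 : Γ(ClSub.idealMod I, W)) = 0 := by
  have h := IdealMod.val_add I (0 : Γ(ClSub.idealMod I, W)) 0
  rw [add_zero] at h
  exact left_eq_add.mp h

include hψ in
/-- classes of pulled back functions are in the image of `ψ` -/
theorem exists_preimage_of_mem_ker [IsImmersion i] [IsImmersion (i ≫ p)] [QuasiCompact i]
    [QuasiCompact (i ≫ p)]
    {VY : Y.Opens} {U : X.Opens} (hVY : IsAffineOpen VY) (hU : IsAffineOpen U)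
    (hUVY : U ≤ p ⁻¹ᵁ VY)
    (hle : (i ≫ p) ⁻¹ᵁ VY ≤ i ⁻¹ᵁ U) (a : Γ(Y, VY))
    (ha : (i.appLE U (i ⁻¹ᵁ U) le_rfl).hom ((p.appLE VY U hUVY).hom a) = 0) :
    ∃ (s₁ : Γ(ClSub.idealMod i.ker, U))
      (m' : Γ((Scheme.Modules.pullback (𝟙 Z)).obj (Omega.conormal (i ≫ p)), i ⁻¹ᵁ U)),
      IdealMod.val i.ker s₁ = (p.appLE VY U hUVY).hom a ∧
        ψ.app (i ⁻¹ᵁ U) m' = OmegaSh.conormalSect i U s₁ := by
  have hVle : i ⁻¹ᵁ U ≤ (i ≫ p) ⁻¹ᵁ VY := fun z hz => hUVY hz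
  have hja : (i ≫ p).app VY a = 0 := by
    have h1 : (i.appLE U (i ⁻¹ᵁ U) le_rfl).hom ((p.appLE VY U hUVY).hom a) =
        Z.presheaf.map (homOfLE hVle).op ((i ≫ p).app VY a) := by
      have := Scheme.Hom.appLE_comp_appLE i p VY U (i ⁻¹ᵁ U) hUVY le_rfl
      exact congr($this a)
    rw [h1] at ha
    have h2 := congrArg (Z.presheaf.map (homOfLE hle).op) ha
    rw [ConormSeq.rmap_map_any _ _ (𝟙 _), map_zero] at h2
    rw [← h2, CategoryTheory.Functor.map_id]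
    rfl
  obtain ⟨s', hs'⟩ := Conorm.exists_val_eq (i ≫ p) hVY a hja
  obtain ⟨s₀, hs₀⟩ := exists_pullback_ideal p i VY hVY s'
  refine ⟨QCSec.res _ hUVY s₀, QCSec.res _ (show i ⁻¹ᵁ U ≤ (𝟙 Z) ⁻¹ᵁ ((i ≫ p) ⁻¹ᵁ VY) from hVle)
    (OmegaSh.pullSect (𝟙 Z) (Omega.conormal (i ≫ p)) ((i ≫ p) ⁻¹ᵁ VY)
      (OmegaSh.conormalSect (i ≫ p) VY s')), ?_, ?_⟩
  · rw [IdealMod.val_res]
    rw [Conorm.idealSect_eq_val, Conorm.idealSect_eq_val, hs'] at hs₀
    rw [hs₀]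
    rfl
  · have h1 := hψ.2 VY s' s₀ hs₀ (i ⁻¹ᵁ U) hVle hVle
    rw [QCExact.app_res']
    refine h1.trans ?_
    have h2 := pullRes_res i (ClSub.idealMod i.ker) (le_refl (i ⁻¹ᵁ U)) hUVY (le_refl (i ⁻¹ᵁ U))
      hVle s₀
    refine h2.trans ?_
    rw [map_refl, Conorm.conormalSect_eq_pullRes]

include hψ hφ in
theorem exact_on_pair [IsImmersion i] [IsImmersion (i ≫ p)] [QuasiCompact i] [QuasiCompact (i ≫ p)]
    (hd : OmegaSh.IsUniversal d)
    {VY : Y.Opens} {U : X.Opens} (hVY : IsAffineOpen VY) (hU : IsAffineOpen U)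
    (hUVY : U ≤ p ⁻¹ᵁ VY) (hUc : U ≤ i.coborderRange) (hVYc : VY ≤ (i ≫ p).coborderRange)
    (hle : (i ≫ p) ⁻¹ᵁ VY ≤ i ⁻¹ᵁ U)
    (m : Γ(Omega.conormal i, i ⁻¹ᵁ U)) (hm : φ.app (i ⁻¹ᵁ U) m = 0) :
    ∃ m' : Γ((Scheme.Modules.pullback (𝟙 Z)).obj (Omega.conormal (i ≫ p)), i ⁻¹ᵁ U),
      ψ.app (i ⁻¹ᵁ U) m' = m := by
  obtain ⟨hV, hs⟩ := good_of_le_coborderRange i hU hUc
  obtain ⟨hVj, hsj⟩ := good_of_le_coborderRange (i ≫ p) hVY hVYc
  have hZ := DerExists.isUniversal_dsh (i ≫ p)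
  obtain ⟨c, hc, -⟩ := DerCompat.existsUnique_isDiffCompat p (i ≫ p) i (𝟙 Y)
    (by rw [Category.comp_id]) d (DerExists.dsh (i ≫ p)) hd
  have hVle : i ⁻¹ᵁ U ≤ (i ≫ p) ⁻¹ᵁ VY := fun z hz => hUVY hz
  letI alg₁ := (p.appLE VY U hUVY).hom.toAlgebra
  letI alg₃ := (i.appLE U (i ⁻¹ᵁ U) le_rfl).hom.toAlgebra
  letI alg₅ := ((i.appLE U (i ⁻¹ᵁ U) le_rfl).hom.comp (p.appLE VY U hUVY).hom).toAlgebra
  haveI t₁ : IsScalarTower Γ(Y, VY) Γ(X, U) Γ(Z, i ⁻¹ᵁ U) :=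
    IsScalarTower.of_algebraMap_eq fun _ => rfl
  obtain ⟨E, T, h1, h2, -, -, -⟩ :=
    OmSeq2.exists_equivs_tower p i d hd (DerExists.dsh (i ≫ p)) hZ c hc hVY hU hV le_rfl hUVY
  have halg : ∀ b : Γ(X, U), algebraMap Γ(X, U) Γ(Z, i ⁻¹ᵁ U) b = (i.app U).hom b := by
    intro b
    change (i.appLE U (i ⁻¹ᵁ U) le_rfl).hom b = _
    rw [Conorm.appLE_refl]
  have hkereq : RingHom.ker (algebraMap Γ(X, U) Γ(Z, i ⁻¹ᵁ U)) = RingHom.ker (i.app U).hom := by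
    ext b
    rw [RingHom.mem_ker, RingHom.mem_ker, halg]
  have hAC : Function.Surjective (algebraMap Γ(Y, VY) Γ(Z, i ⁻¹ᵁ U)) := by
    intro y
    obtain ⟨a, ha⟩ := hsj (Z.presheaf.map (homOfLE hle).op y)
    refine ⟨a, ?_⟩
    have h1 : algebraMap Γ(Y, VY) Γ(Z, i ⁻¹ᵁ U) a =
        Z.presheaf.map (homOfLE hVle).op ((i ≫ p).app VY a) := by
      have := Scheme.Hom.appLE_comp_appLE i p VY U (i ⁻¹ᵁ U) hUVY le_rfl
      exact congr($this a)
    rw [h1, ha, ConormSeq.rmap_map_any _ _ (𝟙 _), CategoryTheory.Functor.map_id]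
    rfl
  obtain ⟨s, rfl⟩ := Conorm.conormalSect_surjective i hU hV hs m
  rw [hφ U s, Conorm.idealSect_eq_val] at hm
  have h4 : (1 : Γ(Z, i ⁻¹ᵁ U)) ⊗ₜ[Γ(X, U)] KaehlerDifferential.D Γ(Y, VY) Γ(X, U)
      (IdealMod.val i.ker s) = 0 := by
    apply E.injective
    rw [h2, one_smul, ConormSeq.pullRes_refl, map_zero]
    exact hm
  have hker : IdealMod.val i.ker s ∈ RingHom.ker (algebraMap Γ(X, U) Γ(Z, i ⁻¹ᵁ U)) := by
    rw [hkereq]
    exact Conorm.val_mem_ker i hU s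
  have h5 := Groth.Agent.Lib.Helper14.mem_map_sup_sq_of_tmul_D_eq_zero Γ(Y, VY) Γ(X, U)
    Γ(Z, i ⁻¹ᵁ U) hAC _ hker h4
  obtain ⟨x₁, hx₁, x₂, hx₂, hx⟩ := Submodule.mem_sup.mp h5
  -- elements of the extended ideal
  have key : ∀ x ∈ (RingHom.ker (algebraMap Γ(Y, VY) Γ(Z, i ⁻¹ᵁ U))).map
      (algebraMap Γ(Y, VY) Γ(X, U)),
      ∃ (s₁ : Γ(ClSub.idealMod i.ker, U))
        (m' : Γ((Scheme.Modules.pullback (𝟙 Z)).obj (Omega.conormal (i ≫ p)), i ⁻¹ᵁ U)),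
        IdealMod.val i.ker s₁ = x ∧ ψ.app (i ⁻¹ᵁ U) m' = OmegaSh.conormalSect i U s₁ := by
    intro x hx
    refine Submodule.span_induction (p := fun x _ => ∃ (s₁ : Γ(ClSub.idealMod i.ker, U))
        (m' : Γ((Scheme.Modules.pullback (𝟙 Z)).obj (Omega.conormal (i ≫ p)), i ⁻¹ᵁ U)),
        IdealMod.val i.ker s₁ = x ∧ ψ.app (i ⁻¹ᵁ U) m' = OmegaSh.conormalSect i U s₁)
      ?_ ?_ ?_ ?_ hx
    · rintro _ ⟨a, ha, rfl⟩
      exact exists_preimage_of_mem_ker p i ψ hψ hVY hU hUVY hle a ha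
    · exact ⟨0, 0, val_zero _ _, by rw [map_zero, map_zero]⟩
    · rintro x y _ _ ⟨s₁, m₁, hs₁, hm₁⟩ ⟨s₂, m₂, hs₂, hm₂⟩
      exact ⟨s₁ + s₂, m₁ + m₂, by rw [IdealMod.val_add, hs₁, hs₂],
        by rw [map_add, map_add, hm₁, hm₂]⟩
    · rintro b x _ ⟨s₁, m₁, hs₁, hm₁⟩
      refine ⟨b • s₁, (i.app U).hom b • m₁, by rw [IdealMod.val_smul, hs₁]; rfl, ?_⟩
      rw [Scheme.Modules.Hom.app_smul, hm₁, Conorm.conormalSect_smul]
  obtain ⟨s₁, m', hs₁, hm'⟩ := key x₁ hx₁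
  rw [hkereq] at hx₂
  obtain ⟨s₂, hs₂⟩ := Conorm.exists_val_eq i hU x₂ (Ideal.pow_le_self two_ne_zero hx₂)
  have hs₂0 : OmegaSh.conormalSect i U s₂ = 0 :=
    (Conorm.conormalSect_eq_zero_iff i hU hV hs s₂).mpr (by rw [hs₂]; exact hx₂)
  have hsum : s = s₁ + s₂ := by
    apply IdealMod.val_injective i.ker U
    rw [IdealMod.val_add, hs₁, hs₂, hx]
  refine ⟨m', ?_⟩
  rw [hm', hsum, map_add, hs₂0, add_zero]

include hψ hφ in
theorem psi_phi_eq_zero [QuasiCompact i] [QuasiCompact (i ≫ p)] : ψ ≫ φ = 0 := by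
  have key : (Scheme.Modules.pullbackId Z).inv.app (Omega.conormal (i ≫ p)) ≫ ψ ≫ φ = 0 := by
    apply ModLocal.pullback_hom_ext (i ≫ p)
    intro U' hU' s'
    obtain ⟨s, hs⟩ := exists_pullback_ideal p i U' hU' s'
    have h1 := hψ.2 U' s' s hs ((i ≫ p) ⁻¹ᵁ U') le_rfl le_rfl
    have hid : (homOfLE (le_refl ((i ≫ p) ⁻¹ᵁ U'))).op = 𝟙 _ := rfl
    have h2 : ψ.app ((i ≫ p) ⁻¹ᵁ U') (OmegaSh.pullSect (𝟙 Z) (Omega.conormal (i ≫ p))
        ((i ≫ p) ⁻¹ᵁ U') (OmegaSh.conormalSect (i ≫ p) U' s')) =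
        OmegaSh.conormalSect i (p ⁻¹ᵁ U') s := by
      have e1 := map_refl (Omega.conormal i) ((i ≫ p) ⁻¹ᵁ U')
      exact (e1 _).symm.trans (h1.trans (e1 _))
    have h3 : (Scheme.Modules.pullbackId Z).inv.app (Omega.conormal (i ≫ p)) ≫ ψ ≫ φ =
        ((Scheme.Modules.pullbackId Z).inv.app (Omega.conormal (i ≫ p)) ≫ ψ) ≫ φ :=
      (Category.assoc _ _ _).symm
    have h4 : ((Scheme.Modules.pullbackId Z).inv.app (Omega.conormal (i ≫ p)) ≫ ψ ≫ φ).app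
        ((i ≫ p) ⁻¹ᵁ U') (OmegaSh.pullSect (i ≫ p) (ClSub.idealMod (i ≫ p).ker) U' s') =
        φ.app _ (ψ.app _ (((Scheme.Modules.pullbackId Z).inv.app (Omega.conormal (i ≫ p))).app
          ((i ≫ p) ⁻¹ᵁ U') (OmegaSh.conormalSect (i ≫ p) U' s'))) := rfl
    refine h4.trans ?_
    rw [pullbackId_inv_app]
    have h5 : φ.app (i ⁻¹ᵁ (p ⁻¹ᵁ U')) (OmegaSh.conormalSect i (p ⁻¹ᵁ U') s) = 0 := by
      rw [hφ, hs]
      have h6 : d.app (p ⁻¹ᵁ U') (p.app U' (OmegaSh.idealSect (i ≫ p).ker U' s')) = 0 :=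
        d.d_app (X := op U') _
      rw [h6, map_zero]
    rw [h2]
    exact h5
  have h : ψ ≫ φ = (Scheme.Modules.pullbackId Z).hom.app _ ≫
      (Scheme.Modules.pullbackId Z).inv.app _ ≫ ψ ≫ φ := by
    rw [Iso.hom_inv_id_app_assoc]
  rw [h, key, comp_zero]

include hφ in
theorem epi_conormalDiff [IsImmersion i] [FormallyUnramified (i ≫ p)] [QuasiCompact i]
    (hd : OmegaSh.IsUniversal d) : Epi φ := by
  have hZ := DerExists.isUniversal_dsh (i ≫ p)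
  obtain ⟨c, hc, -⟩ := DerCompat.existsUnique_isDiffCompat p (i ≫ p) i (𝟙 Y)
    (by rw [Category.comp_id]) d (DerExists.dsh (i ≫ p)) hd
  have hzero : IsZero (DerExists.Ωsh (i ≫ p)) :=
    (DerUnram.formallyUnramified_iff_isZero (i ≫ p) _ _ hZ).mp inferInstance
  haveI qX : Ω.IsQuasicoherent := DerSmooth.isQuasicoherent p d hd
  haveI qN : ((Scheme.Modules.pullback i).obj Ω).IsQuasicoherent :=
    Groth.Agent.Lib.Helper17.PbStalk.isQuasicoherent_pullback i Ω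
  apply QCExact.epi_of_surjective_on_affine_cover
  intro z
  obtain ⟨_, ⟨VS : Y.Opens, hVS, rfl⟩, hzVS, -⟩ := Y.isBasis_affineOpens.exists_subset_of_mem_open
    (Set.mem_univ (p (i z))) isOpen_univ
  obtain ⟨U, hU, hzU, hUle, hV, hs⟩ := Conorm.exists_good i z (p ⁻¹ᵁ VS) hzVS
  refine ⟨i ⁻¹ᵁ U, hV, hzU, fun y => ?_⟩
  haveI := (DerUnram.isZero_iff_forall_subsingleton _).mp hzero (i ⁻¹ᵁ U)
  exact ConormSeq.exact_on_good p i d hd _ hZ φ hφ c hc hU hV hs hVS hUle y (Subsingleton.elim _ _)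

include hψ in
theorem injective_on_pair [IsImmersion i] [IsImmersion (i ≫ p)] [QuasiCompact i]
    [QuasiCompact (i ≫ p)]
    {VY : Y.Opens} {U : X.Opens} (hVY : IsAffineOpen VY) (hU : IsAffineOpen U)
    (hUVY : U ≤ p ⁻¹ᵁ VY) (hUc : U ≤ i.coborderRange) (hVYc : VY ≤ (i ≫ p).coborderRange)
    (hle : (i ≫ p) ⁻¹ᵁ VY ≤ i ⁻¹ᵁ U) (hsm : (p.appLE VY U hUVY).hom.FormallySmooth) :
    Function.Injective (((Scheme.Modules.pullbackId Z).inv.app (Omega.conormal (i ≫ p)) ≫ ψ).app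
      ((i ≫ p) ⁻¹ᵁ VY)) := by
  obtain ⟨hV, hs⟩ := good_of_le_coborderRange i hU hUc
  obtain ⟨hVj, hsj⟩ := good_of_le_coborderRange (i ≫ p) hVY hVYc
  have hVle : i ⁻¹ᵁ U ≤ (i ≫ p) ⁻¹ᵁ VY := fun z hz => hUVY hz
  letI alg₁ := (p.appLE VY U hUVY).hom.toAlgebra
  letI alg₃ := (i.appLE U (i ⁻¹ᵁ U) le_rfl).hom.toAlgebra
  letI alg₅ := ((i.appLE U (i ⁻¹ᵁ U) le_rfl).hom.comp (p.appLE VY U hUVY).hom).toAlgebra
  haveI t₁ : IsScalarTower Γ(Y, VY) Γ(X, U) Γ(Z, i ⁻¹ᵁ U) :=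
    IsScalarTower.of_algebraMap_eq fun _ => rfl
  haveI : Algebra.FormallySmooth Γ(Y, VY) Γ(X, U) := hsm
  have halg : ∀ b : Γ(X, U), algebraMap Γ(X, U) Γ(Z, i ⁻¹ᵁ U) b = (i.app U).hom b := by
    intro b
    change (i.appLE U (i ⁻¹ᵁ U) le_rfl).hom b = _
    rw [Conorm.appLE_refl]
  have hkereq : RingHom.ker (algebraMap Γ(X, U) Γ(Z, i ⁻¹ᵁ U)) = RingHom.ker (i.app U).hom := by
    ext b
    rw [RingHom.mem_ker, RingHom.mem_ker, halg]
  have halgAC : ∀ a, algebraMap Γ(Y, VY) Γ(Z, i ⁻¹ᵁ U) a =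
      Z.presheaf.map (homOfLE hVle).op ((i ≫ p).app VY a) := by
    intro a
    have := Scheme.Hom.appLE_comp_appLE i p VY U (i ⁻¹ᵁ U) hUVY le_rfl
    exact congr($this a)
  have hresinj : ∀ y : Γ(Z, (i ≫ p) ⁻¹ᵁ VY), Z.presheaf.map (homOfLE hVle).op y = 0 → y = 0 := by
    intro y hy
    have h2 := congrArg (Z.presheaf.map (homOfLE hle).op) hy
    rw [ConormSeq.rmap_map_any _ _ (𝟙 _), map_zero, CategoryTheory.Functor.map_id] at h2
    exact h2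
  have hAC : Function.Surjective (algebraMap Γ(Y, VY) Γ(Z, i ⁻¹ᵁ U)) := by
    intro y
    obtain ⟨a, ha⟩ := hsj (Z.presheaf.map (homOfLE hle).op y)
    refine ⟨a, ?_⟩
    rw [halgAC, ha, ConormSeq.rmap_map_any _ _ (𝟙 _), CategoryTheory.Functor.map_id]
    rfl
  have hkerAC : RingHom.ker (algebraMap Γ(Y, VY) Γ(Z, i ⁻¹ᵁ U)) =
      RingHom.ker ((i ≫ p).app VY).hom := by
    ext a
    rw [RingHom.mem_ker, RingHom.mem_ker, halgAC]
    constructor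
    · intro h
      exact hresinj _ h
    · intro h
      rw [h, map_zero]
  rw [injective_iff_map_eq_zero]
  intro m hm
  obtain ⟨s', rfl⟩ := Conorm.conormalSect_surjective (i ≫ p) hVY hVj hsj m
  obtain ⟨s₀, hs₀⟩ := exists_pullback_ideal p i VY hVY s'
  have h1 := hψ.2 VY s' s₀ hs₀ ((i ≫ p) ⁻¹ᵁ VY) le_rfl le_rfl
  have e1 := map_refl (Omega.conormal i) ((i ≫ p) ⁻¹ᵁ VY)
  have h2 : OmegaSh.conormalSect i (p ⁻¹ᵁ VY) s₀ = 0 := by
    refine ((e1 _).symm.trans (h1.symm.trans (e1 _))).trans ?_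
    rw [← pullbackId_inv_app]
    exact hm
  have h3 : OmegaSh.conormalSect i U (QCSec.res _ hUVY s₀) = 0 := by
    have h := pullRes_res i (ClSub.idealMod i.ker) (le_refl (i ⁻¹ᵁ U)) hUVY (le_refl (i ⁻¹ᵁ U))
      hVle s₀
    rw [map_refl, ← Conorm.conormalSect_eq_pullRes] at h
    refine h.symm.trans ?_
    have h2' : OmegaSh.pullSect i (ClSub.idealMod i.ker) (p ⁻¹ᵁ VY) s₀ = 0 := h2
    rw [h2', map_zero]
    rfl
  have h4 := (Conorm.conormalSect_eq_zero_iff i hU hV hs _).mp h3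
  rw [IdealMod.val_res] at h4
  rw [Conorm.idealSect_eq_val, Conorm.idealSect_eq_val] at hs₀
  rw [hs₀, ← hkereq] at h4
  have h5 := mem_sq_of_algebraMap_mem_sq Γ(Y, VY) Γ(X, U) Γ(Z, i ⁻¹ᵁ U) hAC
    (IdealMod.val (i ≫ p).ker s') h4
  rw [hkerAC] at h5
  exact (Conorm.conormalSect_eq_zero_iff (i ≫ p) hVY hVj hsj s').mpr h5

include hψ in
theorem mono_conormalMap [Smooth p] [IsImmersion i] [IsImmersion (i ≫ p)] [QuasiCompact i]
    [QuasiCompact (i ≫ p)] : Mono ψ := by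
  haveI qC : (Omega.conormal i).IsQuasicoherent :=
    Groth.Agent.Lib.Helper17.PbStalk.isQuasicoherent_pullback i (ClSub.idealMod i.ker)
  haveI qC' : (Omega.conormal (i ≫ p)).IsQuasicoherent :=
    Groth.Agent.Lib.Helper17.PbStalk.isQuasicoherent_pullback (i ≫ p)
      (ClSub.idealMod (i ≫ p).ker)
  haveI qC'' : ((𝟭 Z.Modules).obj (Omega.conormal (i ≫ p))).IsQuasicoherent := qC'
  haveI h1 : Mono ((Scheme.Modules.pullbackId Z).inv.app (Omega.conormal (i ≫ p)) ≫ ψ) := by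
    apply QcMono.mono_of_injective_on_affine_cover
    intro z
    obtain ⟨VY, U, hVY, hU, hzU, hUVY, hUc, hVYc, hle⟩ := exists_good_pair i p z
    obtain ⟨hVj, -⟩ := good_of_le_coborderRange (i ≫ p) hVY hVYc
    refine ⟨(i ≫ p) ⁻¹ᵁ VY, hVj, hUVY hzU, ?_⟩
    refine injective_on_pair p i ψ hψ hVY hU hUVY hUc hVYc hle ?_
    have := HasRingHomProperty.appLE (P := @Smooth) p inferInstance ⟨VY, hVY⟩ ⟨U, hU⟩ hUVY
    exact this.formallySmooth
  have h2 : ψ = (Scheme.Modules.pullbackId Z).hom.app (Omega.conormal (i ≫ p)) ≫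
      (Scheme.Modules.pullbackId Z).inv.app (Omega.conormal (i ≫ p)) ≫ ψ := by
    rw [Iso.hom_inv_id_app_assoc]
  rw [h2]
  infer_instance

end Main

end Groth.Agent.Lib.Helper1.ConormMap
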