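import Mathlib
import Groth.Prelude.Def_Omega4
import Groth.Agent.Lib.Helper3.QCSec
set_option autoImplicit false
universe u
open CategoryTheory CategoryTheory.Limits AlgebraicGeometry TopologicalSpace Opposite
open Groth.Agent.Lib.Helper3

namespace Groth.Agent.Lib.Helper1.ModHomMk

variable {X : Scheme.{u}} (M N : X.Modules)
  (a : ∀ U : X.Opens, Γ(M, U) →+ Γ(N, U))
  (hres : ∀ (U V : X.Opens) (h : V ≤ U) (m : Γ(M, U)),
    a V (M.presheaf.map (homOfLE h).op m) = N.presheaf.map (homOfLE h).op (a U m))
  (hlin : ∀ (U : X.Opens) (r : Γ(X, U)) (m : Γ(M, U)), a U (r • m) = r • a U m)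

/-- a morphism of modules from sectionwise additive maps -/
noncomputable def mk : M ⟶ N :=
  ⟨PresheafOfModules.homMk
    { app := fun U => AddCommGrpCat.ofHom (a U.unop)
      naturality := fun U V i => by
        ext m
        have h : V.unop ≤ U.unop := leOfHom i.unop
        have hi : i = (homOfLE h).op := rfl
        subst hi
        exact hres U.unop V.unop h m }
    (fun U r m => hlin U.unop r m)⟩

theorem mk_app (U : X.Opens) (m : Γ(M, U)) : (mk M N a hres hlin).app U m = a U m := rfl

end Groth.Agent.Lib.Helper1.ModHomMk
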