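import Mathlib
import Groth.Agent.Lib.Helper1.ModHomMk
import Groth.Agent.Lib.Helper1.ConormMap
set_option autoImplicit false
set_option linter.style.haveILetI false
universe u
open CategoryTheory CategoryTheory.Limits AlgebraicGeometry TopologicalSpace Opposite
open Groth.Agent.Lib.Helper1.PbSect Groth.Agent.Lib.Helper3 Groth.Agent.Lib.Helper1.ConormMap
open Groth.Agent.Lib.Helper1

namespace Groth.Agent.Lib.Helper1.ConormDiff

variable {Z X Y : Scheme.{u}} (i : Z ⟶ X)

/-- functions in the ideal vanish on `Z` (no hypothesis on the open) -/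
theorem app_val_eq_zero' {W : X.Opens} (s : Γ(ClSub.idealMod i.ker, W)) :
    i.app W (IdealMod.val i.ker s) = 0 := by
  have h1 : i.ker.subschemeι.app W (IdealMod.val i.ker s) = 0 := IdealMod.app_val i.ker s
  have h2 : ∀ (k : Z ⟶ X) (hk : k = i), k.app W (IdealMod.val i.ker s) = 0 →
      i.app W (IdealMod.val i.ker s) = 0 := by
    intro k hk h
    subst hk
    exact h
  apply h2 (i.toImage ≫ i.imageι) i.toImage_imageι
  change (i.toImage.app _) (i.ker.subschemeι.app W (IdealMod.val i.ker s)) = 0
  rw [h1, map_zero]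

variable {f : X ⟶ Y} {Ω : X.Modules} (d : OmegaSh.Der f Ω)

/-- the map `I → i_* i^* Ω`, `s ↦ i^*(d s)` -/
noncomputable def nuD : ClSub.idealMod i.ker ⟶
    (Scheme.Modules.pushforward i).obj ((Scheme.Modules.pullback i).obj Ω) :=
  ModHomMk.mk _ _
    (fun U => ((OmegaSh.pullSect i Ω U).hom.comp (d.app U)).comp
      { toFun := IdealMod.val i.ker
        map_zero' := ConormMap.val_zero _ _
        map_add' := IdealMod.val_add i.ker })
    (by
      intro U V h s
      change OmegaSh.pullSect i Ω V (d.app V (IdealMod.val i.ker (QCSec.res _ h s))) =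
        ((Scheme.Modules.pullback i).obj Ω).presheaf.map (homOfLE (i.preimage_mono h)).op
          (OmegaSh.pullSect i Ω U (d.app U (IdealMod.val i.ker s)))
      rw [IdealMod.val_res, DerPb.app_map, OmegaSh.pullSect_map])
    (by
      intro U r s
      change OmegaSh.pullSect i Ω U (d.app U (IdealMod.val i.ker (r • s))) =
        (i.app U r) • OmegaSh.pullSect i Ω U (d.app U (IdealMod.val i.ker s))
      rw [IdealMod.val_smul, DerPb.app_mul, map_add, OmegaSh.pullSect_smul, OmegaSh.pullSect_smul,
        app_val_eq_zero', zero_smul, add_zero])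

theorem nuD_app (U : X.Opens) (s : Γ(ClSub.idealMod i.ker, U)) :
    (nuD i d).app U s = OmegaSh.pullSect i Ω U (d.app U (IdealMod.val i.ker s)) := rfl

/-- the conormal differential exists -/
theorem exists_isConormalDiff :
    ∃ φ : Omega.conormal i ⟶ (Scheme.Modules.pullback i).obj Ω, OmegaSh.IsConormalDiff i d φ := by
  let e := (Scheme.Modules.pullbackPushforwardAdjunction i).homEquiv (ClSub.idealMod i.ker)
    ((Scheme.Modules.pullback i).obj Ω)
  refine ⟨e.symm (nuD i d), ?_⟩
  intro U s
  have key : (e (e.symm (nuD i d))).app U s =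
      (e.symm (nuD i d)).app (i ⁻¹ᵁ U) (OmegaSh.pullSect i _ U s) := by
    change (((Scheme.Modules.pullbackPushforwardAdjunction i).homEquiv _ _) _).app U s = _
    rw [Adjunction.homEquiv_unit]
    rfl
  rw [Equiv.apply_symm_apply] at key
  exact key.symm.trans (nuD_app i d U s)

end Groth.Agent.Lib.Helper1.ConormDiff
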