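import Mathlib
import Groth.Agent.Lib.Helper1.ConormDiff

set_option autoImplicit false
set_option linter.style.haveILetI false
universe u
open CategoryTheory CategoryTheory.Limits AlgebraicGeometry TopologicalSpace Opposite
open Groth.Agent.Lib.Helper1.PbSect Groth.Agent.Lib.Helper3 Groth.Agent.Lib.Helper1.ConormMap
open Groth.Agent.Lib.Helper1

namespace Groth.Agent.Lib.Helper1.ConormSplit

variable {Z X Y : Scheme.{u}} (p : X ⟶ Y) (i : Z ⟶ X)
  (ψ : (Scheme.Modules.pullback (𝟙 Z)).obj (Omega.conormal (i ≫ p)) ⟶ Omega.conormal i)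
  (hψ : OmegaSh.IsConormalMap i (i ≫ p) p (𝟙 Z) ψ)
  {VY : Y.Opens} {U : X.Opens} (hUVY : U ≤ p ⁻¹ᵁ VY)

/-- the standard sections of `𝟙^* C_{Z/Y}` over `i⁻¹U` -/
noncomputable def std : Γ(ClSub.idealMod (i ≫ p).ker, VY) →+
    Γ((Scheme.Modules.pullback (𝟙 Z)).obj (Omega.conormal (i ≫ p)), i ⁻¹ᵁ U) :=
  ((((Scheme.Modules.pullback (𝟙 Z)).obj (Omega.conormal (i ≫ p))).presheaf.map
    (homOfLE (show i ⁻¹ᵁ U ≤ (𝟙 Z) ⁻¹ᵁ ((i ≫ p) ⁻¹ᵁ VY) from fun _ hz => hUVY hz)).op).hom.comp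
    (OmegaSh.pullSect (𝟙 Z) (Omega.conormal (i ≫ p)) ((i ≫ p) ⁻¹ᵁ VY)).hom).comp
    (OmegaSh.conormalSect (i ≫ p) VY).hom

theorem std_apply (s' : Γ(ClSub.idealMod (i ≫ p).ker, VY)) :
    std p i hUVY s' = QCSec.res _
      (show i ⁻¹ᵁ U ≤ (𝟙 Z) ⁻¹ᵁ ((i ≫ p) ⁻¹ᵁ VY) from fun _ hz => hUVY hz)
      (OmegaSh.pullSect (𝟙 Z) (Omega.conormal (i ≫ p)) ((i ≫ p) ⁻¹ᵁ VY)
        (OmegaSh.conormalSect (i ≫ p) VY s')) := rfl

include hψ in
theorem psi_std [QuasiCompact i] (s' : Γ(ClSub.idealMod (i ≫ p).ker, VY))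
    (s₁ : Γ(ClSub.idealMod i.ker, U))
    (hs₁ : IdealMod.val i.ker s₁ = (p.appLE VY U hUVY).hom (IdealMod.val (i ≫ p).ker s')) :
    ψ.app (i ⁻¹ᵁ U) (std p i hUVY s') = OmegaSh.conormalSect i U s₁ := by
  have hVle : i ⁻¹ᵁ U ≤ (i ≫ p) ⁻¹ᵁ VY := fun z hz => hUVY hz
  obtain ⟨s₀, hs₀⟩ := exists_val_eq_of_app_eq_zero' i (p ⁻¹ᵁ VY)
    (p.app VY (IdealMod.val (i ≫ p).ker s')) (ConormDiff.app_val_eq_zero' (i ≫ p) s')
  have h1 := hψ.2 VY s' s₀ hs₀ (i ⁻¹ᵁ U) hVle hVle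
  rw [std_apply, QCExact.app_res']
  refine h1.trans ?_
  have h2 := pullRes_res i (ClSub.idealMod i.ker) (le_refl (i ⁻¹ᵁ U)) hUVY (le_refl (i ⁻¹ᵁ U))
    hVle s₀
  refine h2.trans ?_
  rw [map_refl, ← Conorm.conormalSect_eq_pullRes]
  congr 1
  apply IdealMod.val_injective i.ker
  rw [IdealMod.val_res, hs₀, hs₁]
  rfl

theorem std_smul (a : Γ(Y, VY)) (s' : Γ(ClSub.idealMod (i ≫ p).ker, VY)) :
    std p i hUVY (a • s') =
      (Z.presheaf.map (homOfLE (show i ⁻¹ᵁ U ≤ (i ≫ p) ⁻¹ᵁ VY from fun _ hz => hUVY hz)).op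
        ((i ≫ p).app VY a)) • std p i hUVY s' := by
  rw [std_apply, std_apply, Conorm.conormalSect_smul, OmegaSh.pullSect_smul, QCSec.res_smul]
  rfl

section Closed

variable [IsClosedImmersion i] [IsClosedImmersion (i ≫ p)] (hVY : IsAffineOpen VY)
  (hU : IsAffineOpen U) (hle : (i ≫ p) ⁻¹ᵁ VY ≤ i ⁻¹ᵁ U)

include hVY hle in
theorem std_surjective : Function.Surjective (std p i hUVY) := by
  have hVle : i ⁻¹ᵁ U ≤ (i ≫ p) ⁻¹ᵁ VY := fun z hz => hUVY hz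
  have hVj : IsAffineOpen ((i ≫ p) ⁻¹ᵁ VY) := hVY.preimage (i ≫ p)
  have hsj : Function.Surjective ((i ≫ p).app VY) := (i ≫ p).app_surjective VY hVY
  intro y
  -- `y = pullSect 𝟙 y₀`
  set y₀ := ((Scheme.Modules.pullbackId Z).hom.app (Omega.conormal (i ≫ p))).app (i ⁻¹ᵁ U) y
    with hy₀
  have hy : OmegaSh.pullSect (𝟙 Z) (Omega.conormal (i ≫ p)) (i ⁻¹ᵁ U) y₀ = y := by
    rw [← pullbackId_inv_app, hy₀]
    change ((Scheme.Modules.pullbackId Z).hom.app (Omega.conormal (i ≫ p)) ≫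
      (Scheme.Modules.pullbackId Z).inv.app (Omega.conormal (i ≫ p))).app (i ⁻¹ᵁ U) y = y
    rw [Iso.hom_inv_id_app]
    rfl
  obtain ⟨s', hs'⟩ := Conorm.conormalSect_surjective (i ≫ p) hVY hVj hsj
    (QCSec.res (Omega.conormal (i ≫ p)) hle y₀)
  refine ⟨s', ?_⟩
  rw [std_apply, hs']
  have h1 := OmegaSh.pullSect_map (𝟙 Z) (Omega.conormal (i ≫ p)) hVle
    (QCSec.res (Omega.conormal (i ≫ p)) hle y₀)
  refine h1.symm.trans ?_
  rw [← hy]
  congr 1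
  exact (QCSec.res_res _ _ _ _).trans (QCSec.res_self _ _ _)

variable (hker : i.ker * i.ker = ⊥)

include hU hker in
theorem conormalSect_bijective : Function.Bijective (OmegaSh.conormalSect i U) := by
  have hV : IsAffineOpen (i ⁻¹ᵁ U) := hU.preimage i
  have hs : Function.Surjective (i.app U) := i.app_surjective U hU
  refine ⟨?_, Conorm.conormalSect_surjective i hU hV hs⟩
  rw [injective_iff_map_eq_zero]
  intro s h0
  have h1 := (Conorm.conormalSect_eq_zero_iff i hU hV hs s).mp h0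
  have h2 : RingHom.ker (i.app U).hom ^ 2 = ⊥ := by
    rw [← Scheme.Hom.ker_apply i ⟨U, hU⟩, pow_two]
    have h3 : (i.ker * i.ker).ideal ⟨U, hU⟩ = i.ker.ideal ⟨U, hU⟩ * i.ker.ideal ⟨U, hU⟩ := rfl
    rw [← h3, hker]; rfl
  rw [h2, Ideal.mem_bot] at h1
  apply IdealMod.val_injective i.ker U
  rw [h1, val_zero]

variable (τ : Γ(X, U) →+* Γ(Y, VY))
  (hτ1 : ∀ y, τ ((p.appLE VY U hUVY).hom y) = y)
  (hτ2 : ∀ c', Z.presheaf.map
    (homOfLE (show i ⁻¹ᵁ U ≤ (i ≫ p) ⁻¹ᵁ VY from fun _ hz => hUVY hz)).op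
      ((i ≫ p).app VY (τ c')) = i.app U c')

include hVY hU hle hτ2 in
theorem app_tau_val_eq_zero (s : Γ(ClSub.idealMod i.ker, U)) :
    (i ≫ p).app VY (τ (IdealMod.val i.ker s)) = 0 := by
  have h1 := hτ2 (IdealMod.val i.ker s)
  rw [Conorm.val_mem_ker i hU s] at h1
  have h2 := congrArg (Z.presheaf.map (homOfLE hle).op) h1
  rw [ConormSeq.rmap_map_any _ _ (𝟙 _), map_zero, CategoryTheory.Functor.map_id] at h2
  exact h2

/-- the lift of a section of the ideal of `i` along `τ` -/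
noncomputable def Lfun (s : Γ(ClSub.idealMod i.ker, U)) : Γ(ClSub.idealMod (i ≫ p).ker, VY) :=
  (Conorm.exists_val_eq (i ≫ p) hVY (τ (IdealMod.val i.ker s))
    (app_tau_val_eq_zero p i hUVY hVY hU hle τ hτ2 s)).choose

theorem val_Lfun (s : Γ(ClSub.idealMod i.ker, U)) :
    IdealMod.val (i ≫ p).ker (Lfun p i hUVY hVY hU hle τ hτ2 s) = τ (IdealMod.val i.ker s) :=
  (Conorm.exists_val_eq (i ≫ p) hVY (τ (IdealMod.val i.ker s))
    (app_tau_val_eq_zero p i hUVY hVY hU hle τ hτ2 s)).choose_spec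

include hψ hτ1 hker hVY hU hle hτ2 in
/-- a linear retraction of `ψ` on the sections over `i⁻¹U` -/
theorem exists_retraction :
    ∃ ρ : Γ(Omega.conormal i, i ⁻¹ᵁ U) →+
        Γ((Scheme.Modules.pullback (𝟙 Z)).obj (Omega.conormal (i ≫ p)), i ⁻¹ᵁ U),
      (∀ (c : Γ(Z, i ⁻¹ᵁ U)) y, ρ (c • y) = c • ρ y) ∧ ∀ x, ρ (ψ.app (i ⁻¹ᵁ U) x) = x := by
  have hbij := conormalSect_bijective i hU hker
  let EU : Γ(ClSub.idealMod i.ker, U) ≃+ Γ(Omega.conormal i, i ⁻¹ᵁ U) :=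
    AddEquiv.ofBijective (OmegaSh.conormalSect i U).hom hbij
  have hEU : ∀ s, EU s = OmegaSh.conormalSect i U s := fun s => rfl
  let L : Γ(ClSub.idealMod i.ker, U) →+ Γ(ClSub.idealMod (i ≫ p).ker, VY) :=
    { toFun := Lfun p i hUVY hVY hU hle τ hτ2
      map_zero' := by
        apply IdealMod.val_injective (i ≫ p).ker
        rw [val_Lfun, val_zero, val_zero, map_zero]
      map_add' := fun s₁ s₂ => by
        apply IdealMod.val_injective (i ≫ p).ker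
        rw [val_Lfun, IdealMod.val_add, IdealMod.val_add, val_Lfun, val_Lfun, map_add] }
  have hL : ∀ s, IdealMod.val (i ≫ p).ker (L s) = τ (IdealMod.val i.ker s) :=
    fun s => val_Lfun p i hUVY hVY hU hle τ hτ2 s
  refine ⟨((std p i hUVY).comp L).comp EU.symm.toAddMonoidHom, ?_, ?_⟩
  · intro c y
    obtain ⟨s, rfl⟩ := EU.surjective y
    obtain ⟨c', rfl⟩ := i.app_surjective U hU c
    have h1 : (i.app U c') • EU s = EU (c' • s) := by
      rw [hEU, hEU, Conorm.conormalSect_smul]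
    change std p i hUVY (L (EU.symm ((i.app U c') • EU s))) =
      (i.app U c') • std p i hUVY (L (EU.symm (EU s)))
    rw [h1, EU.symm_apply_apply, EU.symm_apply_apply]
    have h2 : L (c' • s) = τ c' • L s := by
      apply IdealMod.val_injective (i ≫ p).ker
      rw [hL, IdealMod.val_smul, IdealMod.val_smul, hL, map_mul]
    rw [h2, std_smul, hτ2]
  · intro x
    obtain ⟨s', rfl⟩ := std_surjective p i hUVY hVY hle x
    obtain ⟨s₁, hs₁⟩ := Conorm.exists_val_eq i hU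
      ((p.appLE VY U hUVY).hom (IdealMod.val (i ≫ p).ker s')) (by
        rw [RingHom.mem_ker]
        have h1 : (i.app U).hom ((p.appLE VY U hUVY).hom (IdealMod.val (i ≫ p).ker s')) =
            Z.presheaf.map (homOfLE (show i ⁻¹ᵁ U ≤ (i ≫ p) ⁻¹ᵁ VY from fun _ hz => hUVY hz)).op
              ((i ≫ p).app VY (IdealMod.val (i ≫ p).ker s')) := by
          have := Scheme.Hom.appLE_comp_appLE i p VY U (i ⁻¹ᵁ U) hUVY le_rfl
          rw [Conorm.appLE_refl] at this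
          exact congr($this (IdealMod.val (i ≫ p).ker s'))
        rw [h1, ConormDiff.app_val_eq_zero' (i ≫ p) s', map_zero])
    rw [psi_std p i ψ hψ hUVY s' s₁ hs₁]
    change std p i hUVY (L (EU.symm (EU s₁))) = _
    rw [EU.symm_apply_apply]
    congr 1
    apply IdealMod.val_injective (i ≫ p).ker
    rw [hL, hs₁, hτ1]

end Closed

end Groth.Agent.Lib.Helper1.ConormSplit
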