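import Mathlib

set_option autoImplicit false
set_option linter.style.haveILetI false
universe u

namespace Groth.Agent.Lib.Helper1.RingTau

theorem exists_tau {R A C C' C'' : Type u} [CommRing R] [CommRing A] [CommRing C] [CommRing C']
    [CommRing C'']
    (f : R →+* A) (hf : f.FormallySmooth)
    (α : A →+* C') (π' : C' →+* C) (β : R →+* C'') (π'' : C'' →+* C) (κ : C'' →+* C')
    (hκπ : π'.comp κ = π'') (hκβ : κ.comp β = α.comp f)
    (hs : Function.Surjective π'') (hk : RingHom.ker π'' ^ 2 = ⊥)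
    (hC' : ∀ β' : A →+* C'', π''.comp β' = π'.comp α →
      ∃ τ : C' →+* C'', π''.comp τ = π' ∧ τ.comp α = β')
    (hC'' : ∀ τ₁ τ₂ : C'' →+* C'', π''.comp τ₁ = π'' → π''.comp τ₂ = π'' → τ₁.comp β = β →
      τ₂.comp β = β → τ₁ = τ₂) :
    ∃ τ : C' →+* C'', τ.comp κ = RingHom.id C'' ∧ π''.comp τ = π' := by
  letI := f.toAlgebra
  haveI : Algebra.FormallySmooth R A := hf
  letI : Algebra R C'' := β.toAlgebra
  letI : Algebra R C := (π''.comp β).toAlgebra
  let g : C'' →ₐ[R] C := { π'' with commutes' := fun r => rfl }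
  let fA : A →ₐ[R] C :=
    { π'.comp α with
      commutes' := fun r => by
        change π' (α (f r)) = π'' (β r)
        rw [← hκπ]
        exact congrArg π' (congrArg (fun h => h r) hκβ).symm }
  have hg : Function.Surjective g := hs
  have hg' : IsNilpotent (RingHom.ker (g : C'' →+* C)) := ⟨2, hk⟩
  let lam : A →ₐ[R] C'' := Algebra.FormallySmooth.liftOfSurjective fA g hg hg'
  have hlam : ∀ x, π'' (lam x) = π' (α x) := fun x =>
    Algebra.FormallySmooth.liftOfSurjective_apply fA g hg hg' x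
  obtain ⟨τ, hτ1, hτ2⟩ := hC' lam.toRingHom (by ext x; exact hlam x)
  refine ⟨τ, ?_, hτ1⟩
  apply hC'' (τ.comp κ) (RingHom.id C'')
  · rw [← RingHom.comp_assoc, hτ1, hκπ]
  · rfl
  · rw [RingHom.comp_assoc, hκβ, ← RingHom.comp_assoc, hτ2]
    ext r
    exact lam.commutes r
  · rfl

end Groth.Agent.Lib.Helper1.RingTau
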