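import Mathlib
import Groth.Prelude.Def_MoreMor
import Groth.Prelude.Def_Omega3
import Groth.Agent.Lib.Helper15.Thickening

/-! helper1: basic lemmas on universal first order thickenings -/

set_option autoImplicit false
set_option linter.style.haveILetI false
universe u
open CategoryTheory CategoryTheory.Limits AlgebraicGeometry

namespace Groth.Agent.Lib.Helper1.UT

variable {Z Z' X T T' : Scheme.{u}}

/-- unique lifting property of `(i, h')` against the test datum `(j, b, a)` -/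
def HasUniqueLift (i : Z ⟶ Z') (h' : Z' ⟶ X) (j : T ⟶ T') (b : T' ⟶ X) (a : T ⟶ Z) : Prop :=
  ∃! a' : T' ⟶ Z', j ≫ a' = a ≫ i ∧ a' ≫ h' = b

theorem isUnivThickening_iff {h : Z ⟶ X} {i : Z ⟶ Z'} {h' : Z' ⟶ X} :
    OmegaSh.IsUnivThickening h i h' ↔ MoreMor.IsFirstOrderThickening i ∧ i ≫ h' = h ∧
      ∀ (T T' : Scheme.{u}) (j : T ⟶ T') (b : T' ⟶ X) (a : T ⟶ Z),
        MoreMor.IsFirstOrderThickening j → j ≫ b = a ≫ h → HasUniqueLift i h' j b a := Iff.rfl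

/-- first order thickenings are invariant under isomorphisms of arrows -/
theorem isFirstOrderThickening_of_iso {T₁ T₁' : Scheme.{u}} {j : T ⟶ T'} {j₁ : T₁ ⟶ T₁'}
    (eT : T₁ ≅ T) (eT' : T₁' ≅ T') (w : j₁ ≫ eT'.hom = eT.hom ≫ j)
    (hj : MoreMor.IsFirstOrderThickening j) : MoreMor.IsFirstOrderThickening j₁ :=
  Groth.Agent.Lib.Helper15.isFirstOrderThickening_of_isPullback
    (IsPullback.of_vert_isIso ⟨w⟩) hj

theorem isFirstOrderThickening_morphismRestrict {j : T ⟶ T'} (hj : MoreMor.IsFirstOrderThickening j)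
    (W' : T'.Opens) : MoreMor.IsFirstOrderThickening (j ∣_ W') :=
  Groth.Agent.Lib.Helper15.isFirstOrderThickening_of_isPullback
    (isPullback_morphismRestrict j W') hj

/-- transport of the unique lifting property along an isomorphism of test data -/
theorem hasUniqueLift_of_iso {T₁ T₁' : Scheme.{u}} {i : Z ⟶ Z'} {h' : Z' ⟶ X}
    {j : T ⟶ T'} {b : T' ⟶ X} {a : T ⟶ Z} {j₁ : T₁ ⟶ T₁'}
    (eT : T₁ ≅ T) (eT' : T₁' ≅ T') (w : j₁ ≫ eT'.hom = eT.hom ≫ j)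
    (H : HasUniqueLift i h' j₁ (eT'.hom ≫ b) (eT.hom ≫ a)) : HasUniqueLift i h' j b a := by
  obtain ⟨a₁, ⟨h1, h2⟩, huniq⟩ := H
  refine ⟨eT'.inv ≫ a₁, ⟨?_, ?_⟩, ?_⟩
  · have : j ≫ eT'.inv = eT.inv ≫ j₁ := by
      rw [Iso.eq_inv_comp, ← Category.assoc, ← w, Category.assoc, Iso.hom_inv_id, Category.comp_id]
    rw [← Category.assoc, this, Category.assoc, h1, Category.assoc, Iso.inv_hom_id_assoc]
  · rw [Category.assoc, h2, Iso.inv_hom_id_assoc]
  · rintro a'' ⟨h1'', h2''⟩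
    rw [Iso.eq_inv_comp]
    apply huniq
    refine ⟨?_, ?_⟩
    · rw [← Category.assoc, w, Category.assoc, h1'', Category.assoc]
    · rw [Category.assoc, h2'']

/-- a universal thickening transported along an isomorphism of the source -/
theorem isUnivThickening_of_iso_source {Z₁ : Scheme.{u}} {h : Z ⟶ X} {i : Z ⟶ Z'} {h' : Z' ⟶ X}
    (e : Z₁ ≅ Z) (hu : OmegaSh.IsUnivThickening h i h') :
    OmegaSh.IsUnivThickening (e.hom ≫ h) (e.hom ≫ i) h' := by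
  obtain ⟨hi, hih, huniv⟩ := hu
  refine ⟨isFirstOrderThickening_of_iso e (Iso.refl _) (by simp) hi, by rw [Category.assoc, hih], ?_⟩
  intro T T' j b a hj hba
  obtain ⟨a', ⟨h1, h2⟩, huniq⟩ := huniv T T' j b (a ≫ e.hom) hj (by rw [hba, Category.assoc])
  refine ⟨a', ⟨by rw [h1, Category.assoc], h2⟩, ?_⟩
  rintro a'' ⟨h1'', h2''⟩
  exact huniq a'' ⟨by rw [h1'', Category.assoc], h2''⟩

/-- restriction of a universal thickening to an open of the thickening -/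
theorem isUnivThickening_restrict {h : Z ⟶ X} {i : Z ⟶ Z'} {h' : Z' ⟶ X}
    (hu : OmegaSh.IsUnivThickening h i h') (W' : Z'.Opens) :
    OmegaSh.IsUnivThickening ((i ⁻¹ᵁ W').ι ≫ h) (i ∣_ W') (W'.ι ≫ h') := by
  obtain ⟨hi, hih, huniv⟩ := hu
  refine ⟨isFirstOrderThickening_morphismRestrict hi W', ?_, ?_⟩
  · rw [← Category.assoc, morphismRestrict_ι, Category.assoc, hih]
  · intro T T' j b a hj hba
    obtain ⟨a₀, ⟨h1, h2⟩, huniq⟩ := huniv T T' j b (a ≫ (i ⁻¹ᵁ W').ι) hj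
      (by rw [hba, Category.assoc])
    have hrange : Set.range a₀.base ⊆ Set.range W'.ι.base := by
      rintro _ ⟨t', rfl⟩
      obtain ⟨t, rfl⟩ := hj.1.2.surj t'
      have e1 : a₀.base (j.base t) = i.base ((i ⁻¹ᵁ W').ι.base (a.base t)) := by
        have := congrArg (fun g => g.base t) h1
        simpa using this
      rw [e1, Scheme.Opens.range_ι]
      exact (a.base t).2
    refine ⟨IsOpenImmersion.lift W'.ι a₀ hrange, ⟨?_, ?_⟩, ?_⟩
    · rw [← cancel_mono W'.ι, Category.assoc, IsOpenImmersion.lift_fac, h1, Category.assoc,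
        Category.assoc, morphismRestrict_ι]
    · rw [← Category.assoc, IsOpenImmersion.lift_fac, h2]
    · rintro a'' ⟨ha1, ha2⟩
      rw [← cancel_mono W'.ι, IsOpenImmersion.lift_fac]
      apply huniq
      refine ⟨?_, ?_⟩
      · rw [← Category.assoc, ha1, Category.assoc, morphismRestrict_ι, Category.assoc]
      · rw [Category.assoc, ha2]

/-- two universal thickenings of the same morphism are uniquely isomorphic -/
theorem exists_iso_of_isUnivThickening {Z'' : Scheme.{u}} {h : Z ⟶ X} {i₁ : Z ⟶ Z'} {h₁ : Z' ⟶ X}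
    {i₂ : Z ⟶ Z''} {h₂ : Z'' ⟶ X}
    (hu₁ : OmegaSh.IsUnivThickening h i₁ h₁) (hu₂ : OmegaSh.IsUnivThickening h i₂ h₂) :
    ∃ e : Z' ≅ Z'', i₁ ≫ e.hom = i₂ ∧ e.hom ≫ h₂ = h₁ := by
  obtain ⟨f, ⟨hf1, hf2⟩, -⟩ := hu₂.2.2 Z Z' i₁ h₁ (𝟙 Z) hu₁.1 (by rw [hu₁.2.1, Category.id_comp])
  obtain ⟨g, ⟨hg1, hg2⟩, -⟩ := hu₁.2.2 Z Z'' i₂ h₂ (𝟙 Z) hu₂.1 (by rw [hu₂.2.1, Category.id_comp])
  rw [Category.id_comp] at hf1 hg1
  have hfg : f ≫ g = 𝟙 Z' := by
    obtain ⟨_, -, huniq⟩ := hu₁.2.2 Z Z' i₁ h₁ (𝟙 Z) hu₁.1 (by rw [hu₁.2.1, Category.id_comp])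
    rw [huniq (f ≫ g) ⟨by rw [← Category.assoc, hf1, hg1, Category.id_comp],
      by rw [Category.assoc, hg2, hf2]⟩, huniq (𝟙 Z') ⟨by simp, by simp⟩]
  have hgf : g ≫ f = 𝟙 Z'' := by
    obtain ⟨_, -, huniq⟩ := hu₂.2.2 Z Z'' i₂ h₂ (𝟙 Z) hu₂.1 (by rw [hu₂.2.1, Category.id_comp])
    rw [huniq (g ≫ f) ⟨by rw [← Category.assoc, hg1, hf1, Category.id_comp],
      by rw [Category.assoc, hf2, hg2]⟩, huniq (𝟙 Z'') ⟨by simp, by simp⟩]
  exact ⟨⟨f, g, hfg, hgf⟩, hf1, hf2⟩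

/-- being a first order thickening is local on the target -/
theorem isFirstOrderThickening_of_openCover {Z Z' : Scheme.{u}} (i : Z ⟶ Z') (𝒰 : Z'.OpenCover)
    (H : ∀ k, ∃ (W : Scheme.{u}) (iW : W ⟶ 𝒰.X k) (g : W ⟶ Z),
      IsPullback iW g (𝒰.f k) i ∧ MoreMor.IsFirstOrderThickening iW) :
    MoreMor.IsFirstOrderThickening i := by
  have hci : IsClosedImmersion i := by
    apply IsZariskiLocalAtTarget.of_openCover (P := @IsClosedImmersion) 𝒰
    intro k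
    obtain ⟨W, iW, g, hpb, hiW⟩ := H k
    change IsClosedImmersion (pullback.snd i (𝒰.f k))
    have : pullback.snd i (𝒰.f k) = hpb.flip.isoPullback.inv ≫ iW := by
      rw [Iso.eq_inv_comp]
      exact hpb.flip.isoPullback_hom_snd
    rw [this]
    exact (MorphismProperty.cancel_left_of_respectsIso @IsClosedImmersion _ iW).mpr hiW.1.1
  refine ⟨⟨hci, ⟨fun x => ?_⟩⟩, ?_⟩
  · obtain ⟨y, hy⟩ := 𝒰.covers x
    obtain ⟨W, iW, g, hpb, hiW⟩ := H (𝒰.idx x)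
    obtain ⟨w, rfl⟩ := hiW.1.2.surj y
    refine ⟨g.base w, ?_⟩
    rw [← hy]
    have := congrArg (fun f => f.base w) hpb.w
    exact this.symm
  · rw [eq_bot_iff]
    refine Scheme.IdealSheafData.le_of_iSup_eq_top
      (ι := Σ k : 𝒰.I₀, (𝒰.X k).affineOpens)
      (fun p => ⟨(𝒰.f p.1) ''ᵁ p.2.1, p.2.2.image_of_isOpenImmersion _⟩) ?_ ?_
    · rw [eq_top_iff]
      rintro x -
      obtain ⟨y, hy⟩ := 𝒰.covers x
      obtain ⟨_, ⟨(V : (𝒰.X (𝒰.idx x)).Opens), hV : IsAffineOpen V, rfl⟩, hyV, -⟩ :=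
        (𝒰.X (𝒰.idx x)).isBasis_affineOpens.exists_subset_of_mem_open (Set.mem_univ y) isOpen_univ
      exact TopologicalSpace.Opens.mem_iSup.mpr ⟨⟨𝒰.idx x, ⟨V, hV⟩⟩, ⟨y, hyV, hy⟩⟩
    · rintro ⟨k, ⟨W₀, hW₀⟩⟩
      obtain ⟨W, iW, g, hpb, hiW⟩ := H k
      haveI := hiW.1.1
      set O : Z'.Opens := (𝒰.f k) ''ᵁ W₀ with hO
      have hOaff : IsAffineOpen O := hW₀.image_of_isOpenImmersion _
      change (i.ker * i.ker).ideal ⟨O, hOaff⟩ ≤ (⊥ : Z'.IdealSheafData).ideal ⟨O, hOaff⟩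
      rw [Scheme.IdealSheafData.ideal_mul, Pi.mul_apply, Scheme.IdealSheafData.ideal_bot,
        Pi.bot_apply, Scheme.Hom.ker_apply, Ideal.mul_le]
      intro x hx y hy
      rw [Ideal.mem_bot]
      have hpre : (𝒰.f k) ⁻¹ᵁ O = W₀ := (𝒰.f k).preimage_image_eq W₀
      have hOle : O ≤ (𝒰.f k).opensRange := (𝒰.f k).image_le_opensRange W₀
      haveI : IsIso ((𝒰.f k).app O) := Scheme.Hom.isIso_app (𝒰.f k) O hOle
      have hinj : Function.Injective ((𝒰.f k).app O).hom :=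
        (ConcreteCategory.bijective_of_isIso ((𝒰.f k).app O)).1
      have haff : IsAffineOpen ((𝒰.f k) ⁻¹ᵁ O) := hpre ▸ hW₀
      have key : ∀ z : Γ(Z', O), z ∈ RingHom.ker (i.app O).hom →
          ((𝒰.f k).app O).hom z ∈ iW.ker.ideal ⟨(𝒰.f k) ⁻¹ᵁ O, haff⟩ := by
        intro z hz
        rw [Scheme.Hom.ker_apply, RingHom.mem_ker]
        have h1 := Scheme.Hom.congr_app hpb.w O
        rw [Scheme.Hom.comp_app, Scheme.Hom.comp_app] at h1
        have h2 : (iW.app ((𝒰.f k) ⁻¹ᵁ O)).hom (((𝒰.f k).app O).hom z) =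
            (W.presheaf.map (eqToHom (by
              change (iW ≫ 𝒰.f k) ⁻¹ᵁ O = (g ≫ i) ⁻¹ᵁ O
              rw [hpb.w])).op).hom
              ((g.app (i ⁻¹ᵁ O)).hom ((i.app O).hom z)) := congrArg (fun φ => φ.hom z) h1
        rw [h2, RingHom.mem_ker.mp hz, map_zero, map_zero]
      have h0 : ((𝒰.f k).app O).hom x * ((𝒰.f k).app O).hom y ∈
          (iW.ker * iW.ker).ideal ⟨(𝒰.f k) ⁻¹ᵁ O, haff⟩ := by
        rw [Scheme.IdealSheafData.ideal_mul, Pi.mul_apply]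
        exact Ideal.mul_mem_mul (key x hx) (key y hy)
      rw [hiW.2, Scheme.IdealSheafData.ideal_bot, Pi.bot_apply, Ideal.mem_bot, ← map_mul] at h0
      exact hinj (h0.trans (map_zero _).symm)


end Groth.Agent.Lib.Helper1.UT
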