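import Mathlib
import Groth.Agent.Lib.Helper1.UTBasic

/-! helper1: gluing lifts over a basis of opens -/

set_option autoImplicit false
set_option linter.style.haveILetI false
universe u
open CategoryTheory CategoryTheory.Limits AlgebraicGeometry

namespace Groth.Agent.Lib.Helper1.UT

/-- the open cover of `X` by a basis of opens -/
@[simps I₀ X f]
noncomputable def coverOfBasis (X : Scheme.{u}) (𝒲 : Set X.Opens)
    (h𝒲 : TopologicalSpace.Opens.IsBasis 𝒲) : X.OpenCover where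
  I₀ := 𝒲
  X U := U.1
  f U := U.1.ι
  mem₀ := by
    rw [Scheme.presieve₀_mem_precoverage_iff]
    refine ⟨fun x ↦ ?_, inferInstance⟩
    obtain ⟨U, hU, hxU, -⟩ := TopologicalSpace.Opens.isBasis_iff_nbhd.mp h𝒲
      (TopologicalSpace.Opens.mem_top x)
    exact ⟨⟨U, hU⟩, by simpa using hxU⟩

variable (X : Scheme.{u}) (𝒲 : Set X.Opens) (h𝒲 : TopologicalSpace.Opens.IsBasis 𝒲)

instance : Preorder (coverOfBasis X 𝒲 h𝒲).I₀ := inferInstanceAs <| Preorder 𝒲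

lemma coverOfBasis_opensRange (U : (coverOfBasis X 𝒲 h𝒲).I₀) :
    ((coverOfBasis X 𝒲 h𝒲).f U).opensRange = U.1 :=
  Scheme.Opens.opensRange_ι U.1

set_option backward.isDefEq.respectTransparency.types false in
set_option backward.defeqAttrib.useBackward true in
noncomputable instance : Scheme.Cover.LocallyDirected (coverOfBasis X 𝒲 h𝒲) :=
  .ofIsBasisOpensRange (by
      intro i j
      rw [coverOfBasis_opensRange, coverOfBasis_opensRange]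
      rfl) <| by
    convert h𝒲
    ext U
    constructor
    · rintro ⟨y, rfl⟩
      change ((coverOfBasis X 𝒲 h𝒲).f y).opensRange ∈ 𝒲
      rw [coverOfBasis_opensRange]
      exact y.2
    · intro hU
      exact ⟨⟨U, hU⟩, coverOfBasis_opensRange X 𝒲 h𝒲 ⟨U, hU⟩⟩

lemma coverOfBasis_trans {U V : 𝒲} (hUV : U ≤ V) :
    Scheme.Cover.trans (coverOfBasis X 𝒲 h𝒲) (homOfLE hUV) = X.homOfLE hUV := rfl

section Glue
variable {Z Z' X T T' : Scheme.{u}}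

lemma morphismRestrict_homOfLE (j : T ⟶ T') {W₁ W₂ : T'.Opens} (hle : W₁ ≤ W₂) :
    (j ∣_ W₁) ≫ T'.homOfLE hle =
      T.homOfLE (show j ⁻¹ᵁ W₁ ≤ j ⁻¹ᵁ W₂ from fun _ hx => hle hx) ≫ (j ∣_ W₂) := by
  rw [← cancel_mono W₂.ι, Category.assoc, Category.assoc, Scheme.homOfLE_ι, morphismRestrict_ι,
    morphismRestrict_ι, Scheme.homOfLE_ι_assoc]

/-- the unique lifting property can be checked on a basis of opens of the test thickening -/
theorem hasUniqueLift_of_basis (i : Z ⟶ Z') (h' : Z' ⟶ X) (j : T ⟶ T') (b : T' ⟶ X) (a : T ⟶ Z)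
    (𝒲 : Set T'.Opens) (h𝒲 : TopologicalSpace.Opens.IsBasis 𝒲)
    (H : ∀ W ∈ 𝒲, HasUniqueLift i h' (j ∣_ W) (W.ι ≫ b) ((j ⁻¹ᵁ W).ι ≫ a)) :
    HasUniqueLift i h' j b a := by
  classical
  let 𝒰 := coverOfBasis T' 𝒲 h𝒲
  let g : ∀ W : 𝒲, (W.1 : Scheme.{u}) ⟶ Z' := fun W => (H W.1 W.2).exists.choose
  have hg1 : ∀ W : 𝒲, (j ∣_ W.1) ≫ g W = ((j ⁻¹ᵁ W.1).ι ≫ a) ≫ i :=
    fun W => (H W.1 W.2).exists.choose_spec.1
  have hg2 : ∀ W : 𝒲, g W ≫ h' = W.1.ι ≫ b := fun W => (H W.1 W.2).exists.choose_spec.2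
  have hguniq : ∀ (W : 𝒲) (a'' : (W.1 : Scheme.{u}) ⟶ Z'),
      (j ∣_ W.1) ≫ a'' = ((j ⁻¹ᵁ W.1).ι ≫ a) ≫ i → a'' ≫ h' = W.1.ι ≫ b → a'' = g W :=
    fun W a'' h1 h2 => (H W.1 W.2).unique ⟨h1, h2⟩ ⟨hg1 W, hg2 W⟩
  have compat : ∀ (W₁ W₂ : 𝒲) (hle : W₁ ≤ W₂), T'.homOfLE hle ≫ g W₂ = g W₁ := by
    intro W₁ W₂ hle
    apply hguniq
    · rw [← Category.assoc, morphismRestrict_homOfLE, Category.assoc, hg1 W₂,
        ← Category.assoc, ← Category.assoc, Scheme.homOfLE_ι]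
    · rw [Category.assoc, hg2 W₂, Scheme.homOfLE_ι_assoc]
  let a' : T' ⟶ Z' := 𝒰.glueMorphismsOfLocallyDirected g (fun {W₁ W₂} hij => by
    have : hij = homOfLE (leOfHom hij) := Subsingleton.elim _ _
    rw [this]
    exact compat W₁ W₂ (leOfHom hij))
  have ha' : ∀ W : 𝒲, W.1.ι ≫ a' = g W := fun W =>
    Scheme.OpenCover.map_glueMorphismsOfLocallyDirected 𝒰 g _ W
  refine ⟨a', ⟨?_, ?_⟩, ?_⟩
  · refine Scheme.Cover.hom_ext (T.openCoverOfIsOpenCover (fun W : 𝒲 => j ⁻¹ᵁ W.1)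
      (h𝒲.isOpenCover.comap j.base.1)) _ _ fun (W : 𝒲) ↦ ?_
    change (j ⁻¹ᵁ W.1).ι ≫ j ≫ a' = (j ⁻¹ᵁ W.1).ι ≫ a ≫ i
    rw [← Category.assoc, ← morphismRestrict_ι, Category.assoc, ha', hg1, Category.assoc]
  · refine Scheme.Cover.hom_ext 𝒰 _ _ fun (W : 𝒲) ↦ ?_
    change W.1.ι ≫ a' ≫ h' = W.1.ι ≫ b
    rw [← Category.assoc, ha', hg2]
  · rintro a'' ⟨h1, h2⟩
    refine Scheme.Cover.hom_ext 𝒰 _ _ fun (W : 𝒲) ↦ ?_
    change W.1.ι ≫ a'' = W.1.ι ≫ a'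
    rw [ha']
    apply hguniq
    · rw [← Category.assoc, morphismRestrict_ι, Category.assoc, h1, Category.assoc]
    · rw [Category.assoc, h2]

end Glue

end Groth.Agent.Lib.Helper1.UT
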