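import Mathlib
import Groth.Prelude.Def_MoreMor
import Groth.Prelude.Def_Omega3

/-! helper1: a universal first order thickening is formally unramified over the base. -/

set_option autoImplicit false
set_option linter.style.haveILetI false
universe u
open CategoryTheory CategoryTheory.Limits AlgebraicGeometry

namespace Groth.Agent.Lib.Helper1.UnivThick

/-- If every derivation into a module killed by a square-zero ideal vanishes, the algebra is formally unramified. -/
theorem formallyUnramified_of_forall_derivation_eq_zero {R S' : Type u} [CommRing R] [CommRing S']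
    [Algebra R S'] (K : Ideal S') (hK : K ^ 2 = ⊥)
    (H : ∀ (M : Type u) [AddCommGroup M] [Module S' M] [Module R M] [IsScalarTower R S' M],
      (∀ k ∈ K, ∀ m : M, k • m = 0) → ∀ D : Derivation R S' M, D = 0) :
    Algebra.FormallyUnramified R S' := by
  constructor
  set N : Submodule S' (Ω[S'⁄R]) := K • ⊤ with hN
  have h0 := H (Ω[S'⁄R] ⧸ N) (fun k hk m => by
    obtain ⟨m, rfl⟩ := Submodule.Quotient.mk_surjective _ m
    rw [← Submodule.Quotient.mk_smul, Submodule.Quotient.mk_eq_zero]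
    exact Submodule.smul_mem_smul hk Submodule.mem_top)
    (N.mkQ.compDer (KaehlerDifferential.D R S'))
  -- so `d s ∈ N` for all `s`
  have h1 : ∀ s : S', KaehlerDifferential.D R S' s ∈ N := by
    intro s
    have := congrArg (fun D => D s) h0
    simpa [Submodule.Quotient.mk_eq_zero] using this
  have h2 : N = ⊤ := by
    rw [eq_top_iff, ← KaehlerDifferential.span_range_derivation R S', Submodule.span_le]
    rintro _ ⟨s, rfl⟩
    exact h1 s
  have h3 : (⊤ : Submodule S' (Ω[S'⁄R])) = ⊥ := by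
    have : (⊤ : Submodule S' (Ω[S'⁄R])) = K • (K • (⊤ : Submodule S' (Ω[S'⁄R]))) := by
      rw [← hN, h2, ← hN, h2]
    rw [this, ← Submodule.mul_smul, ← pow_two, hK, Submodule.bot_smul]
  exact subsingleton_of_forall_eq 0 fun x => by
    have : x ∈ (⊤ : Submodule S' (Ω[S'⁄R])) := Submodule.mem_top
    rw [h3] at this
    exact (Submodule.mem_bot _).mp this

theorem isFirstOrderThickening_SpecMap {B S : CommRingCat.{u}} (ψ : B ⟶ S)
    (hs : Function.Surjective ψ.hom) (hk : RingHom.ker ψ.hom ^ 2 = ⊥) :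
    MoreMor.IsFirstOrderThickening (Spec.map ψ) := by
  have hci : IsClosedImmersion (Spec.map ψ) := IsClosedImmersion.spec_of_surjective ψ hs
  refine ⟨⟨hci, ?_⟩, ?_⟩
  · constructor
    intro x
    have hker : RingHom.ker ψ.hom ≤ nilradical B := by
      intro b hb
      refine ⟨2, ?_⟩
      have : b ^ 2 ∈ RingHom.ker ψ.hom ^ 2 := Ideal.pow_mem_pow hb 2
      rw [hk] at this
      exact this
    have := (PrimeSpectrum.isHomeomorph_comap ψ.hom
      (fun s => ⟨1, Nat.one_pos, by obtain ⟨b, rfl⟩ := hs s; exact ⟨b, by simp⟩⟩) hker).surjective x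
    obtain ⟨y, hy⟩ := this
    exact ⟨y, hy⟩
  · apply Scheme.IdealSheafData.ext_of_isAffine
    rw [Scheme.IdealSheafData.ideal_mul]
    have h1 : (Spec.map ψ).ker.ideal ⟨⊤, isAffineOpen_top _⟩ = RingHom.ker ((Spec.map ψ).appTop).hom :=
      Scheme.Hom.ker_apply (Spec.map ψ) ⟨⊤, isAffineOpen_top _⟩
    change (Spec.map ψ).ker.ideal ⟨⊤, isAffineOpen_top _⟩ * (Spec.map ψ).ker.ideal ⟨⊤, isAffineOpen_top _⟩ = ⊥
    rw [h1, eq_bot_iff]
    have key : ∀ a : Γ(Spec B, ⊤), a ∈ RingHom.ker ((Spec.map ψ).appTop).hom →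
        (Scheme.ΓSpecIso B).hom a ∈ RingHom.ker ψ.hom := by
      intro a ha
      rw [RingHom.mem_ker] at ha ⊢
      have hn := Scheme.ΓSpecIso_naturality ψ
      have := congrArg (fun f => f.hom a) hn
      simp only [CommRingCat.hom_comp, RingHom.comp_apply] at this
      rw [← this, ha, map_zero]
    intro x hx
    refine Submodule.mul_induction_on hx ?_ ?_
    · intro a ha b hb
      have h2 : (Scheme.ΓSpecIso B).hom (a * b) ∈ RingHom.ker ψ.hom ^ 2 := by
        rw [map_mul, pow_two]
        exact Ideal.mul_mem_mul (key a ha) (key b hb)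
      rw [hk, Ideal.mem_bot] at h2
      have h3 : Function.Injective (Scheme.ΓSpecIso B).hom :=
        (ConcreteCategory.bijective_of_isIso (Scheme.ΓSpecIso B).hom).1
      rw [Ideal.mem_bot]
      exact h3 (by rw [h2, map_zero])
    · intro a b ha hb
      exact Ideal.add_mem _ ha hb

section Alg
variable {R S' : Type u} [CommRing R] [CommRing S'] [Algebra R S']
variable (M : Type u) [AddCommGroup M] [Module S' M] [Module R M] [IsScalarTower R S' M]

/-- the right action making `M` a central bimodule -/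
@[reducible] def opModule : Module S'ᵐᵒᵖ M :=
  Module.compHom M ((RingHom.id S').fromOpposite (fun a b => mul_comm a b))

theorem isCentralScalar_opModule : letI := opModule (S' := S') M; IsCentralScalar S' M :=
  letI := opModule (S' := S') M; ⟨fun _ _ => rfl⟩

variable {M}

/-- the ring hom `s ↦ s + D s` into the trivial square-zero extension -/
noncomputable def derHom (D : Derivation R S' M) :
    letI := opModule (S' := S') M
    haveI := isCentralScalar_opModule (S' := S') M
    S' →+* TrivSqZeroExt S' M :=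
  letI := opModule (S' := S') M
  haveI := isCentralScalar_opModule (S' := S') M
  { toFun := fun s => TrivSqZeroExt.inl s + TrivSqZeroExt.inr (D s)
    map_one' := by simp
    map_zero' := by simp
    map_add' := fun a b => by
      ext
      · simp
      · simp
    map_mul' := fun a b => by
      ext
      · simp
      · simp [add_comm] }

end Alg

section Alg2
variable {R S' S : Type u} [CommRing R] [CommRing S'] [CommRing S] [Algebra R S']

theorem exists_test_data (π : S' →+* S) (hπ : Function.Surjective π)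
    (hK : RingHom.ker π ^ 2 = ⊥)
    (M : Type u) [AddCommGroup M] [Module S' M] [Module R M] [IsScalarTower R S' M]
    (hM : ∀ k ∈ RingHom.ker π, ∀ m : M, k • m = 0) (D : Derivation R S' M) :
    ∃ (B : Type u) (_ : CommRing B) (g₁ g₂ : S' →+* B) (p : B →+* S'),
      p.comp g₁ = RingHom.id _ ∧ p.comp g₂ = RingHom.id _ ∧
      g₂.comp (algebraMap R S') = g₁.comp (algebraMap R S') ∧
      Function.Surjective (π.comp p) ∧ RingHom.ker (π.comp p) ^ 2 = ⊥ ∧ (g₁ = g₂ → D = 0) := by
  letI := opModule (S' := S') M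
  haveI := isCentralScalar_opModule (S' := S') M
  refine ⟨TrivSqZeroExt S' M, inferInstance, TrivSqZeroExt.inlHom S' M, derHom D,
    (TrivSqZeroExt.fstHom S' S' M).toRingHom, ?_, ?_, ?_, ?_, ?_, ?_⟩
  · ext s
    simp
  · ext s
    simp [derHom]
  · ext r
    · simp [derHom]
    · simp [derHom]
  · intro s
    obtain ⟨s', rfl⟩ := hπ s
    exact ⟨TrivSqZeroExt.inl s', by simp⟩
  · rw [eq_bot_iff, pow_two]
    intro x hx
    refine Submodule.mul_induction_on hx ?_ ?_
    · intro a ha b hb
      have ha' : TrivSqZeroExt.fst a ∈ RingHom.ker π := ha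
      have hb' : TrivSqZeroExt.fst b ∈ RingHom.ker π := hb
      rw [Ideal.mem_bot]
      ext
      · have : TrivSqZeroExt.fst a * TrivSqZeroExt.fst b ∈ RingHom.ker π ^ 2 := by
          rw [pow_two]; exact Ideal.mul_mem_mul ha' hb'
        rw [hK, Ideal.mem_bot] at this
        simpa using this
      · have h1 := hM _ ha' (TrivSqZeroExt.snd b)
        have h2 := hM _ hb' (TrivSqZeroExt.snd a)
        simp only [TrivSqZeroExt.snd_mul, TrivSqZeroExt.snd_zero]
        rw [h1, zero_add]
        exact h2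
    · intro a b ha hb
      exact Ideal.add_mem _ ha hb
  · intro h
    ext s
    have := congrArg (fun g => TrivSqZeroExt.snd (g s)) h
    simpa [derHom] using this.symm

end Alg2

theorem formallyUnramified_of_isUnivThickening {Z Z' X : Scheme.{u}} (h : Z ⟶ X)
    (i : Z ⟶ Z') (h' : Z' ⟶ X) (hu : OmegaSh.IsUnivThickening h i h') : FormallyUnramified h' := by
  obtain ⟨⟨⟨hci, hsurj⟩, hsq⟩, hih, huniv⟩ := hu
  constructor
  intro U hU V' hV' e
  have hπ : Function.Surjective (i.app V').hom := i.app_surjective V' hV'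
  have hV : IsAffineOpen (i ⁻¹ᵁ V') := hV'.preimage i
  have hK : RingHom.ker (i.app V').hom ^ 2 = ⊥ := by
    have h1 : i.ker.ideal ⟨V', hV'⟩ = RingHom.ker (i.app V').hom := Scheme.Hom.ker_apply i ⟨V', hV'⟩
    have h2 : (i.ker * i.ker).ideal ⟨V', hV'⟩ = i.ker.ideal ⟨V', hV'⟩ * i.ker.ideal ⟨V', hV'⟩ := rfl
    rw [hsq] at h2
    rw [pow_two, ← h1, ← h2]
    rfl
  letI := (h'.appLE U V' e).hom.toAlgebra
  change Algebra.FormallyUnramified Γ(X, U) Γ(Z', V')
  apply formallyUnramified_of_forall_derivation_eq_zero (RingHom.ker (i.app V').hom) hK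
  intro M _ _ _ _ hM D
  obtain ⟨B₀, _, k₁, k₂, p₀, hp1, hp2, hk, hs, hker, hD⟩ :=
    exists_test_data (R := Γ(X, U)) (i.app V').hom hπ hK M hM D
  apply hD
  set φ := h'.appLE U V' e with hφ
  set B : CommRingCat.{u} := CommRingCat.of B₀ with hB
  set g₁ : Γ(Z', V') ⟶ B := CommRingCat.ofHom k₁ with hg₁
  set g₂ : Γ(Z', V') ⟶ B := CommRingCat.ofHom k₂ with hg₂
  set p : B ⟶ Γ(Z', V') := CommRingCat.ofHom p₀ with hp
  set ψ : B ⟶ Γ(Z, i ⁻¹ᵁ V') := p ≫ i.app V' with hψ
  have F1 : g₁ ≫ p = 𝟙 _ := by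
    ext s
    exact congrArg (fun f => f s) hp1
  have F1' : g₂ ≫ p = 𝟙 _ := by
    ext s
    exact congrArg (fun f => f s) hp2
  have F2 : φ ≫ g₂ = φ ≫ g₁ := by
    ext r
    exact congrArg (fun f => f r) hk
  have hj := isFirstOrderThickening_SpecMap ψ hs hker
  have F3 : Spec.map (i.app V') ≫ hV'.fromSpec = hV.fromSpec ≫ i := by
    rw [Scheme.Hom.app_eq_appLE]
    exact IsAffineOpen.SpecMap_appLE_fromSpec i hV' hV le_rfl
  have F4 : Spec.map φ ≫ hU.fromSpec = hV'.fromSpec ≫ h' :=
    IsAffineOpen.SpecMap_appLE_fromSpec h' hU hV' e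
  have e1 : ∀ g : Γ(Z', V') ⟶ B, g ≫ p = 𝟙 _ →
      Spec.map ψ ≫ (Spec.map g ≫ hV'.fromSpec) = hV.fromSpec ≫ i := by
    intro g hg
    rw [← F3, ← Category.assoc, ← Spec.map_comp, hψ, ← Category.assoc, hg, Category.id_comp]
  have e2 : ∀ g : Γ(Z', V') ⟶ B, φ ≫ g = φ ≫ g₁ →
      (Spec.map g ≫ hV'.fromSpec) ≫ h' = Spec.map (φ ≫ g₁) ≫ hU.fromSpec := by
    intro g hg
    rw [Category.assoc, ← F4, ← Category.assoc, ← Spec.map_comp, hg]
  have hcomm : Spec.map ψ ≫ (Spec.map (φ ≫ g₁) ≫ hU.fromSpec) = hV.fromSpec ≫ h := by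
    rw [← e2 g₁ rfl, ← Category.assoc, e1 g₁ F1, Category.assoc, hih]
  obtain ⟨a', -, huniq⟩ := huniv _ _ (Spec.map ψ) (Spec.map (φ ≫ g₁) ≫ hU.fromSpec) hV.fromSpec hj hcomm
  have h1 := huniq _ ⟨e1 g₁ F1, e2 g₁ rfl⟩
  have h2 := huniq _ ⟨e1 g₂ F1', e2 g₂ F2⟩
  have h3 : Spec.map g₁ = Spec.map g₂ := by
    have := h1.trans h2.symm
    exact (cancel_mono hV'.fromSpec).mp this
  have h4 : g₁ = g₂ := Spec.map_injective h3
  exact congrArg CommRingCat.Hom.hom h4

end Groth.Agent.Lib.Helper1.UnivThick
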