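import Mathlib
import Groth.Agent.Lib.Helper1.UTGlue
import Groth.Agent.Lib.Helper1.UnivThick
import Groth.Agent.S9426

/-! helper1: local (affine) existence of universal first order thickenings -/

set_option autoImplicit false
set_option linter.style.haveILetI false
universe u
open CategoryTheory CategoryTheory.Limits AlgebraicGeometry

namespace Groth.Agent.Lib.Helper1.UT

/-- ring-level universal property in "surjection" form -/
theorem ring_lift {R S S' : Type u} [CommRing R] [CommRing S] [CommRing S'] [Algebra R S]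
    [Algebra R S'] (π : S' →ₐ[R] S) (hπ : OmegaSh.IsUnivThickeningRing R S S' π)
    {A A₀ : Type u} [CommRing A] [CommRing A₀] (ρ : A →+* A₀) (hρ : Function.Surjective ρ)
    (hk : RingHom.ker ρ ^ 2 = ⊥) (β : R →+* A) (α : S →+* A₀)
    (hαβ : ρ.comp β = α.comp (algebraMap R S)) :
    ∃! α' : S' →+* A, ρ.comp α' = α.comp π.toRingHom ∧ α'.comp (algebraMap R S') = β := by
  letI := β.toAlgebra
  set I := RingHom.ker ρ with hI
  let eq : A ⧸ I ≃+* A₀ := RingHom.quotientKerEquivOfSurjective hρ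
  have heq : ∀ x : A, eq (Ideal.Quotient.mk I x) = ρ x := fun x =>
    RingHom.quotientKerEquivOfSurjective_apply_mk hρ x
  let ā : S →ₐ[R] A ⧸ I :=
    { toRingHom := eq.symm.toRingHom.comp α
      commutes' := fun r => by
        change eq.symm (α (algebraMap R S r)) = Ideal.Quotient.mk I (β r)
        rw [eq.symm_apply_eq, heq]
        exact (congrArg (fun f => f r) hαβ).symm }
  obtain ⟨a', ha', huniq⟩ := hπ.2.2 A I hk ā
  have key : ∀ (a'' : S' →ₐ[R] A), (Ideal.Quotient.mkₐ R I).comp a'' = ā.comp π ↔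
      ρ.comp a''.toRingHom = α.comp π.toRingHom := by
    intro a''
    constructor
    · intro hh
      ext s
      have := congrArg (fun f => eq (f s)) hh
      change eq (Ideal.Quotient.mk I (a'' s)) = eq (eq.symm (α (π s))) at this
      rw [heq, eq.apply_symm_apply] at this
      exact this
    · intro hh
      ext s
      change Ideal.Quotient.mk I (a'' s) = eq.symm (α (π s))
      rw [eq_comm, eq.symm_apply_eq, heq]
      exact (congrArg (fun f => f s) hh).symm
  refine ⟨a'.toRingHom, ⟨(key a').mp ha', ?_⟩, ?_⟩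
  · ext r
    exact a'.commutes r
  · rintro α'' ⟨h1, h2⟩
    let a'' : S' →ₐ[R] A :=
      { toRingHom := α''
        commutes' := fun r => congrArg (fun f => f r) h2 }
    have := huniq a'' ((key a'').mpr h1)
    exact congrArg AlgHom.toRingHom this

section Local
variable {Z X : Scheme.{u}} (h : Z ⟶ X) {V : Z.Opens} {U : X.Opens} (hV : IsAffineOpen V)
  (hU : IsAffineOpen U) (e : V ≤ h ⁻¹ᵁ U)
  {S' : CommRingCat.{u}} (ψ : Γ(X, U) ⟶ S') (π : S' ⟶ Γ(Z, V))

/-- the ring-level universal property, in categorical form -/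
def RingUniv : Prop :=
  ∀ (A A₀ : CommRingCat.{u}) (ρ : A ⟶ A₀), Function.Surjective ρ.hom → RingHom.ker ρ.hom ^ 2 = ⊥ →
    ∀ (β : Γ(X, U) ⟶ A) (α : Γ(Z, V) ⟶ A₀), β ≫ ρ = h.appLE U V e ≫ α →
      ∃! α' : S' ⟶ A, α' ≫ ρ = π ≫ α ∧ ψ ≫ α' = β

include hV hU in
theorem hasUniqueLift_Spec (hu : RingUniv h e ψ π) {A A₀ : CommRingCat.{u}} (ρ : A ⟶ A₀)
    (hρ : Function.Surjective ρ.hom) (hk : RingHom.ker ρ.hom ^ 2 = ⊥)
    (b : Spec A ⟶ X) (a : Spec A₀ ⟶ V) (hba : Spec.map ρ ≫ b = a ≫ V.ι ≫ h) :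
    HasUniqueLift (hV.isoSpec.hom ≫ Spec.map π) (Spec.map ψ ≫ hU.fromSpec) (Spec.map ρ) b a := by
  have hj := UnivThick.isFirstOrderThickening_SpecMap ρ hρ hk
  have hrange : Set.range b.base ⊆ Set.range hU.fromSpec.base := by
    rw [hU.range_fromSpec]
    rintro _ ⟨x, rfl⟩
    obtain ⟨y, rfl⟩ := hj.1.2.surj x
    have := congrArg (fun g => g.base y) hba
    simp only [Scheme.Hom.comp_base, TopCat.hom_comp, ContinuousMap.comp_apply] at this
    rw [this]
    exact e (a.base y).2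
  let lift : Spec A ⟶ Spec Γ(X, U) := IsOpenImmersion.lift hU.fromSpec b hrange
  have hlift : lift ≫ hU.fromSpec = b := IsOpenImmersion.lift_fac _ _ _
  let β : Γ(X, U) ⟶ A := Spec.preimage lift
  have hβ : Spec.map β ≫ hU.fromSpec = b := by rw [Spec.map_preimage, hlift]
  let α : Γ(Z, V) ⟶ A₀ := Spec.preimage (a ≫ hV.isoSpec.hom)
  have hα : Spec.map α = a ≫ hV.isoSpec.hom := Spec.map_preimage _
  have hα' : Spec.map α ≫ hV.fromSpec = a ≫ V.ι := by
    rw [hα, Category.assoc, hV.isoSpec_hom_fromSpec]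
  have hαβ : β ≫ ρ = h.appLE U V e ≫ α := by
    apply Spec.map_injective
    rw [← cancel_mono hU.fromSpec, Spec.map_comp, Category.assoc, hβ, hba, Spec.map_comp,
      Category.assoc, IsAffineOpen.SpecMap_appLE_fromSpec h hU hV e, ← Category.assoc,
      ← Category.assoc, hα']
  obtain ⟨α', ⟨h1, h2⟩, huniq⟩ := hu A A₀ ρ hρ hk β α hαβ
  refine ⟨Spec.map α', ⟨?_, ?_⟩, ?_⟩
  · rw [← Spec.map_comp, h1, Spec.map_comp, hα, Category.assoc]
  · rw [← Category.assoc, ← Spec.map_comp, h2, hβ]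
  · rintro a'' ⟨h1'', h2''⟩
    obtain ⟨α'', rfl⟩ : ∃ α'', Spec.map α'' = a'' := ⟨Spec.preimage a'', Spec.map_preimage _⟩
    congr 1
    apply huniq
    refine ⟨?_, ?_⟩
    · apply Spec.map_injective
      rw [Spec.map_comp, h1'', Spec.map_comp, hα, Category.assoc]
    · apply Spec.map_injective
      rw [← cancel_mono hU.fromSpec, Spec.map_comp, Category.assoc, h2'', hβ]

include hV hU in
theorem hasUniqueLift_of_isAffine (hu : RingUniv h e ψ π) {T T' : Scheme.{u}} [IsAffine T']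
    (j : T ⟶ T') (hj : MoreMor.IsFirstOrderThickening j)
    (b : T' ⟶ X) (a : T ⟶ V) (hba : j ≫ b = a ≫ V.ι ≫ h) :
    HasUniqueLift (hV.isoSpec.hom ≫ Spec.map π) (Spec.map ψ ≫ hU.fromSpec) j b a := by
  haveI : IsClosedImmersion j := hj.1.1
  haveI : IsAffine T := isAffine_of_isAffineHom j
  have hs : Function.Surjective j.appTop.hom := j.app_surjective ⊤ (isAffineOpen_top T')
  have hk : RingHom.ker j.appTop.hom ^ 2 = ⊥ := by
    have h1 : j.ker.ideal ⟨⊤, isAffineOpen_top T'⟩ = RingHom.ker (j.app ⊤).hom :=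
      Scheme.Hom.ker_apply j ⟨⊤, isAffineOpen_top T'⟩
    have h2 : (j.ker * j.ker).ideal ⟨⊤, isAffineOpen_top T'⟩ =
      j.ker.ideal ⟨⊤, isAffineOpen_top T'⟩ * j.ker.ideal ⟨⊤, isAffineOpen_top T'⟩ := rfl
    rw [hj.2] at h2
    change RingHom.ker (j.app ⊤).hom ^ 2 = ⊥
    rw [pow_two, ← h1, ← h2]
    rfl
  have w : Spec.map j.appTop ≫ T'.isoSpec.symm.hom = T.isoSpec.symm.hom ≫ j :=
    Scheme.isoSpec_inv_naturality j
  refine hasUniqueLift_of_iso T.isoSpec.symm T'.isoSpec.symm w ?_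
  apply hasUniqueLift_Spec h hV hU e ψ π hu j.appTop hs hk
  rw [← Category.assoc, w, Category.assoc, hba, Category.assoc]

include hV hU in
theorem isUnivThickening_local (hu : RingUniv h e ψ π) (hψπ : ψ ≫ π = h.appLE U V e)
    (hπs : Function.Surjective π.hom) (hπk : RingHom.ker π.hom ^ 2 = ⊥) :
    OmegaSh.IsUnivThickening (V.ι ≫ h) (hV.isoSpec.hom ≫ Spec.map π)
      (Spec.map ψ ≫ hU.fromSpec) := by
  refine ⟨?_, ?_, ?_⟩
  · exact isFirstOrderThickening_of_iso hV.isoSpec (Iso.refl _) (by simp)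
      (UnivThick.isFirstOrderThickening_SpecMap π hπs hπk)
  · rw [Category.assoc, ← Category.assoc (Spec.map π), ← Spec.map_comp, hψπ,
      IsAffineOpen.SpecMap_appLE_fromSpec h hU hV e, ← Category.assoc, hV.isoSpec_hom_fromSpec]
  · intro T T' j b a hj hba
    refine hasUniqueLift_of_basis _ _ j b a T'.affineOpens T'.isBasis_affineOpens ?_
    intro W hW
    haveI : IsAffine W := hW
    refine hasUniqueLift_of_isAffine h hV hU e ψ π hu (j ∣_ W)
      (isFirstOrderThickening_morphismRestrict hj W) _ _ ?_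
    rw [← Category.assoc, morphismRestrict_ι, Category.assoc, hba, Category.assoc]

end Local

/-- local existence of universal thickenings -/
theorem exists_local {Z X : Scheme.{u}} (h : Z ⟶ X) [FormallyUnramified h] {V : Z.Opens}
    {U : X.Opens} (hV : IsAffineOpen V) (hU : IsAffineOpen U) (e : V ≤ h ⁻¹ᵁ U) :
    ∃ (V' : Scheme.{u}) (iV : (V : Scheme.{u}) ⟶ V') (hV' : V' ⟶ X),
      OmegaSh.IsUnivThickening (V.ι ≫ h) iV hV' := by
  letI := (h.appLE U V e).hom.toAlgebra
  haveI : Algebra.FormallyUnramified Γ(X, U) Γ(Z, V) := h.formallyUnramified_appLE hU hV e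
  obtain ⟨S', _, _, π, hπ⟩ := Groth.Agent.S9426.result Γ(X, U) Γ(Z, V)
  let ψ : Γ(X, U) ⟶ CommRingCat.of S' := CommRingCat.ofHom (algebraMap Γ(X, U) S')
  let πc : CommRingCat.of S' ⟶ Γ(Z, V) := CommRingCat.ofHom π.toRingHom
  have hψπ : ψ ≫ πc = h.appLE U V e := by
    ext r
    exact π.commutes r
  have hu : RingUniv h e ψ πc := by
    intro A A₀ ρ hρ hk β α hαβ
    have hαβ' : ρ.hom.comp β.hom = α.hom.comp (algebraMap Γ(X, U) Γ(Z, V)) := by
      ext r
      exact congrArg (fun f => f.hom r) hαβ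
    obtain ⟨α', ⟨h1, h2⟩, huniq⟩ := ring_lift π hπ ρ.hom hρ hk β.hom α.hom hαβ'
    refine ⟨CommRingCat.ofHom α', ⟨?_, ?_⟩, ?_⟩
    · ext s
      exact congrArg (fun f => f s) h1
    · ext r
      exact congrArg (fun f => f r) h2
    · rintro α'' ⟨h1'', h2''⟩
      have := huniq α''.hom ⟨by ext s; exact congrArg (fun f => f.hom s) h1'',
        by ext r; exact congrArg (fun f => f.hom r) h2''⟩
      ext s
      exact congrArg (fun f => f s) this
  exact ⟨_, _, _, isUnivThickening_local h hV hU e ψ πc hu hψπ hπ.1 hπ.2.1⟩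

end Groth.Agent.Lib.Helper1.UT
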