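import Mathlib
import Groth.Agent.Lib.Helper1.UTAffine

/-! helper1: a scheme-level universal first order thickening is ring-level universal on affine
opens. -/

set_option autoImplicit false
set_option linter.style.haveILetI false
universe u
open CategoryTheory CategoryTheory.Limits AlgebraicGeometry

namespace Groth.Agent.Lib.Helper1.UT

variable {Z Z' X : Scheme.{u}} {h : Z ⟶ X} {i : Z ⟶ Z'} {h' : Z' ⟶ X}

theorem isUnivThickeningRing_of_isUnivThickening
    (hu : OmegaSh.IsUnivThickening h i h') {U : X.Opens} (hU : IsAffineOpen U)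
    {W' : Z'.Opens} (hW' : IsAffineOpen W') (e : W' ≤ h' ⁻¹ᵁ U) :
    letI := (h'.appLE U W' e).hom.toAlgebra
    letI := (i.appLE W' (i ⁻¹ᵁ W') le_rfl).hom.toAlgebra
    letI := ((i.appLE W' (i ⁻¹ᵁ W') le_rfl).hom.comp (h'.appLE U W' e).hom).toAlgebra
    haveI : IsScalarTower Γ(X, U) Γ(Z', W') Γ(Z, i ⁻¹ᵁ W') :=
      IsScalarTower.of_algebraMap_eq fun _ => rfl
    OmegaSh.IsUnivThickeningRing Γ(X, U) Γ(Z, i ⁻¹ᵁ W') Γ(Z', W')
      (IsScalarTower.toAlgHom Γ(X, U) Γ(Z', W') Γ(Z, i ⁻¹ᵁ W')) := by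
  letI alg₁ := (h'.appLE U W' e).hom.toAlgebra
  letI alg₂ := (i.appLE W' (i ⁻¹ᵁ W') le_rfl).hom.toAlgebra
  letI alg₃ := ((i.appLE W' (i ⁻¹ᵁ W') le_rfl).hom.comp (h'.appLE U W' e).hom).toAlgebra
  haveI t₁ : IsScalarTower Γ(X, U) Γ(Z', W') Γ(Z, i ⁻¹ᵁ W') :=
    IsScalarTower.of_algebraMap_eq fun _ => rfl
  haveI hci : IsClosedImmersion i := hu.1.1.1
  have hV : IsAffineOpen (i ⁻¹ᵁ W') := hW'.preimage i
  have happ : i.appLE W' (i ⁻¹ᵁ W') le_rfl = i.app W' := by
    rw [Scheme.Hom.appLE]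
    have : (homOfLE (le_refl (i ⁻¹ᵁ W'))).op = 𝟙 _ := rfl
    rw [this, CategoryTheory.Functor.map_id, Category.comp_id]
  have hih : i ≫ h' = h := hu.2.1
  have eUV : i ⁻¹ᵁ W' ≤ h ⁻¹ᵁ U := by
    rw [← hih]
    exact i.preimage_mono e
  have hcomp : h.appLE U (i ⁻¹ᵁ W') eUV = h'.appLE U W' e ≫ i.appLE W' (i ⁻¹ᵁ W') le_rfl := by
    subst hih
    exact (Scheme.Hom.appLE_comp_appLE _ _ _ _ _ _ _).symm
  refine ⟨?_, ?_, ?_⟩
  · change Function.Surjective (i.appLE W' (i ⁻¹ᵁ W') le_rfl).hom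
    rw [happ]
    exact i.app_surjective W' hW'
  · change RingHom.ker (i.appLE W' (i ⁻¹ᵁ W') le_rfl).hom ^ 2 = ⊥
    rw [happ, ← Scheme.Hom.ker_apply i ⟨W', hW'⟩, pow_two]
    have h3 : (i.ker * i.ker).ideal ⟨W', hW'⟩ = i.ker.ideal ⟨W', hW'⟩ * i.ker.ideal ⟨W', hW'⟩ := rfl
    rw [← h3, hu.1.2]; rfl
  · intro T _ _ L hL a
    let ρ : CommRingCat.of T ⟶ CommRingCat.of (T ⧸ L) := CommRingCat.ofHom (Ideal.Quotient.mk L)
    have hρs : Function.Surjective ρ.hom := Ideal.Quotient.mk_surjective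
    have hρk : RingHom.ker ρ.hom ^ 2 = ⊥ := by
      change RingHom.ker (Ideal.Quotient.mk L) ^ 2 = ⊥
      rw [Ideal.mk_ker, hL]
    have hj := UnivThick.isFirstOrderThickening_SpecMap ρ hρs hρk
    let β : Γ(X, U) ⟶ CommRingCat.of T := CommRingCat.ofHom (algebraMap Γ(X, U) T)
    let α : Γ(Z, i ⁻¹ᵁ W') ⟶ CommRingCat.of (T ⧸ L) := CommRingCat.ofHom a.toRingHom
    have hαβ : β ≫ ρ = h.appLE U (i ⁻¹ᵁ W') eUV ≫ α := by
      rw [hcomp]
      ext r
      change Ideal.Quotient.mk L (algebraMap Γ(X, U) T r) =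
        a ((i.appLE W' (i ⁻¹ᵁ W') le_rfl).hom ((h'.appLE U W' e).hom r))
      exact (a.commutes r).symm
    have hba : Spec.map ρ ≫ (Spec.map β ≫ hU.fromSpec) = (Spec.map α ≫ hV.fromSpec) ≫ h := by
      rw [← Category.assoc, ← Spec.map_comp, hαβ, Spec.map_comp, Category.assoc, Category.assoc,
        IsAffineOpen.SpecMap_appLE_fromSpec h hU hV eUV]
    obtain ⟨a', ⟨h1, h2⟩, huniq⟩ := hu.2.2 _ _ (Spec.map ρ) (Spec.map β ≫ hU.fromSpec)
      (Spec.map α ≫ hV.fromSpec) hj hba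
    have hfi : hV.fromSpec ≫ i = Spec.map (i.appLE W' (i ⁻¹ᵁ W') le_rfl) ≫ hW'.fromSpec :=
      (IsAffineOpen.SpecMap_appLE_fromSpec i hW' hV le_rfl).symm
    have hfh : hW'.fromSpec ≫ h' = Spec.map (h'.appLE U W' e) ≫ hU.fromSpec :=
      (IsAffineOpen.SpecMap_appLE_fromSpec h' hU hW' e).symm
    have hrange : Set.range a'.base ⊆ Set.range hW'.fromSpec.base := by
      rw [hW'.range_fromSpec]
      rintro _ ⟨x, rfl⟩
      obtain ⟨y, rfl⟩ := hj.1.2.surj x
      have := congrArg (fun g => g.base y) h1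
      simp only [Scheme.Hom.comp_base, TopCat.hom_comp, ContinuousMap.comp_apply] at this
      rw [this]
      have hy : (hV.fromSpec.base ((Spec.map α).base y)) ∈ (i ⁻¹ᵁ W' : Z.Opens) := by
        have : hV.fromSpec.base ((Spec.map α).base y) ∈ Set.range hV.fromSpec.base := ⟨_, rfl⟩
        rw [hV.range_fromSpec] at this
        exact this
      exact hy
    let lift : Spec (CommRingCat.of T) ⟶ Spec Γ(Z', W') :=
      IsOpenImmersion.lift hW'.fromSpec a' hrange
    have hlift : lift ≫ hW'.fromSpec = a' := IsOpenImmersion.lift_fac _ _ _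
    let α' : Γ(Z', W') ⟶ CommRingCat.of T := Spec.preimage lift
    have hα' : Spec.map α' ≫ hW'.fromSpec = a' := by rw [Spec.map_preimage, hlift]
    have hα'1 : h'.appLE U W' e ≫ α' = β := by
      apply Spec.map_injective
      rw [← cancel_mono hU.fromSpec, Spec.map_comp, Category.assoc, ← hfh, ← Category.assoc, hα', h2]
    have hα'2 : α' ≫ ρ = i.appLE W' (i ⁻¹ᵁ W') le_rfl ≫ α := by
      apply Spec.map_injective
      rw [← cancel_mono hW'.fromSpec, Spec.map_comp, Category.assoc, hα', h1, Spec.map_comp,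
        Category.assoc, Category.assoc, hfi]
    let a'alg : Γ(Z', W') →ₐ[Γ(X, U)] T :=
      { toRingHom := α'.hom
        commutes' := fun r => congrArg (fun f => f.hom r) hα'1 }
    refine ⟨a'alg, ?_, ?_⟩
    · ext s
      exact congrArg (fun f => f.hom s) hα'2
    · intro a'' ha''
      let α'' : Γ(Z', W') ⟶ CommRingCat.of T := CommRingCat.ofHom a''.toRingHom
      have e1 : h'.appLE U W' e ≫ α'' = β := by
        ext r
        exact a''.commutes r
      have e2 : α'' ≫ ρ = i.appLE W' (i ⁻¹ᵁ W') le_rfl ≫ α := by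
        ext s
        exact congrArg (fun f => f s) ha''
      have e3 : Spec.map α'' ≫ hW'.fromSpec = a' := by
        apply huniq
        refine ⟨?_, ?_⟩
        · rw [← Category.assoc, ← Spec.map_comp, e2, Spec.map_comp, Category.assoc, ← hfi,
            Category.assoc]
        · rw [Category.assoc, hfh, ← Category.assoc, ← Spec.map_comp, e1]
      have e4 : Spec.map α'' = Spec.map α' := by
        rw [← cancel_mono hW'.fromSpec, e3, hα']
      have e5 : α'' = α' := Spec.map_injective e4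
      ext s
      exact congrArg (fun f => f.hom s) e5

end Groth.Agent.Lib.Helper1.UT
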