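import Mathlib
import Groth.Agent.Lib.Helper1.ConormSplit
import Groth.Agent.Lib.Helper1.UTRing
import Groth.Agent.Lib.Helper1.RingTau
import Groth.Agent.Lib.Helper1.FSmoothHom

set_option autoImplicit false
set_option linter.style.haveILetI false
set_option linter.unusedSectionVars false
universe u
open CategoryTheory CategoryTheory.Limits AlgebraicGeometry TopologicalSpace Opposite
open Groth.Agent.Lib.Helper1.PbSect Groth.Agent.Lib.Helper3 Groth.Agent.Lib.Helper1.ConormMap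
open Groth.Agent.Lib.Helper1

namespace Groth.Agent.Lib.Helper1.ConormSES

theorem map_refl' {Z : Scheme.{u}} (V : Z.Opens) (y : Γ(Z, V)) :
    Z.presheaf.map (homOfLE (le_refl V)).op y = y := by
  have : (homOfLE (le_refl V)).op = 𝟙 (op V) := rfl
  rw [this, CategoryTheory.Functor.map_id]
  rfl

theorem le_coborderRange {Z X : Scheme.{u}} (i : Z ⟶ X) [IsClosedImmersion i] (U : X.Opens) :
    U ≤ i.coborderRange := by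
  intro x _
  change x ∈ coborder (Set.range i)
  rw [IsClosed.coborder_eq i.isClosedEmbedding.isClosed_range]
  trivial

/-- simultaneous affine neighbourhoods for `Z ⟶ X ⟶ Y` with `i`, `i ≫ p` closed immersions and `i`
surjective, inside prescribed opens. -/
theorem exists_good_pair_in {Z X Y : Scheme.{u}} (i : Z ⟶ X) (p : X ⟶ Y) [IsClosedImmersion i]
    [IsClosedImmersion (i ≫ p)] (hsurj : Function.Surjective i.base) (z : Z)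
    (OY : Y.Opens) (OX : X.Opens) (hzY : p.base (i.base z) ∈ OY) (hzX : i.base z ∈ OX) :
    ∃ VY : Y.Opens, IsAffineOpen VY ∧ IsAffineOpen (p ⁻¹ᵁ VY) ∧ VY ≤ OY ∧ p ⁻¹ᵁ VY ≤ OX ∧
      z ∈ (i ≫ p) ⁻¹ᵁ VY := by
  obtain ⟨_, ⟨VY₀ : Y.Opens, hVY₀, rfl⟩, hzVY₀, hVY₀le⟩ :=
    Y.isBasis_affineOpens.exists_subset_of_mem_open hzY OY.2
  have hzp : i.base z ∈ OX ⊓ p ⁻¹ᵁ VY₀ := ⟨hzX, hzVY₀⟩
  obtain ⟨_, ⟨U₀ : X.Opens, hU₀, rfl⟩, hzU₀, hU₀le⟩ :=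
    X.isBasis_affineOpens.exists_subset_of_mem_open hzp (OX ⊓ p ⁻¹ᵁ VY₀).2
  have hU₀X : U₀ ≤ OX := fun y hy => (hU₀le hy).1
  have hU₀p : U₀ ≤ p ⁻¹ᵁ VY₀ := fun y hy => (hU₀le hy).2
  have hW : IsAffineOpen ((i ≫ p) ⁻¹ᵁ VY₀) := hVY₀.preimage (i ≫ p)
  have hsurj' : Function.Surjective ((i ≫ p).app VY₀) := (i ≫ p).app_surjective VY₀ hVY₀
  have hzW : z ∈ (i ≫ p) ⁻¹ᵁ VY₀ := hzVY₀
  obtain ⟨a, ha1, ha2⟩ := hW.exists_basicOpen_le (V := i ⁻¹ᵁ U₀) ⟨z, hzU₀⟩ hzW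
  obtain ⟨a', rfl⟩ := hsurj' a
  have hpre : (i ≫ p) ⁻¹ᵁ (Y.basicOpen a') = Z.basicOpen ((i ≫ p).app VY₀ a') :=
    Scheme.preimage_basicOpen _ _
  set b := (p.appLE VY₀ U₀ hU₀p).hom a' with hb
  have hUeq : X.basicOpen b = U₀ ⊓ p ⁻¹ᵁ (Y.basicOpen a') := by
    rw [hb, Scheme.Hom.appLE]
    change X.basicOpen (X.presheaf.map (homOfLE hU₀p).op (p.app VY₀ a')) = _
    rw [Scheme.basicOpen_res, Scheme.preimage_basicOpen]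
  -- `p⁻¹ (D(a')) = D(b)` since `i` is surjective
  have heq : p ⁻¹ᵁ (Y.basicOpen a') = X.basicOpen b := by
    apply le_antisymm
    · intro x hx
      obtain ⟨z', rfl⟩ := hsurj x
      have h1 : z' ∈ Z.basicOpen ((i ≫ p).app VY₀ a') := by rw [← hpre]; exact hx
      have h2 : i.base z' ∈ U₀ := ha1 h1
      rw [hUeq]
      exact ⟨h2, hx⟩
    · rw [hUeq]; exact inf_le_right
  refine ⟨Y.basicOpen a', hVY₀.basicOpen a', ?_, ?_, ?_, ?_⟩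
  · rw [heq]; exact hU₀.basicOpen b
  · exact (Y.basicOpen_le a').trans hVY₀le
  · rw [heq]; exact (X.basicOpen_le b).trans hU₀X
  · rw [hpre]; exact ha2

theorem appLE_congr' {X Y : Scheme.{u}} {g₁ g₂ : X ⟶ Y} (h : g₁ = g₂) (U : Y.Opens) (V : X.Opens)
    (e₁ : V ≤ g₁ ⁻¹ᵁ U) (e₂ : V ≤ g₂ ⁻¹ᵁ U) : g₁.appLE U V e₁ = g₂.appLE U V e₂ := by
  subst h; rfl

theorem exists_tau_scheme {Z X Y Z' Z'' : Scheme.{u}} (i : Z ⟶ X) (p : X ⟶ Y)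
    (hp : MoreMor.IsFormallySmoothHom p)
    (i' : Z ⟶ Z') (a : Z' ⟶ X) (hZ' : OmegaSh.IsUnivThickening i i' a)
    (b : Z'' ⟶ Y) (k : Z' ⟶ Z'') (hZ'' : OmegaSh.IsUnivThickening (i ≫ p) (i' ≫ k) b)
    (hk₂ : k ≫ b = a ≫ p)
    {VYY : Y.Opens} (hVYY : IsAffineOpen VYY) {UX : X.Opens} (hUX : IsAffineOpen UX)
    (hUV : UX ≤ p ⁻¹ᵁ VYY)
    {W'' : Z''.Opens} (hW'' : IsAffineOpen W'') (hW' : IsAffineOpen (k ⁻¹ᵁ W''))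
    (e'' : W'' ≤ b ⁻¹ᵁ VYY) (e' : k ⁻¹ᵁ W'' ≤ a ⁻¹ᵁ UX) :
    ∃ τ : Γ(Z', k ⁻¹ᵁ W'') →+* Γ(Z'', W''),
      (∀ y, τ ((k.appLE W'' (k ⁻¹ᵁ W'') le_rfl).hom y) = y) ∧
      (∀ c', Z.presheaf.map (homOfLE (show i' ⁻¹ᵁ (k ⁻¹ᵁ W'') ≤ (i' ≫ k) ⁻¹ᵁ W'' from
        fun _ hz => hz)).op ((i' ≫ k).app W'' (τ c')) = i'.app (k ⁻¹ᵁ W'') c') := by
  haveI hci' : IsClosedImmersion i' := hZ'.1.1.1
  haveI hci'' : IsClosedImmersion (i' ≫ k) := hZ''.1.1.1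
  -- ring level universal properties
  have hR' := UT.isUnivThickeningRing_of_isUnivThickening hZ' hUX hW' e'
  have hR'' := UT.isUnivThickeningRing_of_isUnivThickening hZ'' hVYY hW'' e''
  let f : Γ(Y, VYY) →+* Γ(X, UX) := (p.appLE VYY UX hUV).hom
  let α : Γ(X, UX) →+* Γ(Z', k ⁻¹ᵁ W'') := (a.appLE UX (k ⁻¹ᵁ W'') e').hom
  let π' : Γ(Z', k ⁻¹ᵁ W'') →+* Γ(Z, (i' ≫ k) ⁻¹ᵁ W'') :=
    (i'.appLE (k ⁻¹ᵁ W'') (i' ⁻¹ᵁ (k ⁻¹ᵁ W'')) le_rfl).hom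
  let β : Γ(Y, VYY) →+* Γ(Z'', W'') := (b.appLE VYY W'' e'').hom
  let π'' : Γ(Z'', W'') →+* Γ(Z, (i' ≫ k) ⁻¹ᵁ W'') :=
    ((i' ≫ k).appLE W'' ((i' ≫ k) ⁻¹ᵁ W'') le_rfl).hom
  let κ : Γ(Z'', W'') →+* Γ(Z', k ⁻¹ᵁ W'') := (k.appLE W'' (k ⁻¹ᵁ W'') le_rfl).hom
  have hf : f.FormallySmooth := FSmoothHom.formallySmooth_appLE p hp hUX hVYY hUV
  have hκπ : π'.comp κ = π'' := by
    have := Scheme.Hom.appLE_comp_appLE i' k W'' (k ⁻¹ᵁ W'') (i' ⁻¹ᵁ (k ⁻¹ᵁ W'')) le_rfl le_rfl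
    exact congrArg (fun g => g.hom) this
  have hκβ : κ.comp β = α.comp f := by
    have h1 := Scheme.Hom.appLE_comp_appLE k b VYY W'' (k ⁻¹ᵁ W'') e'' le_rfl
    have h2 := Scheme.Hom.appLE_comp_appLE a p VYY UX (k ⁻¹ᵁ W'') hUV e'
    have h3 := appLE_congr' hk₂ VYY (k ⁻¹ᵁ W'')
      (le_rfl.trans ((Opens.map k.base).map (homOfLE e'')).le)
      (e'.trans ((Opens.map a.base).map (homOfLE hUV)).le)
    have h4 := h1.trans (h3.trans h2.symm)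
    exact congrArg (fun g => g.hom) h4
  have hs : Function.Surjective π'' := by
    change Function.Surjective ((i' ≫ k).appLE W'' ((i' ≫ k) ⁻¹ᵁ W'') le_rfl).hom
    rw [Conorm.appLE_refl]
    exact (i' ≫ k).app_surjective W'' hW''
  have hk : RingHom.ker π'' ^ 2 = ⊥ := hR''.2.1
  obtain ⟨τ, hτ1, hτ2⟩ := RingTau.exists_tau f hf α π' β π'' κ hκπ hκβ hs hk
    (by
      intro β' hβ'
      letI alg₁ := (a.appLE UX (k ⁻¹ᵁ W'') e').hom.toAlgebra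
      letI alg₂ := (i'.appLE (k ⁻¹ᵁ W'') (i' ⁻¹ᵁ (k ⁻¹ᵁ W'')) le_rfl).hom.toAlgebra
      letI alg₃ := ((i'.appLE (k ⁻¹ᵁ W'') (i' ⁻¹ᵁ (k ⁻¹ᵁ W'')) le_rfl).hom.comp
        (a.appLE UX (k ⁻¹ᵁ W'') e').hom).toAlgebra
      haveI t₁ : IsScalarTower Γ(X, UX) Γ(Z', k ⁻¹ᵁ W'') Γ(Z, i' ⁻¹ᵁ (k ⁻¹ᵁ W'')) :=
        IsScalarTower.of_algebraMap_eq fun _ => rfl
      obtain ⟨τ, ⟨h1, h2⟩, -⟩ := UT.ring_lift _ hR' π'' hs hk β'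
        (RingHom.id Γ(Z, (i' ≫ k) ⁻¹ᵁ W'')) hβ'
      exact ⟨τ, h1, h2⟩)
    (by
      intro τ₁ τ₂ h1 h2 h3 h4
      letI alg₁ := (b.appLE VYY W'' e'').hom.toAlgebra
      letI alg₂ := ((i' ≫ k).appLE W'' ((i' ≫ k) ⁻¹ᵁ W'') le_rfl).hom.toAlgebra
      letI alg₃ := (((i' ≫ k).appLE W'' ((i' ≫ k) ⁻¹ᵁ W'') le_rfl).hom.comp
        (b.appLE VYY W'' e'').hom).toAlgebra
      haveI t₁ : IsScalarTower Γ(Y, VYY) Γ(Z'', W'') Γ(Z, (i' ≫ k) ⁻¹ᵁ W'') :=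
        IsScalarTower.of_algebraMap_eq fun _ => rfl
      obtain ⟨_, -, huniq⟩ := UT.ring_lift _ hR'' π'' hs hk β
        (RingHom.id Γ(Z, (i' ≫ k) ⁻¹ᵁ W'')) rfl
      rw [huniq τ₁ ⟨h1, h3⟩, huniq τ₂ ⟨h2, h4⟩])
  refine ⟨τ, fun y => congrArg (fun g => g y) hτ1, fun c' => ?_⟩
  have h5 : π'' (τ c') = π' c' := congrArg (fun g => g c') hτ2
  have h6 : π'' (τ c') = (i' ≫ k).app W'' (τ c') := by
    change ((i' ≫ k).appLE W'' ((i' ≫ k) ⁻¹ᵁ W'') le_rfl).hom (τ c') = _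
    rw [Conorm.appLE_refl]
  have h7 : π' c' = i'.app (k ⁻¹ᵁ W'') c' := by
    change (i'.appLE (k ⁻¹ᵁ W'') (i' ⁻¹ᵁ (k ⁻¹ᵁ W'')) le_rfl).hom c' = _
    rw [Conorm.appLE_refl]
  rw [← h6, h5, h7]
  exact map_refl' _ _

end Groth.Agent.Lib.Helper1.ConormSES
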