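import Mathlib
import Groth.Prelude.Def_CAlgX

set_option autoImplicit false
universe u

namespace Groth.Agent.Lib.Helper1.H1Loc

open CAlgX

variable {R : Type u} [CommRing R] {c : ℕ}

/-- coordinates of elements in the span of the trivial relations lie in the ideal -/
theorem coord_mem_of_mem_span (f : Fin c → R) (a : Fin c → R)
    (ha : a ∈ Submodule.span R {v : Fin c → R | ∃ i j : Fin c, v = Pi.single i (f j) - Pi.single j (f i)})
    (k : Fin c) : a k ∈ Ideal.span (Set.range f) := by
  induction ha using Submodule.span_induction with
  | mem v hv =>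
    obtain ⟨i, j, rfl⟩ := hv
    simp only [Pi.sub_apply, Pi.single_apply]
    refine Ideal.sub_mem _ ?_ ?_
    · split_ifs
      · exact Ideal.subset_span ⟨j, rfl⟩
      · exact Ideal.zero_mem _
    · split_ifs
      · exact Ideal.subset_span ⟨i, rfl⟩
      · exact Ideal.zero_mem _
  | zero => exact Ideal.zero_mem _
  | add x y _ _ hx hy => exact Ideal.add_mem _ hx hy
  | smul r x _ hx => exact Ideal.mul_mem_left _ _ hx

/-- for an `H_1`-regular sequence generating `I`, a linear combination lying in `I²` has all its
coefficients in `I` -/
theorem coeff_mem_of_sum_mem_sq (f : Fin c → R) (hf : IsH1Regular f) (b : Fin c → R)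
    (h : ∑ i, b i * f i ∈ Ideal.span (Set.range f) ^ 2) (k : Fin c) :
    b k ∈ Ideal.span (Set.range f) := by
  set I := Ideal.span (Set.range f) with hI
  have h1 : ∑ i, b i * f i ∈ I • (Submodule.span R (Set.range f)) := by
    rw [pow_two] at h
    exact h
  rw [Submodule.mem_ideal_smul_span_iff_exists_sum] at h1
  obtain ⟨a, haI, hsum⟩ := h1
  have hsum' : ∑ i, a i * f i = ∑ i, b i * f i := by
    rw [← hsum, Finsupp.sum_fintype _ _ (fun i => by simp)]
    rfl
  have hrel : ∑ i, (b i - a i) * f i = 0 := by
    simp only [sub_mul, Finset.sum_sub_distrib, hsum', sub_self]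
  have h2 := coord_mem_of_mem_span f _ (hf (fun i => b i - a i) hrel) k
  have h3 : b k = (b k - a k) + a k := by ring
  rw [h3]
  exact Ideal.add_mem _ h2 (haI k)

/-- `H_1`-regular sequences stay `H_1`-regular in localizations -/
theorem isH1Regular_of_isLocalization (M : Submonoid R) (S : Type u) [CommRing S] [Algebra R S]
    [IsLocalization M S] (f : Fin c → R) (hf : IsH1Regular f) :
    IsH1Regular (fun i => algebraMap R S (f i)) := by
  classical
  intro a ha
  obtain ⟨b, hb⟩ := IsLocalization.exist_integer_multiples M (Finset.univ : Finset (Fin c)) a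
  choose r hr using fun i => hb i (Finset.mem_univ i)
  have h1 : algebraMap R S (∑ i, r i * f i) = 0 := by
    rw [map_sum]
    have : ∀ i, algebraMap R S (r i * f i) = (b : R) • (a i * algebraMap R S (f i)) := by
      intro i
      rw [map_mul, hr i, smul_mul_assoc]
    simp only [this]
    rw [← Finset.smul_sum, ha, smul_zero]
  obtain ⟨m, hm⟩ := (IsLocalization.map_eq_zero_iff M S _).mp h1
  have hrel : ∑ i, ((m : R) * r i) * f i = 0 := by
    simp only [mul_assoc]
    rw [← Finset.mul_sum]
    exact hm
  have h2 := hf (fun i => (m : R) * r i) hrel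
  -- transport the span membership
  have key : ∀ v : Fin c → R,
      v ∈ Submodule.span R {v : Fin c → R | ∃ i j : Fin c, v = Pi.single i (f j) - Pi.single j (f i)} →
      (fun i => algebraMap R S (v i)) ∈ Submodule.span S {v : Fin c → S | ∃ i j : Fin c,
        v = Pi.single i (algebraMap R S (f j)) - Pi.single j (algebraMap R S (f i))} := by
    intro v hv
    induction hv using Submodule.span_induction with
    | mem v hv =>
      obtain ⟨i, j, rfl⟩ := hv
      apply Submodule.subset_span
      refine ⟨i, j, ?_⟩
      funext k
      simp only [Pi.sub_apply, Pi.single_apply, map_sub]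
      split_ifs <;> simp
    | zero =>
      have : (fun i => algebraMap R S ((0 : Fin c → R) i)) = 0 := by
        funext i; simp
      rw [this]
      exact Submodule.zero_mem _
    | add x y _ _ hx hy =>
      have : (fun i => algebraMap R S ((x + y) i)) =
          (fun i => algebraMap R S (x i)) + (fun i => algebraMap R S (y i)) := by
        funext i; simp
      rw [this]
      exact Submodule.add_mem _ hx hy
    | smul t x _ hx =>
      have : (fun i => algebraMap R S ((t • x) i)) =
          algebraMap R S t • (fun i => algebraMap R S (x i)) := by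
        funext i; simp
      rw [this]
      exact Submodule.smul_mem _ _ hx
  have h3 := key _ h2
  have hu : IsUnit (algebraMap R S ((m : R) * (b : R))) :=
    IsLocalization.map_units S (m * b)
  obtain ⟨u, hu'⟩ := hu
  have h4 : a = (↑u⁻¹ : S) • (fun i => algebraMap R S ((m : R) * r i)) := by
    funext i
    simp only [Pi.smul_apply, smul_eq_mul]
    rw [Units.eq_inv_mul_iff_mul_eq, hu', map_mul, map_mul, hr i, Algebra.smul_def]
    ring
  rw [h4]
  exact Submodule.smul_mem _ _ h3

end Groth.Agent.Lib.Helper1.H1Loc
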