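import Mathlib
import Groth.Prelude.Def_Omega3

set_option autoImplicit false
set_option linter.style.haveILetI false
universe u

namespace Groth.Agent.Lib.Helper1.UTKoszul

section Ring

variable {R A B B' : Type u} [CommRing R] [CommRing A] [CommRing B] [CommRing B']
  [Algebra R A] [Algebra R B] [Algebra R B'] [Algebra.FormallySmooth R A]
  (φ : A →ₐ[R] B) (hφ : Function.Surjective φ)
  (π : B' →ₐ[R] B) (hπ : OmegaSh.IsUnivThickeningRing R B B' π)
  {c : ℕ} (g : Fin c → A) (hgI : RingHom.ker φ.toRingHom = Ideal.span (Set.range g))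
  (hqr : ∀ a : Fin c → A, ∑ k, a k * g k ∈ Ideal.span (Set.range g) ^ 2 →
    ∀ k, a k ∈ Ideal.span (Set.range g))

include hφ hπ hgI hqr in
/-- the kernel of a universal first order thickening of `B = A/I` over `R`, with `A` formally
smooth over `R` and `I/I²` free on the classes of `g`, is a retract of the free module on `g`:
elementwise form. -/
theorem exists_retract_data :
    ∃ (n : Fin c → B') (v : B' → Fin c → B),
      (∀ k, π (n k) = 0) ∧
      (∀ x y, π x = 0 → π y = 0 → v (x + y) = v x + v y) ∧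
      (∀ b' x, π x = 0 → v (b' * x) = π b' • v x) ∧
      (∀ x, π x = 0 → ∀ e : Fin c → B', (∀ k, π (e k) = v x k) → x = ∑ k, e k * n k) := by
  classical
  obtain ⟨hπs, hπk, hπu⟩ := hπ
  set I : Ideal A := RingHom.ker φ.toRingHom with hI
  have hmemI : ∀ x : A, x ∈ I ↔ φ x = 0 := fun x => RingHom.mem_ker
  have hgmem : ∀ k, g k ∈ I := fun k => by rw [hgI]; exact Ideal.subset_span ⟨k, rfl⟩
  let T := A ⧸ I ^ 2
  let mkT : A →ₐ[R] T := Ideal.Quotient.mkₐ R (I ^ 2)
  have hmkT : Function.Surjective mkT := Ideal.Quotient.mkₐ_surjective R _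
  let L : Ideal T := I.map (Ideal.Quotient.mk (I ^ 2))
  have hL : L ^ 2 = ⊥ := by
    change (I.map (Ideal.Quotient.mk (I ^ 2))) ^ 2 = ⊥
    rw [← Ideal.map_pow, Ideal.map_quotient_self]
  have hI2 : ∀ a ∈ I ^ 2, φ a = 0 := fun a ha => (hmemI a).mp (Ideal.pow_le_self two_ne_zero ha)
  let ε : T →ₐ[R] B := Ideal.Quotient.liftₐ (I ^ 2) φ hI2
  have hε : ∀ x : A, ε (mkT x) = φ x := fun x => rfl
  have hkerφ : RingHom.ker φ.toRingHom ≤
      RingHom.ker ((Ideal.Quotient.mkₐ R L).comp mkT).toRingHom := by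
    intro x hx
    rw [RingHom.mem_ker]
    change Ideal.Quotient.mk L (Ideal.Quotient.mk (I ^ 2) x) = 0
    rw [Ideal.Quotient.eq_zero_iff_mem]
    exact Ideal.mem_map_of_mem _ hx
  let a₀ : B →ₐ[R] T ⧸ L := AlgHom.liftOfSurjective φ hφ ((Ideal.Quotient.mkₐ R L).comp mkT) hkerφ
  have ha₀ : ∀ x : A, a₀ (φ x) = Ideal.Quotient.mk L (mkT x) := fun x =>
    AlgHom.liftOfSurjective_apply φ hφ _ hkerφ x
  obtain ⟨β, hβ, -⟩ := hπu T L hL a₀
  have hεL : ∀ t ∈ L, ε t = 0 := by
    intro t ht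
    obtain ⟨y, rfl⟩ := hmkT t
    have : mkT y ∈ I.map (Ideal.Quotient.mk (I ^ 2)) := ht
    rw [Ideal.mem_map_iff_of_surjective _ Ideal.Quotient.mk_surjective] at this
    obtain ⟨y', hy', hyy'⟩ := this
    have : ε (mkT y) = ε (mkT y') := congrArg ε hyy'.symm
    rw [this, hε]
    exact (hmemI y').mp hy'
  let εbar : T ⧸ L →ₐ[R] B := Ideal.Quotient.liftₐ L ε hεL
  have hεβ : ∀ b' : B', ε (β b') = π b' := by
    intro b'
    have h1 : Ideal.Quotient.mk L (β b') = a₀ (π b') := AlgHom.congr_fun hβ b'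
    obtain ⟨x, hx⟩ := hφ (π b')
    have h2 : εbar (Ideal.Quotient.mk L (β b')) = ε (β b') := rfl
    rw [← h2, h1, ← hx, ha₀]
    rfl
  have hnil : IsNilpotent (RingHom.ker (π : B' →+* B)) := ⟨2, hπk⟩
  let α : A →ₐ[R] B' := Algebra.FormallySmooth.liftOfSurjective φ π hπs hnil
  have hα : ∀ x : A, π (α x) = φ x := fun x =>
    Algebra.FormallySmooth.liftOfSurjective_apply φ π hπs hnil x
  have hkk : ∀ x y : B', π x = 0 → π y = 0 → x * y = 0 := by
    intro x y hx hy
    have : x * y ∈ RingHom.ker π.toRingHom ^ 2 := by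
      rw [pow_two]
      exact Ideal.mul_mem_mul (RingHom.mem_ker.mpr hx) (RingHom.mem_ker.mpr hy)
    rw [hπk] at this
    exact this
  have hαI2 : ∀ a ∈ I ^ 2, α a = 0 := by
    intro a ha
    rw [pow_two] at ha
    refine Submodule.mul_induction_on ha (fun x hx y hy => ?_) (fun x y hx hy => ?_)
    · rw [map_mul]
      exact hkk _ _ (by rw [hα]; exact (hmemI x).mp hx) (by rw [hα]; exact (hmemI y).mp hy)
    · rw [map_add, hx, hy, add_zero]
  let αt : T →ₐ[R] B' := Ideal.Quotient.liftₐ (I ^ 2) α hαI2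
  have hαt : ∀ x : A, αt (mkT x) = α x := fun x => rfl
  have hπαt : ∀ t : T, π (αt t) = ε t := by
    intro t
    obtain ⟨x, rfl⟩ := hmkT t
    rw [hαt, hα, hε]
  -- `αt ∘ β = id`
  have hid : ∀ b' : B', αt (β b') = b' := by
    have hle : RingHom.ker π.toRingHom ≤
        RingHom.ker (Ideal.Quotient.mkₐ R (RingHom.ker π.toRingHom)).toRingHom := by
      intro x hx
      rw [RingHom.mem_ker]
      exact Ideal.Quotient.eq_zero_iff_mem.mpr hx
    let a₁ : B →ₐ[R] B' ⧸ RingHom.ker π.toRingHom :=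
      AlgHom.liftOfSurjective π hπs (Ideal.Quotient.mkₐ R _) hle
    have ha₁ : ∀ b' : B', a₁ (π b') = Ideal.Quotient.mk _ b' := fun b' =>
      AlgHom.liftOfSurjective_apply π hπs _ hle b'
    obtain ⟨γ, -, hγu⟩ := hπu B' (RingHom.ker π.toRingHom) hπk a₁
    have h1 : AlgHom.id R B' = γ := by
      apply hγu
      ext b'
      exact (ha₁ b').symm
    have h2 : αt.comp β = γ := by
      apply hγu
      ext b'
      change Ideal.Quotient.mk _ (αt (β b')) = a₁ (π b')
      rw [ha₁, Ideal.Quotient.eq, RingHom.mem_ker]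
      change π (αt (β b') - b') = 0
      rw [map_sub, hπαt, hεβ, sub_self]
    intro b'
    exact AlgHom.congr_fun (h2.trans h1.symm) b'
  let Θ : (Fin c → A) → T := fun a => mkT (∑ k, a k * g k)
  have hΘwd : ∀ a a' : Fin c → A, Θ a = Θ a' → ∀ k, φ (a k) = φ (a' k) := by
    intro a a' h k
    have h1 : mkT (∑ k, (a k - a' k) * g k) = 0 := by
      have : ∑ k, (a k - a' k) * g k = ∑ k, a k * g k - ∑ k, a' k * g k := by
        simp only [sub_mul, Finset.sum_sub_distrib]
      rw [this, map_sub]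
      exact sub_eq_zero.mpr h
    have h2 : ∑ k, (a k - a' k) * g k ∈ I ^ 2 := Ideal.Quotient.eq_zero_iff_mem.mp h1
    rw [hgI] at h2
    have h3 := hqr (fun k => a k - a' k) h2 k
    rw [← hgI] at h3
    have h4 : φ (a k - a' k) = 0 := (hmemI _).mp h3
    rwa [map_sub, sub_eq_zero] at h4
  have hΘex : ∀ x : B', π x = 0 → ∃ a, Θ a = β x := by
    intro x hx
    obtain ⟨y, hy⟩ := hmkT (β x)
    have h1 : φ y = 0 := by rw [← hε, hy, hεβ, hx]
    have h2 : y ∈ Ideal.span (Set.range g) := by rw [← hgI]; exact (hmemI y).mpr h1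
    obtain ⟨a, ha⟩ := (Ideal.mem_span_range_iff_exists_fun).mp h2
    exact ⟨a, by change mkT (∑ k, a k * g k) = β x; rw [ha, hy]⟩
  let v : B' → Fin c → B := fun x =>
    if h : ∃ a, Θ a = β x then fun k => φ (Classical.choose h k) else 0
  have hv : ∀ (x : B') (a : Fin c → A), Θ a = β x → v x = fun k => φ (a k) := by
    intro x a ha
    have h : ∃ a, Θ a = β x := ⟨a, ha⟩
    change (if h : ∃ a, Θ a = β x then fun k => φ (Classical.choose h k) else 0) = _
    rw [dif_pos h]
    funext k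
    exact hΘwd _ _ ((Classical.choose_spec h).trans ha.symm) k
  refine ⟨fun k => α (g k), v, fun k => ?_, ?_, ?_, ?_⟩
  · rw [hα]; exact (hmemI _).mp (hgmem k)
  · intro x y hx hy
    obtain ⟨a, ha⟩ := hΘex x hx
    obtain ⟨a', ha'⟩ := hΘex y hy
    have h1 : Θ (a + a') = β (x + y) := by
      change mkT (∑ k, (a + a') k * g k) = β (x + y)
      simp only [Pi.add_apply, add_mul, Finset.sum_add_distrib, map_add]
      rw [← ha, ← ha']
    rw [hv _ _ h1, hv _ _ ha, hv _ _ ha']
    funext k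
    simp
  · intro b' x hx
    obtain ⟨a, ha⟩ := hΘex x hx
    obtain ⟨y, hy⟩ := hmkT (β b')
    have h1 : Θ (fun k => y * a k) = β (b' * x) := by
      change mkT (∑ k, (y * a k) * g k) = β (b' * x)
      simp only [mul_assoc]
      rw [← Finset.mul_sum, map_mul, map_mul, hy, ← ha]
    have h2 : φ y = π b' := by rw [← hε, hy, hεβ]
    rw [hv _ _ h1, hv _ _ ha]
    funext k
    simp [h2]
  · intro x hx e he
    obtain ⟨a, ha⟩ := hΘex x hx
    have h1 : x = ∑ k, α (a k) * α (g k) := by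
      rw [← hid x, ← ha]
      change αt (mkT (∑ k, a k * g k)) = _
      rw [hαt, map_sum]
      simp only [map_mul]
    rw [h1]
    refine Finset.sum_congr rfl fun k _ => ?_
    have h2 : π (α (a k) - e k) = 0 := by
      rw [map_sub, hα, he k, hv _ _ ha, sub_self]
    have h3 : π (α (g k)) = 0 := by rw [hα]; exact (hmemI _).mp (hgmem k)
    have h4 := hkk _ _ h2 h3
    rw [sub_mul, sub_eq_zero] at h4
    exact h4

end Ring

end Groth.Agent.Lib.Helper1.UTKoszul
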