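import Mathlib
import Groth.Agent.Lib.Helper1.UTKoszulRing
import Groth.Agent.Lib.Helper1.UTRing
import Groth.Agent.Lib.Helper1.ConormSplit
import Groth.Agent.Lib.Helper1.ConormOpen
import Groth.Agent.Lib.Helper1.ConormSES
import Groth.Agent.Lib.Helper1.H1Loc
import Groth.Agent.Lib.Helper1.FSmoothHom
import Groth.Agent.Lib.Helper28.Thick.Affine
import Groth.Agent.Lib.Helper10.KoszulLow
import Groth.Agent.Lib.Helper3.LocFreeCrit
import Groth.Agent.S1488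
import Groth.Prelude.Def_RegImm

set_option autoImplicit false
set_option linter.style.haveILetI false
universe u
open CategoryTheory CategoryTheory.Limits AlgebraicGeometry TopologicalSpace Opposite
open Groth.Agent.Lib.Helper1 Groth.Agent.Lib.Helper3

namespace Groth.Agent.Lib.Helper1.UTKoszul

section Geom

variable {X X' Y : Scheme.{u}} {f : X ⟶ Y} {i : X ⟶ X'} {h' : X' ⟶ Y}

set_option maxHeartbeats 800000 in
theorem finite_projective_sections
    (hu : OmegaSh.IsUnivThickening f i h') {VY : Y.Opens} (hVY : IsAffineOpen VY)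
    {W' : X'.Opens} (hW' : IsAffineOpen W') (e : W' ≤ h' ⁻¹ᵁ VY)
    (A : Type u) [CommRing A] (ρ : Γ(Y, VY) →+* A) (hρ : ρ.FormallySmooth)
    (φ : A →+* Γ(X, i ⁻¹ᵁ W')) (hφ : Function.Surjective φ)
    (hcompat : ∀ r, φ (ρ r) = (i.appLE W' (i ⁻¹ᵁ W') le_rfl).hom ((h'.appLE VY W' e).hom r))
    {c : ℕ} (g : Fin c → A) (hgI : RingHom.ker φ = Ideal.span (Set.range g))
    (hqr : ∀ a : Fin c → A, ∑ k, a k * g k ∈ Ideal.span (Set.range g) ^ 2 →
      ∀ k, a k ∈ Ideal.span (Set.range g)) :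
    Module.Finite Γ(X, i ⁻¹ᵁ W') Γ(Omega.conormal i, i ⁻¹ᵁ W') ∧
      Module.Projective Γ(X, i ⁻¹ᵁ W') Γ(Omega.conormal i, i ⁻¹ᵁ W') := by
  classical
  letI alg₁ : Algebra Γ(Y, VY) Γ(X', W') := (h'.appLE VY W' e).hom.toAlgebra
  letI alg₂ : Algebra Γ(X', W') Γ(X, i ⁻¹ᵁ W') := (i.appLE W' (i ⁻¹ᵁ W') le_rfl).hom.toAlgebra
  letI alg₃ : Algebra Γ(Y, VY) Γ(X, i ⁻¹ᵁ W') :=
    ((i.appLE W' (i ⁻¹ᵁ W') le_rfl).hom.comp (h'.appLE VY W' e).hom).toAlgebra
  haveI t₁ : IsScalarTower Γ(Y, VY) Γ(X', W') Γ(X, i ⁻¹ᵁ W') :=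
    IsScalarTower.of_algebraMap_eq fun _ => rfl
  letI alg₄ : Algebra Γ(Y, VY) A := ρ.toAlgebra
  haveI : Algebra.FormallySmooth Γ(Y, VY) A := hρ
  have hπ := UT.isUnivThickeningRing_of_isUnivThickening hu hVY hW' e
  let φₐ : A →ₐ[Γ(Y, VY)] Γ(X, i ⁻¹ᵁ W') := { φ with commutes' := hcompat }
  have hφₐ : Function.Surjective φₐ := hφ
  have hgI' : RingHom.ker φₐ.toRingHom = Ideal.span (Set.range g) := hgI
  obtain ⟨n, v, hn, hadd, hsmul, hrec⟩ := exists_retract_data φₐ hφₐ _ hπ g hgI' hqr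
  haveI hci : IsClosedImmersion i := hu.1.1.1
  have hker : i.ker * i.ker = ⊥ := hu.1.2
  have hbij := ConormSplit.conormalSect_bijective i hW' hker
  let cE := Equiv.ofBijective _ hbij
  have hπeq : ∀ b' : Γ(X', W'), (IsScalarTower.toAlgHom Γ(Y, VY) Γ(X', W') Γ(X, i ⁻¹ᵁ W')) b' =
      (i.app W').hom b' := by
    intro b'
    change (i.appLE W' (i ⁻¹ᵁ W') le_rfl).hom b' = _
    rw [Conorm.appLE_refl]
  have hπs : Function.Surjective (i.app W').hom := i.app_surjective W' hW'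
  have hnk : ∀ k, n k ∈ RingHom.ker (i.app W').hom := fun k => by
    rw [RingHom.mem_ker, ← hπeq]; exact hn k
  choose s hs using fun k => Conorm.exists_val_eq i hW' (n k) (hnk k)
  let m : Fin c → Γ(Omega.conormal i, i ⁻¹ᵁ W') := fun k => OmegaSh.conormalSect i W' (s k)
  have hval0 : ∀ t : Γ(ClSub.idealMod i.ker, W'),
      (IsScalarTower.toAlgHom Γ(Y, VY) Γ(X', W') Γ(X, i ⁻¹ᵁ W')) (IdealMod.val i.ker t) = 0 := by
    intro t
    rw [hπeq]
    exact Conorm.val_mem_ker i hW' t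
  have hcinv_add : ∀ m₁ m₂, cE.symm (m₁ + m₂) = cE.symm m₁ + cE.symm m₂ := by
    intro m₁ m₂
    apply cE.injective
    rw [Equiv.apply_symm_apply]
    change _ = OmegaSh.conormalSect i W' (cE.symm m₁ + cE.symm m₂)
    rw [map_add]
    change _ = cE (cE.symm m₁) + cE (cE.symm m₂)
    rw [Equiv.apply_symm_apply, Equiv.apply_symm_apply]
  have hcinv_smul : ∀ (b' : Γ(X', W')) m₁, cE.symm ((i.app W').hom b' • m₁) = b' • cE.symm m₁ := by
    intro b' m₁
    apply cE.injective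
    rw [Equiv.apply_symm_apply]
    change _ = OmegaSh.conormalSect i W' (b' • cE.symm m₁)
    rw [Conorm.conormalSect_smul]
    change _ = (i.app W').hom b' • cE (cE.symm m₁)
    rw [Equiv.apply_symm_apply]
  let vM : Γ(Omega.conormal i, i ⁻¹ᵁ W') →ₗ[Γ(X, i ⁻¹ᵁ W')] (Fin c → Γ(X, i ⁻¹ᵁ W')) :=
    { toFun := fun m₁ => v (IdealMod.val i.ker (cE.symm m₁))
      map_add' := by
        intro m₁ m₂
        rw [hcinv_add, IdealMod.val_add]
        exact hadd _ _ (hval0 _) (hval0 _)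
      map_smul' := by
        intro b m₁
        obtain ⟨b', rfl⟩ := hπs b
        rw [hcinv_smul, IdealMod.val_smul, hsmul _ _ (hval0 _), hπeq]
        rfl }
  let uM : (Fin c → Γ(X, i ⁻¹ᵁ W')) →ₗ[Γ(X, i ⁻¹ᵁ W')] Γ(Omega.conormal i, i ⁻¹ᵁ W') :=
    Fintype.linearCombination Γ(X, i ⁻¹ᵁ W') m
  have hcomp : uM.comp vM = LinearMap.id := by
    ext m₁
    change uM (vM m₁) = m₁
    rw [Fintype.linearCombination_apply]
    set t := cE.symm m₁ with ht
    have hm₁ : m₁ = OmegaSh.conormalSect i W' t := (Equiv.apply_symm_apply cE m₁).symm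
    choose eb heb using fun k => hπs (vM m₁ k)
    have h1 := hrec (IdealMod.val i.ker t) (hval0 t) eb (fun k => by rw [hπeq, heb k]; rfl)
    have h2 : t = ∑ k, eb k • s k := by
      apply IdealMod.val_injective i.ker
      rw [h1]
      symm
      have : ∀ (T : Finset (Fin c)), IdealMod.val i.ker (∑ k ∈ T, eb k • s k) =
          ∑ k ∈ T, eb k * n k := by
        intro T
        induction T using Finset.induction_on with
        | empty => simp only [Finset.sum_empty]; exact ConormMap.val_zero i.ker W'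
        | insert a T ha ih =>
          rw [Finset.sum_insert ha, Finset.sum_insert ha, IdealMod.val_add, ih, IdealMod.val_smul,
            hs]
      exact this _
    have hw : ∀ k, vM m₁ k = (i.app W').hom (eb k) := fun k => (heb k).symm
    have h3 : ∑ k, vM m₁ k • m k = OmegaSh.conormalSect i W' (∑ k, eb k • s k) := by
      rw [map_sum]
      refine Finset.sum_congr rfl fun k _ => ?_
      rw [hw k, Conorm.conormalSect_smul]
    rw [h3, ← h2]
    exact hm₁.symm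
  have hsurj : Function.Surjective uM := fun m₁ => ⟨vM m₁, LinearMap.congr_fun hcomp m₁⟩
  exact ⟨Module.Finite.of_surjective uM hsurj, Module.Projective.of_split vM uM hcomp⟩

end Geom

section Loc

/-- localization of a surjection: surjectivity and kernel -/
theorem loc_surj_ker {A B Ah Bh : Type u} [CommRing A] [CommRing B] [CommRing Ah] [CommRing Bh]
    [Algebra A Ah] [Algebra B Bh] (ψ : A →+* B) (hψ : Function.Surjective ψ) (h : A)
    [IsLocalization.Away h Ah] [IsLocalization.Away (ψ h) Bh] (ψh : Ah →+* Bh)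
    (hcomm : ∀ a, ψh (algebraMap A Ah a) = algebraMap B Bh (ψ a)) :
    Function.Surjective ψh ∧ RingHom.ker ψh = (RingHom.ker ψ).map (algebraMap A Ah) := by
  have hu : IsUnit (algebraMap A Ah h) := IsLocalization.Away.algebraMap_isUnit h
  have hu' : IsUnit (algebraMap B Bh (ψ h)) := IsLocalization.Away.algebraMap_isUnit (ψ h)
  obtain ⟨u, hu0⟩ := hu
  constructor
  · intro y
    obtain ⟨n, b, hb⟩ := IsLocalization.Away.surj (ψ h) y
    obtain ⟨a, rfl⟩ := hψ b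
    refine ⟨algebraMap A Ah a * ((u⁻¹ : Ahˣ) : Ah) ^ n, ?_⟩
    have h1 : ψh (algebraMap A Ah a * ((u⁻¹ : Ahˣ) : Ah) ^ n) * algebraMap B Bh (ψ h) ^ n =
        y * algebraMap B Bh (ψ h) ^ n := by
      rw [hb, ← hcomm h, ← map_pow, ← map_mul, ← hu0, mul_assoc, ← mul_pow, Units.inv_mul, one_pow,
        mul_one, hcomm]
    exact (hu'.pow n).mul_left_injective h1
  · apply le_antisymm
    · intro y hy
      rw [RingHom.mem_ker] at hy
      obtain ⟨n, a, ha⟩ := IsLocalization.Away.surj h y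
      have h1 : algebraMap B Bh (ψ a) = 0 := by
        rw [← hcomm, ← ha, map_mul, hy, zero_mul]
      obtain ⟨⟨_, m, rfl⟩, hm⟩ := (IsLocalization.map_eq_zero_iff (Submonoid.powers (ψ h)) Bh _).mp h1
      have h2 : h ^ m * a ∈ RingHom.ker ψ := by
        rw [RingHom.mem_ker, map_mul, map_pow]; exact hm
      have h3 : y = algebraMap A Ah (h ^ m * a) * ((u⁻¹ : Ahˣ) : Ah) ^ (m + n) := by
        rw [map_mul, ← ha, map_pow, ← hu0, pow_add]
        have : ((u : Ah) ^ m * (y * (u : Ah) ^ n)) * (((u⁻¹ : Ahˣ) : Ah) ^ m * ((u⁻¹ : Ahˣ) : Ah) ^ n) =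
            y * (((u : Ah) * ((u⁻¹ : Ahˣ) : Ah)) ^ m * ((u : Ah) * ((u⁻¹ : Ahˣ) : Ah)) ^ n) := by ring
        rw [this, Units.mul_inv, one_pow, one_pow, mul_one, mul_one]
      rw [h3]
      exact Ideal.mul_mem_right _ _ (Ideal.mem_map_of_mem _ h2)
    · rw [Ideal.map_le_iff_le_comap]
      intro a ha
      rw [Ideal.mem_comap, RingHom.mem_ker, hcomm, RingHom.mem_ker.mp ha, map_zero]

end Loc

section Cob

variable {Z P : Scheme.{u}} (ι : Z ⟶ P)

theorem le_coborderRange_of_isClosedImmersion_restrict [IsImmersion ι] (V : P.Opens)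
    [IsClosedImmersion (ι ∣_ V)] : V ≤ ι.coborderRange := by
  intro x hx
  change x ∈ coborder (Set.range ι)
  rw [coborder]
  intro hmem
  obtain ⟨h1, hne⟩ := hmem
  have hcl : IsClosed (Set.range (ι ∣_ V).base) := (ι ∣_ V).isClosedEmbedding.isClosed_range
  obtain ⟨K, hK, hKeq⟩ := isClosed_induced_iff.mp hcl
  have hiff : ∀ y : P, ∀ hy : y ∈ V, y ∈ K ↔ y ∈ Set.range ι.base := by
    intro y hy
    have e : (⟨y, hy⟩ : ↥V) ∈ Set.range (ι ∣_ V).base ↔ y ∈ K := by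
      rw [← hKeq]; rfl
    rw [← e]
    constructor
    · rintro ⟨w, hw⟩
      refine ⟨w.1, ?_⟩
      have := morphismRestrict_base_coe ι V w
      rw [hw] at this
      exact this.symm
    · rintro ⟨w, hw⟩
      have hwU : w ∈ ι ⁻¹ᵁ V := by
        show ι.base w ∈ V
        rw [hw]; exact hy
      refine ⟨(⟨w, hwU⟩ : ((ι ⁻¹ᵁ V : Z.Opens) : Scheme.{u})), Subtype.ext ?_⟩
      exact (morphismRestrict_base_coe ι V _).trans hw
  have hxK : x ∉ K := fun hk => hne ((hiff x hx).mp hk)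
  have hop : IsOpen ((V : Set P) ∩ Kᶜ) := V.2.inter hK.isOpen_compl
  obtain ⟨y, ⟨hyU, hyK⟩, hyr⟩ := mem_closure_iff.mp h1 _ hop ⟨hx, hxK⟩
  exact hyK ((hiff y hyU).mpr hyr)

/-- on a basic open of a good affine open the morphism on sections is still surjective, the
preimage is affine, and the kernel is the extension of the kernel -/
theorem good_basicOpen {V : P.Opens} (hV : IsAffineOpen V) (hιV : IsAffineOpen (ι ⁻¹ᵁ V))
    (hs : Function.Surjective (ι.app V)) (h : Γ(P, V)) :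
    IsAffineOpen (ι ⁻¹ᵁ (P.basicOpen h)) ∧ Function.Surjective (ι.app (P.basicOpen h)) ∧
      RingHom.ker (ι.app (P.basicOpen h)).hom =
        (RingHom.ker (ι.app V).hom).map (P.presheaf.map (homOfLE (P.basicOpen_le h)).op).hom := by
  have hpre : ι ⁻¹ᵁ (P.basicOpen h) = Z.basicOpen (ι.app V h) := Scheme.preimage_basicOpen ι h
  have hle : ι ⁻¹ᵁ (P.basicOpen h) ≤ ι ⁻¹ᵁ V := ι.preimage_mono (P.basicOpen_le h)
  refine ⟨by rw [hpre]; exact hιV.basicOpen _, ?_⟩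
  letI : Algebra Γ(P, V) Γ(P, P.basicOpen h) :=
    (P.presheaf.map (homOfLE (P.basicOpen_le h)).op).hom.toAlgebra
  haveI : IsLocalization.Away h Γ(P, P.basicOpen h) := hV.isLocalization_basicOpen h
  letI : Algebra Γ(Z, ι ⁻¹ᵁ V) Γ(Z, ι ⁻¹ᵁ (P.basicOpen h)) :=
    (Z.presheaf.map (homOfLE hle).op).hom.toAlgebra
  haveI : IsLocalization.Away ((ι.app V).hom h) Γ(Z, ι ⁻¹ᵁ (P.basicOpen h)) :=
    hιV.isLocalization_of_eq_basicOpen _ (homOfLE hle) hpre
  have hcomm : ∀ a, (ι.app (P.basicOpen h)).hom (algebraMap Γ(P, V) Γ(P, P.basicOpen h) a) =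
      algebraMap Γ(Z, ι ⁻¹ᵁ V) Γ(Z, ι ⁻¹ᵁ (P.basicOpen h)) ((ι.app V).hom a) := by
    intro a
    have := ι.naturality (homOfLE (P.basicOpen_le h)).op
    exact congr($this a)
  obtain ⟨h1, h2⟩ := loc_surj_ker (ι.app V).hom hs h (ι.app (P.basicOpen h)).hom hcomm
  exact ⟨h1, h2⟩

end Cob

section Chart

variable {X X' Y : Scheme.{u}} {i : X ⟶ X'} {h' : X' ⟶ Y}

/-- variant of `finite_projective_sections` in which the open of `X` is only propositionally a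
preimage -/
theorem finite_projective_sections'
    (hu : OmegaSh.IsUnivThickening (i ≫ h') i h') {VY : Y.Opens} (hVY : IsAffineOpen VY)
    {W' : X'.Opens} (hW' : IsAffineOpen W') (e : W' ≤ h' ⁻¹ᵁ VY)
    (W₀ : X.Opens) (hW₀ : W₀ = i ⁻¹ᵁ W') (e₀ : W₀ ≤ (i ≫ h') ⁻¹ᵁ VY)
    (A : Type u) [CommRing A] (ρ : Γ(Y, VY) →+* A) (hρ : ρ.FormallySmooth)
    (φ : A →+* Γ(X, W₀)) (hφ : Function.Surjective φ)
    (hcompat : ∀ r, φ (ρ r) = ((i ≫ h').appLE VY W₀ e₀).hom r)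
    {c : ℕ} (g : Fin c → A) (hgI : RingHom.ker φ = Ideal.span (Set.range g))
    (hqr : ∀ a : Fin c → A, ∑ k, a k * g k ∈ Ideal.span (Set.range g) ^ 2 →
      ∀ k, a k ∈ Ideal.span (Set.range g)) :
    Module.Finite Γ(X, W₀) Γ(Omega.conormal i, W₀) ∧
      Module.Projective Γ(X, W₀) Γ(Omega.conormal i, W₀) := by
  subst hW₀
  refine finite_projective_sections hu hVY hW' e A ρ hρ φ hφ ?_ g hgI hqr
  intro r
  rw [hcompat r]
  have := Scheme.Hom.appLE_comp_appLE i h' VY W' (i ⁻¹ᵁ W') e le_rfl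
  exact congr($this.symm r)

end Chart

section Main

variable {X X' Y : Scheme.{u}} {i : X ⟶ X'} {h' : X' ⟶ Y}

theorem ofList_eq_span_range' {R : Type u} [CommRing R] (rs : List R) :
    Ideal.ofList rs = Ideal.span (Set.range rs.get) := by
  rw [Ideal.ofList]
  congr 1
  ext r
  simp only [Set.mem_ofPred_eq, Set.mem_range]
  exact List.mem_iff_get

set_option maxHeartbeats 800000 in
theorem exists_chart (hu : OmegaSh.IsUnivThickening (i ≫ h') i h') (x : X)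
    (hx : Synt.IsKoszulAt (i ≫ h') x) :
    ∃ W₀ : X.Opens, IsAffineOpen W₀ ∧ x ∈ W₀ ∧
      Module.Finite Γ(X, W₀) Γ(Omega.conormal i, W₀) ∧
      Module.Projective Γ(X, W₀) Γ(Omega.conormal i, W₀) := by
  obtain ⟨U, P, ι, π, hxU, -, hι, hπ, hcomp⟩ := hx
  haveI := hπ
  haveI := hι.1
  haveI hci : IsClosedImmersion i := hu.1.1.1
  have hisurj : Function.Surjective i := hu.1.1.2.surj
  obtain ⟨⟨V, hV⟩, hzV, hclV, rs, hrs, hker⟩ := hι.2 ⟨x, hxU⟩
  haveI := hclV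
  have hrs' : LCI.IsKoszulRegularSeq Γ(P, V) rs := hrs
  have hH1 : CAlgX.IsH1Regular rs.get := fun a ha =>
    H10KL.h1_of_isZero_homology _ rs (hrs' (-1) (by norm_num)) a ha
  obtain ⟨hιV, hsV⟩ := ConormMap.good_of_le_coborderRange ι hV
    (le_coborderRange_of_isClosedImmersion_restrict ι V)
  obtain ⟨_, ⟨VY : Y.Opens, hVY, rfl⟩, hzVY, -⟩ := Y.isBasis_affineOpens.exists_subset_of_mem_open
    (Set.mem_univ (π (ι ⟨x, hxU⟩))) isOpen_univ
  obtain ⟨h, hDle, hzD⟩ := hV.exists_basicOpen_le (V := V ⊓ π ⁻¹ᵁ VY)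
    ⟨ι ⟨x, hxU⟩, ⟨hzV, hzVY⟩⟩ hzV
  have hD : IsAffineOpen (P.basicOpen h) := hV.basicOpen h
  obtain ⟨hιD, hsD, hkerD⟩ := good_basicOpen ι hV hιV hsV h
  have hDπ : P.basicOpen h ≤ π ⁻¹ᵁ VY := hDle.trans inf_le_right
  have hW : IsAffineOpen (U.ι ''ᵁ (ι ⁻¹ᵁ (P.basicOpen h))) := hιD.image_of_isOpenImmersion U.ι
  obtain ⟨W', hW'eq⟩ := ConormOpen.exists_preimage_eq i (U.ι ''ᵁ (ι ⁻¹ᵁ (P.basicOpen h)))
  have hW' : IsAffineOpen W' :=
    Groth.Agent.Lib.Helper28.Thick.isAffineOpen_of_preimage i hisurj (by rw [hW'eq]; exact hW)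
  have hxW : x ∈ U.ι ''ᵁ (ι ⁻¹ᵁ (P.basicOpen h)) := ⟨⟨x, hxU⟩, hzD, rfl⟩
  -- `W₀` maps into `VY`
  have e₀ : U.ι ''ᵁ (ι ⁻¹ᵁ (P.basicOpen h)) ≤ (i ≫ h') ⁻¹ᵁ VY := by
    rintro _ ⟨u, hu', rfl⟩
    change (i ≫ h') (U.ι u) ∈ VY
    have h1 : (i ≫ h') (U.ι u) = π (ι u) := by
      have := congrArg (fun g => g.base u) hcomp
      exact this.symm
    rw [h1]
    exact hDπ hu'
  have e : W' ≤ h' ⁻¹ᵁ VY := by
    intro y' hy'
    obtain ⟨y, rfl⟩ := hisurj y'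
    have hy : y ∈ i ⁻¹ᵁ W' := hy'
    rw [hW'eq] at hy
    exact e₀ hy
  have hπfs : MoreMor.IsFormallySmoothHom π := ((Groth.Agent.S1488.result π).mp hπ).2
  have hρ := FSmoothHom.formallySmooth_appLE π hπfs hD hVY hDπ
  -- the generators
  letI algD : Algebra Γ(P, V) Γ(P, P.basicOpen h) :=
    (P.presheaf.map (homOfLE (P.basicOpen_le h)).op).hom.toAlgebra
  haveI : IsLocalization.Away h Γ(P, P.basicOpen h) := hV.isLocalization_basicOpen h
  have hg := H1Loc.isH1Regular_of_isLocalization (Submonoid.powers h) Γ(P, P.basicOpen h)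
    rs.get hH1
  have hgI : RingHom.ker (ι.app (P.basicOpen h)).hom =
      Ideal.span (Set.range fun k => algebraMap Γ(P, V) Γ(P, P.basicOpen h) (rs.get k)) := by
    rw [hkerD, hker, ofList_eq_span_range', Ideal.map_span, ← Set.range_comp]
    rfl
  refine ⟨U.ι ''ᵁ (ι ⁻¹ᵁ (P.basicOpen h)), hW, hxW, ?_⟩
  refine finite_projective_sections' hu hVY hW' e _ hW'eq.symm e₀ Γ(P, P.basicOpen h)
    (π.appLE VY (P.basicOpen h) hDπ).hom hρ (ι.app (P.basicOpen h)).hom hsD ?_ _ hgI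
    (fun a ha k => H1Loc.coeff_mem_of_sum_mem_sq _ hg a ha k)
  intro r
  have h1 : π.appLE VY (P.basicOpen h) hDπ ≫ ι.app (P.basicOpen h) =
      (ι ≫ π).appLE VY (ι ⁻¹ᵁ (P.basicOpen h)) (fun y hy => hDπ hy) := by
    rw [Scheme.Hom.app_eq_appLE]
    exact Scheme.Hom.appLE_comp_appLE ι π VY (P.basicOpen h) (ι ⁻¹ᵁ (P.basicOpen h)) hDπ le_rfl
  have e₁ : ι ⁻¹ᵁ (P.basicOpen h) ≤ U.ι ⁻¹ᵁ (U.ι ''ᵁ (ι ⁻¹ᵁ (P.basicOpen h))) :=
    fun y hy => ⟨y, hy, rfl⟩
  have h2 : (ι ≫ π).appLE VY (ι ⁻¹ᵁ (P.basicOpen h)) (fun y hy => hDπ hy) =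
      (U.ι ≫ (i ≫ h')).appLE VY (ι ⁻¹ᵁ (P.basicOpen h)) (fun y hy => e₀ (e₁ hy)) :=
    ConormSES.appLE_congr' hcomp _ _ _ _
  have h3 : (U.ι ≫ (i ≫ h')).appLE VY (ι ⁻¹ᵁ (P.basicOpen h)) (fun y hy => e₀ (e₁ hy)) =
      (i ≫ h').appLE VY (U.ι ''ᵁ (ι ⁻¹ᵁ (P.basicOpen h))) e₀ ≫
        U.ι.appLE (U.ι ''ᵁ (ι ⁻¹ᵁ (P.basicOpen h))) (ι ⁻¹ᵁ (P.basicOpen h)) e₁ :=
    (Scheme.Hom.appLE_comp_appLE U.ι (i ≫ h') VY _ _ e₀ e₁).symm
  have h4 : U.ι.appLE (U.ι ''ᵁ (ι ⁻¹ᵁ (P.basicOpen h))) (ι ⁻¹ᵁ (P.basicOpen h)) e₁ = 𝟙 _ := by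
    rw [Scheme.Opens.ι_appLE]
    exact X.presheaf.map_id _
  have h5 := h1.trans (h2.trans h3)
  rw [h4] at h5
  have h6 := h5.trans (Category.comp_id _)
  exact congr($h6 r)

end Main

end Groth.Agent.Lib.Helper1.UTKoszul
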