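import Mathlib
import Groth.Agent.Lib.Helper1.KoszulConcat
import Groth.Agent.Lib.Helper1.UTKoszul
import Groth.Prelude.Def_RegImm

set_option autoImplicit false
set_option linter.style.haveILetI false
universe u
open CategoryTheory CategoryTheory.Limits AlgebraicGeometry TopologicalSpace Opposite

namespace Groth.Agent.Lib.Helper1.RegComp

section Ring

variable {A B : Type u} [CommRing A] [CommRing B]

/-- transport of Koszul-regularity along a ring isomorphism -/
theorem isKoszulRegularSeq_map_ringEquiv (e : A ≃+* B) (l : List A)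
    (hl : LCI.IsKoszulRegularSeq A l) : LCI.IsKoszulRegularSeq B (l.map e) := by
  letI : Algebra A B := e.toRingHom.toAlgebra
  haveI : Module.Flat A B := by
    let le : B ≃ₗ[A] A :=
      { toFun := e.symm
        invFun := e
        left_inv := e.apply_symm_apply
        right_inv := e.symm_apply_apply
        map_add' := map_add e.symm
        map_smul' := fun a b => by
          change e.symm (e a * b) = a * e.symm b
          rw [map_mul, e.symm_apply_apply] }
    exact Module.Flat.of_linearEquiv le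
  exact KoszulConcat.isKoszulRegularSeq_map_of_flat (B := B) l hl

theorem ofList_map {R S : Type*} [CommSemiring R] [CommSemiring S] (f : R →+* S) (l : List R) :
    Ideal.ofList (l.map f) = (Ideal.ofList l).map f := by
  rw [Ideal.ofList, Ideal.ofList, Ideal.map_span]
  congr 1
  ext x
  simp only [Set.mem_ofPred_eq, List.mem_map, Set.mem_image]

/-- Koszul-regular sequences along a surjection with Koszul-regular kernel -/
theorem isKoszulRegularSeq_append_of_surjective (π : A →+* B) (hπ : Function.Surjective π)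
    (l : List A) (hl : LCI.IsKoszulRegularSeq A l) (hker : RingHom.ker π = Ideal.ofList l)
    (s : List A) (hs : LCI.IsKoszulRegularSeq B (s.map π)) :
    LCI.IsKoszulRegularSeq A (s ++ l) := by
  apply KoszulConcat.isKoszulRegularSeq_append l s hl
  let e : (A ⧸ Ideal.ofList l) ≃+* B :=
    (Ideal.quotEquivOfEq hker.symm).trans (RingHom.quotientKerEquivOfSurjective hπ)
  have he : ∀ a : A, e (Ideal.Quotient.mk _ a) = π a := fun a => rfl
  have h1 := isKoszulRegularSeq_map_ringEquiv e.symm (s.map π) hs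
  have h2 : (s.map π).map e.symm = s.map (Ideal.Quotient.mk (Ideal.ofList l)) := by
    rw [List.map_map]
    apply List.map_congr_left
    intro a _
    change e.symm (π a) = _
    rw [← he, e.symm_apply_apply]
  rwa [h2] at h1

/-- the kernel of a composite of surjections -/
theorem ker_comp_eq_ofList_append {C : Type u} [CommRing C] (π : A →+* B)
    (ρ : B →+* C) (l : List A) (hker : RingHom.ker π = Ideal.ofList l)
    (s : List A) (hs : RingHom.ker ρ = Ideal.ofList (s.map π)) (hπ : Function.Surjective π) :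
    RingHom.ker (ρ.comp π) = Ideal.ofList (s ++ l) := by
  rw [Ideal.ofList_append, ← RingHom.comap_ker, hs, ofList_map, ← hker,
    Ideal.comap_map_of_surjective π hπ, ← RingHom.ker_eq_comap_bot]

end Ring

section Restrict

variable {X Y : Scheme.{u}} (f : X ⟶ Y)

theorem isClosedImmersion_restrict_of_le {U₁ U : Y.Opens} (hle : U ≤ U₁)
    [IsClosedImmersion (f ∣_ U₁)] : IsClosedImmersion (f ∣_ U) := by
  have h1 : IsClosedImmersion ((f ∣_ U₁) ∣_ (U₁.ι ⁻¹ᵁ U)) :=
    IsZariskiLocalAtTarget.restrict (P := @IsClosedImmersion) (inferInstance : IsClosedImmersion (f ∣_ U₁)) _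
  have e : U₁.ι ''ᵁ (U₁.ι ⁻¹ᵁ U) = U := by
    rw [Scheme.Hom.image_preimage_eq_opensRange_inf, Scheme.Opens.opensRange_ι]
    exact inf_eq_right.mpr hle
  exact (MorphismProperty.arrow_mk_iso_iff @IsClosedImmersion
    (morphismRestrictRestrict f U₁ _ ≪≫ morphismRestrictEq f e)).mp h1

end Restrict

section Chart

variable {X Y Z : Scheme.{u}} (i : Y ⟶ X) (j : Z ⟶ Y)

/-- data of a Koszul-regular chart restricted to a basic open -/
theorem koszul_basicOpen [IsImmersion i] {U₁ : X.Opens} (hU₁ : IsAffineOpen U₁)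
    [IsClosedImmersion (i ∣_ U₁)]
    (rs₁ : List Γ(X, U₁)) (hrs₁ : LCI.IsKoszulRegularSeq Γ(X, U₁) rs₁)
    (hker₁ : RingHom.ker (i.app U₁).hom = Ideal.ofList rs₁) (h : Γ(X, U₁)) :
    IsAffineOpen (i ⁻¹ᵁ (X.basicOpen h)) ∧ Function.Surjective (i.app (X.basicOpen h)) ∧
      ∃ l : List Γ(X, X.basicOpen h), l.length = rs₁.length ∧
        LCI.IsKoszulRegularSeq Γ(X, X.basicOpen h) l ∧
        RingHom.ker (i.app (X.basicOpen h)).hom = Ideal.ofList l := by
  obtain ⟨hiU₁, hsU₁⟩ := ConormMap.good_of_le_coborderRange i hU₁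
    (UTKoszul.le_coborderRange_of_isClosedImmersion_restrict i U₁)
  obtain ⟨h1, h2, h3⟩ := UTKoszul.good_basicOpen i hU₁ hiU₁ hsU₁ h
  refine ⟨h1, h2, ?_⟩
  letI alg : Algebra Γ(X, U₁) Γ(X, X.basicOpen h) :=
    (X.presheaf.map (homOfLE (X.basicOpen_le h)).op).hom.toAlgebra
  haveI : IsLocalization.Away h Γ(X, X.basicOpen h) := hU₁.isLocalization_basicOpen h
  haveI : Module.Flat Γ(X, U₁) Γ(X, X.basicOpen h) :=
    IsLocalization.flat _ (Submonoid.powers h)
  refine ⟨rs₁.map (algebraMap Γ(X, U₁) Γ(X, X.basicOpen h)), List.length_map _, ?_, ?_⟩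
  · exact KoszulConcat.isKoszulRegularSeq_map_of_flat rs₁ hrs₁
  · rw [h3, hker₁, ofList_map]
    rfl

/-- the composite on a common chart -/
theorem comp_core {U : X.Opens}
    (hsU : Function.Surjective (i.app U)) (l : List Γ(X, U))
    (hl : LCI.IsKoszulRegularSeq Γ(X, U) l) (hkerU : RingHom.ker (i.app U).hom = Ideal.ofList l)
    (t : List Γ(Y, i ⁻¹ᵁ U)) (ht : LCI.IsKoszulRegularSeq Γ(Y, i ⁻¹ᵁ U) t)
    (hkerW : RingHom.ker (j.app (i ⁻¹ᵁ U)).hom = Ideal.ofList t) :
    ∃ rs : List Γ(X, U), rs.length = t.length + l.length ∧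
      LCI.IsKoszulRegularSeq Γ(X, U) rs ∧
      RingHom.ker ((j ≫ i).app U).hom = Ideal.ofList rs := by
  have hπ : Function.Surjective (i.app U).hom := hsU
  let s : List Γ(X, U) := t.map (Function.surjInv hπ)
  have hs : s.map (i.app U).hom = t := by
    rw [List.map_map]
    conv_rhs => rw [← List.map_id t]
    apply List.map_congr_left
    intro a _
    exact Function.surjInv_eq hπ a
  refine ⟨s ++ l, ?_, ?_, ?_⟩
  · rw [List.length_append, List.length_map]
  · exact isKoszulRegularSeq_append_of_surjective (i.app U).hom hπ l hl hkerU s (hs ▸ ht)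
  · have h1 : ((j ≫ i).app U).hom = (j.app (i ⁻¹ᵁ U)).hom.comp (i.app U).hom := rfl
    rw [h1]
    exact ker_comp_eq_ofList_append (i.app U).hom (j.app (i ⁻¹ᵁ U)).hom l hkerU s
      (hs.symm ▸ hkerW) hπ

set_option maxHeartbeats 800000 in
theorem comp_chart [IsImmersion i] [IsImmersion j] (z : Z)
    {U₁ : X.Opens} (hU₁ : IsAffineOpen U₁) (hzU₁ : i (j z) ∈ U₁) [IsClosedImmersion (i ∣_ U₁)]
    (rs₁ : List Γ(X, U₁)) (hrs₁ : LCI.IsKoszulRegularSeq Γ(X, U₁) rs₁)
    (hker₁ : RingHom.ker (i.app U₁).hom = Ideal.ofList rs₁)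
    {V₁ : Y.Opens} (hV₁ : IsAffineOpen V₁) (hzV₁ : j z ∈ V₁) [IsClosedImmersion (j ∣_ V₁)]
    (ss : List Γ(Y, V₁)) (hss : LCI.IsKoszulRegularSeq Γ(Y, V₁) ss)
    (hker₂ : RingHom.ker (j.app V₁).hom = Ideal.ofList ss) :
    ∃ U : X.Opens, IsAffineOpen U ∧ (j ≫ i) z ∈ U ∧ IsClosedImmersion ((j ≫ i) ∣_ U) ∧
      ∃ rs : List Γ(X, U), rs.length = ss.length + rs₁.length ∧
        LCI.IsKoszulRegularSeq Γ(X, U) rs ∧
        RingHom.ker ((j ≫ i).app U).hom = Ideal.ofList rs := by
  obtain ⟨hiU₁, hsU₁⟩ := ConormMap.good_of_le_coborderRange i hU₁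
    (UTKoszul.le_coborderRange_of_isClosedImmersion_restrict i U₁)
  obtain ⟨fb, g, hfg, hzf⟩ := exists_basicOpen_le_affine_inter hiU₁ hV₁ (j z) ⟨hzU₁, hzV₁⟩
  obtain ⟨h, hh⟩ := hsU₁ fb
  have hpre : i ⁻¹ᵁ (X.basicOpen h) = Y.basicOpen g := by
    rw [Scheme.preimage_basicOpen, ← hfg]
    congr 1
  obtain ⟨hiU, hsU, l, hll, hl, hkerU⟩ := koszul_basicOpen i hU₁ rs₁ hrs₁ hker₁ h
  obtain ⟨-, -, t₀, htl₀, ht₀, hkerW₀⟩ := koszul_basicOpen j hV₁ ss hss hker₂ g
  have key : ∀ W : Y.Opens, W = Y.basicOpen g → ∃ t : List Γ(Y, W), t.length = ss.length ∧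
      LCI.IsKoszulRegularSeq Γ(Y, W) t ∧ RingHom.ker (j.app W).hom = Ideal.ofList t := by
    rintro W rfl
    exact ⟨t₀, htl₀, ht₀, hkerW₀⟩
  obtain ⟨t, htl, ht, hkerW⟩ := key _ hpre
  have hzU : (j ≫ i) z ∈ X.basicOpen h := by
    change j z ∈ i ⁻¹ᵁ (X.basicOpen h)
    rw [hpre, ← hfg]; exact hzf
  refine ⟨X.basicOpen h, hU₁.basicOpen h, hzU, ?_, ?_⟩
  · rw [morphismRestrict_comp]
    have c1 : IsClosedImmersion (i ∣_ X.basicOpen h) :=
      isClosedImmersion_restrict_of_le i (U₁ := U₁) (X.basicOpen_le h)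
    have c2 : IsClosedImmersion (j ∣_ i ⁻¹ᵁ (X.basicOpen h)) :=
      isClosedImmersion_restrict_of_le j (U₁ := V₁) (by rw [hpre]; exact Y.basicOpen_le g)
    exact @IsClosedImmersion.comp _ _ _ _ _ c2 c1
  · obtain ⟨rs, hrl, hrs, hker⟩ := comp_core i j hsU l hl hkerU t ht hkerW
    exact ⟨rs, by rw [hrl, htl, hll], hrs, hker⟩

end Chart

end Groth.Agent.Lib.Helper1.RegComp
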