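import Mathlib
import Groth.Agent.Lib.Helper1.KoszulConcat
import Groth.Agent.Lib.Helper4.KosPoly
import Groth.Agent.Lib.Helper1.RegComp
import Groth.Agent.Lib.Helper14.KoszulReg
import Groth.Agent.Lib.Helper14.KoszulLCI

set_option autoImplicit false
set_option linter.style.haveILetI false
universe u

namespace Groth.Agent.Lib.Helper1.SecReg

open MvPolynomial TensorProduct

theorem ofList_ofFn {R : Type*} [CommSemiring R] {n : ℕ} (f : Fin n → R) :
    Ideal.ofList (List.ofFn f) = Ideal.span (Set.range f) := by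
  rw [Ideal.ofList]
  congr 1
  ext x
  simp [List.mem_ofFn]

theorem exists_idempotent_ker {R₀ B C : Type u} [CommRing R₀] [CommRing B] [CommRing C]
    [Algebra R₀ B] [Algebra.Etale R₀ B] (ψ : B →+* C) (hψ : Function.Surjective ψ)
    (hbij : Function.Bijective (ψ.comp (algebraMap R₀ B))) :
    ∃ e : B, IsIdempotentElem e ∧ RingHom.ker ψ = Ideal.span {e} := by
  letI algC : Algebra R₀ C := (ψ.comp (algebraMap R₀ B)).toAlgebra
  letI algBC : Algebra B C := ψ.toAlgebra
  haveI tow : IsScalarTower R₀ B C := IsScalarTower.of_algebraMap_eq fun _ => rfl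
  haveI : Algebra.Etale R₀ C :=
    Algebra.Etale.of_equiv (AlgEquiv.ofBijective (Algebra.ofId R₀ C) hbij)
  haveI : Algebra.Etale B C := Algebra.Etale.of_restrictScalars R₀ B C
  have hsurj : Function.Surjective (algebraMap B C) := hψ
  have h1 : IsIdempotentElem (RingHom.ker (algebraMap B C)) :=
    (Algebra.FormallyEtale.iff_of_surjective hsurj).mp inferInstance
  have h2 : (RingHom.ker (algebraMap B C)).FG := by
    have := Algebra.FinitePresentation.ker_fG_of_surjective (Algebra.ofId B C) hsurj
    exact this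
  obtain ⟨e, he, hsp⟩ := (Ideal.isIdempotentElem_iff_of_fg _ h2).mp h1
  exact ⟨e, he, hsp⟩

theorem ker_aeval_zero (A : Type u) [CommRing A] (n : ℕ) :
    RingHom.ker (aeval (fun _ : Fin n => (0 : A)) : MvPolynomial (Fin n) A →ₐ[A] A).toRingHom =
      Ideal.ofList (List.ofFn fun i : Fin n => (X i : MvPolynomial (Fin n) A)) := by
  rw [ofList_ofFn]
  change _ = idealOfVars (Fin n) A
  ext p
  have h1 := mem_pow_idealOfVars_iff' (σ := Fin n) (R := A) 1 p
  rw [pow_one] at h1
  rw [h1, RingHom.mem_ker]
  have h2 : (aeval (fun _ : Fin n => (0 : A)) : MvPolynomial (Fin n) A →ₐ[A] A).toRingHom p =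
      constantCoeff p := by
    have := MvPolynomial.aeval_zero' (σ := Fin n) (R := A) (S₁ := A) p
    simpa using this
  rw [h2]
  constructor
  · intro h x hx
    have : x = 0 := by
      have hx' : x.degree = 0 := by omega
      exact (Finsupp.degree_eq_zero_iff x).mp hx'
    subst this
    exact h
  · intro h
    exact h 0 (by simp)

theorem isWeaklyRegular_X (A : Type u) [CommRing A] (n : ℕ) :
    RingTheory.Sequence.IsWeaklyRegular (MvPolynomial (Fin n) A)
      (List.ofFn fun i : Fin n => (X i : MvPolynomial (Fin n) A)) := by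
  have h := Groth.Agent.Lib.Helper4.KosPoly.isWeaklyRegular_X_pow (A := A) (σ := Fin n) 1
    (List.finRange n) (List.nodup_finRange n)
  rw [List.ofFn_eq_map]
  simpa using h

/-- core: an étale algebra over a polynomial ring with a section killing the variables -/
theorem core {A S : Type u} [CommRing A] [CommRing S] [Algebra A S] (n : ℕ)
    [Algebra (MvPolynomial (Fin n) A) S] [IsScalarTower A (MvPolynomial (Fin n) A) S]
    [Algebra.Etale (MvPolynomial (Fin n) A) S] (ε : S →ₐ[A] A)
    (hε : ∀ i : Fin n, ε (algebraMap (MvPolynomial (Fin n) A) S (X i)) = 0) :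
    ∃ s : S, ε s = 1 ∧ ∀ x ∈ RingHom.ker ε.toRingHom, s * x ∈
      (Ideal.ofList (List.ofFn fun i : Fin n => (X i : MvPolynomial (Fin n) A))).map
        (algebraMap (MvPolynomial (Fin n) A) S) := by
  classical
  let T := MvPolynomial (Fin n) A
  let ev : T →ₐ[A] A := aeval (fun _ : Fin n => (0 : A))
  have hev : ε.toRingHom.comp (algebraMap T S) = ev.toRingHom := by
    apply MvPolynomial.ringHom_ext
    · intro b
      change ε (algebraMap T S (C b)) = ev (C b)
      have h1 : algebraMap T S (C b) = algebraMap A S b := by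
        rw [IsScalarTower.algebraMap_apply A T S]; rfl
      rw [h1, ε.commutes]
      exact (aeval_C (fun _ : Fin n => (0 : A)) b).symm
    · intro i
      change ε (algebraMap T S (X i)) = ev (X i)
      rw [hε i]
      exact (aeval_X (fun _ : Fin n => (0 : A)) i).symm
  let I : Ideal T := RingHom.ker ev.toRingHom
  have hI : I = Ideal.ofList (List.ofFn fun i : Fin n => (X i : T)) := ker_aeval_zero A n
  let IS : Ideal S := I.map (algebraMap T S)
  -- the quotient
  let e₁ : (S ⧸ IS) ≃ₐ[T ⧸ I] (T ⧸ I) ⊗[T] S := Algebra.TensorProduct.quotIdealMapEquivQuotTensor S I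
  let e₂ : ((T ⧸ I) ⊗[T] S) ≃ₐ[T ⧸ I] (S ⧸ IS) :=
    AlgEquiv.ofRingEquiv (f := e₁.symm.toRingEquiv) (fun x => e₁.symm.commutes x)
  haveI : Algebra.Etale (T ⧸ I) (S ⧸ IS) := Algebra.Etale.of_equiv (R := T ⧸ I) (A := (T ⧸ I) ⊗[T] S) (B := S ⧸ IS) e₂
  have hle : IS ≤ RingHom.ker ε.toRingHom := by
    rw [Ideal.map_le_iff_le_comap]
    intro p hp
    rw [Ideal.mem_comap, RingHom.mem_ker]
    have : ε.toRingHom.comp (algebraMap T S) p = 0 := by rw [hev]; exact hp
    exact this
  let ψ : (S ⧸ IS) →+* A := Ideal.Quotient.lift IS ε.toRingHom hle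
  have hψmk : ∀ x : S, ψ (Ideal.Quotient.mk IS x) = ε x := fun x => rfl
  have hεs : Function.Surjective ε := fun b => ⟨algebraMap A S b, ε.commutes b⟩
  have hψs : Function.Surjective ψ := fun b => by
    obtain ⟨x, hx⟩ := hεs b
    exact ⟨Ideal.Quotient.mk IS x, hx⟩
  have hbij : Function.Bijective (ψ.comp (algebraMap (T ⧸ I) (S ⧸ IS))) := by
    have h1 : ∀ p : T, ψ.comp (algebraMap (T ⧸ I) (S ⧸ IS)) (Ideal.Quotient.mk I p) = ev p := by
      intro p
      have : ε.toRingHom.comp (algebraMap T S) p = ev.toRingHom p := by rw [hev]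
      exact this
    constructor
    · rw [injective_iff_map_eq_zero]
      intro x hx
      obtain ⟨p, rfl⟩ := Ideal.Quotient.mk_surjective x
      rw [h1] at hx
      exact Ideal.Quotient.eq_zero_iff_mem.mpr hx
    · intro b
      exact ⟨Ideal.Quotient.mk I (C b), by rw [h1]; exact aeval_C (fun _ : Fin n => (0 : A)) b⟩
  obtain ⟨e, he, hsp⟩ := exists_idempotent_ker (R₀ := T ⧸ I) ψ hψs hbij
  obtain ⟨s, hs⟩ := Ideal.Quotient.mk_surjective (1 - e)
  have hee : ψ e = 0 := by
    have : e ∈ RingHom.ker ψ := by rw [hsp]; exact Ideal.mem_span_singleton_self e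
    exact this
  refine ⟨s, ?_, ?_⟩
  · rw [← hψmk, hs, map_sub, map_one, hee, sub_zero]
  · intro x hx
    have h1 : Ideal.Quotient.mk IS x ∈ RingHom.ker ψ := by
      rw [RingHom.mem_ker, hψmk]; exact hx
    rw [hsp, Ideal.mem_span_singleton'] at h1
    obtain ⟨b, hb⟩ := h1
    have h2 : Ideal.Quotient.mk IS (s * x) = 0 := by
      rw [map_mul, hs, ← hb]
      have : (1 - e) * (b * e) = b * (e - e * e) := by ring
      rw [this, he.eq, sub_self, mul_zero]
    have h3 : s * x ∈ IS := Ideal.Quotient.eq_zero_iff_mem.mp h2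
    rw [← hI]
    exact h3

theorem translate_comp (A : Type u) [CommRing A] (n : ℕ) (a b : Fin n → A)
    (h : ∀ i, a i + b i = 0) :
    (aeval fun i => (X i + C (a i) : MvPolynomial (Fin n) A)).comp
      (aeval fun i => (X i + C (b i) : MvPolynomial (Fin n) A)) =
        AlgHom.id A (MvPolynomial (Fin n) A) := by
  apply MvPolynomial.algHom_ext
  intro i
  simp only [AlgHom.comp_apply, aeval_X, map_add, aeval_C, AlgHom.id_apply]
  rw [add_assoc, MvPolynomial.algebraMap_eq, ← C_add, h i, C_0, add_zero]

theorem isKoszulRegularSeq_of_isWeaklyRegular {R : Type u} [CommRing R] (l : List R)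
    (h : RingTheory.Sequence.IsWeaklyRegular R l) : LCI.IsKoszulRegularSeq R l := by
  rw [Groth.Agent.Lib.Helper14.KoszulFun.isKoszulRegularSeq_iff]
  exact Groth.Agent.Lib.Helper14.KoszulFun.isZero_homology_of_isWeaklyRegular l R h

set_option maxHeartbeats 800000 in
/-- a section of a standard smooth algebra is, near the section, cut out by a regular sequence -/
theorem exists_regular_of_section {A S : Type u} [CommRing A] [CommRing S] [Algebra A S]
    [Algebra.IsStandardSmooth A S] (ε : S →ₐ[A] A) :
    ∃ (s : S) (l : List S), ε s = 1 ∧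
      ∀ (S' : Type u) [CommRing S'] [Algebra S S'] [Module.Flat S S'],
        IsUnit (algebraMap S S' s) →
        RingTheory.Sequence.IsWeaklyRegular S' (l.map (algebraMap S S')) ∧
        (RingHom.ker ε.toRingHom).map (algebraMap S S') =
          Ideal.ofList (l.map (algebraMap S S')) := by
  classical
  obtain ⟨n, g, hgC, hg⟩ := RingHom.IsStandardSmooth.exists_etale_mvPolynomial
    (f := algebraMap A S) (RingHom.isStandardSmooth_algebraMap.mpr inferInstance)
  let T := MvPolynomial (Fin n) A
  let a : Fin n → A := fun i => ε (g (X i))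
  let τ : T ≃ₐ[A] T := AlgEquiv.ofAlgHom (aeval fun i => X i + C (-a i))
    (aeval fun i => X i + C (a i)) (translate_comp A n _ _ (fun i => neg_add_cancel (a i)))
    (translate_comp A n _ _ (fun i => add_neg_cancel (a i)))
  let g₂ : T →+* S := g.comp (τ : T →+* T)
  have hg₂ : g₂.Etale := RingHom.Etale.stableUnderComposition _ _
    (RingHom.Etale.of_bijective τ.bijective) hg
  letI algTS : Algebra T S := g₂.toAlgebra
  have hgCb : ∀ b : A, g (C b) = algebraMap A S b := fun b => congr($hgC b)
  haveI tow : IsScalarTower A T S := IsScalarTower.of_algebraMap_eq fun b => by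
    change algebraMap A S b = g (τ (C b))
    have : τ (C b) = C b := aeval_C _ b
    rw [this, hgCb]
  haveI : Algebra.Etale T S := RingHom.etale_algebraMap.mp hg₂
  have hX : ∀ i : Fin n, algebraMap T S (X i) = g (X i) - algebraMap A S (a i) := by
    intro i
    change g (τ (X i)) = _
    have : τ (X i) = X i + C (-a i) := aeval_X _ i
    rw [this, map_add, hgCb, map_neg, sub_eq_add_neg]
  have hε : ∀ i : Fin n, ε (algebraMap T S (X i)) = 0 := by
    intro i
    rw [hX, map_sub, ε.commutes]
    exact sub_self _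
  obtain ⟨s, hs1, hs2⟩ := core n ε hε
  refine ⟨s, List.ofFn fun i : Fin n => algebraMap T S (X i), hs1, ?_⟩
  intro S' _ _ _ hunit
  letI algTS' : Algebra T S' := ((algebraMap S S').comp (algebraMap T S)).toAlgebra
  haveI tow' : IsScalarTower T S S' := IsScalarTower.of_algebraMap_eq fun _ => rfl
  haveI : Module.Flat T S := Algebra.Smooth.flat _ _
  haveI : Module.Flat T S' := Module.Flat.trans T S S'
  have hl : (List.ofFn fun i : Fin n => algebraMap T S (X i)).map (algebraMap S S') =
      (List.ofFn fun i : Fin n => (X i : T)).map (algebraMap T S') := by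
    rw [List.map_ofFn, List.map_ofFn]
    rfl
  refine ⟨?_, ?_⟩
  · rw [hl]
    exact (isWeaklyRegular_X A n).of_flat
  · have hIS : Ideal.ofList ((List.ofFn fun i : Fin n => algebraMap T S (X i)).map
        (algebraMap S S')) = ((Ideal.ofList (List.ofFn fun i : Fin n => (X i : T))).map
          (algebraMap T S)).map (algebraMap S S') := by
      have h0 : (List.ofFn fun i : Fin n => algebraMap T S (X i)) =
          (List.ofFn fun i : Fin n => (X i : T)).map (algebraMap T S) := by
        rw [List.map_ofFn]; rfl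
      rw [RegComp.ofList_map, h0, RegComp.ofList_map]
    rw [hIS]
    apply le_antisymm
    · rw [Ideal.map_le_iff_le_comap]
      intro x hx
      rw [Ideal.mem_comap]
      have h1 := Ideal.mem_map_of_mem (algebraMap S S') (hs2 x hx)
      rw [map_mul] at h1
      exact (Ideal.unit_mul_mem_iff_mem _ hunit).mp h1
    · apply Ideal.map_mono
      rw [Ideal.map_le_iff_le_comap, ofList_ofFn, Ideal.span_le]
      rintro _ ⟨i, rfl⟩
      exact hε i

end Groth.Agent.Lib.Helper1.SecReg
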