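import Mathlib
import Groth.Agent.Lib.Helper1.RegComp

set_option autoImplicit false
set_option linter.style.haveILetI false
universe u
open CategoryTheory CategoryTheory.Limits AlgebraicGeometry TopologicalSpace Opposite

namespace Groth.Agent.Lib.Helper1.RegBC

section Ring

/-- in a pushout square of commutative rings along a surjection, the kernel of the opposite
map is the extension of the kernel -/
theorem ker_inr_of_isPushout {A B A' P : CommRingCat.{u}} (f : A ⟶ B) (g : A ⟶ A')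
    (inl : B ⟶ P) (inr : A' ⟶ P) (h : IsPushout f g inl inr)
    (hf : Function.Surjective f.hom) :
    RingHom.ker inr.hom = (RingHom.ker f.hom).map g.hom := by
  apply le_antisymm
  · -- via the universal property
    set K : Ideal A' := (RingHom.ker f.hom).map g.hom with hK
    let mkQ : A' ⟶ CommRingCat.of (A' ⧸ K) := CommRingCat.ofHom (Ideal.Quotient.mk K)
    have hker : RingHom.ker f.hom ≤ RingHom.ker ((Ideal.Quotient.mk K).comp g.hom) := by
      intro a ha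
      rw [RingHom.mem_ker, RingHom.comp_apply, Ideal.Quotient.eq_zero_iff_mem]
      exact Ideal.mem_map_of_mem _ ha
    let b : B ⟶ CommRingCat.of (A' ⧸ K) :=
      CommRingCat.ofHom (RingHom.liftOfSurjective f.hom hf ⟨(Ideal.Quotient.mk K).comp g.hom, hker⟩)
    have hb : f ≫ b = g ≫ mkQ := by
      ext a
      exact RingHom.liftOfSurjective_comp_apply f.hom hf ⟨(Ideal.Quotient.mk K).comp g.hom, hker⟩ a
    intro x hx
    have h1 : inr ≫ h.desc b mkQ hb = mkQ := h.inr_desc _ _ _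
    have h2 : mkQ.hom x = 0 := by
      rw [← h1]
      change (h.desc b mkQ hb).hom (inr.hom x) = 0
      rw [RingHom.mem_ker.mp hx, map_zero]
    exact Ideal.Quotient.eq_zero_iff_mem.mp h2
  · rw [Ideal.map_le_iff_le_comap]
    intro a ha
    rw [Ideal.mem_comap, RingHom.mem_ker]
    have h1 := congr($(h.w) a)
    change inl.hom (f.hom a) = inr.hom (g.hom a) at h1
    rw [← h1, RingHom.mem_ker.mp ha, map_zero]

end Ring

section Scheme

variable {X Y X' Y' : Scheme.{u}} {i : Y ⟶ X} {g : X' ⟶ X} {i' : Y' ⟶ X'} {g' : Y' ⟶ Y}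
  (hsq : IsPullback g' i' i g)

include hsq in
theorem preimage_eq {U₁ : X.Opens} {U' : X'.Opens} (hU' : U' ≤ g ⁻¹ᵁ U₁) :
    i' ⁻¹ᵁ U' = g' ⁻¹ᵁ (i ⁻¹ᵁ U₁) ⊓ i' ⁻¹ᵁ U' := by
  refine (inf_eq_right.mpr ?_).symm
  intro y hy
  change i (g' y) ∈ U₁
  have h1 : i (g' y) = g (i' y) := by
    have := congrArg (fun φ => φ.base y) hsq.w
    exact this
  rw [h1]
  exact hU' hy

include hsq in
theorem isClosedImmersion_restrict_of_isPullback {U₁ : X.Opens} [IsClosedImmersion (i ∣_ U₁)]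
    {U' : X'.Opens} (hU' : U' ≤ g ⁻¹ᵁ U₁) : IsClosedImmersion (i' ∣_ U') := by
  have hpb := Scheme.Hom.isPullback_resLE hsq hU' (le_refl (i ⁻¹ᵁ U₁)) (preimage_eq hsq hU')
  have h1 : IsClosedImmersion (i.resLE U₁ (i ⁻¹ᵁ U₁) le_rfl) := by
    rw [Scheme.Hom.resLE_eq_morphismRestrict]; infer_instance
  have h2 := MorphismProperty.of_isPullback (P := @IsClosedImmersion) hpb h1
  rw [← Scheme.Hom.resLE_eq_morphismRestrict]
  exact h2

include hsq in
theorem ker_app_of_isPullback {U₁ : X.Opens} (hU₁ : IsAffineOpen U₁)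
    (hiU₁ : IsAffineOpen (i ⁻¹ᵁ U₁)) (hs : Function.Surjective (i.app U₁))
    {U' : X'.Opens} (hU'a : IsAffineOpen U') (hU' : U' ≤ g ⁻¹ᵁ U₁) :
    RingHom.ker (i'.app U').hom = (RingHom.ker (i.app U₁).hom).map (g.appLE U₁ U' hU').hom := by
  have hiso := isIso_pushoutSection_of_isAffineOpen hsq hU' (le_refl (i ⁻¹ᵁ U₁))
    (preimage_eq hsq hU') hU₁ hU'a hiU₁
  have hpo := (isIso_pushoutSection_iff hsq hU' (le_refl (i ⁻¹ᵁ U₁)) (preimage_eq hsq hU')).mp hiso
  have h1 := ker_inr_of_isPushout _ _ _ _ hpo (by rw [Conorm.appLE_refl]; exact hs)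
  rw [Conorm.appLE_refl, Conorm.appLE_refl] at h1
  exact h1

include hsq in
theorem koszul_baseChange_flat [Flat g] (hi : RegImm.IsRegularImmersion .koszul i) :
    RegImm.IsRegularImmersion .koszul i' := by
  haveI := hi.1
  haveI : IsImmersion i' := MorphismProperty.of_isPullback (P := @IsImmersion) hsq inferInstance
  refine ⟨inferInstance, fun y' => ?_⟩
  obtain ⟨⟨U₁, hU₁⟩, hzU₁, hcl₁, rs₁, hrs₁, hker₁⟩ := hi.2 (g' y')
  haveI := hcl₁
  have hmem : i' y' ∈ g ⁻¹ᵁ U₁ := by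
    change g (i' y') ∈ U₁
    have h1 : i (g' y') = g (i' y') := by
      have := congrArg (fun φ => φ.base y') hsq.w
      exact this
    rw [← h1]; exact hzU₁
  obtain ⟨_, ⟨U' : X'.Opens, hU'a, rfl⟩, hzU', hU'le⟩ :=
    X'.isBasis_affineOpens.exists_subset_of_mem_open hmem (g ⁻¹ᵁ U₁).2
  obtain ⟨hiU₁, hsU₁⟩ := ConormMap.good_of_le_coborderRange i hU₁
    (UTKoszul.le_coborderRange_of_isClosedImmersion_restrict i U₁)
  refine ⟨⟨U', hU'a⟩, hzU', isClosedImmersion_restrict_of_isPullback hsq hU'le,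
    rs₁.map (g.appLE U₁ U' hU'le).hom, ?_, ?_⟩
  · letI := (g.appLE U₁ U' hU'le).hom.toAlgebra
    haveI : Module.Flat Γ(X, U₁) Γ(X', U') := g.flat_appLE hU₁ hU'a hU'le
    exact KoszulConcat.isKoszulRegularSeq_map_of_flat rs₁ hrs₁
  · rw [ker_app_of_isPullback hsq hU₁ hiU₁ hsU₁ hU'a hU'le, hker₁, RegComp.ofList_map]

end Scheme

section KoszulAt

variable {X Y X' Y' : Scheme.{u}} {f : X ⟶ Y} {g : Y' ⟶ Y} {f' : X' ⟶ Y'} {g' : X' ⟶ X}
  (hsq : IsPullback g' f' f g)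

include hsq in
theorem isKoszulAt_baseChange_flat [Flat g] (x' : X') (hf : Synt.IsKoszulAt f (g' x')) :
    Synt.IsKoszulAt f' x' := by
  obtain ⟨U, P, ι, π, hxU, hft, hι, hπ, hcomp⟩ := hf
  haveI := hπ
  -- the square `U' = U ×_Y Y'`
  have h1 : IsPullback (g' ∣_ U) (g' ⁻¹ᵁ U).ι U.ι g' := isPullback_morphismRestrict g' U
  have h2 : IsPullback (g' ∣_ U) ((g' ⁻¹ᵁ U).ι ≫ f') (U.ι ≫ f) g := h1.paste_vert hsq
  have h3 : IsPullback (pullback.fst π g) (pullback.snd π g) π g := IsPullback.of_hasPullback π g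
  have hw : ((g' ∣_ U) ≫ ι) ≫ π = ((g' ⁻¹ᵁ U).ι ≫ f') ≫ g := by
    rw [Category.assoc, hcomp, h2.w]
  let ι' : ((g' ⁻¹ᵁ U : X'.Opens) : Scheme.{u}) ⟶ pullback π g :=
    pullback.lift ((g' ∣_ U) ≫ ι) ((g' ⁻¹ᵁ U).ι ≫ f') hw
  have hι'1 : ι' ≫ pullback.fst π g = (g' ∣_ U) ≫ ι := pullback.lift_fst _ _ _
  have hι'2 : ι' ≫ pullback.snd π g = (g' ⁻¹ᵁ U).ι ≫ f' := pullback.lift_snd _ _ _
  have h4 : IsPullback (g' ∣_ U) ι' ι (pullback.fst π g) := by
    refine IsPullback.of_bot ?_ hι'1.symm h3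
    rw [hι'2, hcomp]
    exact h2
  haveI : Flat (pullback.fst π g) := MorphismProperty.of_isPullback (P := @Flat) h3.flip inferInstance
  refine ⟨g' ⁻¹ᵁ U, pullback π g, ι', pullback.snd π g, hxU, ?_, ?_, ?_, hι'2⟩
  · exact MorphismProperty.of_isPullback (P := @LocallyOfFiniteType) h2 hft
  · exact koszul_baseChange_flat h4 hι
  · exact MorphismProperty.of_isPullback (P := @Smooth) h3 hπ

end KoszulAt

end Groth.Agent.Lib.Helper1.RegBC
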