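import Mathlib
import Groth.Agent.S2498
import Groth.Agent.Lib.Helper22.FibReg

/-!
# Lengths of local rings at maximal points under flat base change (helper1)
-/

set_option autoImplicit false
set_option linter.style.haveILetI false
universe u
open CategoryTheory CategoryTheory.Limits AlgebraicGeometry IsLocalRing TensorProduct

namespace Groth.Agent.Lib.Helper1.BcLen

/-- a point with no proper generization has a local ring with a unique prime. -/
theorem eq_maximalIdeal_of_maximal_point {X : Scheme.{u}} (x : X)
    (hmax : ∀ z : X, z ⤳ x → z = x) (P : Ideal (X.presheaf.stalk x)) [hP : P.IsPrime] :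
    P = maximalIdeal (X.presheaf.stalk x) := by
  have h1 : X.fromSpecStalk x ⟨P, hP⟩ ⤳ x := by
    have : X.fromSpecStalk x ⟨P, hP⟩ ∈ Set.range (X.fromSpecStalk x) := ⟨_, rfl⟩
    rw [Scheme.range_fromSpecStalk] at this
    exact this
  have h2 := hmax _ h1
  have h3 : X.fromSpecStalk x (closedPoint (X.presheaf.stalk x)) = x :=
    Scheme.fromSpecStalk_closedPoint
  have h4 : (⟨P, hP⟩ : PrimeSpectrum (X.presheaf.stalk x)) = closedPoint (X.presheaf.stalk x) :=
    (X.fromSpecStalk x).isEmbedding.injective (h2.trans h3.symm)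
  exact congrArg PrimeSpectrum.asIdeal h4

theorem nilradical_stalk_of_maximal_point {X : Scheme.{u}} (x : X)
    (hmax : ∀ z : X, z ⤳ x → z = x) :
    nilradical (X.presheaf.stalk x) = maximalIdeal (X.presheaf.stalk x) := by
  apply le_antisymm
  · exact nilradical_le_prime _
  · intro a ha
    rw [nilradical_eq_sInf, Ideal.mem_sInf]
    intro P hP
    haveI : P.IsPrime := hP
    rw [eq_maximalIdeal_of_maximal_point x hmax P]
    exact ha

theorem maximal_point_of_flat {X Y : Scheme.{u}} (π : X ⟶ Y) [Flat π] (x : X)
    (hmax : ∀ z : X, z ⤳ x → z = x) (y : Y) (hy : y ⤳ π x) : y = π x := by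
  obtain ⟨x', hx', rfl⟩ := Flat.generalizingMap π hy
  rw [hmax x' hx']

end Groth.Agent.Lib.Helper1.BcLen
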