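import Mathlib
import Groth.Agent.Lib.Helper1.BcLen1

/-!
# Lengths of local rings at maximal points under flat base change: the product formula (helper1)
-/

set_option autoImplicit false
set_option linter.style.haveILetI false
universe u
open CategoryTheory CategoryTheory.Limits AlgebraicGeometry IsLocalRing TensorProduct

namespace Groth.Agent.Lib.Helper1.BcLen

open Groth.Agent.Lib.Helper22

/-- pure algebra: the product formula given the kernel. -/
theorem length_eq_mul_of_ker {A B C : Type u} [CommRing A] [CommRing B] [CommRing C]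
    [IsLocalRing A] [IsLocalRing B] [Algebra A B] [IsLocalHom (algebraMap A B)] [Module.Flat A B]
    (ψ : B →+* C) (hsurj : Function.Surjective ψ)
    (hker : RingHom.ker ψ = (maximalIdeal A).map (algebraMap A B)) :
    Module.length B B = Module.length A A * Module.length C C := by
  haveI : Module.FaithfullyFlat A B := Module.FaithfullyFlat.of_flat_of_isLocalHom
  letI algBC : Algebra B C := ψ.toAlgebra
  have h1 : Module.length B C = Module.length C C := Module.length_eq_of_surjective hsurj
  have hI : ((maximalIdeal A).map (algebraMap A B) • (⊤ : Submodule B B)) =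
      LinearMap.ker (Algebra.linearMap B C) := by
    rw [smul_eq_mul, Ideal.mul_top, ← hker]
    ext b
    rw [LinearMap.mem_ker, RingHom.mem_ker]
    rfl
  let e : (B ⧸ ((maximalIdeal A).map (algebraMap A B) • (⊤ : Submodule B B))) ≃ₗ[B] C :=
    (Submodule.quotEquivOfEq _ _ hI) ≪≫ₗ
      (Algebra.linearMap B C).quotKerEquivOfSurjective hsurj
  have h2 : Module.length B (B ⧸ ((maximalIdeal A).map (algebraMap A B) •
      (⊤ : Submodule B B))) = Module.length C C := by
    rw [e.length_eq, h1]
  have h3 : Module.length B (B ⊗[A] A) = Module.length B B :=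
    (TensorProduct.AlgebraTensorModule.rid A B B).length_eq
  by_cases hfin : IsFiniteLength B (B ⧸ ((maximalIdeal A).map (algebraMap A B) •
      (⊤ : Submodule B B)))
  · have h4 := Groth.Agent.S2498.result (A := A) (B := B) A B hfin
    rw [h3, h2] at h4
    exact h4
  · have h5 : Module.length B (B ⧸ ((maximalIdeal A).map (algebraMap A B) •
        (⊤ : Submodule B B))) = ⊤ := by
      by_contra hne
      exact hfin (Module.length_ne_top_iff.mp hne)
    have h6 : Module.length B B = ⊤ := by
      have := Module.length_le_of_surjective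
        (Submodule.mkQ ((maximalIdeal A).map (algebraMap A B) • (⊤ : Submodule B B)))
        (Submodule.mkQ_surjective _)
      rw [h5, top_le_iff] at this
      exact this
    rw [h6, ← h2, h5, ENat.mul_top]
    rw [Ne, Module.length_eq_zero_iff]
    exact not_subsingleton A

theorem length_stalk_eq_mul {X' X'' Z'' : Scheme.{u}} (π : X'' ⟶ X') [Flat π] (j : Z'' ⟶ X'')
    (q : Z'' ⟶ X'.nilradical.subscheme)
    (hsq : IsPullback q j X'.nilradical.subschemeι π) (z'' : Z'')
    (hmax : ∀ z : X'', z ⤳ j z'' → z = j z'') :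
    Module.length (X''.presheaf.stalk (j z'')) (X''.presheaf.stalk (j z'')) =
      Module.length (X'.presheaf.stalk (π (j z''))) (X'.presheaf.stalk (π (j z''))) *
        Module.length (Z''.presheaf.stalk z'') (Z''.presheaf.stalk z'') := by
  letI algAB : Algebra (X'.presheaf.stalk (π (j z''))) (X''.presheaf.stalk (j z'')) :=
    (π.stalkMap (j z'')).hom.toAlgebra
  haveI : IsLocalHom (algebraMap (X'.presheaf.stalk (π (j z''))) (X''.presheaf.stalk (j z''))) :=
    inferInstanceAs (IsLocalHom (π.stalkMap (j z'')).hom)
  haveI : Module.Flat (X'.presheaf.stalk (π (j z''))) (X''.presheaf.stalk (j z'')) :=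
    Flat.stalkMap π (j z'')
  haveI : IsClosedImmersion j :=
    MorphismProperty.of_isPullback (P := @IsClosedImmersion) hsq inferInstance
  have hsurj : Function.Surjective (j.stalkMap z'').hom := j.stalkMap_surjective z''
  have hmax' : ∀ y : X', y ⤳ π (j z'') → y = π (j z'') :=
    maximal_point_of_flat π (j z'') hmax
  obtain ⟨_, ⟨U₁, hU₁, rfl⟩, hxU₁, -⟩ :=
    X'.isBasis_affineOpens.exists_subset_of_mem_open (Set.mem_univ (π (j z''))) isOpen_univ
  have hker := FibReg.ker_stalkMap_of_isPullback hsq hU₁ z'' hxU₁
  have hk1 : RingHom.ker (X'.nilradical.subschemeι.app U₁).hom = nilradical Γ(X', U₁) := by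
    rw [Scheme.IdealSheafData.ker_subschemeι_app X'.nilradical ⟨U₁, hU₁⟩]
    rfl
  letI algSt : Algebra Γ(X', U₁) (X'.presheaf.stalk (π (j z''))) :=
    TopCat.Presheaf.algebra_section_stalk X'.presheaf (U := U₁) ⟨π (j z''), hxU₁⟩
  haveI hloc : IsLocalization.AtPrime (X'.presheaf.stalk (π (j z'')))
      (hU₁.primeIdealOf ⟨π (j z''), hxU₁⟩).asIdeal := hU₁.isLocalization_stalk ⟨π (j z''), hxU₁⟩
  have hk2 : (nilradical Γ(X', U₁)).map (X'.presheaf.germ U₁ (π (j z'')) hxU₁).hom =
      maximalIdeal (X'.presheaf.stalk (π (j z''))) := by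
    rw [← nilradical_stalk_of_maximal_point _ hmax']
    have := IsLocalization.map_radical (hU₁.primeIdealOf ⟨π (j z''), hxU₁⟩).asIdeal.primeCompl
      (X'.presheaf.stalk (π (j z''))) (⊥ : Ideal Γ(X', U₁))
    rw [Ideal.map_bot] at this
    exact this
  rw [hk1, hk2] at hker
  exact length_eq_mul_of_ker (j.stalkMap z'').hom hsurj hker

end Groth.Agent.Lib.Helper1.BcLen
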