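import Mathlib
import Groth.Prelude
import Groth.Agent.Lib.Helper1.BcLen2

/-!
# Lengths of local rings at maximal points of `X ⊗_k k' ⊗_{k'} k''` (helper1)
-/

set_option autoImplicit false
set_option linter.style.haveILetI false
universe u
open CategoryTheory CategoryTheory.Limits AlgebraicGeometry IsLocalRing TensorProduct

namespace Groth.Agent.Lib.Helper1.BcLen

theorem flat_SpecMap_field {k' k'' : Type u} [Field k'] [Field k''] [Algebra k' k''] :
    Flat (Spec.map (CommRingCat.ofHom (algebraMap k' k''))) := by
  rw [Flat.SpecMap_iff]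
  show (algebraMap k' k'').Flat
  rw [RingHom.flat_algebraMap_iff]
  infer_instance

section
variable {X' T T'' : Scheme.{u}} (s : X' ⟶ T) (σ : T'' ⟶ T)

/-- the comparison closed immersion `(X')_red ×_T T'' → X' ×_T T''`. -/
noncomputable abbrev jmap :
    pullback (X'.nilradical.subschemeι ≫ s) σ ⟶ pullback s σ :=
  pullback.map (X'.nilradical.subschemeι ≫ s) σ s σ X'.nilradical.subschemeι (𝟙 _) (𝟙 _)
    (Category.comp_id _) ((Category.comp_id _).trans (Category.id_comp _).symm)

theorem isPullback_jmap :
    IsPullback (pullback.fst (X'.nilradical.subschemeι ≫ s) σ) (jmap s σ)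
      X'.nilradical.subschemeι (pullback.fst s σ) := by
  refine (IsPullback.of_right ?_ ?_ (IsPullback.of_hasPullback s σ).flip).flip
  · have : jmap s σ ≫ pullback.snd s σ = pullback.snd (X'.nilradical.subschemeι ≫ s) σ := by
      rw [pullback.lift_snd, Category.comp_id]
    rw [this]
    exact (IsPullback.of_hasPullback (X'.nilradical.subschemeι ≫ s) σ).flip
  · exact pullback.lift_fst _ _ _

theorem main4686 [Flat σ] (z'' : ↥(pullback (X'.nilradical.subschemeι ≫ s) σ))
    (hmax : ∀ z : ↥(pullback s σ), z ⤳ jmap s σ z'' → z = jmap s σ z'') :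
    Module.length ((pullback s σ).presheaf.stalk (jmap s σ z''))
        ((pullback s σ).presheaf.stalk (jmap s σ z'')) =
      Module.length (X'.presheaf.stalk (pullback.fst s σ (jmap s σ z'')))
          (X'.presheaf.stalk (pullback.fst s σ (jmap s σ z''))) *
        Module.length ((pullback (X'.nilradical.subschemeι ≫ s) σ).presheaf.stalk z'')
          ((pullback (X'.nilradical.subschemeι ≫ s) σ).presheaf.stalk z'') :=
  length_stalk_eq_mul (pullback.fst s σ) (jmap s σ) _ (isPullback_jmap s σ) z'' hmax

end

end Groth.Agent.Lib.Helper1.BcLen
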