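import Mathlib
import Groth.Prelude
import Groth.Agent.Lib.Helper1.BcLen3
import Groth.Agent.Lib.Helper3.Reduced

/-!
# Lengths of local rings at maximal points under a separable base field extension (helper1)
-/

set_option autoImplicit false
set_option linter.style.haveILetI false
universe u
open CategoryTheory CategoryTheory.Limits AlgebraicGeometry IsLocalRing TensorProduct

namespace Groth.Agent.Lib.Helper1.BcLen

theorem length_stalk_eq_one_of_isReduced {Z : Scheme.{u}} [IsReduced Z] (z : Z)
    (hmax : ∀ w : Z, w ⤳ z → w = z) :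
    Module.length (Z.presheaf.stalk z) (Z.presheaf.stalk z) = 1 := by
  have h1 := nilradical_stalk_of_maximal_point z hmax
  have h2 : nilradical (Z.presheaf.stalk z) = ⊥ := nilradical_eq_zero _
  rw [h2] at h1
  rw [Module.length_eq_one_iff, isSimpleModule_self_iff_isUnit]
  refine ⟨inferInstance, fun x hx => ?_⟩
  by_contra hu
  have : x ∈ maximalIdeal (Z.presheaf.stalk z) := (IsLocalRing.mem_maximalIdeal x).mpr hu
  rw [← h1] at this
  exact hx this

section
variable {X' T T'' : Scheme.{u}} (s : X' ⟶ T) (σ : T'' ⟶ T)

theorem main4687 [Flat σ] [GeometricallyReduced σ] [IsLocallyNoetherian X']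
    (x'' : ↥(pullback s σ)) (hmax : ∀ z : ↥(pullback s σ), z ⤳ x'' → z = x'') :
    Module.length ((pullback s σ).presheaf.stalk x'') ((pullback s σ).presheaf.stalk x'') =
      Module.length (X'.presheaf.stalk (pullback.fst s σ x''))
          (X'.presheaf.stalk (pullback.fst s σ x'')) := by
  haveI : IsReduced X'.nilradical.subscheme :=
    Groth.Agent.Lib.Helper3.isReduced_nilradical_subscheme X'
  haveI : IsLocallyNoetherian X'.nilradical.subscheme :=
    LocallyOfFiniteType.isLocallyNoetherian X'.nilradical.subschemeι
  haveI : IsReduced (pullback (X'.nilradical.subschemeι ≫ s) σ) := inferInstance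
  haveI hsurjι : Surjective X'.nilradical.subschemeι := by
    rw [surjective_iff, ← Set.range_eq_univ, Scheme.IdealSheafData.range_subschemeι]
    rfl
  haveI : Surjective (jmap s σ) :=
    MorphismProperty.of_isPullback (P := @Surjective) (isPullback_jmap s σ) hsurjι
  haveI : IsClosedImmersion (jmap s σ) :=
    MorphismProperty.of_isPullback (P := @IsClosedImmersion) (isPullback_jmap s σ) inferInstance
  obtain ⟨z'', rfl⟩ := (jmap s σ).surjective x''
  have hz : ∀ w : ↥(pullback (X'.nilradical.subschemeι ≫ s) σ), w ⤳ z'' → w = z'' := by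
    intro w hw
    exact (jmap s σ).isEmbedding.injective (hmax _ (hw.map (jmap s σ).continuous))
  rw [main4686 s σ z'' hmax, length_stalk_eq_one_of_isReduced z'' hz, mul_one]

end

end Groth.Agent.Lib.Helper1.BcLen
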