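import Mathlib
import Groth.Agent.Lib.Helper1.AssRed2
import Groth.Agent.Lib.Helper1.BcLen4

/-!
# Residue fields at associated points of a geometrically reduced module (helper1)
-/

set_option autoImplicit false
set_option linter.style.haveILetI false
universe u
open CategoryTheory CategoryTheory.Limits AlgebraicGeometry IsLocalRing TensorProduct

namespace Groth.Agent.Lib.Helper1.AssRed

open Groth.Agent.Lib.Helper17 Groth.Agent.Lib.Helper3 Groth.Agent.Lib.Helper14
  Groth.Agent.Lib.Helper1.AssFlat1 Groth.Agent.Lib.Helper1.AssBC Groth.Agent.Lib.Helper1.AssTens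

/-- a local ring of length one over itself is reduced. -/
theorem isReduced_of_length_eq_one {R : Type*} [CommRing R] [IsLocalRing R]
    (h : Module.length R R = 1) : IsReduced R := by
  rw [Module.length_eq_one_iff, isSimpleModule_self_iff_isUnit] at h
  refine ⟨fun x hx => ?_⟩
  by_contra hx0
  obtain ⟨n, hn⟩ := hx
  have := (h.2 x hx0).pow n
  rw [hn] at this
  exact not_isUnit_zero this

theorem isReduced_tensor_of_length {Φ : Scheme.{u}} {k K L : Type u} [Field k] [Field K] [Field L]
    [Algebra k K] [Algebra k L] [Module.Finite k L]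
    (ψ : Φ ≅ Spec (CommRingCat.of (K ⊗[k] L)))
    (h : ∀ a : Φ, Curv2.IsAssPoint (Coh.structureModule Φ) a →
      Module.length (Φ.presheaf.stalk a) (Φ.presheaf.stalk a) = 1) :
    IsReduced (L ⊗[k] K) := by
  haveI : IsArtinianRing (K ⊗[k] L) := IsArtinianRing.of_finite K (K ⊗[k] L)
  have hmax : ∀ ζ ζ'' : Φ, ζ'' ⤳ ζ → ζ'' = ζ := by
    intro ζ ζ'' hs
    have h1 := hs.map ψ.hom.continuous
    have h3 : (ψ.hom ζ'').asIdeal ≤ (ψ.hom ζ).asIdeal :=
      (PrimeSpectrum.le_iff_specializes _ _).mpr h1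
    haveI : (ψ.hom ζ'').asIdeal.IsMaximal :=
      IsArtinianRing.isMaximal_of_isPrime (ψ.hom ζ'').asIdeal
    have h4 : (ψ.hom ζ'').asIdeal = (ψ.hom ζ).asIdeal :=
      Ideal.IsMaximal.eq_of_le inferInstance (ψ.hom ζ).isPrime.ne_top h3
    have h5 : ψ.hom ζ'' = ψ.hom ζ := PrimeSpectrum.ext h4
    have := congrArg ψ.inv h5
    rwa [← Scheme.Hom.comp_apply, ← Scheme.Hom.comp_apply, ψ.hom_inv_id] at this
  have hst : ∀ a : Φ, _root_.IsReduced (Φ.presheaf.stalk a) := by
    intro a
    exact isReduced_of_length_eq_one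
      (h a ((isAssPoint_iff_maximal_of_tensor ψ a).mpr (fun ζ'' hs => hmax a ζ'' hs)))
  haveI : AlgebraicGeometry.IsReduced Φ := isReduced_of_isReduced_stalk Φ
  haveI : AlgebraicGeometry.IsReduced (Spec (CommRingCat.of (K ⊗[k] L))) :=
    isReduced_of_isOpenImmersion ψ.inv
  have hR : _root_.IsReduced (K ⊗[k] L) :=
    (affine_isReduced_iff (CommRingCat.of (K ⊗[k] L))).mp inferInstance
  exact isReduced_of_injective (Algebra.TensorProduct.comm k L K).toRingEquiv
    (RingEquiv.injective _)

end Groth.Agent.Lib.Helper1.AssRed
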