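import Groth.Agent.Lib.Helper1.InjHullLib
import Mathlib.RingTheory.Length
import Mathlib.RingTheory.FiniteLength
import Mathlib.RingTheory.SimpleModule.Basic
import Mathlib.RingTheory.LocalRing.ResidueField.Basic

/-!
# Matlis duality over a local ring: basic lemmas

`E` is an injective hull of the residue field `k` of the local ring `R`.
* `mem_range_of_forall_smul_eq_zero`: the socle of `E` is the image of `k`;
* `isSimpleModule_hom_residueField`: `Hom(k, E)` is simple;
* `length_hom_eq_of_isFiniteLength`: `length Hom(M, E) = length M` for `M` of finite length;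
* `exists_hom_apply_ne_zero`: `E` is a cogenerator.
-/

set_option autoImplicit false
universe u

open IsLocalRing

namespace Groth.Agent.Lib.Helper1.Matlis

variable {R : Type u} [CommRing R] [IsLocalRing R] {E : Type u} [AddCommGroup E] [Module R E]

theorem isSimpleModule_residueField : IsSimpleModule R (ResidueField R) := by
  change IsSimpleModule R (R ⧸ maximalIdeal R)
  rw [isSimpleModule_iff_isCoatom]
  exact Ideal.isMaximal_def.1 (maximalIdeal.isMaximal R)

/-- The identity, as a linear equivalence between the two module structures on `R ⧸ m`. -/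
noncomputable def quotEquivResidueField : (R ⧸ maximalIdeal R) ≃ₗ[R] ResidueField R where
  toFun := id
  invFun := id
  map_add' _ _ := rfl
  map_smul' r x := by
    obtain ⟨a, rfl⟩ := Ideal.Quotient.mk_surjective x
    rfl
  left_inv _ := rfl
  right_inv _ := rfl

theorem residue_smul_one (r : R) : r • (1 : ResidueField R) = residue R r := by
  rw [Algebra.smul_def, mul_one]
  rfl

section

variable (f : ResidueField R →ₗ[R] E) (hf : InjHull.IsInjectiveHull f)
include hf

/-- The socle of `E` is the image of the residue field. -/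
theorem mem_range_of_forall_smul_eq_zero (x : E) (hx : ∀ r ∈ maximalIdeal R, r • x = 0) :
    x ∈ LinearMap.range f := by
  by_cases hx0 : x = 0
  · rw [hx0]; exact Submodule.zero_mem _
  obtain ⟨r, hr0, hr⟩ := ((InjHullLib.isEssentialInj_iff f).1 hf.toIsEssentialInj).2 x hx0
  have hru : IsUnit r := by
    by_contra hnu
    exact hr0 (hx r ((mem_maximalIdeal r).2 hnu))
  obtain ⟨u, rfl⟩ := hru
  have : x = (↑u⁻¹ : R) • ((u : R) • x) := by
    rw [← mul_smul, Units.inv_mul, one_smul]
  rw [this]
  exact Submodule.smul_mem _ _ hr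

/-- `Hom(k, E) ≃ k`. -/
noncomputable def homResidueFieldEquiv : (ResidueField R →ₗ[R] E) ≃ₗ[R] ResidueField R := by
  let ev : (ResidueField R →ₗ[R] E) →ₗ[R] E := LinearMap.applyₗ (1 : ResidueField R)
  have hev : Function.Injective ev := by
    rw [injective_iff_map_eq_zero]
    intro φ hφ
    have hφ1 : φ 1 = 0 := hφ
    ext c
    obtain ⟨r, rfl⟩ := residue_surjective c
    rw [← residue_smul_one, map_smul, hφ1, smul_zero, LinearMap.zero_apply]
  have hrange : LinearMap.range ev = LinearMap.range f := by
    apply le_antisymm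
    · rintro _ ⟨φ, rfl⟩
      apply mem_range_of_forall_smul_eq_zero f hf
      intro r hr
      change r • φ 1 = 0
      rw [← map_smul, residue_smul_one, (residue_eq_zero_iff r).2 hr, map_zero]
    · rintro _ ⟨c, rfl⟩
      refine ⟨f ∘ₗ LinearMap.mulLeft R c, ?_⟩
      change f (c * 1) = f c
      rw [mul_one]
  exact (LinearEquiv.ofInjective ev hev).trans
    ((LinearEquiv.ofEq _ _ hrange).trans (LinearEquiv.ofInjective f hf.injective).symm)

theorem isSimpleModule_hom_residueField : IsSimpleModule R (ResidueField R →ₗ[R] E) :=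
  haveI := isSimpleModule_residueField (R := R)
  IsSimpleModule.congr (homResidueFieldEquiv f hf)

/-- `Hom(P, E)` is simple for every simple module `P`. -/
theorem isSimpleModule_hom_of_isSimpleModule (P : Type u) [AddCommGroup P] [Module R P]
    [hP : IsSimpleModule R P] : IsSimpleModule R (P →ₗ[R] E) := by
  obtain ⟨I, hI, ⟨e⟩⟩ := isSimpleModule_iff_quot_maximal.mp hP
  obtain rfl := eq_maximalIdeal hI
  haveI := isSimpleModule_hom_residueField f hf
  exact IsSimpleModule.congr (LinearEquiv.congrLeft E R (e.trans quotEquivResidueField))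

/-- Matlis duality preserves length for modules of finite length. -/
theorem length_hom_eq_of_isFiniteLength (M : Type u) [AddCommGroup M] [Module R M]
    (h : IsFiniteLength R M) : Module.length R (M →ₗ[R] E) = Module.length R M := by
  induction h with
  | of_subsingleton =>
    rw [Module.length_eq_zero, Module.length_eq_zero]
  | @of_simple_quotient M _ _ N _ hN ih =>
    have h1 : Module.length R M = Module.length R N + Module.length R (M ⧸ N) :=
      Module.length_eq_add_of_exact N.subtype N.mkQ N.injective_subtype N.mkQ_surjective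
        (LinearMap.exact_subtype_mkQ N)
    have h2 : Module.length R (M ⧸ N) = 1 := Module.length_eq_one R _
    have := isSimpleModule_hom_of_isSimpleModule f hf (M ⧸ N)
    have h3 : Module.length R ((M ⧸ N) →ₗ[R] E) = 1 := Module.length_eq_one R _
    have hsurj : Function.Surjective (LinearMap.lcomp R E N.subtype) := by
      intro φ
      obtain ⟨ψ, hψ⟩ := hf.isInjective.out N.subtype N.injective_subtype φ
      exact ⟨ψ, LinearMap.ext hψ⟩
    have hexact : Function.Exact (LinearMap.lcomp R E N.mkQ) (LinearMap.lcomp R E N.subtype) := by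
      intro ψ
      constructor
      · intro hψ
        have hle : N ≤ LinearMap.ker ψ := by
          intro x hx
          have := LinearMap.congr_fun hψ ⟨x, hx⟩
          exact this
        exact ⟨N.liftQ ψ hle, by ext x; rfl⟩
      · rintro ⟨χ, rfl⟩
        ext x
        change χ (N.mkQ (x : M)) = 0
        rw [Submodule.mkQ_apply, (Submodule.Quotient.mk_eq_zero N).2 x.2, map_zero]
    have h4 := Module.length_eq_add_of_exact (LinearMap.lcomp R E N.mkQ)
      (LinearMap.lcomp R E N.subtype)
      (LinearMap.lcomp_injective_of_surjective N.mkQ N.mkQ_surjective) hsurj hexact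
    rw [h4, h3, ih, h1, h2, add_comm]

/-- `E` is a cogenerator: nonzero elements are detected by maps to `E`. -/
theorem exists_hom_apply_ne_zero (M : Type u) [AddCommGroup M] [Module R M] (x : M)
    (hx : x ≠ 0) : ∃ φ : M →ₗ[R] E, φ x ≠ 0 := by
  -- the map `R ∙ x → k → E`
  have hann : LinearMap.ker (LinearMap.toSpanSingleton R M x) ≤ maximalIdeal R := by
    intro r hr
    rw [mem_maximalIdeal]
    intro hu
    apply hx
    have h1 : r • x = 0 := hr
    obtain ⟨u, rfl⟩ := hu
    rw [← one_smul R x, ← Units.inv_mul u, mul_smul, h1, smul_zero]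
  let e := (LinearMap.quotKerEquivRange (LinearMap.toSpanSingleton R M x))
  let q : (R ⧸ LinearMap.ker (LinearMap.toSpanSingleton R M x)) →ₗ[R] ResidueField R :=
    Submodule.liftQ _ (Algebra.linearMap R (ResidueField R)) (by
      intro r hr
      rw [LinearMap.mem_ker, Algebra.linearMap_apply]
      exact (residue_eq_zero_iff r).2 (hann hr))
  let g : LinearMap.range (LinearMap.toSpanSingleton R M x) →ₗ[R] E := f ∘ₗ q ∘ₗ e.symm.toLinearMap
  obtain ⟨φ, hφ⟩ := hf.isInjective.out (LinearMap.range (LinearMap.toSpanSingleton R M x)).subtype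
    (Submodule.injective_subtype _) g
  refine ⟨φ, ?_⟩
  have hxmem : x ∈ LinearMap.range (LinearMap.toSpanSingleton R M x) := ⟨1, by simp⟩
  have h1 : φ x = g ⟨x, hxmem⟩ := hφ ⟨x, hxmem⟩
  rw [h1]
  have h2' : e (Submodule.Quotient.mk (1 : R)) = ⟨x, hxmem⟩ := by
    apply Subtype.ext
    rw [LinearMap.quotKerEquivRange_apply_mk]
    simp
  have h2 : e.symm ⟨x, hxmem⟩ = Submodule.Quotient.mk (1 : R) :=
    (LinearEquiv.symm_apply_eq _).2 h2'.symm
  change f (q (e.symm ⟨x, hxmem⟩)) ≠ 0
  rw [h2]
  intro h0
  have h3 : q (Submodule.Quotient.mk (1 : R)) = 0 := hf.injective (by rw [h0, map_zero])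
  have h4 : algebraMap R (ResidueField R) 1 = 0 := h3
  rw [map_one] at h4
  exact one_ne_zero h4

/-- Matlis biduality for modules of finite length. -/
theorem applyₗ_bijective_of_isFiniteLength (M : Type u) [AddCommGroup M] [Module R M]
    (hM : IsFiniteLength R M) :
    Function.Bijective (LinearMap.applyₗ : M →ₗ[R] (M →ₗ[R] E) →ₗ[R] E) := by
  have h1 : Module.length R (M →ₗ[R] E) = Module.length R M :=
    length_hom_eq_of_isFiniteLength f hf M hM
  have hM' : IsFiniteLength R (M →ₗ[R] E) := by
    rw [← Module.length_ne_top_iff, h1, Module.length_ne_top_iff]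
    exact hM
  have h2 : Module.length R ((M →ₗ[R] E) →ₗ[R] E) = Module.length R (M →ₗ[R] E) :=
    length_hom_eq_of_isFiniteLength f hf _ hM'
  have hM'' : IsFiniteLength R ((M →ₗ[R] E) →ₗ[R] E) := by
    rw [← Module.length_ne_top_iff, h2, Module.length_ne_top_iff]
    exact hM'
  have hinj : Function.Injective (LinearMap.applyₗ : M →ₗ[R] (M →ₗ[R] E) →ₗ[R] E) := by
    rw [injective_iff_map_eq_zero]
    intro x hx
    by_contra hne
    obtain ⟨φ, hφ⟩ := exists_hom_apply_ne_zero f hf M x hne
    exact hφ (LinearMap.congr_fun hx φ)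
  refine ⟨hinj, ?_⟩
  obtain ⟨_, _⟩ := isFiniteLength_iff_isNoetherian_isArtinian.1 hM''
  rw [← LinearMap.range_eq_top]
  by_contra hne
  have h3 := Submodule.length_lt hne
  have h4 : Module.length R (LinearMap.range (LinearMap.applyₗ : M →ₗ[R] (M →ₗ[R] E) →ₗ[R] E))
      = Module.length R M := (LinearEquiv.ofInjective _ hinj).length_eq.symm
  rw [h4, h2, h1] at h3
  exact lt_irrefl _ h3

/-- An element of `R` killing `E[I]` lies in `I`. -/
theorem mem_of_forall_smul_eq_zero (I : Ideal R) (r : R)
    (h : ∀ x : E, (∀ a ∈ I, a • x = 0) → r • x = 0) : r ∈ I := by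
  by_contra hr
  have hne : (Ideal.Quotient.mk I r : R ⧸ I) ≠ 0 := by
    rwa [Ne, Ideal.Quotient.eq_zero_iff_mem]
  obtain ⟨χ, hχ⟩ := exists_hom_apply_ne_zero f hf (R ⧸ I) _ hne
  apply hχ
  have h1 : (Ideal.Quotient.mk I r : R ⧸ I) = r • (Ideal.Quotient.mk I 1 : R ⧸ I) := by
    rw [Algebra.smul_def, map_one, mul_one]; rfl
  rw [h1, map_smul]
  apply h
  intro a ha
  rw [← map_smul]
  have : a • (Ideal.Quotient.mk I 1 : R ⧸ I) = 0 := by
    rw [Algebra.smul_def, map_one, mul_one]; exact Ideal.Quotient.eq_zero_iff_mem.2 ha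
  rw [this, map_zero]

/-- Every linear map `E[I] → E` is multiplication by an element of `R`, when `R ⧸ I` has finite
length. -/
theorem exists_smul_eq_of_linearMap (I : Ideal R) (hI : IsFiniteLength R (R ⧸ I))
    (ψ : Submodule.torsionBySet R E (I : Set R) →ₗ[R] E) :
    ∃ r : R, ∀ x, ψ x = r • (x : E) := by
  -- `θ : Hom(R/I, E) → E[I]`
  let θ : ((R ⧸ I) →ₗ[R] E) →ₗ[R] Submodule.torsionBySet R E (I : Set R) :=
    LinearMap.codRestrict _ (LinearMap.applyₗ (Ideal.Quotient.mk I 1 : R ⧸ I)) (by
      intro χ
      rw [Submodule.mem_torsionBySet_iff]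
      rintro ⟨a, ha⟩
      change a • χ (Ideal.Quotient.mk I 1) = 0
      rw [← map_smul]
      have : a • (Ideal.Quotient.mk I 1 : R ⧸ I) = 0 := by
        rw [Algebra.smul_def, map_one, mul_one]; exact Ideal.Quotient.eq_zero_iff_mem.2 ha
      rw [this, map_zero])
  have hθ : Function.Surjective θ := by
    intro x
    have hle : I ≤ LinearMap.ker (LinearMap.toSpanSingleton R E (x : E)) := by
      intro a ha
      rw [LinearMap.mem_ker, LinearMap.toSpanSingleton_apply]
      exact (Submodule.mem_torsionBySet_iff _ _).1 x.2 ⟨a, ha⟩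
    refine ⟨Submodule.liftQ I (LinearMap.toSpanSingleton R E (x : E)) hle, ?_⟩
    apply Subtype.ext
    change Submodule.liftQ I (LinearMap.toSpanSingleton R E (x : E)) hle
      (Submodule.Quotient.mk 1) = x
    rw [Submodule.liftQ_apply, LinearMap.toSpanSingleton_apply, one_smul]
  obtain ⟨rbar, hr⟩ := (applyₗ_bijective_of_isFiniteLength f hf (R ⧸ I) hI).2 (ψ ∘ₗ θ)
  obtain ⟨r, rfl⟩ := Ideal.Quotient.mk_surjective rbar
  refine ⟨r, fun x => ?_⟩
  obtain ⟨χ, rfl⟩ := hθ x
  have := LinearMap.congr_fun hr χ
  change χ (Ideal.Quotient.mk I r) = ψ (θ χ) at this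
  rw [← this]
  change _ = r • χ (Ideal.Quotient.mk I 1)
  rw [← map_smul]
  congr 1
  rw [Algebra.smul_def, map_one, mul_one]; rfl

end

end Groth.Agent.Lib.Helper1.Matlis
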