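import Groth.Prelude.Def_Wider
import Mathlib.Algebra.Category.ModuleCat.EnoughInjectives
import Mathlib.Algebra.Category.ModuleCat.Injective
import Mathlib.Order.CompactlyGenerated.Basic
import Mathlib.Order.Zorn
import Mathlib.LinearAlgebra.Projection

/-!
# Essential extensions and injective hulls

* `EssIn A B`: `A ≤ B` are submodules of `Q` and `A` is essential in `B`.
* maximal essential extensions inside an injective module are direct summands, hence injective;
* existence of injective hulls.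
-/

set_option autoImplicit false
universe u v

open CategoryTheory

namespace Groth.Agent.Lib.Helper1.InjHullLib

variable {R : Type u} [CommRing R] {Q : Type v} [AddCommGroup Q] [Module R Q]

/-- `A` is an essential submodule of `B`. -/
def EssIn (A B : Submodule R Q) : Prop :=
  A ≤ B ∧ ∀ x ∈ B, x ≠ 0 → ∃ r : R, r • x ≠ 0 ∧ r • x ∈ A

theorem EssIn.refl (A : Submodule R Q) : EssIn A A :=
  ⟨le_rfl, fun x hx hx0 => ⟨1, by simpa using hx0, by simpa using hx⟩⟩

theorem EssIn.trans {A B C : Submodule R Q} (h1 : EssIn A B) (h2 : EssIn B C) : EssIn A C := by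
  refine ⟨h1.1.trans h2.1, fun x hx hx0 => ?_⟩
  obtain ⟨r, hr0, hr⟩ := h2.2 x hx hx0
  obtain ⟨s, hs0, hs⟩ := h1.2 _ hr hr0
  exact ⟨s * r, by rwa [mul_smul], by rwa [mul_smul]⟩

theorem EssIn.inf_ne_bot {A B : Submodule R Q} (h : EssIn A B) {N : Submodule R Q} (hN : N ≤ B)
    (hN0 : N ≠ ⊥) : N ⊓ A ≠ ⊥ := by
  obtain ⟨x, hx, hx0⟩ := Submodule.exists_mem_ne_zero_of_ne_bot hN0
  obtain ⟨r, hr0, hr⟩ := h.2 x (hN hx) hx0
  intro hbot
  apply hr0
  have : r • x ∈ N ⊓ A := ⟨N.smul_mem r hx, hr⟩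
  rw [hbot] at this
  exact (Submodule.mem_bot R).1 this

theorem essIn_of_forall_inf_ne_bot {A B : Submodule R Q} (hAB : A ≤ B)
    (h : ∀ N : Submodule R Q, N ≤ B → N ≠ ⊥ → N ⊓ A ≠ ⊥) : EssIn A B := by
  refine ⟨hAB, fun x hx hx0 => ?_⟩
  have hne : Submodule.span R {x} ≠ ⊥ := by
    intro hbot
    apply hx0
    have : x ∈ Submodule.span R {x} := Submodule.subset_span rfl
    rw [hbot] at this
    exact (Submodule.mem_bot R).1 this
  have h1 := h (Submodule.span R {x}) ((Submodule.span_singleton_le_iff_mem x B).2 hx) hne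
  obtain ⟨y, hy, hy0⟩ := Submodule.exists_mem_ne_zero_of_ne_bot h1
  obtain ⟨r, rfl⟩ := Submodule.mem_span_singleton.1 hy.1
  exact ⟨r, hy0, hy.2⟩

theorem EssIn.sSup_chain {A : Submodule R Q} {c : Set (Submodule R Q)} (hc : IsChain (· ≤ ·) c)
    (hne : c.Nonempty) (h : ∀ B ∈ c, EssIn A B) : EssIn A (sSup c) := by
  obtain ⟨B₀, hB₀⟩ := hne
  refine ⟨(h B₀ hB₀).1.trans (le_sSup hB₀), fun x hx hx0 => ?_⟩
  obtain ⟨B, hB, hxB⟩ := (Submodule.mem_sSup_of_directed ⟨B₀, hB₀⟩ hc.directedOn).1 hx
  exact (h B hB).2 x hxB hx0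

/-- Every submodule has a maximal essential extension inside the ambient module. -/
theorem exists_maximal_essIn (A : Submodule R Q) :
    ∃ E : Submodule R Q, EssIn A E ∧ ∀ E', EssIn A E' → E ≤ E' → E' = E := by
  obtain ⟨E, hE⟩ := zorn_le₀ {B : Submodule R Q | EssIn A B} (fun c hcs hc => by
    by_cases hne : c.Nonempty
    · exact ⟨sSup c, EssIn.sSup_chain hc hne (fun B hB => hcs hB), fun z hz => le_sSup hz⟩
    · rw [Set.not_nonempty_iff_eq_empty] at hne
      exact ⟨A, EssIn.refl A, fun z hz => by rw [hne] at hz; exact absurd hz (Set.notMem_empty z)⟩)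
  exact ⟨E, hE.prop, fun E' hE' hle => le_antisymm (hE.le_of_ge hE' hle) hle⟩

/-- Every submodule has a maximal disjoint submodule. -/
theorem exists_maximal_disjoint (E : Submodule R Q) :
    ∃ N : Submodule R Q, Disjoint N E ∧ ∀ N', Disjoint N' E → N ≤ N' → N' = N := by
  obtain ⟨N, hN⟩ := zorn_le₀ {B : Submodule R Q | Disjoint B E} (fun c hcs hc => by
    refine ⟨sSup c, ?_, fun z hz => le_sSup hz⟩
    exact (hc.directedOn.disjoint_sSup_left).2 (fun B hB => hcs hB))
  exact ⟨N, hN.prop, fun N' hN' hle => le_antisymm (hN.le_of_ge hN' hle) hle⟩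

/-- A direct summand of an injective module is injective. -/
theorem injective_of_isCompl [hQ : Module.Injective R Q] {E N : Submodule R Q} (h : IsCompl E N) :
    Module.Injective R E where
  out X Y _ _ _ _ f hf g := by
    obtain ⟨l, hl⟩ := hQ.out f hf (E.subtype ∘ₗ g)
    refine ⟨(Submodule.projectionOnto E N h) ∘ₗ l, fun x => ?_⟩
    rw [LinearMap.comp_apply, hl x, LinearMap.comp_apply, Submodule.subtype_apply,
      Submodule.projectionOnto_apply_left]

/-- A maximal essential extension inside an injective module is a direct summand. -/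
theorem exists_isCompl_of_maximal_essIn [hQ : Module.Injective R Q] {A E : Submodule R Q}
    (hAE : EssIn A E) (hmax : ∀ E', EssIn A E' → E ≤ E' → E' = E) :
    ∃ N : Submodule R Q, IsCompl E N := by
  obtain ⟨N, hNE, hNmax⟩ := exists_maximal_disjoint E
  refine ⟨N, ⟨hNE.symm, ?_⟩⟩
  -- the map `j : E → Q ⧸ N`
  let j : E →ₗ[R] Q ⧸ N := N.mkQ ∘ₗ E.subtype
  have hj : Function.Injective j := by
    rw [← LinearMap.ker_eq_bot, eq_bot_iff]
    intro e he
    have h1 : (e : Q) ∈ N := by
      have : N.mkQ (e : Q) = 0 := he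
      rwa [Submodule.mkQ_apply, Submodule.Quotient.mk_eq_zero] at this
    have h2 : (e : Q) ∈ N ⊓ E := ⟨h1, e.2⟩
    rw [hNE.eq_bot] at h2
    exact Subtype.ext ((Submodule.mem_bot R).1 h2)
  -- `range j` is essential in `Q ⧸ N`
  have hess : ∀ y : Q ⧸ N, y ≠ 0 → ∃ r : R, r • y ≠ 0 ∧ r • y ∈ LinearMap.range j := by
    intro y hy0
    obtain ⟨q, rfl⟩ := N.mkQ_surjective y
    have hqN : q ∉ N := by
      intro hq
      apply hy0
      rw [Submodule.mkQ_apply, Submodule.Quotient.mk_eq_zero]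
      exact hq
    have hlt : ¬ Disjoint (N ⊔ Submodule.span R {q}) E := by
      intro hdis
      have := hNmax _ hdis le_sup_left
      apply hqN
      rw [← this]
      exact Submodule.mem_sup_right (Submodule.subset_span rfl)
    rw [Submodule.disjoint_def] at hlt
    push Not at hlt
    obtain ⟨e, he1, he2, he0⟩ := hlt
    obtain ⟨n, hn, z, hz, rfl⟩ := Submodule.mem_sup.1 he1
    obtain ⟨r, rfl⟩ := Submodule.mem_span_singleton.1 hz
    refine ⟨r, ?_, ⟨⟨n + r • q, he2⟩, ?_⟩⟩
    · intro h0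
      rw [← map_smul, Submodule.mkQ_apply, Submodule.Quotient.mk_eq_zero] at h0
      have h3 : n + r • q ∈ N ⊓ E := ⟨N.add_mem hn h0, he2⟩
      rw [hNE.eq_bot] at h3
      exact he0 ((Submodule.mem_bot R).1 h3)
    · change N.mkQ (n + r • q) = r • N.mkQ q
      rw [map_add, map_smul]
      have : N.mkQ n = 0 := by
        rw [Submodule.mkQ_apply, Submodule.Quotient.mk_eq_zero]; exact hn
      rw [this, zero_add]
  -- extend the inclusion along `j`
  obtain ⟨ψ, hψ⟩ := hQ.out j hj E.subtype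
  have hψinj : Function.Injective ψ := by
    rw [injective_iff_map_eq_zero]
    intro y hy
    by_contra hy0
    obtain ⟨r, hr0, ⟨e, he⟩⟩ := hess y hy0
    have h1 : ψ (r • y) = (e : Q) := by rw [← he, hψ e]; rfl
    rw [map_smul, hy, smul_zero] at h1
    apply hr0
    rw [← he]
    have : e = 0 := Subtype.ext h1.symm
    rw [this, map_zero]
  -- `range ψ` is an essential extension of `E`
  have hEψ : EssIn E (LinearMap.range ψ) := by
    refine ⟨fun e he => ⟨j ⟨e, he⟩, hψ ⟨e, he⟩⟩, ?_⟩
    rintro _ ⟨y, rfl⟩ hz0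
    have hy0 : y ≠ 0 := by
      rintro rfl
      exact hz0 (map_zero ψ)
    obtain ⟨r, hr0, ⟨e, he⟩⟩ := hess y hy0
    have h1 : r • ψ y = (e : Q) := by rw [← map_smul, ← he, hψ e]; rfl
    refine ⟨r, ?_, ?_⟩
    · rw [h1]
      intro h0
      apply hr0
      rw [← he]
      have : e = 0 := Subtype.ext h0
      rw [this, map_zero]
    · rw [h1]; exact e.2
  have hrange : LinearMap.range ψ = E :=
    hmax _ (hAE.trans hEψ) hEψ.1
  -- conclude `E ⊔ N = ⊤`
  rw [codisjoint_iff, eq_top_iff]
  intro q _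
  have h1 : ψ (N.mkQ q) ∈ E := by rw [← hrange]; exact ⟨_, rfl⟩
  have h2 : ψ (N.mkQ q) = ψ (j ⟨ψ (N.mkQ q), h1⟩) := by rw [hψ]; rfl
  have h3 : N.mkQ q = j ⟨ψ (N.mkQ q), h1⟩ := hψinj h2
  have h4 : q - ψ (N.mkQ q) ∈ N := by
    rw [← Submodule.Quotient.mk_eq_zero, Submodule.Quotient.mk_sub, sub_eq_zero]
    exact h3
  have : q = ψ (N.mkQ q) + (q - ψ (N.mkQ q)) := by abel
  rw [this]
  exact Submodule.add_mem_sup h1 h4

/-- An injective submodule is a direct summand. -/
theorem exists_isCompl_of_injective_submodule (N : Submodule R Q) [hN : Module.Injective R N] :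
    ∃ C : Submodule R Q, IsCompl N C := by
  obtain ⟨ψ, hψ⟩ := hN.out N.subtype N.injective_subtype LinearMap.id
  refine ⟨LinearMap.ker ψ, ?_, ?_⟩
  · rw [Submodule.disjoint_def]
    intro x hx hx'
    have h1 : ψ (N.subtype ⟨x, hx⟩) = 0 := hx'
    rw [hψ ⟨x, hx⟩, LinearMap.id_apply] at h1
    exact congrArg Subtype.val h1
  · rw [codisjoint_iff, eq_top_iff]
    intro x _
    have h1 : x = (ψ x : Q) + (x - (ψ x : Q)) := by abel
    rw [h1]
    refine Submodule.add_mem_sup (ψ x).2 ?_
    rw [LinearMap.mem_ker, map_sub]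
    have h2 := hψ (ψ x)
    rw [LinearMap.id_apply, Submodule.subtype_apply] at h2
    rw [h2, sub_self]

/-- In an indecomposable injective module every nonzero submodule is essential. -/
theorem essIn_top_of_indecomposable [hQ : Module.Injective R Q]
    (hE : InjHull.IsIndecomposable R Q) (N : Submodule R Q) (hN : N ≠ ⊥) : EssIn N ⊤ := by
  obtain ⟨E', hNE', hmax⟩ := exists_maximal_essIn N
  obtain ⟨C, hC⟩ := exists_isCompl_of_maximal_essIn hNE' hmax
  rcases hE.2 E' C hC with h | h
  · exfalso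
    apply hN
    rw [eq_bot_iff, ← h]
    exact hNE'.1
  · have : E' = ⊤ := by
      have := hC.sup_eq_top
      rwa [h, sup_bot_eq] at this
    rwa [this] at hNE'

/-- Elementwise form of `InjHull.IsEssentialInj`. -/
theorem isEssentialInj_iff {M : Type v} {E : Type v} [AddCommGroup M] [Module R M]
    [AddCommGroup E] [Module R E] (f : M →ₗ[R] E) :
    InjHull.IsEssentialInj f ↔ Function.Injective f ∧
      ∀ x : E, x ≠ 0 → ∃ r : R, r • x ≠ 0 ∧ r • x ∈ LinearMap.range f := by
  constructor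
  · intro h
    refine ⟨h.injective, ?_⟩
    have := essIn_of_forall_inf_ne_bot (A := LinearMap.range f) (B := ⊤) le_top
      (fun N _ hN => h.essential N hN)
    exact fun x hx => this.2 x trivial hx
  · rintro ⟨h1, h2⟩
    refine ⟨h1, fun N hN => ?_⟩
    exact EssIn.inf_ne_bot (A := LinearMap.range f) (B := ⊤) ⟨le_top, fun x _ hx => h2 x hx⟩
      le_top hN

/-- If `ι : M → M'` is an essential injection and `g ∘ ι` is an injective hull, so is `g`. -/
theorem isInjectiveHull_of_comp {M M' E : Type v} [AddCommGroup M] [Module R M]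
    [AddCommGroup M'] [Module R M'] [AddCommGroup E] [Module R E]
    (ι : M →ₗ[R] M') (hι : InjHull.IsEssentialInj ι) (f : M →ₗ[R] E)
    (hf : InjHull.IsInjectiveHull f) (g : M' →ₗ[R] E) (hg : g ∘ₗ ι = f) :
    InjHull.IsInjectiveHull g := by
  refine ⟨⟨?_, ?_⟩, hf.isInjective⟩
  · rw [← LinearMap.ker_eq_bot]
    by_contra hne
    apply hι.essential _ hne
    rw [eq_bot_iff]
    rintro x ⟨hx1, ⟨m, rfl⟩⟩
    have h1 : g (ι m) = 0 := hx1
    rw [← LinearMap.comp_apply, hg] at h1
    have h2 : m = 0 := hf.injective (by rw [h1, map_zero])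
    rw [h2, map_zero]
    exact Submodule.zero_mem _
  · intro N hN hbot
    apply hf.essential N hN
    rw [eq_bot_iff, ← hbot]
    refine inf_le_inf_left N ?_
    rintro _ ⟨m, rfl⟩
    exact ⟨ι m, by rw [← LinearMap.comp_apply, hg]⟩

/-- Every module embeds into an injective module (in the same universe). -/
theorem exists_injective_embedding (R : Type u) [CommRing R] (M : Type u) [AddCommGroup M]
    [Module R M] : ∃ (Q : Type u) (_ : AddCommGroup Q) (_ : Module R Q) (i : M →ₗ[R] Q),
      Module.Injective R Q ∧ Function.Injective i := by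
  have : EnoughInjectives (ModuleCat.{u} R) := ModuleCat.enoughInjectives.{u, u} R
  let M' : ModuleCat.{u} R := ModuleCat.of R M
  let Q' : ModuleCat.{u} R := Injective.under M'
  have hQ' : CategoryTheory.Injective (ModuleCat.of R Q') :=
    inferInstanceAs (CategoryTheory.Injective (Injective.under M'))
  refine ⟨Q', inferInstance, inferInstance, (Injective.ι M').hom, ?_, ?_⟩
  · exact Module.injective_module_of_injective_object R Q'
  · exact (ModuleCat.mono_iff_injective (Injective.ι M')).1 inferInstance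

/-- Existence of injective hulls. -/
theorem exists_injective_hull (R : Type u) [CommRing R] (M : Type u) [AddCommGroup M]
    [Module R M] : ∃ (E : Type u) (_ : AddCommGroup E) (_ : Module R E) (f : M →ₗ[R] E),
      InjHull.IsInjectiveHull f := by
  obtain ⟨Q, _, _, i, hQ, hi⟩ := exists_injective_embedding R M
  obtain ⟨E, hAE, hmax⟩ := exists_maximal_essIn (LinearMap.range i)
  obtain ⟨N, hN⟩ := exists_isCompl_of_maximal_essIn hAE hmax
  have hEinj : Module.Injective R E := injective_of_isCompl hN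
  let f : M →ₗ[R] E := i.codRestrict E (fun m => hAE.1 ⟨m, rfl⟩)
  refine ⟨E, inferInstance, inferInstance, f, ⟨(isEssentialInj_iff f).2 ⟨?_, ?_⟩, hEinj⟩⟩
  · intro a b hab
    apply hi
    exact congrArg Subtype.val hab
  · intro x hx0
    have hx0' : (x : Q) ≠ 0 := fun h => hx0 (Subtype.ext h)
    obtain ⟨r, hr0, ⟨m, hm⟩⟩ := hAE.2 x x.2 hx0'
    refine ⟨r, fun h => hr0 ?_, ⟨m, Subtype.ext ?_⟩⟩
    · have := congrArg Subtype.val h
      simpa using this
    · exact hm

end Groth.Agent.Lib.Helper1.InjHullLib
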