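import Mathlib
import Groth.Agent.Lib.Helper1.AssRed3
import Groth.Agent.Lib.Helper9.GeomRed
import Groth.Agent.Lib.Helper14.GeomReduced
import Groth.Agent.Lib.Helper14.GrpCM
import Groth.Agent.Lib.Helper17.SepField

/-!
# Geometric reducedness of residue fields at associated points of geometrically reduced modules
(helper1)
-/

set_option autoImplicit false
set_option linter.style.haveILetI false
universe u
open CategoryTheory CategoryTheory.Limits AlgebraicGeometry IsLocalRing TensorProduct

namespace Groth.Agent.Lib.Helper1.AssRed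

open Groth.Agent.Lib.Helper17 Groth.Agent.Lib.Helper3 Groth.Agent.Lib.Helper14
  Groth.Agent.Lib.Helper1.AssFlat1 Groth.Agent.Lib.Helper1.AssBC Groth.Agent.Lib.Helper1.AssTens
  Groth.Agent.Lib.Helper1.BcLen

noncomputable section

variable {k : Type u} [Field k] {X : Scheme.{u}} [IsLocallyNoetherian X]
  (f : X ⟶ Spec (CommRingCat.of k)) (F : X.Modules) [F.IsQuasicoherent]

theorem isReduced_tensor_residueField (k' : Type u) [Field k'] [Algebra k k'] [Module.Finite k k']
    (hred : AssSch.IsReducedMod ((Scheme.Modules.pullback (FBase.bcπ f k')).obj F)) (x : X)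
    (hx : Curv2.IsAssPoint F x) :
    letI : Algebra k (X.residueField x) :=
      (Spec.preimage (X.fromSpecResidueField x ≫ f)).hom.toAlgebra
    IsReduced (k' ⊗[k] X.residueField x) := by
  letI algK : Algebra k (X.residueField x) :=
    (Spec.preimage (X.fromSpecResidueField x ≫ f)).hom.toAlgebra
  haveI : Flat (Spec.map (CommRingCat.ofHom (algebraMap k k'))) := flat_SpecMap_field
  have h1 : IsPullback ((pullback.fst f (Spec.map (CommRingCat.ofHom (algebraMap k k')))).fiberι x)
      ((pullback.fst f (Spec.map (CommRingCat.ofHom (algebraMap k k')))).fiberToSpecResidueField x)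
      (pullback.fst f (Spec.map (CommRingCat.ofHom (algebraMap k k'))))
      (X.fromSpecResidueField x) := IsPullback.of_hasPullback _ _
  have h2 := (h1.paste_horiz
    (IsPullback.of_hasPullback f (Spec.map (CommRingCat.ofHom (algebraMap k k')))).flip).flip
  have hτ : X.fromSpecResidueField x ≫ f =
      Spec.map (CommRingCat.ofHom (algebraMap k (X.residueField x))) :=
    (Spec.map_preimage _).symm
  rw [hτ] at h2
  let ψ : (pullback.fst f (Spec.map (CommRingCat.ofHom (algebraMap k k')))).fiber x ≅
      Spec (CommRingCat.of (X.residueField x ⊗[k] k')) :=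
    h2.isoPullback ≪≫ pullbackSpecIso k (X.residueField x) k'
  refine isReduced_tensor_of_length ψ ?_
  intro a ha
  have hflatO := Groth.Agent.Lib.Helper13.CBCEtStalk.isFlatOver_structureModule
    (pullback.fst f (Spec.map (CommRingCat.ofHom (algebraMap k k'))))
  have hA := Groth.Agent.Lib.Helper1.AssFlat.isAssPoint_fiberι_iff
    (pullback.fst f (Spec.map (CommRingCat.ofHom (algebraMap k k')))) F
    (Coh.structureModule _) hflatO x a
  have hz := hA.mpr ⟨hx, isAssPoint_of_iso (PbBasic.pbUnit _).symm a ha⟩
  have hLen := Groth.Agent.Lib.Helper1.AssFlat.length_fiberι_iff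
    (pullback.fst f (Spec.map (CommRingCat.ofHom (algebraMap k k')))) F
    (Coh.structureModule _) hflatO x a hz
  have hz' := isAssPoint_of_iso (SecTwist.unitorR _) _ hz
  have hl := hred.2 _ hz'
  have hl' := (GenFin.stalkEquivOfIso (SecTwist.unitorR
    ((Scheme.Modules.pullback (pullback.fst f
      (Spec.map (CommRingCat.ofHom (algebraMap k k'))))).obj F))
    (((pullback.fst f (Spec.map (CommRingCat.ofHom (algebraMap k k')))).fiberι x) a)).length_eq
  have h3 := (hLen.mp (hl'.trans hl)).2
  rw [(GenFin.stalkEquivOfIso (PbBasic.pbUnit _) a).length_eq, length_structure_stalk] at h3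
  exact h3

theorem isGeometricallyReduced_residueField
    (hFgr : ∀ (k' : Type u) [Field k'] [Algebra k k'] [FiniteDimensional k k']
      [IsPurelyInseparable k k'],
      AssSch.IsReducedMod ((Scheme.Modules.pullback (FBase.bcπ f k')).obj F)) (x : X)
    (hx : Curv2.IsAssPoint F x) :
    letI : Algebra k (X.residueField x) :=
      (Spec.preimage (X.fromSpecResidueField x ≫ f)).hom.toAlgebra
    Algebra.IsGeometricallyReduced k (X.residueField x) := by
  letI algK : Algebra k (X.residueField x) :=
    (Spec.preimage (X.fromSpecResidueField x ≫ f)).hom.toAlgebra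
  exact Groth.Agent.Lib.Helper9.GeomRed.isGeometricallyReduced_of_finite_insep
    (fun k' _ _ _ _ => isReduced_tensor_residueField f F k' (hFgr k') x hx)

/-- `Spec κ(x) ×_k Spec κ(y)` is reduced when `κ(x)` is geometrically reduced over `k`. -/
theorem isReduced_T {Y : Scheme.{u}} (g : Y ⟶ Spec (CommRingCat.of k)) (x : X) (y : Y)
    (hgr : letI : Algebra k (X.residueField x) :=
      (Spec.preimage (X.fromSpecResidueField x ≫ f)).hom.toAlgebra
      Algebra.IsGeometricallyReduced k (X.residueField x)) :
    AlgebraicGeometry.IsReduced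
      (pullback (X.fromSpecResidueField x ≫ f) (Y.fromSpecResidueField y ≫ g)) := by
  letI algK : Algebra k (X.residueField x) :=
    (Spec.preimage (X.fromSpecResidueField x ≫ f)).hom.toAlgebra
  letI algL : Algebra k (Y.residueField y) :=
    (Spec.preimage (Y.fromSpecResidueField y ≫ g)).hom.toAlgebra
  haveI := hgr
  have hτx : X.fromSpecResidueField x ≫ f =
      Spec.map (CommRingCat.ofHom (algebraMap k (X.residueField x))) :=
    (Spec.map_preimage _).symm
  have hτy : Y.fromSpecResidueField y ≫ g =
      Spec.map (CommRingCat.ofHom (algebraMap k (Y.residueField y))) :=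
    (Spec.map_preimage _).symm
  have h1 : _root_.IsReduced (Y.residueField y ⊗[k] X.residueField x) :=
    Groth.Agent.Lib.Helper14.GeomReduced.isReduced_tensor_of_isGeometricallyReduced k (X.residueField x)
      (Y.residueField y)
  haveI h2 : _root_.IsReduced (X.residueField x ⊗[k] Y.residueField y) :=
    isReduced_of_injective (Algebra.TensorProduct.comm k (X.residueField x)
      (Y.residueField y)).toRingEquiv (RingEquiv.injective _)
  haveI : AlgebraicGeometry.IsReduced (Spec (CommRingCat.of
      (X.residueField x ⊗[k] Y.residueField y))) := inferInstance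
  exact isReduced_of_isOpenImmersion
    ((pullback.congrHom hτx hτy ≪≫ pullbackSpecIso k (X.residueField x) (Y.residueField y)).hom)

theorem isAssPoint_structure_of_isField {Z : Scheme.{u}} (z : Z)
    (hF : IsField (Z.presheaf.stalk z)) : Curv2.IsAssPoint (Coh.structureModule Z) z := by
  have hm : maximalIdeal (Z.presheaf.stalk z) = ⊥ := IsLocalRing.isField_iff_maximalIdeal_eq.mp hF
  haveI : IsDomain (Z.presheaf.stalk z) := hF.isDomain
  show IsAssociatedPrime (maximalIdeal (Z.presheaf.stalk z))
    ((Coh.structureModule Z).presheaf.stalk z)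
  rw [(Groth.Agent.Lib.Helper26.RefSh.unitEquiv z).isAssociatedPrime_iff, hm]
  refine ⟨Ideal.isPrime_bot, 1, ?_⟩
  have : (⊥ : Submodule (Z.presheaf.stalk z) (Z.presheaf.stalk z)).colon {1} = ⊥ := by
    ext r
    rw [Submodule.mem_colon_singleton, Submodule.mem_bot, smul_eq_mul, mul_one]
    rfl
  rw [this]
  exact (Ideal.radical_bot_of_isReduced).symm

end

end Groth.Agent.Lib.Helper1.AssRed
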