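import Mathlib
import Groth.Agent.Lib.Helper1.AssRed4

/-!
# The external tensor product of a geometrically reduced module and a reduced module is reduced
(helper1)
-/

set_option autoImplicit false
set_option linter.style.haveILetI false
universe u
open CategoryTheory CategoryTheory.Limits AlgebraicGeometry IsLocalRing TensorProduct

namespace Groth.Agent.Lib.Helper1.AssRed

open Groth.Agent.Lib.Helper17 Groth.Agent.Lib.Helper3 Groth.Agent.Lib.Helper14
  Groth.Agent.Lib.Helper1.AssFlat1 Groth.Agent.Lib.Helper1.AssBC Groth.Agent.Lib.Helper1.AssTens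
  Groth.Agent.Lib.Helper1.BcLen

noncomputable section

theorem length_fiber_eq_one {Y S : Scheme.{u}} (g : Y ⟶ S) [IsLocallyNoetherian S]
    (G : Y.Modules) [G.IsQuasicoherent]
    (hGfl : FlatMod.IsFlatOver g G) (s : S) (y' : g.fiber s)
    (hy : Curv2.IsAssPoint G (g.fiberι s y'))
    (hl : Module.length (Y.presheaf.stalk (g.fiberι s y')) (G.presheaf.stalk (g.fiberι s y')) = 1) :
    Module.length ((g.fiber s).presheaf.stalk y')
      (((Scheme.Modules.pullback (g.fiberι s)).obj G).presheaf.stalk y') = 1 := by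
  let e2 : CohB1.tensorMod ((Scheme.Modules.pullback g).obj (Coh.structureModule S)) G ≅ G :=
    (show CohB1.tensorMod ((Scheme.Modules.pullback g).obj (Coh.structureModule S)) G ≅
        CohB1.tensorMod (Coh.structureModule Y) G from
      (DCoh.tensorBi.mapIso (PbBasic.pbUnit g)).app G) ≪≫ InvMonoidal.unitorL G
  have ha := isAssPoint_of_iso e2.symm _ hy
  have h1 := Groth.Agent.Lib.Helper1.AssFlat.length_fiberι_iff g (Coh.structureModule S) G hGfl
    s y' ha
  have h2 := (GenFin.stalkEquivOfIso e2 (g.fiberι s y')).length_eq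
  exact (h1.mp (h2.trans hl)).2

variable {k : Type u} [Field k]

theorem isIso_bcπ_self {X : Scheme.{u}} (f : X ⟶ Spec (CommRingCat.of k)) :
    IsIso (FBase.bcπ f k) := by
  haveI : IsIso (Spec.map (CommRingCat.ofHom (algebraMap k k))) := by
    have : CommRingCat.ofHom (algebraMap k k) = 𝟙 (CommRingCat.of k) := rfl
    rw [this, Spec.map_id]
    infer_instance
  unfold FBase.bcπ
  exact (IsPullback.of_hasPullback f
    (Spec.map (CommRingCat.ofHom (algebraMap k k)))).isIso_fst_of_isIso

theorem main4661 {X Y : Scheme.{u}} [IsLocallyNoetherian X] [IsLocallyNoetherian Y]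
    (f : X ⟶ Spec (CommRingCat.of k)) (g : Y ⟶ Spec (CommRingCat.of k))
    [IsLocallyNoetherian (pullback f g)] (F : X.Modules) [F.IsQuasicoherent]
    (G : Y.Modules) [G.IsQuasicoherent]
    (hFgr : ∀ (k' : Type u) [Field k'] [Algebra k k'] [FiniteDimensional k k']
      [IsPurelyInseparable k k'],
      AssSch.IsReducedMod ((Scheme.Modules.pullback (FBase.bcπ f k')).obj F))
    (hGr : AssSch.IsReducedMod G) :
    AssSch.IsReducedMod (CohB1.tensorMod ((Scheme.Modules.pullback (pullback.fst f g)).obj F)
      ((Scheme.Modules.pullback (pullback.snd f g)).obj G)) := by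
  have hGfl : FlatMod.IsFlatOver g G := SepField.isFlatOver_of_field g G
  haveI := isIso_bcπ_self f
  haveI : IsLocallyNoetherian (Spec (CommRingCat.of k)) :=
    isLocallyNoetherian_Spec.mpr inferInstance
  have hFr : AssSch.IsReducedMod F := isReducedMod_of_pullback_isIso (FBase.bcπ f k) F (hFgr k)
  have hAssS : ∀ s : ↥(Spec (CommRingCat.of k)),
      Curv2.IsAssPoint (Coh.structureModule (Spec (CommRingCat.of k))) s := fun s =>
    isAssPoint_structure_of_isField s (GrpCM.isField_stalk_Spec_field k s)
  have hAss : ∀ x ∈ AssSch.Ass F, f x ∈ AssSch.Ass (Coh.structureModule (Spec (CommRingCat.of k))) :=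
    fun x _ => hAssS (f x)
  refine ⟨main4671 f g F G hGfl hAss hFr.1 hGr.1, ?_⟩
  intro z hz
  have sq : IsPullback (pullback.snd f g) (pullback.fst f g) g f :=
    (IsPullback.of_hasPullback f g).flip
  obtain ⟨φ, hpb, he⟩ := LCF.exists_fibre_isPullback sq (pullback.fst f g z)
  have e1 : ((pullback.fst f g).fiberι (pullback.fst f g z))
      ((φ.fiberι (φ ((pullback.fst f g).asFiber z))) (φ.asFiber ((pullback.fst f g).asFiber z)))
        = z := by
    rw [φ.fiberι_asFiber, (pullback.fst f g).fiberι_asFiber]
  have hz' : Curv2.IsAssPoint (CohB1.tensorMod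
      ((Scheme.Modules.pullback (pullback.fst f g)).obj F)
      ((Scheme.Modules.pullback (pullback.snd f g)).obj G)) z := hz
  have hcongr : ∀ (a b : ↥(pullback f g)) (hab : a = b),
      Module.length ((pullback f g).presheaf.stalk a)
        ((CohB1.tensorMod ((Scheme.Modules.pullback (pullback.fst f g)).obj F)
          ((Scheme.Modules.pullback (pullback.snd f g)).obj G)).presheaf.stalk a) =
      Module.length ((pullback f g).presheaf.stalk b)
        ((CohB1.tensorMod ((Scheme.Modules.pullback (pullback.fst f g)).obj F)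
          ((Scheme.Modules.pullback (pullback.snd f g)).obj G)).presheaf.stalk b) := by
    intro a b hab; subst hab; rfl
  rw [← hcongr _ _ e1]
  rw [← e1] at hz'
  obtain ⟨hx, hy', hζ⟩ := (core f g F G hGfl _ φ hpb he _ _).mp hz'
  rw [core_length f g F G hGfl _ φ hpb he _ _ hz']
  refine ⟨hFr.2 _ hx, ?_, ?_⟩
  · have hyA := (isAssPoint_fiber_iff g G hGfl _ _).mpr ⟨hAssS _, hy'⟩
    exact length_fiber_eq_one g G hGfl _ _ hyA (hGr.2 _ hyA)
  · have hgr := isGeometricallyReduced_residueField f F hFgr _ hx
    haveI hT := isReduced_T f g (pullback.fst f g z)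
      (g.fiberι (f (pullback.fst f g z)) (φ ((pullback.fst f g).asFiber z))) hgr
    haveI : AlgebraicGeometry.IsReduced (φ.fiber (φ ((pullback.fst f g).asFiber z))) :=
      isReduced_of_isOpenImmersion (fiberIso f g _ φ hpb _).hom
    exact length_stalk_eq_one_of_isReduced _
      (fun w hw => maximal_of_isAssPoint_Phi f g _ φ hpb _ _ hζ w hw)

end

end Groth.Agent.Lib.Helper1.AssRed
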