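import Mathlib
import Groth.Agent.Lib.Helper1.AssRed5

/-!
# Geometrically reduced modules: finite purely inseparable extensions suffice (helper1)
-/

set_option autoImplicit false
set_option linter.style.haveILetI false
universe u
open CategoryTheory CategoryTheory.Limits AlgebraicGeometry IsLocalRing TensorProduct

namespace Groth.Agent.Lib.Helper1.AssRed

open Groth.Agent.Lib.Helper17 Groth.Agent.Lib.Helper3 Groth.Agent.Lib.Helper14
  Groth.Agent.Lib.Helper1.AssFlat1 Groth.Agent.Lib.Helper1.AssBC Groth.Agent.Lib.Helper1.AssTens
  Groth.Agent.Lib.Helper1.BcLen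

noncomputable section

theorem isReducedMod_of_iso {X : Scheme.{u}} {M M' : X.Modules} (e : M ≅ M')
    (h : AssSch.IsReducedMod M) : AssSch.IsReducedMod M' := by
  refine ⟨?_, ?_⟩
  · intro x hx y hy hs
    exact h.1 x (isAssPoint_of_iso e.symm x hx) y (isAssPoint_of_iso e.symm y hy) hs
  · intro x hx
    rw [← (GenFin.stalkEquivOfIso e x).length_eq]
    exact h.2 x (isAssPoint_of_iso e.symm x hx)

theorem length_eq_one_of_isField {R : Type*} [CommRing R] (hF : IsField R) :
    Module.length R R = 1 := by
  rw [Module.length_eq_one_iff, isSimpleModule_self_iff_isUnit]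
  haveI := hF.nontrivial
  refine ⟨inferInstance, fun x hx => ?_⟩
  obtain ⟨y, hy⟩ := hF.mul_inv_cancel hx
  exact IsUnit.of_mul_eq_one y hy

variable {k : Type u} [Field k]

theorem isReducedMod_structure_Spec_field (K : Type u) [Field K] :
    AssSch.IsReducedMod (Coh.structureModule (Spec (CommRingCat.of K))) := by
  refine ⟨?_, ?_⟩
  · intro x _ y _ _
    exact Subsingleton.elim (α := PrimeSpectrum K) x y
  · intro x _
    rw [length_structure_stalk]
    exact length_eq_one_of_isField (GrpCM.isField_stalk_Spec_field K x)

theorem isLocallyNoetherian_bc_of_finite {X : Scheme.{u}} [IsLocallyNoetherian X]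
    (f : X ⟶ Spec (CommRingCat.of k)) (k' : Type u) [Field k'] [Algebra k k']
    [Module.Finite k k'] : IsLocallyNoetherian (FBase.bc f k') := by
  haveI : LocallyOfFiniteType (Spec.map (CommRingCat.ofHom (algebraMap k k'))) := by
    rw [HasRingHomProperty.Spec_iff (P := @LocallyOfFiniteType)]
    exact RingHom.FiniteType.of_finite (RingHom.finite_algebraMap.mpr inferInstance)
  unfold FBase.bc
  exact LocallyOfFiniteType.isLocallyNoetherian
    (pullback.fst f (Spec.map (CommRingCat.ofHom (algebraMap k k'))))

theorem main4659 {X : Scheme.{u}} [IsLocallyNoetherian X]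
    (f : X ⟶ Spec (CommRingCat.of k)) (F : X.Modules) [F.IsQuasicoherent] :
    (∀ (k' : Type u) [Field k'] [Algebra k k'] [FiniteDimensional k k']
        [IsPurelyInseparable k k'],
        AssSch.IsReducedMod ((Scheme.Modules.pullback (FBase.bcπ f k')).obj F)) ↔
      ∀ (K : Type u) [Field K] [Algebra k K] [IsLocallyNoetherian (FBase.bc f K)],
        AssSch.IsReducedMod ((Scheme.Modules.pullback (FBase.bcπ f K)).obj F) := by
  constructor
  · intro hFgr K _ _ hN
    haveI : IsLocallyNoetherian (Spec (CommRingCat.of K)) :=
      isLocallyNoetherian_Spec.mpr inferInstance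
    haveI : IsLocallyNoetherian
        (pullback f (Spec.map (CommRingCat.ofHom (algebraMap k K)))) := hN
    have h1 := main4661 f (Spec.map (CommRingCat.ofHom (algebraMap k K))) F
      (Coh.structureModule (Spec (CommRingCat.of K))) hFgr (isReducedMod_structure_Spec_field K)
    let e : CohB1.tensorMod ((Scheme.Modules.pullback (pullback.fst f
          (Spec.map (CommRingCat.ofHom (algebraMap k K))))).obj F)
        ((Scheme.Modules.pullback (pullback.snd f
          (Spec.map (CommRingCat.ofHom (algebraMap k K))))).obj
            (Coh.structureModule (Spec (CommRingCat.of K)))) ≅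
        (Scheme.Modules.pullback (pullback.fst f
          (Spec.map (CommRingCat.ofHom (algebraMap k K))))).obj F :=
      (show CohB1.tensorMod ((Scheme.Modules.pullback (pullback.fst f
          (Spec.map (CommRingCat.ofHom (algebraMap k K))))).obj F)
        ((Scheme.Modules.pullback (pullback.snd f
          (Spec.map (CommRingCat.ofHom (algebraMap k K))))).obj
            (Coh.structureModule (Spec (CommRingCat.of K)))) ≅
        CohB1.tensorMod ((Scheme.Modules.pullback (pullback.fst f
          (Spec.map (CommRingCat.ofHom (algebraMap k K))))).obj F) (Coh.structureModule _) from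
        (DCoh.tensorBi.obj _).mapIso (PbBasic.pbUnit _)) ≪≫ SecTwist.unitorR _
    exact isReducedMod_of_iso e h1
  · intro h k' _ _ _ _
    haveI := isLocallyNoetherian_bc_of_finite f k'
    exact h k'

end

end Groth.Agent.Lib.Helper1.AssRed
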