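import Mathlib
import Groth.Agent.Lib.Helper1.AssRed6
import Groth.Agent.Lib.Helper11.GeomSep
import Groth.Agent.Lib.Helper17.FlatClosureGen

/-!
# Geometric irreducibility of residue fields at the associated point of a geometrically integral
module (helper1)
-/

set_option autoImplicit false
set_option linter.style.haveILetI false
universe u
open CategoryTheory CategoryTheory.Limits AlgebraicGeometry IsLocalRing TensorProduct

namespace Groth.Agent.Lib.Helper1.AssInt

open Groth.Agent.Lib.Helper17 Groth.Agent.Lib.Helper3 Groth.Agent.Lib.Helper14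
  Groth.Agent.Lib.Helper1.AssFlat1 Groth.Agent.Lib.Helper1.AssBC Groth.Agent.Lib.Helper1.AssTens
  Groth.Agent.Lib.Helper1.BcLen Groth.Agent.Lib.Helper1.AssRed

noncomputable section

variable {k : Type u} [Field k] {X : Scheme.{u}} [IsLocallyNoetherian X]
  (f : X ⟶ Spec (CommRingCat.of k)) (F : X.Modules) [F.IsQuasicoherent]

theorem surjective_SpecMap_field (k' : Type u) [Field k'] [Algebra k k'] :
    Surjective (Spec.map (CommRingCat.ofHom (algebraMap k k'))) := by
  rw [surjective_iff]
  intro s
  obtain ⟨t⟩ : Nonempty (PrimeSpectrum k') := inferInstance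
  exact ⟨t, Subsingleton.elim (α := PrimeSpectrum k) _ _⟩

/-- step A+B: irreducibility of `Spec κ(x) ⊗_k k'` for finite `k'`. -/
theorem irreducibleSpace_bc_residue_of_finite (k' : Type u) [Field k'] [Algebra k k']
    [Module.Finite k k']
    (hint : ∃ x' : ↥(FBase.bc f k'),
      AssSch.Ass ((Scheme.Modules.pullback (FBase.bcπ f k')).obj F) = {x'}) (x : X)
    (hx : Curv2.IsAssPoint F x) :
    IrreducibleSpace ↥(FBase.bc (X.fromSpecResidueField x ≫ f) k') := by
  letI algK : Algebra k (X.residueField x) :=
    (Spec.preimage (X.fromSpecResidueField x ≫ f)).hom.toAlgebra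
  haveI : Flat (Spec.map (CommRingCat.ofHom (algebraMap k k'))) := flat_SpecMap_field
  have h1 : IsPullback ((pullback.fst f (Spec.map (CommRingCat.ofHom (algebraMap k k')))).fiberι x)
      ((pullback.fst f (Spec.map (CommRingCat.ofHom (algebraMap k k')))).fiberToSpecResidueField x)
      (pullback.fst f (Spec.map (CommRingCat.ofHom (algebraMap k k'))))
      (X.fromSpecResidueField x) := IsPullback.of_hasPullback _ _
  have h2 := (h1.paste_horiz
    (IsPullback.of_hasPullback f (Spec.map (CommRingCat.ofHom (algebraMap k k')))).flip).flip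
  -- the fibre is homeomorphic to the base change of `Spec κ(x)`
  let θ : (pullback.fst f (Spec.map (CommRingCat.ofHom (algebraMap k k')))).fiber x ≅
      pullback (X.fromSpecResidueField x ≫ f) (Spec.map (CommRingCat.ofHom (algebraMap k k'))) :=
    h2.isoPullback
  have hτ : X.fromSpecResidueField x ≫ f =
      Spec.map (CommRingCat.ofHom (algebraMap k (X.residueField x))) :=
    (Spec.map_preimage _).symm
  have h2' := h2
  rw [hτ] at h2'
  let ψ : (pullback.fst f (Spec.map (CommRingCat.ofHom (algebraMap k k')))).fiber x ≅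
      Spec (CommRingCat.of (X.residueField x ⊗[k] k')) :=
    h2'.isoPullback ≪≫ pullbackSpecIso k (X.residueField x) k'
  haveI : IsArtinianRing (X.residueField x ⊗[k] k') :=
    IsArtinianRing.of_finite (X.residueField x) (X.residueField x ⊗[k] k')
  have hmax : ∀ ζ ζ'' : ↥((pullback.fst f
      (Spec.map (CommRingCat.ofHom (algebraMap k k')))).fiber x), ζ'' ⤳ ζ → ζ'' = ζ := by
    intro ζ ζ'' hs
    have h1 := hs.map ψ.hom.continuous
    have h3 : (ψ.hom ζ'').asIdeal ≤ (ψ.hom ζ).asIdeal :=
      (PrimeSpectrum.le_iff_specializes _ _).mpr h1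
    haveI : (ψ.hom ζ'').asIdeal.IsMaximal :=
      IsArtinianRing.isMaximal_of_isPrime (ψ.hom ζ'').asIdeal
    have h4 : (ψ.hom ζ'').asIdeal = (ψ.hom ζ).asIdeal :=
      Ideal.IsMaximal.eq_of_le inferInstance (ψ.hom ζ).isPrime.ne_top h3
    have h5 : ψ.hom ζ'' = ψ.hom ζ := PrimeSpectrum.ext h4
    have := congrArg ψ.inv h5
    rwa [← Scheme.Hom.comp_apply, ← Scheme.Hom.comp_apply, ψ.hom_inv_id] at this
  obtain ⟨x', hx'⟩ := hint
  have hflatO := Groth.Agent.Lib.Helper13.CBCEtStalk.isFlatOver_structureModule
    (pullback.fst f (Spec.map (CommRingCat.ofHom (algebraMap k k'))))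
  have hpt : ∀ a : ↥((pullback.fst f (Spec.map (CommRingCat.ofHom (algebraMap k k')))).fiber x),
      ((pullback.fst f (Spec.map (CommRingCat.ofHom (algebraMap k k')))).fiberι x) a = x' := by
    intro a
    have ha : Curv2.IsAssPoint (Coh.structureModule _) a :=
      (isAssPoint_iff_maximal_of_tensor ψ a).mpr (fun ζ'' hs => hmax a ζ'' hs)
    have hA := Groth.Agent.Lib.Helper1.AssFlat.isAssPoint_fiberι_iff
      (pullback.fst f (Spec.map (CommRingCat.ofHom (algebraMap k k')))) F
      (Coh.structureModule _) hflatO x a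
    have hz := hA.mpr ⟨hx, isAssPoint_of_iso (PbBasic.pbUnit _).symm a ha⟩
    have hz' := isAssPoint_of_iso (SecTwist.unitorR _) _ hz
    have : ((pullback.fst f (Spec.map (CommRingCat.ofHom (algebraMap k k')))).fiberι x) a ∈
        AssSch.Ass ((Scheme.Modules.pullback (FBase.bcπ f k')).obj F) := hz'
    rw [hx'] at this
    exact this
  haveI hsub : Subsingleton ↥((pullback.fst f
      (Spec.map (CommRingCat.ofHom (algebraMap k k')))).fiber x) :=
    ⟨fun a b => ((pullback.fst f (Spec.map (CommRingCat.ofHom (algebraMap k k')))).fiberι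
      x).isEmbedding.injective ((hpt a).trans (hpt b).symm)⟩
  haveI := surjective_SpecMap_field (k := k) k'
  haveI hne : Nonempty ↥(pullback (X.fromSpecResidueField x ≫ f)
      (Spec.map (CommRingCat.ofHom (algebraMap k k')))) := by
    obtain ⟨t⟩ : Nonempty ↥(Spec (X.residueField x)) :=
      inferInstanceAs (Nonempty (PrimeSpectrum (X.residueField x)))
    obtain ⟨w, -⟩ := (pullback.fst (X.fromSpecResidueField x ≫ f)
      (Spec.map (CommRingCat.ofHom (algebraMap k k')))).surjective t
    exact ⟨w⟩
  haveI hsub' : Subsingleton ↥(pullback (X.fromSpecResidueField x ≫ f)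
      (Spec.map (CommRingCat.ofHom (algebraMap k k')))) := by
    refine ⟨fun a b => ?_⟩
    have := Subsingleton.elim (θ.inv a) (θ.inv b)
    have h := congrArg θ.hom this
    rwa [← Scheme.Hom.comp_apply, ← Scheme.Hom.comp_apply, θ.inv_hom_id] at h
  unfold FBase.bc
  exact { toPreirreducibleSpace := ⟨(Set.subsingleton_univ).isPreirreducible⟩, toNonempty := hne }

end

end Groth.Agent.Lib.Helper1.AssInt
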