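import Mathlib
import Groth.Agent.Lib.Helper1.AssInt1

/-!
# Geometrically integral modules: finite extensions suffice (helper1)
-/

set_option autoImplicit false
set_option linter.style.haveILetI false
universe u
open CategoryTheory CategoryTheory.Limits AlgebraicGeometry IsLocalRing TensorProduct

namespace Groth.Agent.Lib.Helper1.AssInt

open Groth.Agent.Lib.Helper17 Groth.Agent.Lib.Helper3 Groth.Agent.Lib.Helper14
  Groth.Agent.Lib.Helper1.AssFlat1 Groth.Agent.Lib.Helper1.AssBC Groth.Agent.Lib.Helper1.AssTens
  Groth.Agent.Lib.Helper1.BcLen Groth.Agent.Lib.Helper1.AssRed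

noncomputable section

variable {k : Type u} [Field k]

theorem irreducibleSpace_T {Z Y : Scheme.{u}} (h : Z ⟶ Spec (CommRingCat.of k))
    (Hlev : ∀ (k' : Type u) [Field k'] [Algebra k k'] [Module.Finite k k'],
      IrreducibleSpace ↥(FBase.bc h k'))
    (g : Y ⟶ Spec (CommRingCat.of k)) (y : Y) :
    IrreducibleSpace ↥(pullback h (Y.fromSpecResidueField y ≫ g)) := by
  haveI : IrreducibleSpace ↥(FBase.bc h (AlgebraicClosure k)) :=
    Groth.Agent.Lib.Helper11.GeomSep.irreducibleSpace_of_levels h (AlgebraicClosure k)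
      (fun L hL => Hlev ↥L)
  letI algL : Algebra k (Y.residueField y) :=
    (Spec.preimage (Y.fromSpecResidueField y ≫ g)).hom.toAlgebra
  have h1 := Groth.Agent.Lib.Helper11.GeomSep.irreducibleSpace_of_algClosed h (AlgebraicClosure k)
    (Y.residueField y)
  have hτy : Y.fromSpecResidueField y ≫ g =
      Spec.map (CommRingCat.ofHom (algebraMap k (Y.residueField y))) :=
    (Spec.map_preimage _).symm
  rw [hτy]
  exact h1

end

end Groth.Agent.Lib.Helper1.AssInt
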