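import Mathlib
import Groth.Agent.Lib.Helper1.AssInt2

/-!
# Geometrically integral modules: finite extensions suffice, main theorem (helper1)
-/

set_option autoImplicit false
set_option linter.style.haveILetI false
universe u
open CategoryTheory CategoryTheory.Limits AlgebraicGeometry IsLocalRing TensorProduct

namespace Groth.Agent.Lib.Helper1.AssInt

open Groth.Agent.Lib.Helper17 Groth.Agent.Lib.Helper3 Groth.Agent.Lib.Helper14
  Groth.Agent.Lib.Helper1.AssFlat1 Groth.Agent.Lib.Helper1.AssBC Groth.Agent.Lib.Helper1.AssTens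
  Groth.Agent.Lib.Helper1.BcLen Groth.Agent.Lib.Helper1.AssRed

noncomputable section

variable {k : Type u} [Field k]

theorem fst_isAssPoint {X Y S : Scheme.{u}} (f : X ⟶ S) (g : Y ⟶ S) [IsLocallyNoetherian X]
    (F : X.Modules) [F.IsQuasicoherent] (G : Y.Modules) [G.IsQuasicoherent]
    (hGfl : FlatMod.IsFlatOver g G) (z : ↥(pullback f g))
    (hz : Curv2.IsAssPoint (CohB1.tensorMod ((Scheme.Modules.pullback (pullback.fst f g)).obj F)
        ((Scheme.Modules.pullback (pullback.snd f g)).obj G)) z) :
    Curv2.IsAssPoint F (pullback.fst f g z) := by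
  have sq : IsPullback (pullback.snd f g) (pullback.fst f g) g f :=
    (IsPullback.of_hasPullback f g).flip
  haveI : ((Scheme.Modules.pullback (pullback.snd f g)).obj G).IsQuasicoherent :=
    PbStalk.isQuasicoherent_pullback (pullback.snd f g) G
  have hflat : FlatMod.IsFlatOver (pullback.fst f g)
      ((Scheme.Modules.pullback (pullback.snd f g)).obj G) :=
    fun x' => FibreFlat.isFlatOverAt_baseChange sq G x' (hGfl _)
  exact ((Groth.Agent.Lib.Helper1.AssFlat.isAssPoint_tensor_iff (pullback.fst f g) F
    ((Scheme.Modules.pullback (pullback.snd f g)).obj G) hflat z).mp hz).1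

/-- the key step: a unique associated point over an arbitrary field extension. -/
theorem exists_unique_ass {X : Scheme.{u}} [IsLocallyNoetherian X]
    (f : X ⟶ Spec (CommRingCat.of k)) (F : X.Modules) [F.IsQuasicoherent]
    (x : X) (hx : Curv2.IsAssPoint F x) (hxuniq : ∀ x1, Curv2.IsAssPoint F x1 → x1 = x)
    (hFgr : ∀ (k' : Type u) [Field k'] [Algebra k k'] [FiniteDimensional k k']
      [IsPurelyInseparable k k'],
      AssSch.IsReducedMod ((Scheme.Modules.pullback (FBase.bcπ f k')).obj F))
    (Hlev : ∀ (k' : Type u) [Field k'] [Algebra k k'] [Module.Finite k k'],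
      IrreducibleSpace ↥(FBase.bc (X.fromSpecResidueField x ≫ f) k'))
    (K : Type u) [Field K] [Algebra k K]
    [hN : IsLocallyNoetherian (pullback f (Spec.map (CommRingCat.ofHom (algebraMap k K))))] :
    ∃ z0 : ↥(pullback f (Spec.map (CommRingCat.ofHom (algebraMap k K)))),
      ∀ z, Curv2.IsAssPoint (CohB1.tensorMod
        ((Scheme.Modules.pullback (pullback.fst f
          (Spec.map (CommRingCat.ofHom (algebraMap k K))))).obj F)
        ((Scheme.Modules.pullback (pullback.snd f
          (Spec.map (CommRingCat.ofHom (algebraMap k K))))).obj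
            (Coh.structureModule (Spec (CommRingCat.of K))))) z ↔ z = z0 := by
  haveI lNY : IsLocallyNoetherian (Spec (CommRingCat.of K)) :=
    isLocallyNoetherian_Spec.mpr inferInstance
  haveI : IsLocallyNoetherian (Spec (CommRingCat.of k)) :=
    isLocallyNoetherian_Spec.mpr inferInstance
  have hGfl := SepField.isFlatOver_of_field (Spec.map (CommRingCat.ofHom (algebraMap k K)))
    (Coh.structureModule (Spec (CommRingCat.of K)))
  have hAssS : ∀ s : ↥(Spec (CommRingCat.of k)),
      Curv2.IsAssPoint (Coh.structureModule (Spec (CommRingCat.of k))) s := fun s =>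
    isAssPoint_structure_of_isField s (GrpCM.isField_stalk_Spec_field k s)
  have hAssY : ∀ s : ↥(Spec (CommRingCat.of K)),
      Curv2.IsAssPoint (Coh.structureModule (Spec (CommRingCat.of K))) s := fun s =>
    isAssPoint_structure_of_isField s (GrpCM.isField_stalk_Spec_field K s)
  have sq : IsPullback (pullback.snd f (Spec.map (CommRingCat.ofHom (algebraMap k K))))
      (pullback.fst f (Spec.map (CommRingCat.ofHom (algebraMap k K))))
      (Spec.map (CommRingCat.ofHom (algebraMap k K))) f :=
    (IsPullback.of_hasPullback f _).flip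
  obtain ⟨φ, hpb, he⟩ := LCF.exists_fibre_isPullback sq x
  obtain ⟨y0⟩ : Nonempty (PrimeSpectrum K) := inferInstance
  have hgy : (Spec.map (CommRingCat.ofHom (algebraMap k K))) y0 = f x :=
    Subsingleton.elim (α := PrimeSpectrum k) _ _
  obtain ⟨y', hy'⟩ := exists_fiberι_eq (Spec.map (CommRingCat.ofHom (algebraMap k K))) (f x) y0 hgy
  have hy'A := ((isAssPoint_fiber_iff (Spec.map (CommRingCat.ofHom (algebraMap k K)))
    (Coh.structureModule (Spec (CommRingCat.of K))) hGfl (f x) y').mp (hAssY _)).2
  haveI hsubY : Subsingleton ↥((Spec.map (CommRingCat.ofHom (algebraMap k K))).fiber (f x)) :=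
    ⟨fun a b => ((Spec.map (CommRingCat.ofHom (algebraMap k K))).fiberι
      (f x)).isEmbedding.injective (Subsingleton.elim (α := PrimeSpectrum K) _ _)⟩
  haveI hirrT := irreducibleSpace_T (X.fromSpecResidueField x ≫ f) Hlev
    (Spec.map (CommRingCat.ofHom (algebraMap k K)))
    ((Spec.map (CommRingCat.ofHom (algebraMap k K))).fiberι (f x) y')
  haveI hredT := isReduced_T f (Spec.map (CommRingCat.ofHom (algebraMap k K))) x
    ((Spec.map (CommRingCat.ofHom (algebraMap k K))).fiberι (f x) y')
    (isGeometricallyReduced_residueField f F hFgr x hx)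
  haveI : AlgebraicGeometry.IsReduced (φ.fiber y') :=
    isReduced_of_isOpenImmersion
      (fiberIso f (Spec.map (CommRingCat.ofHom (algebraMap k K))) x φ hpb y').hom
  haveI : IrreducibleSpace ↥(φ.fiber y') :=
    (fiberIso f (Spec.map (CommRingCat.ofHom (algebraMap k K))) x φ hpb y').inv.surjective.irreducibleSpace
      (fiberIso f (Spec.map (CommRingCat.ofHom (algebraMap k K))) x φ hpb y').inv.continuous
  haveI : IsIntegral (φ.fiber y') := isIntegral_of_irreducibleSpace_of_isReduced _
  have hηA : Curv2.IsAssPoint (Coh.structureModule (φ.fiber y')) (genericPoint ↥(φ.fiber y')) :=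
    isAssPoint_structure_of_isField _ (FlatClosure.isField_stalk_genericPoint _)
  have hηuniq : ∀ ζ, Curv2.IsAssPoint (Coh.structureModule (φ.fiber y')) ζ →
      ζ = genericPoint ↥(φ.fiber y') := fun ζ hζ =>
    (maximal_of_isAssPoint_Phi f (Spec.map (CommRingCat.ofHom (algebraMap k K))) x φ hpb y' ζ hζ
      (genericPoint ↥(φ.fiber y')) (genericPoint_specializes ζ)).symm
  refine ⟨((pullback.fst f (Spec.map (CommRingCat.ofHom (algebraMap k K)))).fiberι x)
    ((φ.fiberι y') (genericPoint ↥(φ.fiber y'))), fun z => ⟨fun hz => ?_, ?_⟩⟩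
  · have hxz := hxuniq _ (fst_isAssPoint f (Spec.map (CommRingCat.ofHom (algebraMap k K))) F
      (Coh.structureModule (Spec (CommRingCat.of K))) hGfl z hz)
    obtain ⟨a, rfl⟩ := exists_fiberι_eq (pullback.fst f
      (Spec.map (CommRingCat.ofHom (algebraMap k K)))) x z hxz
    obtain ⟨ζ, rfl⟩ := exists_fiberι_eq φ y' a (Subsingleton.elim _ _)
    obtain ⟨-, -, hζ⟩ := (core f (Spec.map (CommRingCat.ofHom (algebraMap k K))) F
      (Coh.structureModule (Spec (CommRingCat.of K))) hGfl x φ hpb he y' ζ).mp hz
    rw [hηuniq ζ hζ]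
  · rintro rfl
    exact (core f (Spec.map (CommRingCat.ofHom (algebraMap k K))) F
      (Coh.structureModule (Spec (CommRingCat.of K))) hGfl x φ hpb he y' _).mpr ⟨hx, hy'A, hηA⟩

end

end Groth.Agent.Lib.Helper1.AssInt
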