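import Mathlib
import Groth.Agent.Lib.Helper1.AssInt3

/-!
# Geometrically integral modules: statement-level theorem (helper1)
-/

set_option autoImplicit false
set_option linter.style.haveILetI false
universe u
open CategoryTheory CategoryTheory.Limits AlgebraicGeometry IsLocalRing TensorProduct

namespace Groth.Agent.Lib.Helper1.AssInt

open Groth.Agent.Lib.Helper17 Groth.Agent.Lib.Helper3 Groth.Agent.Lib.Helper14
  Groth.Agent.Lib.Helper1.AssFlat1 Groth.Agent.Lib.Helper1.AssBC Groth.Agent.Lib.Helper1.AssTens
  Groth.Agent.Lib.Helper1.BcLen Groth.Agent.Lib.Helper1.AssRed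

noncomputable section

variable {k : Type u} [Field k]

theorem main4660 {X : Scheme.{u}} [IsLocallyNoetherian X]
    (f : X ⟶ Spec (CommRingCat.of k)) (F : X.Modules) [F.IsQuasicoherent] :
    (∀ (k' : Type u) [Field k'] [Algebra k k'] [FiniteDimensional k k'],
        ∃ x' : ↥(FBase.bc f k'),
          AssSch.Ass ((Scheme.Modules.pullback (FBase.bcπ f k')).obj F) = {x'} ∧
          Module.length ↑((FBase.bc f k').presheaf.stalk x')
            ↑(((Scheme.Modules.pullback (FBase.bcπ f k')).obj F).presheaf.stalk x') = 1) ↔
      ∀ (K : Type u) [Field K] [Algebra k K] [IsLocallyNoetherian (FBase.bc f K)],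
        ∃ x' : ↥(FBase.bc f K),
          AssSch.Ass ((Scheme.Modules.pullback (FBase.bcπ f K)).obj F) = {x'} ∧
          Module.length ↑((FBase.bc f K).presheaf.stalk x')
            ↑(((Scheme.Modules.pullback (FBase.bcπ f K)).obj F).presheaf.stalk x') = 1 := by
  constructor
  · intro H K _ _ hN
    haveI := isIso_bcπ_self f
    obtain ⟨x0', hA0, hl0⟩ := H k
    have hiff := fun a => (isAssPoint_and_length_of_bijective (FBase.bcπ f k) F a
      (stalkMap_bijective_of_isIso _ _)).1
    have hx0' : Curv2.IsAssPoint ((Scheme.Modules.pullback (FBase.bcπ f k)).obj F) x0' := by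
      have : x0' ∈ AssSch.Ass ((Scheme.Modules.pullback (FBase.bcπ f k)).obj F) := by
        rw [hA0]; rfl
      exact this
    have hx : Curv2.IsAssPoint F ((FBase.bcπ f k) x0') := (hiff x0').mp hx0'
    have hxuniq : ∀ x1, Curv2.IsAssPoint F x1 → x1 = (FBase.bcπ f k) x0' := by
      intro x1 h1
      have hpt : (FBase.bcπ f k) ((inv (FBase.bcπ f k)) x1) = x1 := by
        rw [← Scheme.Hom.comp_apply, IsIso.inv_hom_id]
        rfl
      have h2 : (inv (FBase.bcπ f k)) x1 ∈
          AssSch.Ass ((Scheme.Modules.pullback (FBase.bcπ f k)).obj F) := by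
        show Curv2.IsAssPoint _ _
        rw [hiff, hpt]
        exact h1
      rw [hA0] at h2
      have h3 : (inv (FBase.bcπ f k)) x1 = x0' := h2
      rw [← hpt, h3]
    have hFgr : ∀ (k' : Type u) [Field k'] [Algebra k k'] [FiniteDimensional k k']
        [IsPurelyInseparable k k'],
        AssSch.IsReducedMod ((Scheme.Modules.pullback (FBase.bcπ f k')).obj F) := by
      intro k' _ _ _ _
      obtain ⟨x', hA, hl⟩ := H k'
      refine ⟨?_, ?_⟩
      · intro a ha b hb _
        rw [hA] at ha hb
        exact (ha : a = x').trans (hb : b = x').symm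
      · intro a ha
        rw [hA] at ha
        obtain rfl : a = x' := ha
        exact hl
    have hred := (main4659 f F).mp hFgr K
    have Hlev : ∀ (k' : Type u) [Field k'] [Algebra k k'] [Module.Finite k k'],
        IrreducibleSpace ↥(FBase.bc (X.fromSpecResidueField ((FBase.bcπ f k) x0') ≫ f) k') := by
      intro k' _ _ _
      obtain ⟨x', hA, -⟩ := H k'
      exact irreducibleSpace_bc_residue_of_finite f F k' ⟨x', hA⟩ _ hx
    haveI hN' : IsLocallyNoetherian
        (pullback f (Spec.map (CommRingCat.ofHom (algebraMap k K)))) := hN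
    obtain ⟨z0, hz0⟩ := exists_unique_ass f F _ hx hxuniq hFgr Hlev K
    let e : CohB1.tensorMod ((Scheme.Modules.pullback (pullback.fst f
          (Spec.map (CommRingCat.ofHom (algebraMap k K))))).obj F)
        ((Scheme.Modules.pullback (pullback.snd f
          (Spec.map (CommRingCat.ofHom (algebraMap k K))))).obj
            (Coh.structureModule (Spec (CommRingCat.of K)))) ≅
        (Scheme.Modules.pullback (pullback.fst f
          (Spec.map (CommRingCat.ofHom (algebraMap k K))))).obj F :=
      (show CohB1.tensorMod ((Scheme.Modules.pullback (pullback.fst f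
          (Spec.map (CommRingCat.ofHom (algebraMap k K))))).obj F)
        ((Scheme.Modules.pullback (pullback.snd f
          (Spec.map (CommRingCat.ofHom (algebraMap k K))))).obj
            (Coh.structureModule (Spec (CommRingCat.of K)))) ≅
        CohB1.tensorMod ((Scheme.Modules.pullback (pullback.fst f
          (Spec.map (CommRingCat.ofHom (algebraMap k K))))).obj F) (Coh.structureModule _) from
        (DCoh.tensorBi.obj _).mapIso (PbBasic.pbUnit _)) ≪≫ SecTwist.unitorR _
    have hz0A : Curv2.IsAssPoint ((Scheme.Modules.pullback (FBase.bcπ f K)).obj F) z0 :=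
      isAssPoint_of_iso e z0 ((hz0 z0).mpr rfl)
    refine ⟨z0, ?_, hred.2 z0 hz0A⟩
    ext z
    constructor
    · intro hz
      exact (hz0 z).mp (isAssPoint_of_iso e.symm z hz)
    · intro hz
      obtain rfl : z = z0 := hz
      exact hz0A
  · intro h k' _ _ _
    haveI := isLocallyNoetherian_bc_of_finite f k'
    exact h k'

end

end Groth.Agent.Lib.Helper1.AssInt
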