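import Mathlib

/-!
# Automorphisms of a fibre functor of "finite `G`-sets", abstractly

`F : C ⥤ FintypeCat` with a natural action of a group `G` on all fibres.  Under two hypotheses
saying that `C` looks like a category of finite `G`-sets we show that `toAut F G : G →* Aut F` has
dense range and that homomorphisms to finite groups factor uniquely through it.
-/

open CategoryTheory CategoryTheory.PreGaloisCategory

universe u₁ u₂ w v

namespace Groth.Agent.Lib.Helper1.AutFibre

variable {C : Type u₁} [Category.{u₂} C] (F : C ⥤ FintypeCat.{w})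
variable (G : Type v) [Group G] [∀ X, MulAction G (F.obj X)] [IsNaturalSMul F G]

/-- `toAut` is continuous as soon as all orbit maps are. -/
theorem continuous_toAut [TopologicalSpace G]
    (hc : ∀ (X : C) (x : F.obj X), Continuous fun g : G => g • x) :
    Continuous (toAut F G) := by
  refine continuous_induced_rng.2 (continuous_pi fun X => ?_)
  rw [continuous_discrete_rng]
  intro τ
  have h : (fun g : G => autEmbedding F (toAut F G g) X) ⁻¹' {τ} =
      ⋂ x : F.obj X, (fun g : G => g • x) ⁻¹' {τ.hom x} := by
    ext g
    simp only [Set.mem_preimage, Set.mem_singleton_iff, Set.mem_iInter]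
    constructor
    · intro hg x
      rw [← hg]
      rfl
    · intro hg
      apply Iso.ext
      ext x
      exact hg x
  change IsOpen ((fun g : G => autEmbedding F (toAut F G g) X) ⁻¹' {τ})
  rw [h]
  exact isOpen_iInter_of_finite fun x => (hc X x).isOpen_preimage _ (isOpen_discrete _)

variable {G} in
/-- If `g` and `σ` agree at one point `o` of `O`, they agree at the image of `o` under any map. -/
lemma smul_eq_of_map {σ : Aut F} {g : G} {O X : C} (q : O ⟶ X) (o : F.obj O)
    (h : g • o = σ.hom.app O o) : g • (F.map q o) = σ.hom.app X (F.map q o) := by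
  rw [← IsNaturalSMul.naturality, h, FunctorToFintypeCat.naturality]

/-- Density of `G` in `Aut F`: it is enough that finitely many points can be lifted to one point of
an object on which `G` is transitive. -/
theorem denseRange_toAut
    (H1 : ∀ (n : ℕ) (X : Fin n → C) (x : ∀ j, F.obj (X j)),
      ∃ (O : C) (o : F.obj O) (q : ∀ j, O ⟶ X j),
        (∀ j, F.map (q j) o = x j) ∧ MulAction.IsPretransitive G (F.obj O)) :
    DenseRange (toAut F G) := by
  intro σ
  rw [mem_closure_iff]
  intro U hU hσU
  obtain ⟨V, hV, rfl⟩ := isOpen_induced_iff.mp hU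
  obtain ⟨I, u, hu, hsub⟩ := isOpen_pi_iff.mp hV (autEmbedding F σ) hσU
  let J := Σ X : {X : C // X ∈ I}, F.obj X.1
  have : Finite {X : C // X ∈ I} := I.finite_toSet.to_subtype
  have : Finite J := inferInstance
  obtain ⟨n, ⟨e⟩⟩ := Finite.exists_equiv_fin J
  obtain ⟨O, o, q, hq, htrans⟩ := H1 n (fun j => (e.symm j).1.1) (fun j => (e.symm j).2)
  obtain ⟨g, hg⟩ := htrans.exists_smul_eq o (σ.hom.app O o)
  have key : ∀ p : J, g • p.2 = σ.hom.app p.1.1 p.2 := by
    intro p
    have h1 := smul_eq_of_map F (q (e p)) o hg
    rw [hq (e p)] at h1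
    have h2 : e.symm (e p) = p := e.symm_apply_apply p
    rw [h2] at h1
    exact h1
  refine ⟨toAut F G g, ?_, ⟨g, rfl⟩⟩
  apply hsub
  intro X hX
  have hX' : X ∈ I := hX
  have heq : autEmbedding F (toAut F G g) X = autEmbedding F σ X := by
    apply Iso.ext
    ext x
    exact key ⟨⟨X, hX'⟩, x⟩
  rw [heq]
  exact (hu X hX').2

section Factor

variable {F}
variable {Q : Type*} [Group Q] (X : C) (e : F.obj X ≃ Q) (r : Q → (X ⟶ X))
  (hr : ∀ (q : Q) (x : F.obj X), e (F.map (r q) x) = e x * q)

/-- If `Q` is (the fibre of) an object `X` of `C` on which right translations are morphisms, then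
evaluation at the unit element is a homomorphism `Aut F →* Q`. -/
def factor : Aut F →* Q where
  toFun := fun σ => e (σ.hom.app X (e.symm 1))
  map_one' := by
    change e (e.symm 1) = 1
    exact e.apply_symm_apply 1
  map_mul' := by
    intro σ τ
    have hmul : (σ * τ).hom.app X (e.symm 1) = σ.hom.app X (τ.hom.app X (e.symm 1)) := rfl
    rw [hmul]
    set t : Q := e (τ.hom.app X (e.symm 1)) with ht
    have h1 : τ.hom.app X (e.symm 1) = F.map (r t) (e.symm 1) := by
      apply e.injective
      rw [hr, e.apply_symm_apply, one_mul]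
    rw [h1, FunctorToFintypeCat.naturality, hr]

lemma factor_apply (σ : Aut F) : factor X e r hr σ = e (σ.hom.app X (e.symm 1)) := rfl

lemma continuous_factor [TopologicalSpace Q] : Continuous (factor X e r hr) := by
  have h1 : Continuous fun σ : Aut F => σ • (e.symm 1 : F.obj X) :=
    continuous_id.smul continuous_const
  exact (continuous_of_discreteTopology (f := e)).comp h1

lemma factor_comp_toAut (π : G →* Q)
    (he : ∀ (g : G) (x : F.obj X), e (g • x) = π g * e x) :
    (factor X e r hr).comp (toAut F G) = π := by
  ext g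
  change e (g • (e.symm 1)) = π g
  rw [he, e.apply_symm_apply, mul_one]

end Factor

/-- Two continuous homomorphisms out of `Aut F` to a Hausdorff group agreeing on `G` are equal. -/
theorem hom_ext_of_denseRange (hdense : DenseRange (toAut F G))
    {Q : Type*} [Group Q] [TopologicalSpace Q] [T2Space Q] {ψ ψ' : Aut F →* Q}
    (hc : Continuous ψ) (hc' : Continuous ψ')
    (h : ψ.comp (toAut F G) = ψ'.comp (toAut F G)) : ψ = ψ' := by
  have := hdense.equalizer hc hc' (by
    funext g
    change (ψ.comp (toAut F G)) g = (ψ'.comp (toAut F G)) g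
    rw [h])
  exact DFunLike.coe_injective this

/-- Homomorphisms from `G` to a finite discrete group `Q` factor uniquely through `Aut F`, provided
`Q` with its translation action is (the fibre of) an object of `C` on which right translations are
morphisms. -/
theorem existsUnique_factor (hdense : DenseRange (toAut F G))
    {Q : Type*} [Group Q] [TopologicalSpace Q] [DiscreteTopology Q] (π : G →* Q)
    (X : C) (e : F.obj X ≃ Q) (he : ∀ (g : G) (x : F.obj X), e (g • x) = π g * e x)
    (r : Q → (X ⟶ X)) (hr : ∀ (q : Q) (x : F.obj X), e (F.map (r q) x) = e x * q) :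
    ∃! ψ : Aut F →* Q, Continuous ψ ∧ ψ.comp (toAut F G) = π := by
  refine ⟨factor X e r hr, ⟨continuous_factor X e r hr, factor_comp_toAut G X e r hr π he⟩, ?_⟩
  rintro ψ' ⟨hc', hι'⟩
  exact hom_ext_of_denseRange F G hdense hc' (continuous_factor X e r hr)
    (by rw [hι', factor_comp_toAut G X e r hr π he])

end Groth.Agent.Lib.Helper1.AutFibre
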