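import Mathlib

set_option autoImplicit false
open DirectSum

namespace Groth.Agent.Lib.Helper1.GradedFT

variable {σ A : Type*} [CommRing A] [SetLike σ A] [AddSubgroupClass σ A]
variable (𝒜 : ℕ → σ) [GradedRing 𝒜]

/-- a Noetherian ℕ-graded ring is of finite type over its degree-zero part -/
theorem finiteType_of_isNoetherianRing [IsNoetherianRing A] : Algebra.FiniteType (𝒜 0) A := by
  classical
  obtain ⟨s, hs⟩ := (isNoetherianRing_iff_ideal_fg A).1 ‹_› (HomogeneousIdeal.irrelevant 𝒜).toIdeal
  let s' : Finset A := s.biUnion (fun a =>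
    (DirectSum.decompose 𝒜 a).support.image (fun i => (DirectSum.decompose 𝒜 a i : A)))
  have hsI : ∀ a ∈ s, a ∈ HomogeneousIdeal.irrelevant 𝒜 := by
    intro a ha
    have : a ∈ (HomogeneousIdeal.irrelevant 𝒜).toIdeal := by
      rw [← hs]; exact Ideal.subset_span ha
    exact this
  have hs'deg : ∀ f ∈ s', ∃ d, 0 < d ∧ f ∈ 𝒜 d := by
    intro f hf
    simp only [s', Finset.mem_biUnion, Finset.mem_image] at hf
    obtain ⟨a, ha, i, hi, rfl⟩ := hf
    refine ⟨i, ?_, (DirectSum.decompose 𝒜 a i).2⟩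
    rcases Nat.eq_zero_or_pos i with h0 | h0
    · exfalso
      subst h0
      have h1 := (HomogeneousIdeal.mem_irrelevant_iff 𝒜 a).1 (hsI a ha)
      rw [GradedRing.proj_apply] at h1
      rw [DFinsupp.mem_support_iff] at hi
      exact hi (Subtype.ext h1)
    · exact h0
  have hspan : (HomogeneousIdeal.irrelevant 𝒜).toIdeal ≤ Ideal.span (s' : Set A) := by
    rw [← hs, Ideal.span_le]
    intro a ha
    rw [← DirectSum.sum_support_decompose 𝒜 a]
    refine Ideal.sum_mem _ fun i hi => Ideal.subset_span ?_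
    simp only [s', Finset.coe_biUnion, Finset.coe_image, Set.mem_iUnion, Set.mem_image,
      Finset.mem_coe]
    exact ⟨a, ha, i, hi, rfl⟩
  let B := Algebra.adjoin (𝒜 0) (s' : Set A)
  have key : ∀ n, ∀ a ∈ 𝒜 n, a ∈ B := by
    intro n
    induction n using Nat.strong_induction_on with
    | _ n IH =>
      intro a ha
      rcases Nat.eq_zero_or_pos n with h0 | h0
      · subst h0
        exact Subalgebra.algebraMap_mem B (⟨a, ha⟩ : 𝒜 0)
      · have haI : a ∈ (HomogeneousIdeal.irrelevant 𝒜).toIdeal :=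
          HomogeneousIdeal.mem_irrelevant_of_mem 𝒜 h0 ha
        obtain ⟨g, -, hg⟩ := Submodule.mem_span_finset.1 (hspan haI)
        have h1 : a = ((DirectSum.decompose 𝒜 a n : 𝒜 n) : A) := by
          rw [DirectSum.decompose_of_mem_same 𝒜 ha]
        rw [h1, ← hg, DirectSum.decompose_sum, DFinsupp.finset_sum_apply,
          AddSubmonoidClass.coe_finset_sum]
        refine Subalgebra.sum_mem _ fun f hf => ?_
        obtain ⟨d, hd, hfd⟩ := hs'deg f hf
        rw [smul_eq_mul, DirectSum.coe_decompose_mul_of_right_mem 𝒜 n hfd]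
        split_ifs with hle
        · refine Subalgebra.mul_mem _ ?_ (Algebra.subset_adjoin hf)
          exact IH (n - d) (by omega) _ (DirectSum.decompose 𝒜 (g f) (n - d)).2
        · exact Subalgebra.zero_mem _
  refine ⟨⟨s', ?_⟩⟩
  rw [eq_top_iff]
  rintro a -
  rw [← DirectSum.sum_support_decompose 𝒜 a]
  exact Subalgebra.sum_mem _ fun i _ => key i _ (DirectSum.decompose 𝒜 a i).2

end Groth.Agent.Lib.Helper1.GradedFT
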