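import Mathlib
import Groth.Prelude
import Groth.Agent.Lib.Helper7.HypIdeal

/-!
# The ideal of a complete intersection in `P^n_k` on affine opens inside a standard chart (helper1)

Backup copy of lemma (C) for S14335.
-/

set_option autoImplicit false
set_option linter.style.haveILetI false
universe u
open CategoryTheory CategoryTheory.Limits AlgebraicGeometry Opposite

namespace Groth.Agent.Lib.Helper1.CIDimC

open Groth.Agent.Lib.Helper7.HypIdeal Groth.Agent.Lib.Helper3 Groth.Agent.Lib.Helper3.QCSec Groth.Agent.Lib.Helper3.InvGen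
  Groth.Agent.Lib.Helper3.SubIdeal

theorem hyp_ideal_eq {n : ℕ} {k : Type u} [Field k] {d : ℕ} (G : LefPen.Form n k d)
    (i : Fin (n + 1)) (V : (Proj (CohB1.polyGrading n k)).affineOpens)
    (hV' : V.1 ≤ chartP n k i) :
    (hyp G).ideal V = Ideal.span
      {rres (Proj (CohB1.polyGrading n k)) hV' (dehomP G i)} := by
  apply le_antisymm
  · intro g hg
    have h1 : g ∈ hypFam G V := hyp_ideal_le G V hg
    obtain ⟨a, ha⟩ := (mem_hypFam_iff G V g).mp h1 i
    have hVinf : V.1 ≤ V.1 ⊓ chartP n k i := le_inf le_rfl hV'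
    have h2 := congrArg (rres (Proj (CohB1.polyGrading n k)) hVinf) ha
    rw [rres_mul, rres_rres, rres_rres, rres_self] at h2
    rw [Ideal.mem_span_singleton']
    exact ⟨rres (Proj (CohB1.polyGrading n k)) hVinf a, h2⟩
  · rw [Ideal.span_singleton_le_iff_mem]
    have h3 := psiFun_esec G i V.1 hV'
    have hmem : psiFun G V.1 (esec i V.1 hV') ∈ (hyp G).ideal V :=
      (idealOfSub_le G) V ((mem_ideal_idealOfSub (psi G) V _).mpr ⟨_, rfl⟩)
    rw [h3] at hmem
    exact hmem

theorem hypIdeal_ideal_eq {n : ℕ} {k : Type u} [Field k] {d : ℕ} (G : LefPen.Form n k d)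
    (i : Fin (n + 1)) (V : (CohB1.ProjSpace n k).affineOpens) (hV : V.1 ≤ LefPen.chart n k i) :
    (LefPen.hypIdeal G).ideal V = Ideal.span
      {((CohB1.ProjSpace n k).presheaf.map (homOfLE hV).op).hom (LefPen.dehom G i)} :=
  hyp_ideal_eq G i V hV

theorem ciIdeal_ideal_eq (k : Type u) [Field k] (n r : ℕ) (a : Fin r → ℕ)
    (G : ∀ j : Fin r, LefPen.Form n k (a j)) (i : Fin (n + 1))
    (V : (CohB1.ProjSpace n k).affineOpens) (hV : V.1 ≤ LefPen.chart n k i) :
    (LefPen.ciIdeal G).ideal V = Ideal.span (Set.range fun j : Fin r =>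
      ((CohB1.ProjSpace n k).presheaf.map (homOfLE hV).op).hom (LefPen.dehom (G j) i)) := by
  unfold LefPen.ciIdeal
  rw [Scheme.IdealSheafData.ideal_iSup, iSup_apply]
  simp only [hypIdeal_ideal_eq _ i V hV]
  rw [← Ideal.span_iUnion, Set.iUnion_singleton_eq_range]

end Groth.Agent.Lib.Helper1.CIDimC
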