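import Mathlib
import Groth.Prelude.Def_CohB1

set_option autoImplicit false
universe u
open CategoryTheory CategoryTheory.Limits AlgebraicGeometry

namespace Groth.Agent.Lib.Helper1.ProjSpaceFT

variable (n : ℕ) (R : Type u) [CommRing R]

instance isScalarTower_polyGrading :
    IsScalarTower R (CohB1.polyGrading n R 0) (MvPolynomial (Fin (n + 1)) R) :=
  ⟨fun r x y => by
    change ((r • x : CohB1.polyGrading n R 0) : MvPolynomial (Fin (n + 1)) R) * y =
      r • ((x : MvPolynomial (Fin (n + 1)) R) * y)
    rw [← smul_mul_assoc]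
    rfl⟩

instance finiteType_polyGrading :
    Algebra.FiniteType (CohB1.polyGrading n R 0) (MvPolynomial (Fin (n + 1)) R) :=
  Algebra.FiniteType.of_restrictScalars_finiteType R _ _

lemma algebraMap_polyGrading_zero_surjective :
    Function.Surjective (algebraMap R (CohB1.polyGrading n R 0)) := by
  rintro ⟨x, hx⟩
  have hx' : MvPolynomial.IsHomogeneous x 0 := hx
  have h0 : x.totalDegree = 0 := Nat.le_zero.1 hx'.totalDegree_le
  rw [MvPolynomial.totalDegree_eq_zero_iff_eq_C] at h0
  exact ⟨MvPolynomial.coeff 0 x, Subtype.ext h0.symm⟩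

instance locallyOfFiniteType_toSpec : LocallyOfFiniteType (CohB1.ProjSpace.toSpec n R) := by
  have h1 : LocallyOfFiniteType (Proj.toSpecZero (CohB1.polyGrading n R)) := inferInstance
  have h2 : LocallyOfFiniteType
      (Spec.map (CommRingCat.ofHom (algebraMap R (CohB1.polyGrading n R 0)))) := by
    rw [HasRingHomProperty.Spec_iff (P := @LocallyOfFiniteType)]
    exact RingHom.FiniteType.of_surjective _ (algebraMap_polyGrading_zero_surjective n R)
  exact MorphismProperty.comp_mem _ _ _ h1 h2

instance quasiCompact_toSpec : QuasiCompact (CohB1.ProjSpace.toSpec n R) := by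
  have h1 : QuasiCompact (Proj.toSpecZero (CohB1.polyGrading n R)) := inferInstance
  have h2 : QuasiCompact
      (Spec.map (CommRingCat.ofHom (algebraMap R (CohB1.polyGrading n R 0)))) := inferInstance
  exact MorphismProperty.comp_mem _ _ _ h1 h2

instance locallyOfFiniteType_toBase (S : Scheme.{u}) :
    LocallyOfFiniteType (CohB1.ProjSpaceOver.toBase n S) := by
  exact MorphismProperty.pullback_snd _ _ (locallyOfFiniteType_toSpec n (ULift.{u} ℤ))

instance quasiCompact_toBase (S : Scheme.{u}) :
    QuasiCompact (CohB1.ProjSpaceOver.toBase n S) := by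
  exact MorphismProperty.pullback_snd _ _ (quasiCompact_toSpec n (ULift.{u} ℤ))

/-- an H-projective scheme over a Noetherian base is Noetherian -/
theorem isNoetherian_of_isClosedImmersion {X S : Scheme.{u}} [IsNoetherian S]
    (i : X ⟶ CohB1.ProjSpaceOver n S) [IsClosedImmersion i] : IsNoetherian X := by
  have h1 : LocallyOfFiniteType (i ≫ CohB1.ProjSpaceOver.toBase n S) := inferInstance
  have h2 : QuasiCompact (i ≫ CohB1.ProjSpaceOver.toBase n S) := inferInstance
  have : IsLocallyNoetherian X :=
    LocallyOfFiniteType.isLocallyNoetherian (i ≫ CohB1.ProjSpaceOver.toBase n S)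
  have : CompactSpace X :=
    QuasiCompact.compactSpace_of_compactSpace (i ≫ CohB1.ProjSpaceOver.toBase n S)
  exact {}

end Groth.Agent.Lib.Helper1.ProjSpaceFT
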