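import Mathlib
import Groth.Prelude
import Groth.Agent.Lib.Helper12.SchemeDimFT2
import Groth.Agent.Lib.Helper7.HypIdeal
import Groth.Agent.Lib.Helper1.ProjSpaceFT
import Groth.Agent.Lib.Helper1.CIDimC
import Groth.Agent.Lib.Helper9.CIDimA
import Groth.Agent.Lib.Helper21.CIDimB0
import Groth.Agent.Lib.Helper29.CIDimD
import Groth.Agent.Lib.Helper17.CIDimE
import Groth.Agent.Lib.Helper20.CIDimF

/-!
# Irreducible components of a complete intersection in `P^n_k` have dimension `n - r` (helper1)

Assembly for S14335 from the lemmas (A) helper9, (B0) helper21, (C) helper1, (D) helper29,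
(E) helper17, (F) helper20, on top of helper12's dimension theory for schemes locally of finite type
over a field and helper7's description of the ideal sheaf of a hypersurface.  The transcendence
degree of the function field of `P^n_k` enters as the hypothesis `hB`.
-/

set_option autoImplicit false
set_option linter.style.haveILetI false
universe u
open CategoryTheory CategoryTheory.Limits AlgebraicGeometry Opposite

namespace Groth.Agent.Lib.Helper1.CIDim

open Groth.Agent.Lib.Helper12 Groth.Agent.Lib.Helper12.SchemeDimFT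

attribute [local instance] Curv2.resAlgebra

theorem main_of_trdeg (k : Type u) [Field k] (n r : ℕ) (a : Fin r → ℕ)
    (G : ∀ j : Fin r, LefPen.Form n k (a j))
    [IrreducibleSpace ↥(CohB1.ProjSpace n k)]
    (hB : letI : (CohB1.ProjSpace n k).Over (Spec (CommRingCat.of k)) :=
        ⟨CohB1.ProjSpace.toSpec n k⟩
      Algebra.trdeg k ((CohB1.ProjSpace n k).residueField
        (genericPoint ↥(CohB1.ProjSpace n k))) = n)
    (hdim : topologicalKrullDim ↥(LefPen.ciIdeal G).subscheme = ((n - r : ℕ) : WithBot ℕ∞))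
    (Z : Set ↥(LefPen.ciIdeal G).subscheme)
    (hZ : Z ∈ irreducibleComponents ↥(LefPen.ciIdeal G).subscheme) :
    topologicalKrullDim ↥Z = ((n - r : ℕ) : WithBot ℕ∞) := by
  apply le_antisymm
  · exact (topologicalKrullDim_subspace_le _ Z).trans hdim.le
  · letI instP : (CohB1.ProjSpace n k).Over (Spec (CommRingCat.of k)) :=
      ⟨CohB1.ProjSpace.toSpec n k⟩
    letI instX : (LefPen.ciIdeal G).subscheme.Over (Spec (CommRingCat.of k)) :=
      ⟨(LefPen.ciIdeal G).subschemeι ≫ CohB1.ProjSpace.toSpec n k⟩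
    haveI : LocallyOfFiniteType ((CohB1.ProjSpace n k) ↘ Spec (CommRingCat.of k)) := by
      change LocallyOfFiniteType (CohB1.ProjSpace.toSpec n k); infer_instance
    haveI : LocallyOfFiniteType ((LefPen.ciIdeal G).subscheme ↘ Spec (CommRingCat.of k)) := by
      change LocallyOfFiniteType ((LefPen.ciIdeal G).subschemeι ≫ CohB1.ProjSpace.toSpec n k)
      infer_instance
    haveI : CompactSpace ↥(LefPen.ciIdeal G).subscheme := by
      haveI : QuasiCompact ((LefPen.ciIdeal G).subschemeι ≫ CohB1.ProjSpace.toSpec n k) :=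
        inferInstance
      exact QuasiCompact.compactSpace_of_compactSpace
        ((LefPen.ciIdeal G).subschemeι ≫ CohB1.ProjSpace.toSpec n k)
    have hZirr : IsIrreducible Z := hZ.1
    have hZcl : IsClosed Z := isClosed_of_mem_irreducibleComponents Z hZ
    obtain ⟨η, hη⟩ := QuasiSober.sober hZirr hZcl
    obtain ⟨a₁, ha₁⟩ := exists_trdeg_eq k (LefPen.ciIdeal G).subscheme η
    have h1 := Groth.Agent.Lib.Helper9.CIDimA.trdeg_le_dim_component k
      (LefPen.ciIdeal G).subscheme Z hZ η hη a₁ ha₁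
    obtain ⟨a₂, ha₂⟩ := exists_trdeg_eq k (CohB1.ProjSpace n k) ((LefPen.ciIdeal G).subschemeι η)
    have h2 : a₂ ≤ a₁ := by
      have h := trdeg_le_of_hom k (CohB1.ProjSpace.toSpec n k)
        ((LefPen.ciIdeal G).subschemeι ≫ CohB1.ProjSpace.toSpec n k)
        (LefPen.ciIdeal G).subschemeι rfl η
      rw [ha₁, ha₂] at h
      exact_mod_cast h
    obtain ⟨i, hi⟩ := Groth.Agent.Lib.Helper7.HypIdeal.exists_chart n k
      ((LefPen.ciIdeal G).subschemeι η)
    obtain ⟨V, hV, hξV, hVc⟩ := TopologicalSpace.Opens.isBasis_iff_nbhd.mp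
      (Scheme.isBasis_affineOpens (CohB1.ProjSpace n k))
      (show (LefPen.ciIdeal G).subschemeι η ∈ LefPen.chart n k i from hi)
    haveI : IsLocallyNoetherian (CohB1.ProjSpace n k) :=
      LocallyOfFiniteType.isLocallyNoetherian (CohB1.ProjSpace.toSpec n k)
    haveI : IsNoetherianRing Γ(CohB1.ProjSpace n k, V) :=
      IsLocallyNoetherian.component_noetherian ⟨V, hV⟩
    have hmin := Groth.Agent.Lib.Helper17.CIDimE.primeIdealOf_mem_minimalPrimes
      (LefPen.ciIdeal G) Z hZ η hη ⟨V, hV⟩ hξV
    rw [Groth.Agent.Lib.Helper1.CIDimC.ciIdeal_ideal_eq k n r a G i ⟨V, hV⟩ hVc] at hmin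
    have hht := Groth.Agent.Lib.Helper29.CIDimD.height_le_of_mem_minimalPrimes_span_range
      r _ _ hmin
    have hstalk := Groth.Agent.Lib.Helper20.CIDimF.ringKrullDim_stalk_eq_height
      (P := CohB1.ProjSpace n k) ⟨V, hV⟩ ((LefPen.ciIdeal G).subschemeι η) hξV
    obtain ⟨b, hb⟩ := ENat.ne_top_iff_exists.mp
      (ne_top_of_le_ne_top (ENat.coe_ne_top r) hht)
    have hbr : b ≤ r := by
      rw [← hb] at hht
      exact_mod_cast hht
    have hstalk' : ringKrullDim ((CohB1.ProjSpace n k).presheaf.stalk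
        ((LefPen.ciIdeal G).subschemeι η)) = b := by
      rw [hstalk, ← hb]; rfl
    have hloc1 := localDim_eq k (CohB1.ProjSpace n k) ((LefPen.ciIdeal G).subschemeι η) a₂ b ha₂
      hstalk'
    have hloc2 := localDim_eq_of_irreducible k (CohB1.ProjSpace n k) n hB
      ((LefPen.ciIdeal G).subschemeι η)
    have hab : a₂ + b = n := by
      rw [hloc1] at hloc2
      exact_mod_cast hloc2
    have h3 : n - r ≤ a₁ := by omega
    calc ((n - r : ℕ) : WithBot ℕ∞) ≤ ((a₁ : ℕ) : WithBot ℕ∞) := by exact_mod_cast h3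
      _ ≤ _ := h1

end Groth.Agent.Lib.Helper1.CIDim
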