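import Mathlib
import Groth.Prelude
import Groth.Agent.Lib.Helper12.SchemeDimFT2
import Groth.Agent.Lib.Helper14.Dehomog
import Groth.Agent.Lib.Helper21.CIDimB0
import Groth.Agent.Lib.Helper1.ProjSpaceFT

/-!
# The function field of `P^n_k` has transcendence degree `n` (helper1)

Lemma (B) for S14335.
-/

set_option autoImplicit false
set_option linter.style.haveILetI false
universe u
open CategoryTheory CategoryTheory.Limits AlgebraicGeometry Opposite

namespace Groth.Agent.Lib.Helper1.CIDimB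

open Groth.Agent.Lib.Helper12 Groth.Agent.Lib.Helper12.SchemeDimFT

attribute [local instance] Curv2.resAlgebra

theorem card_ne_zero (n : ℕ) : Nat.card {j : Fin (n + 1) // j ≠ 0} = n := by
  rw [Nat.card_eq_fintype_card, Fintype.card_subtype_compl, Fintype.card_fin,
    Fintype.card_subtype_eq]
  rfl

theorem trdeg_genericPoint_projSpace (k : Type u) [Field k] (n : ℕ)
    [IrreducibleSpace ↥(CohB1.ProjSpace n k)] :
    letI : (CohB1.ProjSpace n k).Over (Spec (CommRingCat.of k)) := ⟨CohB1.ProjSpace.toSpec n k⟩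
    Algebra.trdeg k ((CohB1.ProjSpace n k).residueField
      (genericPoint ↥(CohB1.ProjSpace n k))) = n := by
  letI : (CohB1.ProjSpace n k).Over (Spec (CommRingCat.of k)) := ⟨CohB1.ProjSpace.toSpec n k⟩
  haveI : LocallyOfFiniteType ((CohB1.ProjSpace n k) ↘ Spec (CommRingCat.of k)) := by
    change LocallyOfFiniteType (CohB1.ProjSpace.toSpec n k); infer_instance
  haveI : IsIntegral (CohB1.ProjSpace n k) :=
    Groth.Agent.Lib.Helper21.CIDimB0.isIntegral_projSpace k n
  have hU : IsAffineOpen (LefPen.chart n k 0) :=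
    Proj.isAffineOpen_basicOpen (CohB1.polyGrading n k) (MvPolynomial.X 0)
      (LefPen.X_mem n k 0) one_pos
  let e1 : HomogeneousLocalization.Away (CohB1.polyGrading n k) (MvPolynomial.X 0) ≃+*
      Γ(CohB1.ProjSpace n k, LefPen.chart n k 0) :=
    (Proj.basicOpenIsoAway (CohB1.polyGrading n k) (MvPolynomial.X 0)
      (LefPen.X_mem n k 0) one_pos).commRingCatIsoToRingEquiv
  let e2 : MvPolynomial {j : Fin (n + 1) // j ≠ 0} k ≃+*
      HomogeneousLocalization.Away (CohB1.polyGrading n k) (MvPolynomial.X 0) :=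
    RingEquiv.ofBijective (Groth.Agent.Lib.Helper14.Dehomog.Φ n k 0)
      (Groth.Agent.Lib.Helper14.Dehomog.Φ_bijective n k 0)
  have hdimΓ : ringKrullDim Γ(CohB1.ProjSpace n k, LefPen.chart n k 0) = n := by
    rw [← ringKrullDim_eq_of_ringEquiv (e2.trans e1),
      MvPolynomial.ringKrullDim_of_isNoetherianRing, ringKrullDim_eq_zero_of_field, zero_add,
      card_ne_zero]
  haveI : Nontrivial Γ(CohB1.ProjSpace n k, LefPen.chart n k 0) :=
    (e2.trans e1).injective.nontrivial
  haveI hne : Nonempty (LefPen.chart n k 0).toScheme := by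
    obtain ⟨p⟩ := (inferInstance :
      Nonempty (PrimeSpectrum Γ(CohB1.ProjSpace n k, LefPen.chart n k 0)))
    exact ⟨hU.isoSpec.inv.base p⟩
  have hξ : genericPoint ↥(CohB1.ProjSpace n k) ∈ LefPen.chart n k 0 := by
    obtain ⟨⟨x, hx⟩⟩ := hne
    exact ((genericPoint_spec ↥(CohB1.ProjSpace n k)).mem_open_set_iff
      (LefPen.chart n k 0).isOpen).mpr ⟨x, Set.mem_univ x, hx⟩
  obtain ⟨m, hm1, hm2⟩ := exists_trdeg_eq_coheight k (CohB1.ProjSpace n k)
    (LefPen.chart n k 0) hU (genericPoint ↥(CohB1.ProjSpace n k)) hξ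
  haveI : IsDomain Γ(CohB1.ProjSpace n k, LefPen.chart n k 0) := inferInstance
  have hbot : hU.primeIdealOf ⟨genericPoint ↥(CohB1.ProjSpace n k), hξ⟩ =
      (⊥ : PrimeSpectrum Γ(CohB1.ProjSpace n k, LefPen.chart n k 0)) := by
    rw [hU.primeIdealOf_genericPoint, genericPoint_eq_bot_of_affine]
  rw [hbot] at hm2
  have h3 : ((Order.coheight (⊥ : PrimeSpectrum Γ(CohB1.ProjSpace n k, LefPen.chart n k 0)) : ℕ∞) :
      WithBot ℕ∞) = ringKrullDim Γ(CohB1.ProjSpace n k, LefPen.chart n k 0) :=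
    Order.coheight_bot_eq_krullDim
  rw [hm2, hdimΓ] at h3
  have hmn : m = n := by exact_mod_cast h3
  rw [hm1, hmn]

end Groth.Agent.Lib.Helper1.CIDimB
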