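import Mathlib
import Groth.Agent.Lib.Helper4.SkOpen

/-!
# Finite type algebras over Artinian rings have generically Cohen–Macaulay integral quotients
-/

set_option autoImplicit false
set_option linter.style.haveILetI false
set_option maxHeartbeats 800000
universe u

namespace Groth.Agent.Lib.Helper1.CMClosed

open Groth.Agent.Lib.Helper4 Groth.Agent.Lib.Helper4.SkOpen

/-- `GenCM` can be checked on quotients through which the integral quotient factors. -/
theorem genCM_of_forall_quotient (A : Type u) [CommRing A] [IsNoetherianRing A]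
    (h : ∀ (p₀ : Ideal A) [p₀.IsPrime], ∃ I : Ideal A, I ≤ p₀ ∧ GenCM (A ⧸ I)) : GenCM A := by
  intro p₀ hp₀
  obtain ⟨I, hI, hG⟩ := h p₀
  have hs : Function.Surjective (algebraMap A (A ⧸ I)) := Ideal.Quotient.mk_surjective
  haveI hp₀' : (p₀.map (Ideal.Quotient.mk I)).IsPrime :=
    Ideal.map_isPrime_of_surjective Ideal.Quotient.mk_surjective (by rw [Ideal.mk_ker]; exact hI)
  obtain ⟨g', hg', Hg'⟩ := hG (p₀.map (Ideal.Quotient.mk I))
  obtain ⟨g, rfl⟩ := Ideal.Quotient.mk_surjective g'
  refine ⟨g, fun h => hg' (Ideal.mem_map_of_mem _ h), fun q hq hpq hgq => ?_⟩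
  have hIq : I ≤ q := hI.trans hpq
  haveI hq' : (q.map (Ideal.Quotient.mk I)).IsPrime :=
    Ideal.map_isPrime_of_surjective Ideal.Quotient.mk_surjective (by rw [Ideal.mk_ker]; exact hIq)
  have hle : p₀.map (Ideal.Quotient.mk I) ≤ q.map (Ideal.Quotient.mk I) := Ideal.map_mono hpq
  have h1 := Hg' (q.map (Ideal.Quotient.mk I)) hle
    (fun hmem => hgq ((Ideal.mem_quotient_iff_mem hIq).mp hmem))
  haveI := GenDepth.nontrivial_localizedModule_quot (p₀.map (Ideal.Quotient.mk I))
    (q.map (Ideal.Quotient.mk I)) hle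
  let e : (A ⧸ p₀) ≃ₗ[A] ((A ⧸ I) ⧸ p₀.map (Ideal.Quotient.mk I)) :=
    (DoubleQuot.quotQuotEquivQuotOfLEₐ A hI).symm.toLinearEquiv
  haveI : Module.Finite A ((A ⧸ I) ⧸ p₀.map (Ideal.Quotient.mk I)) :=
    Module.Finite.equiv e
  have h2 := depth_supportDim_of_surjective (A := A) (B := A ⧸ I) hs
    ((A ⧸ I) ⧸ p₀.map (Ideal.Quotient.mk I)) q (q.map (Ideal.Quotient.mk I))
    (comap_map_mk I q hIq)
  rw [Module.supportDim_eq_of_equiv (Groth.Agent.Lib.Helper28.localizedEquiv q.primeCompl e)]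
  unfold LocCoh.depth at h1 h2 ⊢
  rw [Groth.Agent.Lib.Helper28.idealDepth_congr (Groth.Agent.Lib.Helper28.localizedEquiv
    q.primeCompl e)]
  rw [h2.1, h2.2]
  exact h1

/-- A finite type algebra over an Artinian ring has generically Cohen–Macaulay integral
quotients. -/
theorem genCM_of_finiteType_artinian (A B : Type u) [CommRing A] [CommRing B] [IsArtinianRing A]
    [Algebra A B] [Algebra.FiniteType A B] [IsNoetherianRing B] : GenCM B := by
  apply genCM_of_forall_quotient
  intro p₀ hp₀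
  haveI hm₀ : (p₀.comap (algebraMap A B)).IsMaximal :=
    IsArtinianRing.isMaximal_of_isPrime _
  refine ⟨(p₀.comap (algebraMap A B)).map (algebraMap A B), Ideal.map_comap_le, ?_⟩
  letI : Field (A ⧸ p₀.comap (algebraMap A B)) := Ideal.Quotient.field _
  haveI : Algebra.FiniteType (A ⧸ p₀.comap (algebraMap A B))
      (B ⧸ (p₀.comap (algebraMap A B)).map (algebraMap A B)) :=
    Algebra.FiniteType.of_restrictScalars_finiteType A _ _
  obtain ⟨n, f, hf⟩ := Algebra.FiniteType.iff_quotient_mvPolynomial''.mp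
    (inferInstance : Algebra.FiniteType (A ⧸ p₀.comap (algebraMap A B))
      (B ⧸ (p₀.comap (algebraMap A B)).map (algebraMap A B)))
  letI : Algebra (MvPolynomial (Fin n) (A ⧸ p₀.comap (algebraMap A B)))
      (B ⧸ (p₀.comap (algebraMap A B)).map (algebraMap A B)) := f.toRingHom.toAlgebra
  haveI : IsRegularRing (MvPolynomial (Fin n) (A ⧸ p₀.comap (algebraMap A B))) := inferInstance
  exact genCM_of_surjective_regular (MvPolynomial (Fin n) (A ⧸ p₀.comap (algebraMap A B)))
    (B ⧸ (p₀.comap (algebraMap A B)).map (algebraMap A B)) hf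

end Groth.Agent.Lib.Helper1.CMClosed
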