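import Mathlib
import Groth.Prelude
import Groth.Agent.Lib.Helper9.DepthLocV
import Groth.Agent.Lib.Helper4.LocTrans
import Groth.Agent.Lib.Helper4.LocLoc

/-!
# Spreading out regular sequences; openness of the depth condition along a closed subset (algebra)
-/

set_option autoImplicit false
set_option linter.style.haveILetI false
universe u
open RingTheory.Sequence

namespace Groth.Agent.Lib.Helper1.DepthOpen

open Groth.Agent.Lib.Helper4

variable {R : Type u} [CommRing R] [IsNoetherianRing R]

omit [IsNoetherianRing R] in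
theorem exists_annihilator_notMem (K : Type u) [AddCommGroup K] [Module R K] [Module.Finite R K]
    (p : Ideal R) [hp : p.IsPrime] (h : ∀ k : K, ∃ s ∉ p, s • k = 0) :
    ∃ a ∉ p, ∀ k : K, a • k = 0 := by
  have hns : (⟨p, hp⟩ : PrimeSpectrum R) ∉ Module.support R K :=
    Module.notMem_support_iff'.mpr h
  rw [Module.mem_support_iff_of_finite] at hns
  obtain ⟨a, ha, hap⟩ := SetLike.not_le_iff_exists.mp hns
  exact ⟨a, hap, fun k => Module.mem_annihilator.mp ha k⟩

theorem exists_isSMulRegular_nhds (M : Type u) [AddCommGroup M] [Module R M] [Module.Finite R M]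
    (p : Ideal R) [p.IsPrime] (x : R)
    (hx : IsSMulRegular (LocalizedModule p.primeCompl M)
      (algebraMap R (Localization.AtPrime p) x)) :
    ∃ a ∉ p, ∀ (q : Ideal R) [q.IsPrime], a ∉ q →
      IsSMulRegular (LocalizedModule q.primeCompl M)
        (algebraMap R (Localization.AtPrime q) x) := by
  obtain ⟨a, hap, ha⟩ := exists_annihilator_notMem
    (LinearMap.ker (LinearMap.lsmul R M x)) p (fun k => by
    have hk : x • (k : M) = 0 := k.2
    have h0 : algebraMap R (Localization.AtPrime p) x •
        LocalizedModule.mkLinearMap p.primeCompl M (k : M) = 0 := by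
      rw [algebraMap_smul, ← map_smul, hk, map_zero]
    have h1 := hx.right_eq_zero_of_smul h0
    obtain ⟨s, hs⟩ := (IsLocalizedModule.eq_zero_iff p.primeCompl _).mp h1
    exact ⟨s.1, s.2, Subtype.ext hs⟩)
  refine ⟨a, hap, fun q _ haq => ?_⟩
  apply IsSMulRegular.of_right_eq_zero_of_smul
  intro w hw
  induction w using LocalizedModule.induction_on with
  | h m s =>
    rw [algebraMap_smul, LocalizedModule.smul'_mk, ← LocalizedModule.zero_mk s,
      LocalizedModule.mk_eq] at hw
    obtain ⟨t, ht⟩ := hw
    have hK : ((t * s : q.primeCompl) : R) • m ∈ LinearMap.ker (LinearMap.lsmul R M x) := by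
      rw [LinearMap.mem_ker]
      show x • (((t * s : q.primeCompl) : R) • m) = 0
      rw [smul_comm]
      simpa [mul_smul, Submonoid.smul_def] using ht
    have h2 := congrArg Subtype.val (ha ⟨_, hK⟩)
    rw [← LocalizedModule.zero_mk s, LocalizedModule.mk_eq]
    refine ⟨⟨a, haq⟩ * t, ?_⟩
    simpa [mul_smul, Submonoid.smul_def] using h2

theorem exists_isWeaklyRegular_nhds (p : Ideal R) [p.IsPrime] (rs : List R) :
    ∀ (M : Type u) [AddCommGroup M] [Module R M] [Module.Finite R M],
    IsWeaklyRegular (LocalizedModule p.primeCompl M)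
        (rs.map (algebraMap R (Localization.AtPrime p))) →
    ∃ a ∉ p, ∀ (q : Ideal R) [q.IsPrime], a ∉ q →
      IsWeaklyRegular (LocalizedModule q.primeCompl M)
        (rs.map (algebraMap R (Localization.AtPrime q))) := by
  induction rs with
  | nil =>
    intro M _ _ _ _
    exact ⟨1, (Ideal.ne_top_iff_one p).mp (Ideal.IsPrime.ne_top inferInstance),
      fun q _ _ => by simpa using IsWeaklyRegular.nil _ _⟩
  | cons x rs ih =>
    intro M _ _ _ h
    rw [List.map_cons, isWeaklyRegular_cons_iff] at h
    obtain ⟨a, hap, ha⟩ := exists_isSMulRegular_nhds M p x h.1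
    have h2 : IsWeaklyRegular (LocalizedModule p.primeCompl (QuotSMulTop x M))
        (rs.map (algebraMap R (Localization.AtPrime p))) :=
      ((Groth.Agent.Lib.Helper28.V.quotSMulTopLocalizedEquiv p x).isWeaklyRegular_congr _).mpr h.2
    obtain ⟨b, hbp, hb⟩ := ih (QuotSMulTop x M) h2
    refine ⟨a * b, fun hab => ?_, fun q _ hq => ?_⟩
    · rcases (Ideal.IsPrime.mem_or_mem inferInstance hab) with h' | h'
      · exact hap h'
      · exact hbp h'
    · have haq : a ∉ q := fun h => hq (q.mul_mem_right _ h)
      have hbq : b ∉ q := fun h => hq (q.mul_mem_left _ h)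
      rw [List.map_cons, isWeaklyRegular_cons_iff]
      exact ⟨ha q haq,
        ((Groth.Agent.Lib.Helper28.V.quotSMulTopLocalizedEquiv q x).isWeaklyRegular_congr _).mp
          (hb q hbq)⟩

theorem exists_nhds_depth_ge (M : Type u) [AddCommGroup M] [Module R M] [Module.Finite R M]
    (I p : Ideal R) [p.IsPrime] (hIp : I ≤ p) (n : ℕ)
    (h : ∀ (q : Ideal R) [q.IsPrime], I ≤ q → q ≤ p →
      (n : ℕ∞) ≤ LocCoh.depth (Localization.AtPrime q) (LocalizedModule q.primeCompl M)) :
    ∃ a ∉ p, ∀ (q : Ideal R) [q.IsPrime], I ≤ q → a ∉ q →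
      (n : ℕ∞) ≤ LocCoh.depth (Localization.AtPrime q) (LocalizedModule q.primeCompl M) := by
  have hd : (n : ℕ∞) ≤ LocCoh.idealDepth (I.map (algebraMap R (Localization.AtPrime p)))
      (LocalizedModule p.primeCompl M) :=
    Groth.Agent.Lib.Helper28.V.le_idealDepth_of_forall_localization _ n (fun Q hQ hIQ _ => by
      rw [(LocTrans.depth_supportDim_locLoc p.primeCompl M Q).1]
      apply h
      · exact Ideal.map_le_iff_le_comap.mp hIQ
      · intro r hr
        by_contra hrp
        exact hQ.ne_top (Ideal.eq_top_of_isUnit_mem _ hr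
          (IsLocalization.map_units (Localization.AtPrime p) (⟨r, hrp⟩ : p.primeCompl))))
  by_cases hI' : (I.map (algebraMap R (Localization.AtPrime p))) •
      (⊤ : Submodule (Localization.AtPrime p) (LocalizedModule p.primeCompl M)) = ⊤
  · have hle : I.map (algebraMap R (Localization.AtPrime p)) ≤
        IsLocalRing.maximalIdeal (Localization.AtPrime p) := by
      rw [Ideal.map_le_iff_le_comap]
      intro r hr
      rw [Ideal.mem_comap, IsLocalization.AtPrime.to_map_mem_maximal_iff (Localization.AtPrime p) p]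
      exact hIp hr
    have htop : (⊤ : Submodule (Localization.AtPrime p) (LocalizedModule p.primeCompl M)) = ⊥ :=
      Submodule.eq_bot_of_le_smul_of_le_jacobson_bot _ ⊤ Module.Finite.fg_top hI'.ge
        (hle.trans (IsLocalRing.maximalIdeal_le_jacobson ⊥))
    have hsub : Subsingleton (LocalizedModule p.primeCompl M) :=
      (Submodule.subsingleton_iff (Localization.AtPrime p)).mp
        (subsingleton_of_bot_eq_top htop.symm)
    obtain ⟨a, hap, ha⟩ := exists_annihilator_notMem M p (fun m => by
      obtain ⟨r, hr, hrm⟩ := LocalizedModule.subsingleton_iff.mp hsub m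
      exact ⟨r, hr, hrm⟩)
    refine ⟨a, hap, fun q _ _ haq => ?_⟩
    haveI : Subsingleton (LocalizedModule q.primeCompl M) :=
      LocalizedModule.subsingleton_iff.mpr (fun m => ⟨a, haq, ha m⟩)
    rw [depth_eq_top_of_subsingleton]
    exact le_top
  · obtain ⟨rs, hmem, hlen, hrs⟩ := exists_isWeaklyRegular_map_of_le_idealDepth p.primeCompl I n
      (LocalizedModule p.primeCompl M) hI' hd
    obtain ⟨a, hap, ha⟩ := exists_isWeaklyRegular_nhds p rs M hrs
    refine ⟨a, hap, fun q _ hIq haq => ?_⟩
    have h1 := length_le_idealDepth (IsLocalRing.maximalIdeal (Localization.AtPrime q)) _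
      (ha q haq) (by
        intro r hr
        obtain ⟨b, hb, rfl⟩ := List.mem_map.mp hr
        rw [IsLocalization.AtPrime.to_map_mem_maximal_iff (Localization.AtPrime q) q]
        exact hIq (hmem b hb))
    rw [List.length_map, hlen] at h1
    exact h1

end Groth.Agent.Lib.Helper1.DepthOpen
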