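import Mathlib
import Groth.Prelude
import Groth.Agent.Lib.Helper1.DepthOpen1
import Groth.Agent.Lib.Helper3.QcohStalk
import Groth.Agent.Lib.Helper3.QCProps

/-!
# Openness of the depth condition along a closed subset (schemes)
-/

set_option autoImplicit false
set_option linter.style.haveILetI false
universe u
open CategoryTheory CategoryTheory.Limits AlgebraicGeometry TopologicalSpace Opposite

namespace Groth.Agent.Lib.Helper1.DepthOpen

open Groth.Agent.Lib.Helper3 Groth.Agent.Lib.Helper4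

variable {X : Scheme.{u}}

theorem depth_congr_prime {R : Type u} [CommRing R] (M : Type u) [AddCommGroup M] [Module R M]
    (q q' : Ideal R) [q.IsPrime] [q'.IsPrime] (e : q = q') :
    LocCoh.depth (Localization.AtPrime q) (LocalizedModule q.primeCompl M) =
      LocCoh.depth (Localization.AtPrime q') (LocalizedModule q'.primeCompl M) := by
  subst e
  rfl

theorem depth_stalk_eq (F : X.Modules) [F.IsQuasicoherent] [F.IsFiniteType] {W : X.Opens}
    (hW : IsAffineOpen W) (z : X) (hz : z ∈ W) :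
    haveI := (hW.primeIdealOf ⟨z, hz⟩).isPrime
    LocCoh.depth (X.presheaf.stalk z) (F.presheaf.stalk z) =
      LocCoh.depth (Localization.AtPrime (hW.primeIdealOf ⟨z, hz⟩).asIdeal)
        (LocalizedModule (hW.primeIdealOf ⟨z, hz⟩).asIdeal.primeCompl Γ(F, W)) := by
  haveI := (hW.primeIdealOf ⟨z, hz⟩).isPrime
  letI algRB : Algebra Γ(X, W) (X.presheaf.stalk z) :=
    TopCat.Presheaf.algebra_section_stalk X.presheaf (U := W) ⟨z, hz⟩
  letI modRN : Module Γ(X, W) (F.presheaf.stalk z) :=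
    Module.compHom _ (algebraMap Γ(X, W) (X.presheaf.stalk z))
  haveI towRBN : IsScalarTower Γ(X, W) (X.presheaf.stalk z) (F.presheaf.stalk z) :=
    IsScalarTower.of_algebraMap_smul fun r y => rfl
  haveI locB : IsLocalization.AtPrime (X.presheaf.stalk z) (hW.primeIdealOf ⟨z, hz⟩).asIdeal :=
    hW.isLocalization_stalk ⟨z, hz⟩
  let g : Γ(F, W) →ₗ[Γ(X, W)] F.presheaf.stalk z :=
    { toFun := F.presheaf.germ W z hz
      map_add' := map_add _
      map_smul' := fun r m => QS.germ_smul F z hz r m }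
  haveI hloc : IsLocalizedModule (hW.primeIdealOf ⟨z, hz⟩).asIdeal.primeCompl g :=
    QS.isLocalizedModule_germ hW F z hz (fun r y => rfl) g (fun m => rfl)
  haveI : Module.Finite Γ(X, W) Γ(F, W) := QCProps.finite_sections F hW
  exact (LocTrans.depth_supportDim_of_isLocalizedModule (hW.primeIdealOf ⟨z, hz⟩).asIdeal
    (X.presheaf.stalk z) (F.presheaf.stalk z) g).1

theorem primeIdealOf_fromSpec {U : X.Opens} (hU : IsAffineOpen U) (Q : PrimeSpectrum Γ(X, U))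
    (h : hU.fromSpec Q ∈ U) : hU.primeIdealOf ⟨hU.fromSpec Q, h⟩ = Q :=
  hU.fromSpec.isOpenEmbedding.injective (hU.fromSpec_primeIdealOf ⟨hU.fromSpec Q, h⟩)

theorem fromSpec_mem {U : X.Opens} (hU : IsAffineOpen U) (Q : PrimeSpectrum Γ(X, U)) :
    hU.fromSpec Q ∈ U := by
  have : hU.fromSpec Q ∈ Set.range hU.fromSpec := ⟨Q, rfl⟩
  rwa [hU.range_fromSpec] at this

theorem exists_nhds [IsLocallyNoetherian X] (F : X.Modules) (hF : Coh.IsCoh F)
    (Y : Closeds ↥X) (n : ℕ) (y : X) (hy : y ∈ Y)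
    (hd : (n : ℕ∞) ≤ CInt.depthAlong F (Y : Set ↥X) y) :
    ∃ V : X.Opens, y ∈ V ∧ ∀ z ∈ V, z ∈ Y →
      (n : ℕ∞) ≤ LocCoh.depth (X.presheaf.stalk z) (F.presheaf.stalk z) := by
  haveI := hF.1
  haveI := hF.2
  obtain ⟨W, hW, hyW⟩ := QCProps.exists_affine_nbhd y
  haveI : IsNoetherianRing Γ(X, W) := IsLocallyNoetherian.component_noetherian ⟨W, hW⟩
  haveI : Module.Finite Γ(X, W) Γ(F, W) := QCProps.finite_sections F hW
  obtain ⟨T, hTdef⟩ : ∃ T : Set (PrimeSpectrum Γ(X, W)), T = {q | hW.fromSpec q ∈ Y} := ⟨_, rfl⟩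
  have hT : IsClosed T := by
    rw [hTdef]
    exact Y.isClosed.preimage hW.fromSpec.continuous
  have key : ∀ q : PrimeSpectrum Γ(X, W),
      PrimeSpectrum.vanishingIdeal T ≤ q.asIdeal ↔ hW.fromSpec q ∈ Y := by
    intro q
    constructor
    · intro h
      have h1 : q ∈ PrimeSpectrum.zeroLocus (PrimeSpectrum.vanishingIdeal T : Set Γ(X, W)) :=
        (PrimeSpectrum.mem_zeroLocus q _).mpr (fun a ha => h ha)
      rw [PrimeSpectrum.zeroLocus_vanishingIdeal_eq_closure, hT.closure_eq, hTdef] at h1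
      exact h1
    · intro h a ha
      exact (PrimeSpectrum.mem_vanishingIdeal _ _).mp ha q (by rw [hTdef]; exact h)
  haveI := (hW.primeIdealOf ⟨y, hyW⟩).isPrime
  have hIp : PrimeSpectrum.vanishingIdeal T ≤
      (hW.primeIdealOf ⟨y, hyW⟩).asIdeal :=
    (key _).mpr (by rw [hW.fromSpec_primeIdealOf]; exact hy)
  have hyp : ∀ (q : Ideal Γ(X, W)) [q.IsPrime], PrimeSpectrum.vanishingIdeal T ≤ q →
      q ≤ (hW.primeIdealOf ⟨y, hyW⟩).asIdeal →
      (n : ℕ∞) ≤ LocCoh.depth (Localization.AtPrime q) (LocalizedModule q.primeCompl Γ(F, W)) := by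
    intro q hq hIq hqp
    have hzW : hW.fromSpec ⟨q, hq⟩ ∈ W := fromSpec_mem hW _
    have hzY : hW.fromSpec ⟨q, hq⟩ ∈ Y := (key ⟨q, hq⟩).mp hIq
    have hzy : hW.fromSpec ⟨q, hq⟩ ⤳ y := by
      have h1 : (⟨q, hq⟩ : PrimeSpectrum Γ(X, W)) ⤳ hW.primeIdealOf ⟨y, hyW⟩ :=
        (PrimeSpectrum.le_iff_specializes _ _).mp hqp
      have h2 := h1.map hW.fromSpec.continuous
      rwa [hW.fromSpec_primeIdealOf] at h2
    have h3 : (n : ℕ∞) ≤ LocCoh.depth (X.presheaf.stalk (hW.fromSpec ⟨q, hq⟩))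
        (F.presheaf.stalk (hW.fromSpec ⟨q, hq⟩)) :=
      hd.trans (iInf_le (fun z : {z : X // z ∈ (Y : Set X) ∧ z ⤳ y} =>
        LocCoh.depth (X.presheaf.stalk z.1) (F.presheaf.stalk z.1))
        ⟨hW.fromSpec ⟨q, hq⟩, hzY, hzy⟩)
    have e : (hW.primeIdealOf ⟨hW.fromSpec ⟨q, hq⟩, hzW⟩).asIdeal = q :=
      congrArg PrimeSpectrum.asIdeal (primeIdealOf_fromSpec hW ⟨q, hq⟩ hzW)
    haveI := (hW.primeIdealOf ⟨hW.fromSpec ⟨q, hq⟩, hzW⟩).isPrime
    exact (h3.trans (depth_stalk_eq F hW _ hzW).le).trans (depth_congr_prime _ _ _ e).le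
  obtain ⟨a, hap, ha⟩ := exists_nhds_depth_ge Γ(F, W) (PrimeSpectrum.vanishingIdeal T)
    (hW.primeIdealOf ⟨y, hyW⟩).asIdeal hIp n hyp
  refine ⟨X.basicOpen a, (mem_basicOpen_iff_notMem_primeIdealOf hW y hyW a).mpr hap,
    fun z hzV hzY => ?_⟩
  have hzW : z ∈ W := X.basicOpen_le a hzV
  haveI := (hW.primeIdealOf ⟨z, hzW⟩).isPrime
  refine le_trans ?_ (depth_stalk_eq F hW z hzW).ge
  apply ha
  · exact (key _).mpr (by rw [hW.fromSpec_primeIdealOf]; exact hzY)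
  · exact (mem_basicOpen_iff_notMem_primeIdealOf hW z hzW a).mp hzV

theorem main [IsLocallyNoetherian X] (F : X.Modules) (hF : Coh.IsCoh F)
    (Y : Closeds ↥X) (n : ℕ) :
    ∃ U : X.Opens, ∀ y : ↥X, y ∈ Y →
      (y ∈ U ↔ (n : ℕ∞) ≤ CInt.depthAlong F (Y : Set ↥X) y) := by
  refine ⟨sSup {V : X.Opens | ∀ z ∈ V, z ∈ Y →
      (n : ℕ∞) ≤ LocCoh.depth (X.presheaf.stalk z) (F.presheaf.stalk z)},
    fun y hy => ⟨fun hyU => ?_, fun hd => ?_⟩⟩
  · obtain ⟨V, hVS, hyV⟩ := Opens.mem_sSup.mp hyU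
    unfold CInt.depthAlong
    apply le_iInf
    rintro ⟨z, hzY, hzy⟩
    exact hVS z (hzy.mem_open V.2 hyV) hzY
  · obtain ⟨V, hyV, hV⟩ := exists_nhds F hF Y n y hy hd
    exact Opens.mem_sSup.mpr ⟨V, hV, hyV⟩

end Groth.Agent.Lib.Helper1.DepthOpen
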