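import Mathlib
import Groth.Agent.Lib.Helper1.CMClosed1
import Groth.Agent.Lib.Helper1.DepthOpen2
import Groth.Agent.Lib.Helper4.CM
import Groth.Agent.Lib.Helper4.LocTrans

/-!
# Closed Cohen–Macaulay points on schemes locally of finite type over an Artinian ring
-/

set_option autoImplicit false
set_option linter.style.haveILetI false
set_option maxHeartbeats 800000
universe u

open CategoryTheory AlgebraicGeometry TopologicalSpace Opposite

namespace Groth.Agent.Lib.Helper1.CMClosed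

open Groth.Agent.Lib.Helper4 Groth.Agent.Lib.Helper4.SkOpen

/-- The codepth-zero locus of a nontrivial Noetherian ring is nonempty: it contains the minimal
primes. -/
theorem nonempty_goodCodepth (B : Type u) [CommRing B] [IsNoetherianRing B] [Nontrivial B] :
    (goodCodepth (A := B) B 0).Nonempty := by
  obtain ⟨p, hp⟩ := Ideal.nonempty_minimalPrimes (R := B) (I := ⊥) (by simp)
  haveI : p.IsPrime := hp.1.1
  refine ⟨⟨p, inferInstance⟩, ?_⟩
  rw [mem_goodCodepth]
  have h1 : Module.supportDim (Localization.AtPrime p) (LocalizedModule p.primeCompl B) ≤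
      ringKrullDim (Localization.AtPrime p) := Module.supportDim_le_ringKrullDim _ _
  have h2 : ringKrullDim (Localization.AtPrime p) = 0 := by
    rw [IsLocalization.AtPrime.ringKrullDim_eq_height p (Localization.AtPrime p),
      Ideal.height_eq_zero_iff.mpr hp]
    rfl
  rw [h2] at h1
  refine h1.trans ?_
  simp

theorem exists_closed_cm (A : Type u) [CommRing A] [IsArtinianRing A] (X : Scheme.{u})
    (f : X ⟶ Spec (CommRingCat.of A)) [LocallyOfFiniteType f] [Nonempty X] :
    ∃ x : X, IsClosed ({x} : Set X) ∧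
      LocCoh.IsCohenMacaulayLocalRing (X.presheaf.stalk x) := by
  haveI : JacobsonSpace X := LocallyOfFiniteType.jacobsonSpace f
  obtain ⟨x₀⟩ := (inferInstance : Nonempty X)
  obtain ⟨_, ⟨U, hU, rfl⟩, hx₀U, -⟩ :=
    X.isBasis_affineOpens.exists_subset_of_mem_open (Set.mem_univ x₀) isOpen_univ
  have hle : U ≤ f ⁻¹ᵁ ⊤ := fun _ _ => trivial
  have hft : (f.appLE ⊤ U hle).hom.FiniteType :=
    f.finiteType_appLE (isAffineOpen_top _) hU hle
  let φ : A →+* Γ(X, U) :=
    (f.appLE ⊤ U hle).hom.comp (Scheme.ΓSpecIso (CommRingCat.of A)).inv.hom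
  have hφ : φ.FiniteType := hft.comp (RingHom.FiniteType.of_surjective _
    (ConcreteCategory.bijective_of_isIso (Scheme.ΓSpecIso (CommRingCat.of A)).inv).2)
  letI : Algebra A Γ(X, U) := φ.toAlgebra
  haveI : Algebra.FiniteType A Γ(X, U) := hφ
  haveI : IsNoetherianRing Γ(X, U) := Algebra.FiniteType.isNoetherianRing A Γ(X, U)
  haveI : Nontrivial Γ(X, U) := by
    have : Nonempty (PrimeSpectrum Γ(X, U)) := ⟨hU.primeIdealOf ⟨x₀, hx₀U⟩⟩
    exact (PrimeSpectrum.nonempty_iff_nontrivial).mp this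
  have hG : GenCM Γ(X, U) := genCM_of_finiteType_artinian A Γ(X, U)
  have hO : IsOpen (goodCodepth (A := Γ(X, U)) Γ(X, U) 0) := isOpen_codepth Γ(X, U) 0 hG
  obtain ⟨q₀, hq₀⟩ := nonempty_goodCodepth Γ(X, U)
  have hVo : IsOpen (hU.fromSpec '' (goodCodepth (A := Γ(X, U)) Γ(X, U) 0)) :=
    hU.fromSpec.isOpenEmbedding.isOpenMap _ hO
  have hVne : (hU.fromSpec '' (goodCodepth (A := Γ(X, U)) Γ(X, U) 0)).Nonempty :=
    ⟨_, q₀, hq₀, rfl⟩
  obtain ⟨x, ⟨q, hq, rfl⟩, hxc⟩ := nonempty_inter_closedPoints hVne hVo.isLocallyClosed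
  refine ⟨hU.fromSpec q, hxc, ?_⟩
  have hxU : hU.fromSpec q ∈ U := Groth.Agent.Lib.Helper1.DepthOpen.fromSpec_mem hU q
  have hqx : hU.primeIdealOf ⟨hU.fromSpec q, hxU⟩ = q :=
    Groth.Agent.Lib.Helper1.DepthOpen.primeIdealOf_fromSpec hU q hxU
  letI alg : Algebra Γ(X, U) (X.presheaf.stalk (hU.fromSpec q)) :=
    TopCat.Presheaf.algebra_section_stalk X.presheaf ⟨hU.fromSpec q, hxU⟩
  haveI loc : IsLocalization.AtPrime (X.presheaf.stalk (hU.fromSpec q)) q.asIdeal := by
    have := hU.isLocalization_stalk ⟨hU.fromSpec q, hxU⟩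
    rwa [hqx] at this
  haveI : IsLocalizedModule q.asIdeal.primeCompl
      (Algebra.linearMap Γ(X, U) (X.presheaf.stalk (hU.fromSpec q))) :=
    (isLocalizedModule_iff_isLocalization' _ _).mpr loc
  have h1 := LocTrans.depth_supportDim_of_isLocalizedModule q.asIdeal
    (X.presheaf.stalk (hU.fromSpec q)) (X.presheaf.stalk (hU.fromSpec q))
    (Algebra.linearMap Γ(X, U) (X.presheaf.stalk (hU.fromSpec q)))
  haveI : IsNoetherianRing (X.presheaf.stalk (hU.fromSpec q)) :=
    IsLocalization.isNoetherianRing q.asIdeal.primeCompl _ inferInstance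
  refine { supportDim_eq_depth := le_antisymm ?_ (depth_le_supportDim) }
  have hq' := (mem_goodCodepth (A := Γ(X, U)) Γ(X, U) 0 q).mp hq
  rw [h1.1, h1.2]
  simpa using hq'

end Groth.Agent.Lib.Helper1.CMClosed
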