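import Mathlib
import Groth.Prelude

/-!
# Graded families of `O_X`-modules with commuting degree-one operators
-/
set_option autoImplicit false
universe u
open CategoryTheory CategoryTheory.Limits AlgebraicGeometry

noncomputable section

namespace Groth.Agent.Lib.Helper1.FFFam

variable {X : Scheme.{u}} {r : ℕ}

/-- a graded family of modules with commuting operators of degree one. -/
structure GrFam (X : Scheme.{u}) (r : ℕ) where
  G : ℕ → X.Modules
  t : Fin r → ∀ n, G n ⟶ G (n + 1)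
  comm : ∀ i j n, t i n ≫ t j (n + 1) = t j n ≫ t i (n + 1)

namespace GrFam

variable (F : GrFam X r)

/-- the direct sum of `ι` copies of `G n`. -/
abbrev S (n : ℕ) : X.Modules := ⨁ fun _ : Fin r => F.G n

/-- the sum of the operators. -/
def φ (n : ℕ) : F.S n ⟶ F.G (n + 1) := biproduct.desc (fun i => F.t i n)

/-- the operators on the direct sums. -/
def T (i : Fin r) (n : ℕ) : F.S n ⟶ F.S (n + 1) := biproduct.map (fun _ => F.t i n)

/-- the inclusions of the summands. -/
def inc (n : ℕ) (j : Fin r) : F.G n ⟶ F.S n := biproduct.ι (fun _ : Fin r => F.G n) j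

/-- the projections to the summands. -/
def pr (n : ℕ) (j : Fin r) : F.S n ⟶ F.G n := biproduct.π (fun _ : Fin r => F.G n) j

@[reassoc]
lemma inc_φ (n : ℕ) (j : Fin r) : F.inc n j ≫ F.φ n = F.t j n := by
  simp [inc, φ]

@[reassoc]
lemma inc_T (i : Fin r) (n : ℕ) (j : Fin r) : F.inc n j ≫ F.T i n = F.t i n ≫ F.inc (n + 1) j := by
  simp [inc, T]

lemma total (n : ℕ) : ∑ j, F.pr n j ≫ F.inc n j = 𝟙 (F.S n) := biproduct.total

@[reassoc]
lemma T_φ (i : Fin r) (n : ℕ) : F.T i n ≫ F.φ (n + 1) = F.φ n ≫ F.t i (n + 1) := by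
  apply biproduct.hom_ext'
  intro j
  change F.inc n j ≫ _ = F.inc n j ≫ _
  rw [inc_T_assoc, inc_φ, inc_φ_assoc, F.comm]

lemma T_comm (i j : Fin r) (n : ℕ) : F.T i n ≫ F.T j (n + 1) = F.T j n ≫ F.T i (n + 1) := by
  apply biproduct.hom_ext'
  intro k
  change F.inc n k ≫ _ = F.inc n k ≫ _
  rw [inc_T_assoc, inc_T, inc_T_assoc, inc_T, ← Category.assoc, ← Category.assoc, F.comm]

lemma φ_inc (n : ℕ) (j : Fin r) :
    F.φ n ≫ F.inc (n + 1) j = ∑ i, (F.pr n i ≫ F.inc n j) ≫ F.T i n := by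
  have h : F.φ n ≫ F.inc (n + 1) j = (∑ i, F.pr n i ≫ F.inc n i) ≫ F.φ n ≫ F.inc (n + 1) j := by
    rw [F.total, Category.id_comp]
  rw [h, Preadditive.sum_comp]
  refine Finset.sum_congr rfl fun i _ => ?_
  rw [Category.assoc, Category.assoc, inc_φ_assoc, inc_T]

/-- the family of kernels of `φ`. -/
def ker : GrFam X r where
  G n := kernel (F.φ n)
  t i n := kernel.map (F.φ n) (F.φ (n + 1)) (F.T i n) (F.t i (n + 1)) (F.T_φ i n).symm
  comm i j n := by
    rw [← cancel_mono (kernel.ι (F.φ (n + 1 + 1)))]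
    simp only [Category.assoc, kernel.lift_ι, kernel.lift_ι_assoc, kernel.map]
    rw [F.T_comm]

/-- the inclusion of the kernel family. -/
def kι (n : ℕ) : F.ker.G n ⟶ F.S n := kernel.ι (F.φ n)

instance (n : ℕ) : Mono (F.kι n) := (inferInstance : Mono (kernel.ι (F.φ n)))

@[reassoc]
lemma kι_φ (n : ℕ) : F.kι n ≫ F.φ n = 0 := kernel.condition _

@[reassoc]
lemma ker_t_kι (i : Fin r) (n : ℕ) : F.ker.t i n ≫ F.kι (n + 1) = F.kι n ≫ F.T i n := by
  simp [ker, kι, kernel.map]

/-- the factorisation of the operator of the kernel family through the direct sum. -/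
def h (i : Fin r) (n : ℕ) : F.S n ⟶ F.ker.G (n + 1) :=
  kernel.lift (F.φ (n + 1)) (F.T i n - F.φ n ≫ F.inc (n + 1) i) (by
    rw [Preadditive.sub_comp, F.T_φ, Category.assoc, F.inc_φ, sub_self])

lemma kι_h (i : Fin r) (n : ℕ) : F.kι n ≫ F.h i n = F.ker.t i n := by
  rw [← cancel_mono (F.kι (n + 1)), Category.assoc, F.ker_t_kι]
  change F.kι n ≫ kernel.lift _ _ _ ≫ kernel.ι _ = _
  rw [kernel.lift_ι, Preadditive.comp_sub, F.kι_φ_assoc, zero_comp, sub_zero]

/-- the short complex `K_n → S_n → G_{n+1}`. -/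
def sc (n : ℕ) : ShortComplex X.Modules := ShortComplex.mk (F.kι n) (F.φ n) (F.kι_φ n)

lemma sc_exact (n : ℕ) : (F.sc n).Exact := ShortComplex.exact_kernel (F.φ n)

lemma sc_shortExact (n : ℕ) [Epi (F.φ n)] : (F.sc n).ShortExact where
  exact := F.sc_exact n
  mono_f := by change Mono (F.kι n); infer_instance
  epi_g := by change Epi (F.φ n); infer_instance

/-- all members coherent. -/
def IsCohFam : Prop := ∀ n, Coh.IsCoh (F.G n)

/-- generated in bounded degree. -/
def IsFG : Prop := ∃ d, ∀ n, d ≤ n → Epi (F.φ n)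

end GrFam

end Groth.Agent.Lib.Helper1.FFFam
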