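import Mathlib

/-!
# Graded stabilisation lemma (Artin–Rees style) for families of finite modules with commuting
degree-one operators.
-/
set_option autoImplicit false
universe u
open DirectSum

namespace Groth.Agent.Lib.Helper1.FFGraded

section Defs
variable {R : Type u} [CommRing R] {r : ℕ} (H : ℕ → Type u) [∀ n, AddCommGroup (H n)]
  [∀ n, Module R (H n)] (t : Fin r → ∀ n, H n →ₗ[R] H (n + 1))

/-- the degree-one operator on the direct sum. -/
noncomputable def Top (i : Fin r) : Module.End R (⨁ n, H n) :=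
  DirectSum.toModule R ℕ (⨁ n, H n) (fun n => (DirectSum.lof R ℕ H (n + 1)).comp (t i n))

lemma Top_lof (i : Fin r) (n : ℕ) (x : H n) :
    Top H t i (DirectSum.lof R ℕ H n x) = DirectSum.lof R ℕ H (n + 1) (t i n x) := by
  simp [Top]

lemma component_Top (i : Fin r) (n : ℕ) (x : ⨁ n, H n) :
    DirectSum.component R ℕ H (n + 1) (Top H t i x) =
      t i n (DirectSum.component R ℕ H n x) := by
  have : (DirectSum.component R ℕ H (n + 1)).comp (Top H t i) =
      (t i n).comp (DirectSum.component R ℕ H n) := by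
    apply DirectSum.linearMap_ext; intro m; ext y
    simp only [LinearMap.coe_comp, Function.comp_apply, Top_lof]
    rcases eq_or_ne m n with rfl | h
    · rw [DirectSum.component.lof_self, DirectSum.component.lof_self]
    · rw [DirectSum.component.of, DirectSum.component.of, dif_neg (by omega), dif_neg h, map_zero]
  exact LinearMap.congr_fun this x

lemma component_Top_zero (i : Fin r) (x : ⨁ n, H n) :
    DirectSum.component R ℕ H 0 (Top H t i x) = 0 := by
  have : (DirectSum.component R ℕ H 0).comp (Top H t i) = 0 := by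
    apply DirectSum.linearMap_ext; intro m; ext y
    simp only [LinearMap.coe_comp, Function.comp_apply, Top_lof, LinearMap.zero_comp,
      LinearMap.zero_apply]
    rw [DirectSum.component.of, dif_neg (by omega)]
  exact LinearMap.congr_fun this x

lemma Top_comm (hcomm : ∀ i j n x, t j (n + 1) (t i n x) = t i (n + 1) (t j n x)) (i j : Fin r) :
    Top H t i * Top H t j = Top H t j * Top H t i := by
  apply DirectSum.linearMap_ext; intro n; ext x
  simp only [LinearMap.coe_comp, Function.comp_apply, Module.End.mul_apply, Top_lof, hcomm]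

end Defs

section Main
variable {R : Type u} [CommRing R] [IsNoetherianRing R] {r : ℕ} (H : ℕ → Type u)
  [∀ n, AddCommGroup (H n)] [∀ n, Module R (H n)] [∀ n, Module.Finite R (H n)]
  (t : Fin r → ∀ n, H n →ₗ[R] H (n + 1))

/-- the submodule of the direct sum cut out by componentwise conditions. -/
def bigR (V : ∀ n, Submodule R (H n)) : Submodule R (⨁ n, H n) :=
  ⨅ n, (V n).comap (DirectSum.component R ℕ H n)

lemma mem_bigR (V : ∀ n, Submodule R (H n)) (x : ⨁ n, H n) :
    x ∈ bigR H V ↔ ∀ n, DirectSum.component R ℕ H n x ∈ V n := by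
  simp [bigR, Submodule.mem_iInf]

lemma Top_mem_bigR (V : ∀ n, Submodule R (H n)) (hV : ∀ i n x, x ∈ V n → t i n x ∈ V (n + 1))
    (i : Fin r) (x : ⨁ n, H n) (hx : x ∈ bigR H V) : Top H t i x ∈ bigR H V := by
  rw [mem_bigR] at hx ⊢
  intro n
  cases n with
  | zero => rw [component_Top_zero]; exact (V 0).zero_mem
  | succ n => rw [component_Top]; exact hV i n _ (hx n)

theorem graded_stable_zero
    (hcomm : ∀ i j n x, t j (n + 1) (t i n x) = t i (n + 1) (t j n x))
    (hfg : ∀ n, ∀ y : H (n + 1), y ∈ ⨆ i, LinearMap.range (t i n))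
    (Z : ∀ n, Submodule R (H n)) (hZ : ∀ i n x, x ∈ Z n → t i n x ∈ Z (n + 1)) :
    ∃ d, ∀ n, d ≤ n → ∀ z ∈ Z (n + 1), z ∈ ⨆ i, Submodule.map (t i n) (Z n) := by
  classical
  let T : Fin r → Module.End R (⨁ n, H n) := Top H t
  let s : Set (Module.End R (⨁ n, H n)) := Set.range T
  have hs : ∀ a ∈ s, ∀ b ∈ s, a * b = b * a := by
    rintro _ ⟨i, rfl⟩ _ ⟨j, rfl⟩; exact Top_comm H t hcomm i j
  letI : CommRing (Algebra.adjoin R s) := Algebra.adjoinCommRingOfComm R hs
  let τ : Fin r → Algebra.adjoin R s := fun i => ⟨T i, Algebra.subset_adjoin ⟨i, rfl⟩⟩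
  let ρ : MvPolynomial (Fin r) R →+* Module.End R (⨁ n, H n) :=
    (Algebra.adjoin R s).val.toRingHom.comp (MvPolynomial.aeval τ).toRingHom
  letI : Module (MvPolynomial (Fin r) R) (⨁ n, H n) := Module.compHom (⨁ n, H n) ρ
  have hX : ∀ i (x : ⨁ n, H n), (MvPolynomial.X i : MvPolynomial (Fin r) R) • x = T i x := by
    intro i x
    change ρ (MvPolynomial.X i) x = _
    simp [ρ, τ]
  have hC : ∀ (c : R) (x : ⨁ n, H n), (MvPolynomial.C c : MvPolynomial (Fin r) R) • x = c • x := by
    intro c x
    change ρ (MvPolynomial.C c) x = _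
    simp [ρ]
  -- closure under polynomial scalars
  have hsm : ∀ (V : Submodule R (⨁ n, H n)), (∀ i x, x ∈ V → T i x ∈ V) →
      ∀ (p : MvPolynomial (Fin r) R) x, x ∈ V → p • x ∈ V := by
    intro V hV p
    induction p using MvPolynomial.induction_on with
    | C a => intro x hx; rw [hC]; exact V.smul_mem a hx
    | add p q hp hq => intro x hx; rw [add_smul]; exact V.add_mem (hp x hx) (hq x hx)
    | mul_X p i hp => intro x hx; rw [mul_smul, hX]; exact hp _ (hV i x hx)
  let mkP : ∀ (V : Submodule R (⨁ n, H n)), (∀ i x, x ∈ V → T i x ∈ V) →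
      Submodule (MvPolynomial (Fin r) R) (⨁ n, H n) := fun V hV =>
    { carrier := V, add_mem' := V.add_mem, zero_mem' := V.zero_mem,
      smul_mem' := fun p x hx => hsm V hV p x hx }
  -- finite generation
  obtain ⟨s0, hs0⟩ := (Module.Finite.fg_top : (⊤ : Submodule R (H 0)).FG)
  let SS : Submodule (MvPolynomial (Fin r) R) (⨁ n, H n) :=
    Submodule.span _ ((DirectSum.lof R ℕ H 0) '' (s0 : Set (H 0)))
  let SSR : Submodule R (⨁ n, H n) :=
    { carrier := SS, add_mem' := SS.add_mem, zero_mem' := SS.zero_mem,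
      smul_mem' := fun c x hx => by rw [← hC]; exact SS.smul_mem _ hx }
  have h0 : ∀ y : H 0, DirectSum.lof R ℕ H 0 y ∈ SS := by
    intro y
    have h1 : Submodule.span R (s0 : Set (H 0)) ≤ SSR.comap (DirectSum.lof R ℕ H 0) := by
      rw [Submodule.span_le]
      intro y hy
      exact Submodule.subset_span ⟨y, hy, rfl⟩
    have : y ∈ Submodule.span R (s0 : Set (H 0)) := by rw [hs0]; trivial
    exact h1 this
  have hn : ∀ n, ∀ y : H n, DirectSum.lof R ℕ H n y ∈ SS := by
    intro n
    induction n with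
    | zero => exact h0
    | succ n ih =>
      intro y
      refine Submodule.iSup_induction _ (motive := fun y => DirectSum.lof R ℕ H (n + 1) y ∈ SS)
        (hfg n y) ?_ ?_ ?_
      · rintro i _ ⟨x, rfl⟩
        rw [← Top_lof, ← hX]
        exact SS.smul_mem _ (ih x)
      · rw [map_zero]; exact SS.zero_mem
      · intro a b ha hb; rw [map_add]; exact SS.add_mem ha hb
  have hall : ∀ x : ⨁ n, H n, x ∈ SS := by
    intro x
    induction x using DirectSum.induction_on with
    | zero => exact SS.zero_mem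
    | of n y => exact hn n y
    | add a b ha hb => exact SS.add_mem ha hb
  have htop : SS = ⊤ := eq_top_iff.mpr fun x _ => hall x
  haveI : Module.Finite (MvPolynomial (Fin r) R) (⨁ n, H n) :=
    ⟨⟨s0.image (DirectSum.lof R ℕ H 0), by rw [Finset.coe_image]; exact htop⟩⟩
  haveI : IsNoetherian (MvPolynomial (Fin r) R) (⨁ n, H n) :=
    isNoetherian_of_isNoetherianRing_of_finite _ _
  -- the big submodule Z
  let ZZ : Submodule (MvPolynomial (Fin r) R) (⨁ n, H n) :=
    mkP (bigR H Z) (fun i x hx => Top_mem_bigR H t Z hZ i x hx)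
  obtain ⟨S, hS⟩ := IsNoetherian.noetherian ZZ
  let e : ℕ := S.sup fun x => (DFinsupp.support x).sup id
  have he : ∀ x ∈ S, ∀ n, e < n → DirectSum.component R ℕ H n x = 0 := by
    intro x hx n hn
    by_contra hne
    have h1 : n ∈ DFinsupp.support x := DFinsupp.mem_support_iff.mpr hne
    have h2 : n ≤ (DFinsupp.support x).sup id := Finset.le_sup (f := id) h1
    have h3 : (DFinsupp.support x).sup id ≤ e :=
      Finset.le_sup (f := fun x => (DFinsupp.support x).sup id) hx
    omega
  -- the submodule W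
  let Y : ∀ n, Submodule R (H (n + 1)) := fun n => ⨆ i, Submodule.map (t i n) (Z n)
  have hYZ : ∀ n, Y n ≤ Z (n + 1) := by
    intro n
    refine iSup_le fun i => ?_
    rintro _ ⟨x, hx, rfl⟩
    exact hZ i n x hx
  let V : ∀ n, Submodule R (H n) := fun n =>
    match n with
    | 0 => Z 0
    | (n + 1) => if e ≤ n then Y n else Z (n + 1)
  have hVZ : ∀ n, V n ≤ Z n := by
    intro n
    cases n with
    | zero => exact le_rfl
    | succ n =>
      change (if e ≤ n then Y n else Z (n + 1)) ≤ Z (n + 1)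
      split_ifs
      · exact hYZ n
      · exact le_rfl
  have hV : ∀ i n x, x ∈ V n → t i n x ∈ V (n + 1) := by
    intro i n x hx
    have hxz := hVZ n hx
    change t i n x ∈ (if e ≤ n then Y n else Z (n + 1))
    split_ifs
    · exact Submodule.mem_iSup_of_mem i ⟨x, hxz, rfl⟩
    · exact hZ i n x hxz
  let WW : Submodule (MvPolynomial (Fin r) R) (⨁ n, H n) :=
    mkP (bigR H V) (fun i x hx => Top_mem_bigR H t V hV i x hx)
  have hSW : (S : Set (⨁ n, H n)) ⊆ WW := by
    intro x hx
    have hxZ : x ∈ ZZ := by rw [← hS]; exact Submodule.subset_span hx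
    change x ∈ bigR H V
    have hxZ' : x ∈ bigR H Z := hxZ
    rw [mem_bigR] at hxZ' ⊢
    intro n
    cases n with
    | zero => exact hxZ' 0
    | succ n =>
      change _ ∈ (if e ≤ n then Y n else Z (n + 1))
      split_ifs with h
      · rw [he x hx (n + 1) (by omega)]; exact (Y n).zero_mem
      · exact hxZ' (n + 1)
  have hZW : ZZ ≤ WW := by
    rw [← hS]; exact Submodule.span_le.mpr hSW
  refine ⟨e, fun n hn z hz => ?_⟩
  have h1 : DirectSum.lof R ℕ H (n + 1) z ∈ ZZ := by
    change _ ∈ bigR H Z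
    rw [mem_bigR]
    intro m
    rcases eq_or_ne (n + 1) m with rfl | h
    · rw [DirectSum.component.lof_self]; exact hz
    · rw [DirectSum.component.of, dif_neg h]; exact (Z m).zero_mem
  have h2 : DirectSum.lof R ℕ H (n + 1) z ∈ bigR H V := hZW h1
  rw [mem_bigR] at h2
  have h3 := h2 (n + 1)
  rw [DirectSum.component.lof_self] at h3
  change z ∈ (if e ≤ n then Y n else Z (n + 1)) at h3
  rw [if_pos hn] at h3
  exact h3

theorem graded_stable
    (hcomm : ∀ i j n x, t j (n + 1) (t i n x) = t i (n + 1) (t j n x)) (d₀ : ℕ)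
    (hfg : ∀ n, d₀ ≤ n → ∀ y : H (n + 1), y ∈ ⨆ i, LinearMap.range (t i n))
    (Z : ∀ n, Submodule R (H n)) (hZ : ∀ i n x, x ∈ Z n → t i n x ∈ Z (n + 1)) :
    ∃ d, ∀ n, d ≤ n → ∀ z ∈ Z (n + 1), z ∈ ⨆ i, Submodule.map (t i n) (Z n) := by
  obtain ⟨d, hd⟩ := graded_stable_zero (fun n => H (d₀ + n)) (fun i n => t i (d₀ + n))
    (fun i j n x => hcomm i j (d₀ + n) x) (fun n y => hfg (d₀ + n) (by omega) y)
    (fun n => Z (d₀ + n)) (fun i n x hx => hZ i (d₀ + n) x hx)
  refine ⟨d₀ + d, fun n hn z hz => ?_⟩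
  obtain ⟨m, rfl⟩ := Nat.exists_eq_add_of_le (show d₀ ≤ n by omega)
  exact hd m (by omega) z hz

end Main

end Groth.Agent.Lib.Helper1.FFGraded
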