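import Groth.Agent.Lib.Helper23.T2N
import Groth.Agent.Lib.Helper3.QCExact
import Groth.Agent.Lib.Helper3.QCProps
import Groth.Agent.Lib.Helper3.QCLim
import Groth.Agent.Lib.Helper13.SerreCrit2
import Groth.Agent.Lib.Helper1.FFFam
import Groth.Agent.Lib.Helper1.FFGraded

/-!
# Coherence and cohomology of graded families
-/
set_option autoImplicit false
universe u
open CategoryTheory CategoryTheory.Limits AlgebraicGeometry
open Groth.Agent.Lib.Helper23.T2 Groth.Agent.Lib.Helper13.SerreCrit1 Groth.Agent.Lib.Helper3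

noncomputable section

namespace Groth.Agent.Lib.Helper1.FFCoh

open FFFam

variable {X : Scheme.{u}}

lemma Hmap_add {M N : X.Modules} (φ ψ : M ⟶ N) (n : ℕ) (x : Coh.HH X M n) :
    Hmap (φ + ψ) n x = Hmap φ n x + Hmap ψ n x := by
  rw [Hmap_apply, Hmap_apply, Hmap_apply, (TT X).map_add, Sheaf.H.map_add_apply]

lemma Hmap_sum {M N : X.Modules} {κ : Type*} (s : Finset κ) (φ : κ → (M ⟶ N)) (n : ℕ)
    (x : Coh.HH X M n) : Hmap (∑ k ∈ s, φ k) n x = ∑ k ∈ s, Hmap (φ k) n x := by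
  classical
  induction s using Finset.induction_on with
  | empty => simp only [Finset.sum_empty]; exact Hmap_zero n x
  | insert a s ha ih => rw [Finset.sum_insert ha, Finset.sum_insert ha, Hmap_add, ih]

lemma isQuasicoherent_biproduct {r : ℕ} (f : Fin r → X.Modules)
    (h : ∀ i, (f i).IsQuasicoherent) :
    SheafOfModules.IsQuasicoherent (R := X.ringCatSheaf) (⨁ f : X.Modules) := by
  have h1 : SheafOfModules.IsQuasicoherent (R := X.ringCatSheaf) (∏ᶜ f : X.Modules) :=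
    QCLim.isQuasicoherent_limit (Discrete.functor f) (fun k => h k.as)
  exact (SheafOfModules.isQuasicoherent X.ringCatSheaf).prop_of_iso
    (biproduct.isoProduct f).symm h1

lemma isFiniteType_biproduct {r : ℕ} (f : Fin r → X.Modules)
    (h : ∀ i, (f i).IsQuasicoherent) (h' : ∀ i, (f i).IsFiniteType) :
    SheafOfModules.IsFiniteType (R := X.ringCatSheaf) (⨁ f : X.Modules) := by
  haveI := isQuasicoherent_biproduct f h
  rw [QCProps.isFiniteType_iff_finite_sections]
  intro U hU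
  haveI : ∀ i, Module.Finite Γ(X, U) Γ(f i, U) := fun i => QCProps.finite_sections (f i) hU
  let g : (∀ i, Γ(f i, U)) →ₗ[Γ(X, U)] Γ((⨁ f : X.Modules), U) :=
    ∑ i, (QCProps.appₗ (biproduct.ι f i) U).comp (LinearMap.proj i)
  refine Module.Finite.of_surjective g ?_
  intro x
  refine ⟨fun i => (biproduct.π f i).app U x, ?_⟩
  have h1 : (∑ i, biproduct.π f i ≫ biproduct.ι f i).app U x = x := by
    rw [biproduct.total]; rfl
  rw [Groth.Agent.Lib.Helper13.SerreCrit2.sum_app] at h1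
  rw [LinearMap.sum_apply]
  exact h1

lemma isCoh_biproduct {r : ℕ} (f : Fin r → X.Modules) (h : ∀ i, Coh.IsCoh (f i)) :
    Coh.IsCoh (⨁ f : X.Modules) :=
  ⟨isQuasicoherent_biproduct f (fun i => (h i).1),
    isFiniteType_biproduct f (fun i => (h i).1) (fun i => (h i).2)⟩

lemma isCoh_kernel [IsLocallyNoetherian X] {M N : X.Modules} (φ : M ⟶ N) (hM : Coh.IsCoh M)
    (hN : Coh.IsCoh N) : Coh.IsCoh (kernel φ) := by
  haveI := hM.1
  haveI := hM.2
  haveI := hN.1
  haveI hK : (kernel φ : X.Modules).IsQuasicoherent := QCProps.isQuasicoherent_kernel φ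
  exact ⟨hK, QCProps.isFiniteType_of_mono (kernel.ι φ)⟩

variable {r : ℕ} (F : GrFam X r)

lemma isCoh_S (hF : F.IsCohFam) (n : ℕ) : Coh.IsCoh (F.S n) :=
  isCoh_biproduct _ (fun _ => hF n)

lemma isCohFam_ker [IsLocallyNoetherian X] (hF : F.IsCohFam) : F.ker.IsCohFam := fun n =>
  isCoh_kernel (F.φ n) (isCoh_S F hF n) (hF (n + 1))

section Sections

open Groth.Agent.Lib.Helper13.SerreCrit2 (sum_app)

variable (U : X.Opens)

lemma app_comp_apply {M N K : X.Modules} (φ : M ⟶ N) (ψ : N ⟶ K) (x : Γ(M, U)) :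
    (φ ≫ ψ).app U x = ψ.app U (φ.app U x) := rfl

/-- sections of `T i n` as linear maps. -/
def tU (i : Fin r) (n : ℕ) : Γ(F.S n, U) →ₗ[Γ(X, U)] Γ(F.S (n + 1), U) :=
  QCProps.appₗ (F.T i n) U

/-- sections of the kernel family inside sections of the direct sum. -/
def ZU (n : ℕ) : Submodule Γ(X, U) Γ(F.S n, U) := LinearMap.ker (QCProps.appₗ (F.φ n) U)

lemma mem_ZU (n : ℕ) (x : Γ(F.S n, U)) : x ∈ ZU F U n ↔ (F.φ n).app U x = 0 := Iff.rfl

lemma tU_apply (i : Fin r) (n : ℕ) (x : Γ(F.S n, U)) : tU F U i n x = (F.T i n).app U x := rfl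

lemma mem_iSup_range_tU (n : ℕ) (hsurj : Function.Surjective ((F.φ n).app U))
    (y : Γ(F.S (n + 1), U)) : y ∈ ⨆ i, LinearMap.range (tU F U i n) := by
  have h1 : (∑ j, F.pr (n + 1) j ≫ F.inc (n + 1) j).app U y = y := by rw [F.total]; rfl
  rw [sum_app] at h1
  rw [← h1]
  refine Submodule.sum_mem _ fun j _ => ?_
  obtain ⟨w, hw⟩ := hsurj ((F.pr (n + 1) j).app U y)
  rw [app_comp_apply, ← hw, ← app_comp_apply, F.φ_inc, sum_app]
  refine Submodule.sum_mem _ fun i _ => ?_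
  rw [app_comp_apply]
  exact Submodule.mem_iSup_of_mem i ⟨_, rfl⟩

lemma tU_comm (i j : Fin r) (n : ℕ) (x : Γ(F.S n, U)) :
    tU F U j (n + 1) (tU F U i n x) = tU F U i (n + 1) (tU F U j n x) := by
  simp only [tU_apply]
  rw [← app_comp_apply, ← app_comp_apply, F.T_comm]

lemma tU_mem_ZU (i : Fin r) (n : ℕ) (x : Γ(F.S n, U)) (hx : x ∈ ZU F U n) :
    tU F U i n x ∈ ZU F U (n + 1) := by
  rw [mem_ZU] at hx ⊢
  rw [tU_apply, ← app_comp_apply, F.T_φ, app_comp_apply, hx, map_zero]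

lemma surjective_ker_φ_app (n : ℕ)
    (h : ∀ z ∈ ZU F U (n + 1), z ∈ ⨆ i, Submodule.map (tU F U i n) (ZU F U n)) :
    Function.Surjective ((F.ker.φ n).app U) := by
  intro s
  have hz : (F.kι (n + 1)).app U s ∈ ZU F U (n + 1) := by
    rw [mem_ZU, ← app_comp_apply, F.kι_φ]; rfl
  have key : ∃ s' : Γ(F.ker.S n, U),
      (F.kι (n + 1)).app U ((F.ker.φ n).app U s') = (F.kι (n + 1)).app U s := by
    refine Submodule.iSup_induction _ (motive := fun z => ∃ s' : Γ(F.ker.S n, U),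
      (F.kι (n + 1)).app U ((F.ker.φ n).app U s') = z) (h _ hz) ?_ ?_ ?_
    · rintro i _ ⟨zi, hzi, rfl⟩
      haveI : Mono (F.sc n).f := (inferInstance : Mono (F.kι n))
      obtain ⟨k, hk⟩ : ∃ k : Γ(F.ker.G n, U), (F.kι n).app U k = zi :=
        QCExact.exact_sections (F.sc n) (F.sc_exact n) U zi hzi
      refine ⟨(F.ker.inc n i).app U k, ?_⟩
      have e1 : (F.ker.φ n).app U ((F.ker.inc n i).app U k) = (F.ker.t i n).app U k := by
        rw [← app_comp_apply, F.ker.inc_φ]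
      have e2 : (F.kι (n + 1)).app U ((F.ker.t i n).app U k) =
          (F.T i n).app U ((F.kι n).app U k) := by
        rw [← app_comp_apply, F.ker_t_kι, app_comp_apply]
      rw [e1, e2, tU_apply, hk]
    · exact ⟨0, by rw [map_zero, map_zero]⟩
    · rintro a b ⟨sa, ha⟩ ⟨sb, hb⟩
      exact ⟨sa + sb, by rw [map_add, map_add, ha, hb]⟩
  obtain ⟨s', hs'⟩ := key
  exact ⟨s', QCExact.injective_sections (F.kι (n + 1)) U hs'⟩

lemma exists_bound_local [IsLocallyNoetherian X] (hF : F.IsCohFam) (d₀ : ℕ)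
    (hd₀ : ∀ n, d₀ ≤ n → Epi (F.φ n)) {U : X.Opens} (hU : IsAffineOpen U) :
    ∃ e, ∀ n, e ≤ n → Function.Surjective ((F.ker.φ n).app U) := by
  haveI : IsNoetherianRing Γ(X, U) := IsLocallyNoetherian.component_noetherian ⟨U, hU⟩
  haveI : ∀ n, Module.Finite Γ(X, U) Γ(F.S n, U) := fun n => by
    have h := isCoh_S F hF n
    haveI := h.1
    haveI := h.2
    exact QCProps.finite_sections (F.S n) hU
  obtain ⟨e, he⟩ := FFGraded.graded_stable (R := Γ(X, U)) (fun n => Γ(F.S n, U))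
    (fun i n => tU F U i n) (fun i j n x => tU_comm F U i j n x) d₀ (fun n hn y => by
      haveI := hd₀ n hn
      have hK := (isCohFam_ker F hF n).1
      haveI : (F.sc n).X₁.IsQuasicoherent := hK
      exact mem_iSup_range_tU F U n
        (QCExact.surjective_app_of_isAffineOpen (F.sc n) (F.sc_shortExact n) hU) y)
    (fun n => ZU F U n) (fun i n x hx => tU_mem_ZU F U i n x hx)
  exact ⟨e, fun n hn => surjective_ker_φ_app F U n (he n hn)⟩

end Sections

theorem isFG_ker [CompactSpace X] [IsLocallyNoetherian X] (hF : F.IsCohFam) (hFG : F.IsFG) :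
    F.ker.IsFG := by
  obtain ⟨d₀, hd₀⟩ := hFG
  choose U hU hxU using fun x : X => QCProps.exists_affine_nbhd x
  choose e he using fun x : X => exists_bound_local F hF d₀ hd₀ (hU x)
  obtain ⟨t, ht⟩ := CompactSpace.elim_nhds_subcover (fun x => (U x : Set X))
    (fun x => (U x).isOpen.mem_nhds (hxU x))
  refine ⟨t.sup e, fun n hn => ?_⟩
  have hK := (isCohFam_ker F hF (n + 1)).1
  haveI : (F.ker.G (n + 1)).IsQuasicoherent := hK
  apply QCExact.epi_of_surjective_on_affine_cover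
  intro x
  have hx : x ∈ ⋃ y ∈ t, (U y : Set X) := by rw [ht]; trivial
  simp only [Set.mem_iUnion] at hx
  obtain ⟨y, hy, hxy⟩ := hx
  exact ⟨U y, hU y, hxy, he y n ((Finset.le_sup hy).trans hn)⟩

end Groth.Agent.Lib.Helper1.FFCoh
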