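import Mathlib
import Groth.Prelude
import Groth.Agent.Lib.Helper23.T2N
import Groth.Agent.Lib.Helper1.FFCoh
import Groth.Agent.Lib.Helper3.LocFreeCrit
import Groth.Agent.Lib.Helper17.LocConstRank
import Groth.Agent.S1109
import Groth.Agent.S0016

/-!
# Cohomological dimension on regular schemes via the resolution property (S11375, S11376)

Descending induction on the cohomological degree: on a quasi-compact quasi-separated locally Noetherian
scheme with the resolution property, a property of `H^i` that holds for vanishing groups, passes to the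
third term of a short exact sequence `0 → K → E → F → 0` from `H^i(E)` and `H^{i+1}(K)`, and holds for
finite locally free modules in degrees `> r`, holds for every coherent module in degrees `> r`.
-/

set_option autoImplicit false

universe u

open CategoryTheory CategoryTheory.Limits AlgebraicGeometry

namespace Groth.Agent.Lib.Helper1.CohDimReg

open Groth.Agent.Lib.Helper23.T2

variable {S : Scheme.{u}}

lemma isCoh_of_isFinLocFree {G : S.Modules} (hG : FlatMod.IsFinLocFree G) : Coh.IsCoh G := by
  haveI := Groth.Agent.Lib.Helper3.LocFreeCrit.isQuasicoherent_of_isFinLocFree hG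
  exact ⟨inferInstance, Groth.Agent.Lib.Helper17.LocConstRank.isFiniteType_of_isFinLocFree G hG⟩

theorem induction_principle [IsLocallyNoetherian S] [CompactSpace S] [QuasiSeparatedSpace S]
    (hres : PerfAux.HasResolutionProperty S)
    (P : S.Modules → ℕ → Prop)
    (hzero : ∀ (M : S.Modules) (i : ℕ), Subsingleton (Coh.HH S M i) → P M i)
    (hext : ∀ (T : ShortComplex S.Modules) (_ : T.ShortExact) (i : ℕ),
      P T.X₂ i → P T.X₁ (i + 1) → P T.X₃ i)
    (r : ℕ) (hlf : ∀ E : S.Modules, FlatMod.IsFinLocFree E → ∀ i : ℕ, r < i → P E i)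
    (F : S.Modules) (hF : Coh.IsCoh F) (i : ℕ) (hi : r < i) : P F i := by
  obtain ⟨d, hd⟩ := Groth.Agent.S0016.result S
  have key : ∀ j : ℕ, ∀ (F : S.Modules), Coh.IsCoh F → ∀ i : ℕ, r < i → d ≤ i + j → P F i := by
    intro j
    induction j with
    | zero =>
      intro F hF i _ hdi
      exact hzero F i (hd F hF.1 i (by omega))
    | succ j ih =>
      intro F hF i hi hdi
      obtain ⟨E, π, hE, hπ⟩ := hres F hF.1 hF.2
      have hEc : Coh.IsCoh E := isCoh_of_isFinLocFree hE
      have hK : Coh.IsCoh (kernel π) := Groth.Agent.Lib.Helper1.FFCoh.isCoh_kernel π hEc hF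
      let T : ShortComplex S.Modules := ShortComplex.mk (kernel.ι π) π (kernel.condition π)
      have hT : T.ShortExact := by
        haveI : Mono T.f := by dsimp [T]; infer_instance
        haveI : Epi T.g := hπ
        exact ShortComplex.ShortExact.mk' (ShortComplex.exact_of_f_is_kernel T (kernelIsKernel π))
          inferInstance inferInstance
      exact hext T hT i (hlf E hE i hi) (ih (kernel π) hK (i + 1) (by omega) (by omega))
  exact key d F hF i hi (by omega)

section Sep

lemma isAffineOpen_inf (k : Type u) [Field k] (S : Scheme.{u}) [S.Over (Spec (CommRingCat.of k))]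
    [IsSeparated (S ↘ (Spec (CommRingCat.of k)))]
    (U V : S.Opens) (hU : IsAffineOpen U) (hV : IsAffineOpen V) :
    IsAffineOpen (U ⊓ V) := by
  have h : IsAffineHom (pullback.diagonal (S ↘ Spec (CommRingCat.of k))) := inferInstance
  exact isAffineHom_diagonal_iff.mp h ⊤ (isAffineOpen_top _) U (by simp) V (by simp) hU hV

lemma compactSpace (k : Type u) [Field k] (S : Scheme.{u}) [S.Over (Spec (CommRingCat.of k))]
    [QuasiCompact (S ↘ (Spec (CommRingCat.of k)))] : CompactSpace S :=
  QuasiCompact.compactSpace_of_compactSpace (S ↘ Spec (CommRingCat.of k))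

lemma isLocallyNoetherian (k : Type u) [Field k] (S : Scheme.{u}) [S.Over (Spec (CommRingCat.of k))]
    [LocallyOfFiniteType (S ↘ (Spec (CommRingCat.of k)))] : IsLocallyNoetherian S :=
  LocallyOfFiniteType.isLocallyNoetherian (S ↘ Spec (CommRingCat.of k))

lemma quasiSeparatedSpace (k : Type u) [Field k] (S : Scheme.{u}) [S.Over (Spec (CommRingCat.of k))]
    [IsSeparated (S ↘ (Spec (CommRingCat.of k)))] : QuasiSeparatedSpace S :=
  quasiSeparatedSpace_of_quasiSeparated (S ↘ Spec (CommRingCat.of k))

theorem vanishing (k : Type u) [Field k] (S : Scheme.{u}) [S.Over (Spec (CommRingCat.of k))]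
    [IsSeparated (S ↘ (Spec (CommRingCat.of k)))]
    [LocallyOfFiniteType (S ↘ (Spec (CommRingCat.of k)))] [QuasiCompact (S ↘ (Spec (CommRingCat.of k)))]
    (hreg : ∀ x : S, IsRegularLocalRing (S.presheaf.stalk x)) (r : ℕ)
    (hlf : ∀ E : S.Modules, FlatMod.IsFinLocFree E → ∀ i : ℕ, r < i → Subsingleton (Coh.HH S E i))
    (F : S.Modules) (hF : Coh.IsCoh F) (i : ℕ) (hi : r < i) :
    Subsingleton (Coh.HH S F i) := by
  haveI := compactSpace k S
  haveI := isLocallyNoetherian k S
  haveI := quasiSeparatedSpace k S
  have hres : PerfAux.HasResolutionProperty S :=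
    Groth.Agent.S1109.result S hreg (isAffineOpen_inf k S)
  refine induction_principle hres (fun M i => Subsingleton (Coh.HH S M i)) (fun _ _ h => h)
    ?_ r hlf F hF i hi
  intro T hT i h2 h1
  have hex := exact_g_δ k T hT i
  refine ⟨fun a b => ?_⟩
  have ha : HδA k T hT i a = 0 := Subsingleton.elim _ _
  have hb : HδA k T hT i b = 0 := Subsingleton.elim _ _
  obtain ⟨a', rfl⟩ := (hex a).mp ha
  obtain ⟨b', rfl⟩ := (hex b).mp hb
  rw [Subsingleton.elim a' b']

theorem finiteness (k : Type u) [Field k] (S : Scheme.{u}) [S.Over (Spec (CommRingCat.of k))]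
    [IsSeparated (S ↘ (Spec (CommRingCat.of k)))]
    [LocallyOfFiniteType (S ↘ (Spec (CommRingCat.of k)))] [QuasiCompact (S ↘ (Spec (CommRingCat.of k)))]
    (hreg : ∀ x : S, IsRegularLocalRing (S.presheaf.stalk x)) (r : ℕ)
    (hlf : ∀ E : S.Modules, FlatMod.IsFinLocFree E → ∀ i : ℕ, r < i → Module.Finite k (Coh.HH S E i))
    (F : S.Modules) (hF : Coh.IsCoh F) (i : ℕ) (hi : r < i) :
    Module.Finite k (Coh.HH S F i) := by
  haveI := compactSpace k S
  haveI := isLocallyNoetherian k S
  haveI := quasiSeparatedSpace k S
  have hres : PerfAux.HasResolutionProperty S :=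
    Groth.Agent.S1109.result S hreg (isAffineOpen_inf k S)
  refine induction_principle hres (fun M i => Module.Finite k (Coh.HH S M i))
    (fun M i h => ?_) ?_ r hlf F hF i hi
  · haveI := h
    haveI : Finite (Coh.HH S M i) := Finite.of_subsingleton
    exact Module.Finite.of_finite
  · intro T hT i h2 h1
    have hex := exact_g_δ k T hT i
    haveI := h2
    haveI := h1
    -- kernel of δ = range of H^i(g) is finite; the image of δ is finite
    haveI : Module.Finite k (LinearMap.range (HmapA k T.g i)) := inferInstance
    haveI : Module.Finite k (LinearMap.ker (HδA k T hT i)) := by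
      rw [LinearMap.exact_iff.mp hex]; infer_instance
    haveI : Module.Finite k (LinearMap.range (HδA k T hT i)) := inferInstance
    haveI : Module.Finite k (Coh.HH S T.X₃ i ⧸ LinearMap.ker (HδA k T hT i)) :=
      Module.Finite.equiv (HδA k T hT i).quotKerEquivRange.symm
    exact Module.Finite.of_submodule_quotient (LinearMap.ker (HδA k T hT i))

end Sep

end Groth.Agent.Lib.Helper1.CohDimReg
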