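import Mathlib
import Groth.Agent.Lib.Helper3.QCExact
import Groth.Agent.Lib.Helper3.QCProps
import Groth.Agent.Lib.Helper3.QCSec

/-!
# Ascending chain condition for quasi-coherent subobjects of a coherent module
on a Noetherian scheme.
-/

namespace Groth.Agent.Lib.Helper1.CohSubWF

open AlgebraicGeometry CategoryTheory CategoryTheory.Limits
open Groth.Agent.Lib.Helper3

universe u

variable {X : Scheme.{u}}

/-- the range of the sections of a morphism, as a submodule. -/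
def secRange {S M : X.Modules} (ι : S ⟶ M) (U : X.Opens) : Submodule Γ(X, U) Γ(M, U) where
  carrier := Set.range (ι.app U)
  add_mem' := by
    rintro _ _ ⟨a, rfl⟩ ⟨b, rfl⟩
    exact ⟨a + b, map_add _ _ _⟩
  zero_mem' := ⟨0, map_zero _⟩
  smul_mem' := by
    rintro r _ ⟨a, rfl⟩
    exact ⟨r • a, Scheme.Modules.Hom.app_smul ι r a⟩

theorem mem_secRange {S M : X.Modules} (ι : S ⟶ M) (U : X.Opens) (m : Γ(M, U)) :
    m ∈ secRange ι U ↔ ∃ s, ι.app U s = m := Iff.rfl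

theorem secRange_le_of_fac {S S' M : X.Modules} (ι : S ⟶ M) (ι' : S' ⟶ M) (f : S ⟶ S')
    (hf : f ≫ ι' = ι) (U : X.Opens) : secRange ι U ≤ secRange ι' U := by
  rintro _ ⟨a, rfl⟩
  refine ⟨f.app U a, ?_⟩
  rw [← hf]
  rfl

/-- If the section ranges agree on an affine cover, the comparison map is an isomorphism. -/
theorem isIso_of_secRange_eq {S S' M : X.Modules} (ι : S ⟶ M) (ι' : S' ⟶ M) [Mono ι] [Mono ι']
    [S'.IsQuasicoherent] (f : S ⟶ S') (hf : f ≫ ι' = ι)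
    (h : ∀ x : X, ∃ (U : X.Opens) (_ : IsAffineOpen U), x ∈ U ∧ secRange ι' U ≤ secRange ι U) :
    IsIso f := by
  haveI : Mono f := by
    have : Mono (f ≫ ι') := by rw [hf]; infer_instance
    exact mono_of_mono f ι'
  haveI : Epi f := by
    apply QCExact.epi_of_surjective_on_affine_cover
    intro x
    obtain ⟨U, hU, hxU, hle⟩ := h x
    refine ⟨U, hU, hxU, ?_⟩
    intro t
    obtain ⟨s, hs⟩ := hle ⟨t, rfl⟩
    refine ⟨s, ?_⟩
    apply QCExact.injective_sections ι' U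
    rw [← hs, ← hf]
    rfl
  exact isIso_of_mono_of_epi f

theorem piWF {ι : Type*} [Finite ι] (α : ι → Type*) [∀ i, Preorder (α i)]
    [∀ i, WellFoundedGT (α i)] : WellFoundedGT (∀ i, α i) := by
  have h := @Pi.wellFoundedLT ι (fun i => (α i)ᵒᵈ) _ _ (fun i => inferInstance)
  exact ⟨h.wf⟩

/-- **Maximal quasi-coherent subobjects**: on a Noetherian scheme, among the quasi-coherent
subobjects of a coherent module satisfying a property `Q` there is a maximal one. -/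
theorem exists_maximal [IsNoetherian X] (M : X.Modules) [M.IsQuasicoherent] [M.IsFiniteType]
    (Q : ∀ (S : X.Modules), (S ⟶ M) → Prop)
    (h0 : ∃ (S : X.Modules) (ι : S ⟶ M), Mono ι ∧ S.IsQuasicoherent ∧ Q S ι) :
    ∃ (S : X.Modules) (ι : S ⟶ M), Mono ι ∧ S.IsQuasicoherent ∧ Q S ι ∧
      ∀ (S' : X.Modules) (ι' : S' ⟶ M) (f : S ⟶ S'), Mono ι' → S'.IsQuasicoherent → Q S' ι' →
        f ≫ ι' = ι → IsIso f := by
  obtain ⟨ι₀, hfin, U, hUa, -, hcov⟩ := QCSec.exists_finite_affine_cover (X := X) ⊤ isCompact_univ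
  haveI : ∀ i, IsNoetherian Γ(X, U i) Γ(M, U i) := fun i => by
    haveI : IsNoetherianRing Γ(X, U i) := IsLocallyNoetherian.component_noetherian ⟨U i, hUa i⟩
    haveI := QCProps.finite_sections M (hUa i)
    exact isNoetherian_of_isNoetherianRing_of_finite _ _
  haveI : ∀ i, WellFoundedGT (Submodule Γ(X, U i) Γ(M, U i)) := fun i => isNoetherian_iff'.mp
    inferInstance
  haveI := piWF (fun i => Submodule Γ(X, U i) Γ(M, U i))
  let T := {p : Σ S : X.Modules, (S ⟶ M) // Mono p.2 ∧ p.1.IsQuasicoherent ∧ Q p.1 p.2}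
  let Ψ : T → ∀ i, Submodule Γ(X, U i) Γ(M, U i) := fun p i => secRange p.1.2 (U i)
  obtain ⟨S₀, ι₀', h1, h2, h3⟩ := h0
  have hne : (Set.range Ψ).Nonempty := ⟨_, ⟨⟨⟨S₀, ι₀'⟩, h1, h2, h3⟩, rfl⟩⟩
  obtain ⟨_, ⟨⟨⟨S, ι⟩, hm, hq, hQ⟩, rfl⟩, hmax⟩ :=
    (wellFounded_gt (α := ∀ i, Submodule Γ(X, U i) Γ(M, U i))).has_min _ hne
  refine ⟨S, ι, hm, hq, hQ, ?_⟩
  intro S' ι' f hm' hq' hQ' hf
  haveI := hm
  haveI := hm'
  haveI := hq'
  have hle : Ψ ⟨⟨S, ι⟩, hm, hq, hQ⟩ ≤ Ψ ⟨⟨S', ι'⟩, hm', hq', hQ'⟩ :=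
    fun i => secRange_le_of_fac ι ι' f hf (U i)
  have hnlt := hmax _ ⟨⟨⟨S', ι'⟩, hm', hq', hQ'⟩, rfl⟩
  have heq : Ψ ⟨⟨S', ι'⟩, hm', hq', hQ'⟩ ≤ Ψ ⟨⟨S, ι⟩, hm, hq, hQ⟩ := by
    by_contra hcon
    exact hnlt (lt_of_le_not_ge hle hcon)
  apply isIso_of_secRange_eq ι ι' f hf
  intro x
  have hx : x ∈ (⨆ i, U i : X.Opens) := hcov (show x ∈ (⊤ : X.Opens) from trivial)
  obtain ⟨i, hi⟩ := TopologicalSpace.Opens.mem_iSup.mp hx
  exact ⟨U i, hUa i, hi, heq i⟩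

/-- ACC for quasi-coherent ideal sheaves on a Noetherian scheme. -/
theorem wellFoundedGT_idealSheafData [IsNoetherian X] : WellFoundedGT X.IdealSheafData := by
  obtain ⟨ι₀, hfin, U, hUa, -, hcov⟩ := QCSec.exists_finite_affine_cover (X := X) ⊤ isCompact_univ
  haveI : ∀ i, WellFoundedGT (Ideal Γ(X, U i)) := fun i => by
    haveI : IsNoetherianRing Γ(X, U i) := IsLocallyNoetherian.component_noetherian ⟨U i, hUa i⟩
    exact isNoetherian_iff'.mp inferInstance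
  haveI := piWF (fun i => Ideal Γ(X, U i))
  let Ψ : X.IdealSheafData → ∀ i, Ideal Γ(X, U i) := fun J i => J.ideal ⟨U i, hUa i⟩
  have hU : ⨆ i, ((⟨U i, hUa i⟩ : X.affineOpens) : X.Opens) = ⊤ := top_le_iff.mp hcov
  have hΨ : StrictMono Ψ := by
    intro J J' hlt
    refine lt_of_le_not_ge (fun i => Scheme.IdealSheafData.le_def.mp hlt.le _) ?_
    intro hge
    exact hlt.not_ge (Scheme.IdealSheafData.le_of_iSup_eq_top (fun i => ⟨U i, hUa i⟩) hU hge)
  exact hΨ.wellFoundedGT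

end Groth.Agent.Lib.Helper1.CohSubWF
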