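import Groth.Agent.Lib.Helper1.SubPushIdeal
import Groth.Agent.Lib.Helper3.QCOpen
import Groth.Agent.Lib.Helper1.CohSubWF

/-!
# Filtration of a coherent module by direct images of ideal sheaves of integral closed subschemes
-/

set_option autoImplicit false
set_option linter.style.haveILetI false
universe u
open CategoryTheory CategoryTheory.Limits AlgebraicGeometry Opposite ZeroObject

namespace Groth.Agent.Lib.Helper1.CohFilt

open Groth.Agent.Lib.Helper3 Scheme.Modules
open Groth.Agent.Lib.Helper1.SubPushIdeal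

variable {X : Scheme.{u}}

/-- the graded pieces allowed in the filtration. -/
def IsPiece (f : X.Modules) : Prop :=
  ∃ (Z : Scheme.{u}) (i : Z ⟶ X), IsClosedImmersion i ∧ IsIntegral Z ∧
    ∃ (I : Z.Modules) (ιI : I ⟶ Coh.structureModule Z), Mono ιI ∧ Coh.IsQCoh I ∧ ¬ IsZero I ∧
      Nonempty (f ≅ (Coh.push i).obj I)

theorem exists_step [IsNoetherian X] (M : X.Modules) [M.IsQuasicoherent] [M.IsFiniteType]
    (S : X.Modules) (ι : S ⟶ M) [Mono ι] [S.IsQuasicoherent] (hni : ¬ IsIso ι) :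
    ∃ (S' : X.Modules) (ι' : S' ⟶ M) (f : S ⟶ S'), Mono ι' ∧ S'.IsQuasicoherent ∧ f ≫ ι' = ι ∧
      Mono f ∧ ¬ IsIso f ∧
      IsPiece (cokernel f) := by
  let π := cokernel.π ι
  haveI : (cokernel ι).IsQuasicoherent := QCProps.isQuasicoherent_cokernel ι
  haveI : (cokernel ι).IsFiniteType := QCProps.isFiniteType_of_epi π
  have hN : ¬ IsZero (cokernel ι) := by
    intro hz
    apply hni
    haveI : Epi ι := Preadditive.epi_of_isZero_cokernel ι hz
    exact isIso_of_mono_of_epi ι
  obtain ⟨Z, i, hi, hZ, I, ιI, hιI, hqI, hzI, hzP, ψ, hψ⟩ := exists_sub_push_ideal (cokernel ι) hN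
  haveI := hψ
  let S' := pullback π ψ
  let f : S ⟶ S' := pullback.lift ι 0 (by rw [cokernel.condition, zero_comp])
  have hf1 : f ≫ pullback.fst π ψ = ι := pullback.lift_fst _ _ _
  have hf2 : f ≫ pullback.snd π ψ = 0 := pullback.lift_snd _ _ _
  haveI : Mono f := by
    haveI : Mono (f ≫ pullback.fst π ψ) := by rw [hf1]; infer_instance
    exact mono_of_mono f (pullback.fst π ψ)
  haveI : Epi (pullback.snd π ψ) := inferInstance
  -- `f` is a kernel of `snd`
  have hιker : IsLimit (KernelFork.ofι ι (cokernel.condition ι)) :=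
    Abelian.monoIsKernelOfCokernel _ (colimit.isColimit _)
  have hker : IsLimit (KernelFork.ofι f hf2) := by
    refine KernelFork.IsLimit.ofι _ _ (fun {T} t ht => hιker.lift (KernelFork.ofι (t ≫ pullback.fst π ψ) ?_))
      ?_ ?_
    · rw [Category.assoc, pullback.condition, ← Category.assoc, ht, zero_comp]
    · intro T t ht
      apply pullback.hom_ext
      · rw [Category.assoc, hf1]
        exact hιker.fac _ WalkingParallelPair.zero
      · rw [Category.assoc, hf2, comp_zero, ht]
    · intro T t ht b hb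
      rw [← cancel_mono ι]
      have h1 := hιker.fac (KernelFork.ofι (t ≫ pullback.fst π ψ)
        (by rw [Category.assoc, pullback.condition, ← Category.assoc, ht, zero_comp]))
        WalkingParallelPair.zero
      refine Eq.trans ?_ h1.symm
      show b ≫ ι = t ≫ pullback.fst π ψ
      rw [← hb, Category.assoc, hf1]
  -- the short exact sequence
  have hSE : (ShortComplex.mk f (pullback.snd π ψ) hf2).ShortExact :=
    ShortComplex.ShortExact.mk' (ShortComplex.exact_of_f_is_kernel _ hker) inferInstance inferInstance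
  haveI : ((Coh.push i).obj I).IsQuasicoherent := QCSec.isQuasicoherent_pushforward i I
  haveI : S'.IsQuasicoherent := QCExact.isQuasicoherent_of_shortExact _ hSE
  have e : cokernel f ≅ (Coh.push i).obj I :=
    IsColimit.coconePointUniqueUpToIso (colimit.isColimit _) hSE.gIsCokernel
  refine ⟨S', pullback.fst π ψ, f, inferInstance, inferInstance, hf1, inferInstance, ?_,
    Z, i, hi, hZ, I, ιI, hιI, hqI, hzI, ⟨e⟩⟩
  intro hiso
  apply hzP
  have h0 : pullback.snd π ψ = 0 := by
    rw [← cancel_epi f, hf2, comp_zero]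
  rw [IsZero.iff_id_eq_zero, ← cancel_epi (pullback.snd π ψ), h0, zero_comp, zero_comp]


/-- quasi-coherent subobjects of `M`. -/
structure Sub (M : X.Modules) where
  obj : X.Modules
  ι : obj ⟶ M
  mono : Mono ι
  qc : obj.IsQuasicoherent

theorem exists_next [IsNoetherian X] (M : X.Modules) [M.IsQuasicoherent] [M.IsFiniteType]
    (s : Sub M) :
    ∃ (s' : Sub M) (f : s.obj ⟶ s'.obj), f ≫ s'.ι = s.ι ∧ Mono f ∧
      (¬ IsIso s.ι → ¬ IsIso f ∧ IsPiece (cokernel f)) := by
  by_cases h : IsIso s.ι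
  · exact ⟨s, 𝟙 _, Category.id_comp _, inferInstance, fun h' => absurd h h'⟩
  · haveI := s.mono
    haveI := s.qc
    obtain ⟨S', ι', f, h1, h2, h3, h4, h5, h6⟩ := exists_step M s.obj s.ι h
    exact ⟨⟨S', ι', h1, h2⟩, f, h3, h4, fun _ => ⟨h5, h6⟩⟩

section Seq
variable [IsNoetherian X] (M : X.Modules) [M.IsQuasicoherent] [M.IsFiniteType]

noncomputable def next (s : Sub M) : Sub M := (exists_next M s).choose

noncomputable def nextMap (s : Sub M) : s.obj ⟶ (next M s).obj :=
  (exists_next M s).choose_spec.choose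

theorem nextMap_fac (s : Sub M) : nextMap M s ≫ (next M s).ι = s.ι :=
  (exists_next M s).choose_spec.choose_spec.1

instance nextMap_mono (s : Sub M) : Mono (nextMap M s) :=
  (exists_next M s).choose_spec.choose_spec.2.1

theorem nextMap_spec (s : Sub M) (h : ¬ IsIso s.ι) :
    ¬ IsIso (nextMap M s) ∧ IsPiece (cokernel (nextMap M s)) :=
  (exists_next M s).choose_spec.choose_spec.2.2 h

noncomputable def zeroSub : Sub M :=
  ⟨0, 0, inferInstance, QCOpen.isQuasicoherent_of_isZero (isZero_zero _)⟩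

noncomputable def seq : ℕ → Sub M
  | 0 => zeroSub M
  | n + 1 => next M (seq n)

theorem exists_isIso_seq : ∃ n, IsIso (seq M n).ι := by
  obtain ⟨S, ι, hm, hq, ⟨n, e, he⟩, hmax⟩ := Groth.Agent.Lib.Helper1.CohSubWF.exists_maximal M
    (fun S ι => ∃ n, ∃ e : S ≅ (seq M n).obj, e.hom ≫ (seq M n).ι = ι)
    ⟨(seq M 0).obj, (seq M 0).ι, (seq M 0).mono, (seq M 0).qc, 0, Iso.refl _, Category.id_comp _⟩
  refine ⟨n, ?_⟩
  have h1 : IsIso (e.hom ≫ nextMap M (seq M n)) := by
    refine hmax (seq M (n + 1)).obj (seq M (n + 1)).ι _ (seq M (n + 1)).mono (seq M (n + 1)).qc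
      ⟨n + 1, Iso.refl _, Category.id_comp _⟩ ?_
    have h2 : nextMap M (seq M n) ≫ (seq M (n + 1)).ι = (seq M n).ι := nextMap_fac M (seq M n)
    exact (Category.assoc _ _ _).trans ((congrArg (e.hom ≫ ·) h2).trans he)
  have h3 : IsIso (nextMap M (seq M n)) := IsIso.of_isIso_comp_left e.hom _
  by_contra hcon
  exact (nextMap_spec M (seq M n) hcon).1 h3

end Seq

open Classical in
theorem filtration [IsNoetherian X] (M : X.Modules) (hM : Coh.IsCoh M) :
    ∃ (m : ℕ) (F : ℕ → X.Modules) (φ : (j : ℕ) → (F j ⟶ F (j + 1))),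
      IsZero (F 0) ∧ Nonempty (F m ≅ M) ∧ (∀ j ≤ m, Coh.IsCoh (F j)) ∧ ∀ j < m, Mono (φ j) ∧
        ∃ (Z : Scheme.{u}) (i : Z ⟶ X), IsClosedImmersion i ∧ IsIntegral Z ∧
          ∃ (I : Z.Modules) (ι : I ⟶ Coh.structureModule Z), Mono ι ∧ Coh.IsQCoh I ∧ ¬ IsZero I ∧
            Nonempty (cokernel (φ j) ≅ (Coh.push i).obj I) := by
  haveI : M.IsQuasicoherent := hM.1
  haveI : M.IsFiniteType := hM.2
  have hex := exists_isIso_seq M
  refine ⟨Nat.find hex, fun j => (seq M j).obj, fun j => nextMap M (seq M j), isZero_zero _, ?_, ?_, ?_⟩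
  · haveI := Nat.find_spec hex
    exact ⟨asIso (seq M (Nat.find hex)).ι⟩
  · intro j _
    haveI := (seq M j).mono
    haveI := (seq M j).qc
    exact ⟨(seq M j).qc, QCProps.isFiniteType_of_mono (seq M j).ι⟩
  · intro j hj
    refine ⟨nextMap_mono M (seq M j), ?_⟩
    exact (nextMap_spec M (seq M j) (Nat.find_min hex hj)).2

end Groth.Agent.Lib.Helper1.CohFilt
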