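import Mathlib
import Groth.Prelude.Def_Omega3

set_option autoImplicit false
set_option linter.style.haveILetI false
universe u
open TensorProduct

namespace Groth.Agent.Lib.Helper1.ConormLci

section Ring

variable {R B C B' C' S' : Type u} [CommRing R] [CommRing B] [CommRing C] [CommRing B']
  [CommRing C'] [CommRing S']
  [Algebra R B] [Algebra R C] [Algebra R B'] [Algebra R C'] [Algebra R S']
  [Algebra B' S'] [IsScalarTower R B' S'] [Module.Flat B' S']
  (πB : B' →ₐ[R] B) (hπB : OmegaSh.IsUnivThickeningRing R B B' πB)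
  (πC : C' →ₐ[R] C) (hπC : OmegaSh.IsUnivThickeningRing R C C' πC)
  (γ : B →ₐ[R] C) (m : B' →ₐ[R] C') (hm : ∀ b', πC (m b') = γ (πB b'))
  (σ : S' →ₐ[R] C) (hσ : Function.Surjective σ)
  (hσB : ∀ b' : B', σ (algebraMap B' S' b') = γ (πB b'))
  (N : Ideal B') (hmemN : ∀ x : B', x ∈ N ↔ πB x = 0)
  (J' : Ideal S') (hmemJ : ∀ x : S', x ∈ J' ↔ σ x = 0)
  (hIJ : N.map (algebraMap B' S') ⊓ J' ^ 2 ≤ N.map (algebraMap B' S') * J')

include hπB hπC hm hσ hσB hIJ hmemN hmemJ in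
set_option maxHeartbeats 1000000 in
theorem sum_eq_zero {κ : Type*} [Fintype κ] (n : κ → N) (p : κ → S')
    (ct : κ → C') (hct : ∀ k, πC (ct k) = σ (p k)) (hsum : ∑ k, ct k * m (n k).1 = 0)
    {Q : Type u} [AddCommGroup Q] [Module B' Q]
    (lam : N →ₗ[B'] S' →ₗ[B'] Q)
    (hlam : ∀ n, ∀ p ∈ J', lam n p = 0) :
    ∑ k, lam (n k) (p k) = 0 := by
  classical
  obtain ⟨-, -, hπBu⟩ := hπB
  obtain ⟨-, hπCk, hπCu⟩ := hπC
  let T := S' ⧸ J' ^ 2
  let mkT : S' →ₐ[R] T := Ideal.Quotient.mkₐ R (J' ^ 2)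
  have hmkT : Function.Surjective mkT := Ideal.Quotient.mkₐ_surjective R _
  let L : Ideal T := J'.map (Ideal.Quotient.mk (J' ^ 2))
  have hL : L ^ 2 = ⊥ := by
    change (J'.map (Ideal.Quotient.mk (J' ^ 2))) ^ 2 = ⊥
    rw [← Ideal.map_pow, Ideal.map_quotient_self]
  have hLL : ∀ x y : T, x ∈ L → y ∈ L → x * y = 0 := by
    intro x y hx hy
    have h0 : x * y ∈ L ^ 2 := (pow_two L).symm ▸ Ideal.mul_mem_mul hx hy
    have h1 : x * y ∈ (⊥ : Ideal T) := hL ▸ h0
    exact (Submodule.mem_bot _).mp h1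
  have hJ2 : ∀ a ∈ J' ^ 2, σ a = 0 := fun a ha => (hmemJ a).mp (Ideal.pow_le_self two_ne_zero ha)
  let ε : T →ₐ[R] C := Ideal.Quotient.liftₐ (J' ^ 2) σ hJ2
  have hε : ∀ x : S', ε (mkT x) = σ x := fun x => rfl
  have hmkL : ∀ x : S', x ∈ J' → mkT x ∈ L := fun x hx => Ideal.mem_map_of_mem _ hx
  have hkerε : ∀ t : T, ε t = 0 → t ∈ L := by
    intro t ht
    obtain ⟨y, rfl⟩ := hmkT t
    exact hmkL y ((hmemJ y).mpr ht)
  have hkerσ : RingHom.ker σ.toRingHom ≤
      RingHom.ker ((Ideal.Quotient.mkₐ R L).comp mkT).toRingHom := by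
    intro x hx
    rw [RingHom.mem_ker]
    change Ideal.Quotient.mk L (Ideal.Quotient.mk (J' ^ 2) x) = 0
    rw [Ideal.Quotient.eq_zero_iff_mem]
    exact Ideal.mem_map_of_mem _ ((hmemJ x).mpr (RingHom.mem_ker.mp hx))
  let a₀ : C →ₐ[R] T ⧸ L := AlgHom.liftOfSurjective σ hσ ((Ideal.Quotient.mkₐ R L).comp mkT) hkerσ
  have ha₀ : ∀ x : S', a₀ (σ x) = Ideal.Quotient.mk L (mkT x) := fun x =>
    AlgHom.liftOfSurjective_apply σ hσ _ hkerσ x
  obtain ⟨β, hβ, -⟩ := hπCu T L hL a₀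
  have hβ' : ∀ c' : C', Ideal.Quotient.mk L (β c') = a₀ (πC c') := fun c' => AlgHom.congr_fun hβ c'
  have hεL : ∀ t ∈ L, ε t = 0 := by
    intro t ht
    obtain ⟨y, rfl⟩ := hmkT t
    have : mkT y ∈ J'.map (Ideal.Quotient.mk (J' ^ 2)) := ht
    rw [Ideal.mem_map_iff_of_surjective _ Ideal.Quotient.mk_surjective] at this
    obtain ⟨y', hy', hyy'⟩ := this
    have : ε (mkT y) = ε (mkT y') := congrArg ε hyy'.symm
    rw [this, hε]
    exact (hmemJ y').mp hy'
  let εbar : T ⧸ L →ₐ[R] C := Ideal.Quotient.liftₐ L ε hεL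
  have hεβ : ∀ c' : C', ε (β c') = πC c' := by
    intro c'
    obtain ⟨x, hx⟩ := hσ (πC c')
    have h2 : εbar (Ideal.Quotient.mk L (β c')) = ε (β c') := rfl
    rw [← h2, hβ', ← hx, ha₀]
    rfl
  -- `β ∘ m` is the structure map
  let st : B' →ₐ[R] T := mkT.comp (IsScalarTower.toAlgHom R B' S')
  have hst : ∀ b' : B', st b' = mkT (algebraMap B' S' b') := fun b' => rfl
  have hβm : ∀ b' : B', β (m b') = st b' := by
    obtain ⟨δ, -, hδu⟩ := hπBu T L hL (a₀.comp γ)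
    have h1 : β.comp m = δ := by
      apply hδu
      ext b'
      change Ideal.Quotient.mk L (β (m b')) = a₀ (γ (πB b'))
      rw [hβ', hm]
    have h2 : st = δ := by
      apply hδu
      ext b'
      change Ideal.Quotient.mk L (mkT (algebraMap B' S' b')) = a₀ (γ (πB b'))
      rw [← ha₀, hσB]
    intro b'
    exact AlgHom.congr_fun (h1.trans h2.symm) b'
  have hnJ : ∀ k, algebraMap B' S' (n k).1 ∈ J' := by
    intro k
    rw [hmemJ, hσB, (hmemN _).mp (n k).2, map_zero]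
  -- the key membership
  have hmem : ∑ k, p k * algebraMap B' S' (n k).1 ∈
      N.map (algebraMap B' S') * J' := by
    apply hIJ
    constructor
    · exact Ideal.sum_mem _ fun k _ => Ideal.mul_mem_left _ _ (Ideal.mem_map_of_mem _ (n k).2)
    · have h1 : β (∑ k, ct k * m (n k).1) = 0 := by rw [hsum, map_zero]
      rw [map_sum] at h1
      have h2 : ∀ k, β (ct k * m (n k).1) = mkT (p k * algebraMap B' S' (n k).1) := by
        intro k
        rw [map_mul, hβm, hst, map_mul]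
        have h3 : β (ct k) - mkT (p k) ∈ L := by
          apply hkerε
          rw [map_sub, hεβ, hε, hct, sub_self]
        have h4 := hLL _ _ h3 (hmkL _ (hnJ k))
        rw [sub_mul, sub_eq_zero] at h4
        exact h4
      simp only [h2] at h1
      rw [← map_sum] at h1
      exact Ideal.Quotient.eq_zero_iff_mem.mp h1
  -- flatness
  let μ : S' ⊗[B'] N →ₗ[B'] S' := (TensorProduct.rid B' S').toLinearMap ∘ₗ
    (LinearMap.lTensor S' (Submodule.subtype N))
  have hμ : ∀ (s : S') (x : N), μ (s ⊗ₜ x) = x.1 • s := by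
    intro s x
    simp [μ]
  have hμinj : Function.Injective μ := by
    have h1 : Function.Injective (LinearMap.lTensor S' (Submodule.subtype N)) :=
      Module.Flat.lTensor_preserves_injective_linearMap _ (Submodule.injective_subtype N)
    exact (TensorProduct.rid B' S').injective.comp h1
  let lamT : S' ⊗[B'] N →ₗ[B'] Q := TensorProduct.lift lam.flip
  have hlamT : ∀ (s : S') (x : N), lamT (s ⊗ₜ x) = lam x s := fun s x => rfl
  -- every element of `I * J'` comes from a tensor killed by `lamT`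
  have hex : ∀ y ∈ N.map (algebraMap B' S') * J', ∃ t' : S' ⊗[B'] N, μ t' = y ∧ lamT t' = 0 := by
    intro y hy
    refine Submodule.mul_induction_on hy (fun x hx j' hj' => ?_) (fun y₁ y₂ h₁ h₂ => ?_)
    · -- `x ∈ I`, `j' ∈ J'`
      have hx' : ∀ x ∈ N.map (algebraMap B' S'), ∀ j' ∈ J',
          ∃ t' : S' ⊗[B'] N, μ t' = x * j' ∧ lamT t' = 0 := by
        intro x hx
        refine Submodule.span_induction ?_ ?_ ?_ ?_ hx
        · rintro _ ⟨b, hb, rfl⟩ j' hj'
          refine ⟨j' ⊗ₜ ⟨b, hb⟩, ?_, ?_⟩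
          · rw [hμ, Algebra.smul_def]
          · rw [hlamT]; exact hlam _ _ hj'
        · intro j' _
          exact ⟨0, by rw [map_zero, zero_mul], map_zero _⟩
        · intro a₁ a₂ _ _ ih₁ ih₂ j' hj'
          obtain ⟨t₁, ht₁, hl₁⟩ := ih₁ j' hj'
          obtain ⟨t₂, ht₂, hl₂⟩ := ih₂ j' hj'
          exact ⟨t₁ + t₂, by rw [map_add, ht₁, ht₂, add_mul], by rw [map_add, hl₁, hl₂, add_zero]⟩
        · intro s a₁ _ ih j' hj'
          obtain ⟨t₁, ht₁, hl₁⟩ := ih (s * j') (Ideal.mul_mem_left _ _ hj')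
          refine ⟨t₁, ?_, hl₁⟩
          rw [ht₁, smul_eq_mul]
          ring
      exact hx' x hx j' hj'
    · obtain ⟨t₁, ht₁, hl₁⟩ := h₁
      obtain ⟨t₂, ht₂, hl₂⟩ := h₂
      exact ⟨t₁ + t₂, by rw [map_add, ht₁, ht₂], by rw [map_add, hl₁, hl₂, add_zero]⟩
  obtain ⟨t', ht', hl'⟩ := hex _ hmem
  have ht : μ (∑ k, p k ⊗ₜ[B'] n k) = ∑ k, p k * algebraMap B' S' (n k).1 := by
    rw [map_sum]
    refine Finset.sum_congr rfl fun k _ => ?_
    rw [hμ, Algebra.smul_def, mul_comm]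
  have heq : ∑ k, p k ⊗ₜ[B'] n k = t' := hμinj (ht.trans ht'.symm)
  have h1 : lamT (∑ k, p k ⊗ₜ[B'] n k) = ∑ k, lam (n k) (p k) := by
    rw [map_sum]
    rfl
  rw [← h1, heq, hl']

end Ring

end Groth.Agent.Lib.Helper1.ConormLci
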