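import Mathlib
import Groth.Agent.Lib.Helper1.ConormDiff
set_option autoImplicit false
set_option linter.style.haveILetI false
universe u
open CategoryTheory CategoryTheory.Limits AlgebraicGeometry TopologicalSpace Opposite TensorProduct
open Groth.Agent.Lib.Helper1.PbSect Groth.Agent.Lib.Helper3 Groth.Agent.Lib.Helper1.ConormMap
open Groth.Agent.Lib.Helper1

namespace Groth.Agent.Lib.Helper1.ConormTriple

section Ring

theorem mem_sup_sq {A B C : Type u} [CommRing A] [CommRing B] [CommRing C] (φ : A →+* B)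
    (ψ : B →+* C) (hφ : Function.Surjective φ) (a : A) (ha : φ a ∈ RingHom.ker ψ ^ 2) :
    a ∈ RingHom.ker φ ⊔ RingHom.ker (ψ.comp φ) ^ 2 := by
  have h1 : RingHom.ker ψ = Ideal.map φ (RingHom.ker (ψ.comp φ)) := by
    rw [← RingHom.comap_ker, Ideal.map_comap_of_surjective φ hφ]
  rw [h1, ← Ideal.map_pow] at ha
  obtain ⟨a', ha', hφa'⟩ := (Ideal.mem_map_iff_of_surjective φ hφ).mp ha
  have h2 : a - a' ∈ RingHom.ker φ := by
    rw [RingHom.mem_ker, map_sub, hφa', sub_self]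
  have h3 : a = (a - a') + a' := by ring
  rw [h3]
  exact Submodule.add_mem_sup h2 ha'

end Ring

/-- morphisms out of a double pullback are determined on doubly pulled back sections -/
theorem pullback_pullback_hom_ext {X Y Z : Scheme.{u}} (j : Z ⟶ Y) (f : Y ⟶ X) {M : X.Modules}
    {N : Z.Modules}
    (α β : (Scheme.Modules.pullback j).obj ((Scheme.Modules.pullback f).obj M) ⟶ N)
    (h : ∀ U : X.Opens, IsAffineOpen U → ∀ m : Γ(M, U),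
      α.app (j ⁻¹ᵁ (f ⁻¹ᵁ U)) (OmegaSh.pullSect j _ (f ⁻¹ᵁ U) (OmegaSh.pullSect f M U m)) =
      β.app (j ⁻¹ᵁ (f ⁻¹ᵁ U)) (OmegaSh.pullSect j _ (f ⁻¹ᵁ U) (OmegaSh.pullSect f M U m))) :
    α = β := by
  apply ((Scheme.Modules.pullbackPushforwardAdjunction j).homEquiv _ N).injective
  apply ((Scheme.Modules.pullbackPushforwardAdjunction f).homEquiv M _).injective
  apply ModLocal.hom_ext_affine
  intro U hU m
  have key : ∀ γ : (Scheme.Modules.pullback j).obj ((Scheme.Modules.pullback f).obj M) ⟶ N,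
      (((Scheme.Modules.pullbackPushforwardAdjunction f).homEquiv M _)
        (((Scheme.Modules.pullbackPushforwardAdjunction j).homEquiv _ N) γ)).app U m =
        γ.app (j ⁻¹ᵁ (f ⁻¹ᵁ U))
          (OmegaSh.pullSect j _ (f ⁻¹ᵁ U) (OmegaSh.pullSect f M U m)) := by
    intro γ
    rw [Adjunction.homEquiv_unit, Adjunction.homEquiv_unit]
    rfl
  rw [key, key]
  exact h U hU m

section Main

variable {Y' Y X : Scheme.{u}} (f : Y ⟶ X) (j : Y' ⟶ Y)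
  (φ₁ : (Scheme.Modules.pullback j).obj (Omega.conormal f) ⟶ Omega.conormal (j ≫ f))
  (hφ₁ : OmegaSh.IsConormalMap (j ≫ f) f (𝟙 X) j φ₁)
  (φ₂ : (Scheme.Modules.pullback (𝟙 Y')).obj (Omega.conormal (j ≫ f)) ⟶ Omega.conormal j)
  (hφ₂ : OmegaSh.IsConormalMap j (j ≫ f) f (𝟙 Y') φ₂)

include hφ₂ in
theorem phi2_apply (U : X.Opens) (s' : Γ(ClSub.idealMod (j ≫ f).ker, U))
    (t : Γ(ClSub.idealMod j.ker, f ⁻¹ᵁ U))
    (ht : IdealMod.val j.ker t = f.app U (IdealMod.val (j ≫ f).ker s')) :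
    ((Scheme.Modules.pullbackId Y').inv.app (Omega.conormal (j ≫ f)) ≫ φ₂).app ((j ≫ f) ⁻¹ᵁ U)
      (OmegaSh.conormalSect (j ≫ f) U s') = OmegaSh.conormalSect j (f ⁻¹ᵁ U) t := by
  have h1 := hφ₂.2 U s' t ht ((j ≫ f) ⁻¹ᵁ U) le_rfl le_rfl
  have e1 := map_refl (Omega.conormal j) ((j ≫ f) ⁻¹ᵁ U)
  have h2 : ((Scheme.Modules.pullbackId Y').inv.app (Omega.conormal (j ≫ f)) ≫ φ₂).app
      ((j ≫ f) ⁻¹ᵁ U) (OmegaSh.conormalSect (j ≫ f) U s') =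
      φ₂.app _ (((Scheme.Modules.pullbackId Y').inv.app (Omega.conormal (j ≫ f))).app
        ((j ≫ f) ⁻¹ᵁ U) (OmegaSh.conormalSect (j ≫ f) U s')) := rfl
  rw [h2, pullbackId_inv_app]
  exact (e1 _).symm.trans (h1.trans (e1 _))

include hφ₁ in
theorem phi1_apply (U : X.Opens) (s'' : Γ(ClSub.idealMod f.ker, U))
    (s₁ : Γ(ClSub.idealMod (j ≫ f).ker, U))
    (h : IdealMod.val (j ≫ f).ker s₁ = IdealMod.val f.ker s'') :
    φ₁.app (j ⁻¹ᵁ (f ⁻¹ᵁ U)) (OmegaSh.pullSect j (Omega.conormal f) (f ⁻¹ᵁ U)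
      (OmegaSh.conormalSect f U s'')) = OmegaSh.conormalSect (j ≫ f) U s₁ := by
  have h1 := hφ₁.2 U s'' s₁ h (j ⁻¹ᵁ (f ⁻¹ᵁ U)) le_rfl le_rfl
  have e1 := map_refl (Omega.conormal (j ≫ f)) (j ⁻¹ᵁ (f ⁻¹ᵁ U))
  exact (e1 _).symm.trans (h1.trans (e1 _))

theorem exists_t [QuasiCompact j] (U : X.Opens) (s' : Γ(ClSub.idealMod (j ≫ f).ker, U)) :
    ∃ t : Γ(ClSub.idealMod j.ker, f ⁻¹ᵁ U),
      IdealMod.val j.ker t = f.app U (IdealMod.val (j ≫ f).ker s') := by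
  apply exists_val_eq_of_app_eq_zero' j (f ⁻¹ᵁ U)
  exact ConormDiff.app_val_eq_zero' (j ≫ f) s'

theorem exists_s₁ [QuasiCompact (j ≫ f)] (U : X.Opens) (s'' : Γ(ClSub.idealMod f.ker, U)) :
    ∃ s₁ : Γ(ClSub.idealMod (j ≫ f).ker, U),
      IdealMod.val (j ≫ f).ker s₁ = IdealMod.val f.ker s'' := by
  apply exists_val_eq_of_app_eq_zero' (j ≫ f) U
  change j.app (f ⁻¹ᵁ U) (f.app U (IdealMod.val f.ker s'')) = 0
  rw [ConormDiff.app_val_eq_zero' f s'', map_zero]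

include hφ₁ hφ₂ in
theorem comp_eq_zero [QuasiCompact j] [QuasiCompact (j ≫ f)] :
    φ₁ ≫ (Scheme.Modules.pullbackId Y').inv.app (Omega.conormal (j ≫ f)) ≫ φ₂ = 0 := by
  apply pullback_pullback_hom_ext j f
  intro U hU s''
  obtain ⟨s₁, hs₁⟩ := exists_s₁ f j U s''
  obtain ⟨t, ht⟩ := exists_t f j U s₁
  have h1 : (φ₁ ≫ (Scheme.Modules.pullbackId Y').inv.app (Omega.conormal (j ≫ f)) ≫ φ₂).app
      (j ⁻¹ᵁ (f ⁻¹ᵁ U)) (OmegaSh.pullSect j _ (f ⁻¹ᵁ U)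
        (OmegaSh.pullSect f (ClSub.idealMod f.ker) U s'')) =
      ((Scheme.Modules.pullbackId Y').inv.app (Omega.conormal (j ≫ f)) ≫ φ₂).app
        ((j ≫ f) ⁻¹ᵁ U) (φ₁.app (j ⁻¹ᵁ (f ⁻¹ᵁ U)) (OmegaSh.pullSect j (Omega.conormal f) (f ⁻¹ᵁ U)
          (OmegaSh.conormalSect f U s''))) := rfl
  refine h1.trans ?_
  rw [phi1_apply f j φ₁ hφ₁ U s'' s₁ hs₁, phi2_apply f j φ₂ hφ₂ U s₁ t ht]
  have ht0 : t = 0 := by
    apply IdealMod.val_injective j.ker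
    rw [ht, hs₁, ConormDiff.app_val_eq_zero' f s'', val_zero]
  rw [ht0, map_zero]
  rfl

include hφ₁ hφ₂ in
theorem exact_and_surjective_on_good [IsImmersion f] [IsImmersion j] [QuasiCompact f]
    [QuasiCompact j] {U : X.Opens} (hU : IsAffineOpen U) (hUf : U ≤ f.coborderRange)
    (hUjf : U ≤ (j ≫ f).coborderRange) :
    (∀ m : Γ(Omega.conormal (j ≫ f), (j ≫ f) ⁻¹ᵁ U),
      ((Scheme.Modules.pullbackId Y').inv.app (Omega.conormal (j ≫ f)) ≫ φ₂).app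
        ((j ≫ f) ⁻¹ᵁ U) m = 0 →
      ∃ m' : Γ((Scheme.Modules.pullback j).obj (Omega.conormal f), (j ≫ f) ⁻¹ᵁ U),
        φ₁.app ((j ≫ f) ⁻¹ᵁ U) m' = m) ∧
    Function.Surjective (((Scheme.Modules.pullbackId Y').inv.app (Omega.conormal (j ≫ f)) ≫ φ₂).app
      ((j ≫ f) ⁻¹ᵁ U)) := by
  obtain ⟨hVf, hsf⟩ := good_of_le_coborderRange f hU hUf
  obtain ⟨hVjf, hsjf⟩ := good_of_le_coborderRange (j ≫ f) hU hUjf
  have hVj : IsAffineOpen (j ⁻¹ᵁ (f ⁻¹ᵁ U)) := hVjf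
  have hsj : Function.Surjective (j.app (f ⁻¹ᵁ U)) := by
    intro y
    obtain ⟨a, ha⟩ := hsjf y
    exact ⟨f.app U a, ha⟩
  constructor
  · intro m hm
    obtain ⟨s', rfl⟩ := Conorm.conormalSect_surjective (j ≫ f) hU hVjf hsjf m
    obtain ⟨t, ht⟩ := exists_t f j U s'
    rw [phi2_apply f j φ₂ hφ₂ U s' t ht] at hm
    have h1 := (Conorm.conormalSect_eq_zero_iff j hVf hVj hsj t).mp hm
    rw [ht] at h1
    have h2 := mem_sup_sq (f.app U).hom (j.app (f ⁻¹ᵁ U)).hom hsf _ h1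
    obtain ⟨a₁, ha₁, a₂, ha₂, hsum⟩ := Submodule.mem_sup.mp h2
    obtain ⟨s'', hs''⟩ := Conorm.exists_val_eq f hU a₁ ha₁
    obtain ⟨s₁, hs₁⟩ := exists_s₁ f j U s''
    have ha₂' : a₂ ∈ RingHom.ker ((j ≫ f).app U).hom ^ 2 := ha₂
    obtain ⟨s₂, hs₂⟩ := Conorm.exists_val_eq (j ≫ f) hU a₂ (Ideal.pow_le_self two_ne_zero ha₂')
    have hs₂0 : OmegaSh.conormalSect (j ≫ f) U s₂ = 0 :=
      (Conorm.conormalSect_eq_zero_iff (j ≫ f) hU hVjf hsjf s₂).mpr (by rw [hs₂]; exact ha₂')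
    have hsum' : s' = s₁ + s₂ := by
      apply IdealMod.val_injective (j ≫ f).ker
      rw [IdealMod.val_add, hs₁, hs'', hs₂, hsum]
    refine ⟨OmegaSh.pullSect j (Omega.conormal f) (f ⁻¹ᵁ U) (OmegaSh.conormalSect f U s''), ?_⟩
    refine (phi1_apply f j φ₁ hφ₁ U s'' s₁ hs₁).trans ?_
    rw [hsum', map_add, hs₂0, add_zero]
  · intro y
    obtain ⟨t, rfl⟩ := Conorm.conormalSect_surjective j hVf hVj hsj y
    obtain ⟨a, ha⟩ := hsf (IdealMod.val j.ker t)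
    have ha0 : a ∈ RingHom.ker ((j ≫ f).app U).hom := by
      rw [RingHom.mem_ker]
      change j.app (f ⁻¹ᵁ U) (f.app U a) = 0
      rw [ha]
      exact Conorm.val_mem_ker j hVf t
    obtain ⟨s', hs'⟩ := Conorm.exists_val_eq (j ≫ f) hU a ha0
    exact ⟨OmegaSh.conormalSect (j ≫ f) U s',
      phi2_apply f j φ₂ hφ₂ U s' t (by rw [hs', ha])⟩

end Main

end Groth.Agent.Lib.Helper1.ConormTriple
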