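import Mathlib
import Groth.Agent.Lib.Helper1.ConormTriple
import Groth.Agent.Lib.Helper1.H1Loc
import Groth.Agent.Lib.Helper1.QcMono
import Groth.Agent.Lib.Helper3.LocFreeCrit
import Groth.Agent.S9325
import Groth.Prelude.Def_RegImm
set_option autoImplicit false
set_option linter.style.haveILetI false
universe u
open CategoryTheory CategoryTheory.Limits AlgebraicGeometry TopologicalSpace Opposite TensorProduct
open Groth.Agent.Lib.Helper1.PbSect Groth.Agent.Lib.Helper3 Groth.Agent.Lib.Helper1.ConormMap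
open Groth.Agent.Lib.Helper1

namespace Groth.Agent.Lib.Helper1.ConormReg

section Chart

variable {Z Y : Scheme.{u}} (j : Z ⟶ Y)

theorem ofList_eq_span_range {R : Type u} [CommRing R] (rs : List R) :
    Ideal.ofList rs = Ideal.span (Set.range rs.get) := by
  rw [Ideal.ofList]
  congr 1
  ext r
  simp only [Set.mem_ofPred_eq, Set.mem_range]
  exact List.mem_iff_get

/-- restricting an `H_1`-regular generating sequence of the kernel to a basic open -/
theorem h1_basicOpen [QuasiCompact j] {V : Y.Opens} (hV : IsAffineOpen V)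
    (rs : List Γ(Y, V)) (hrs : CAlgX.IsH1Regular rs.get)
    (hker : RingHom.ker (j.app V).hom = Ideal.ofList rs) (h : Γ(Y, V))
    (V' : Y.Opens) (hV' : V' = Y.basicOpen h) :
    ∃ g : Fin rs.length → Γ(Y, V'), CAlgX.IsH1Regular g ∧
      RingHom.ker (j.app V').hom = Ideal.span (Set.range g) := by
  subst hV'
  letI : Algebra Γ(Y, V) Γ(Y, Y.basicOpen h) :=
    (Y.presheaf.map (homOfLE (Y.basicOpen_le h)).op).hom.toAlgebra
  haveI : IsLocalization.Away h Γ(Y, Y.basicOpen h) := hV.isLocalization_basicOpen h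
  refine ⟨fun k => algebraMap Γ(Y, V) Γ(Y, Y.basicOpen h) (rs.get k),
    H1Loc.isH1Regular_of_isLocalization (Submonoid.powers h) _ rs.get hrs, ?_⟩
  have h1 := Scheme.Hom.ker_apply j ⟨Y.basicOpen h, hV.basicOpen h⟩
  have h2 := Scheme.Hom.ker_apply j ⟨V, hV⟩
  have h3 := Scheme.IdealSheafData.map_ideal_basicOpen j.ker ⟨V, hV⟩ h
  change RingHom.ker (j.app (Y.basicOpen h)).hom = _
  rw [← h1]
  change j.ker.ideal (Y.affineBasicOpen (U := ⟨V, hV⟩) h) = _
  rw [← h3, h2, hker, ofList_eq_span_range, Ideal.map_span, ← Set.range_comp]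
  rfl

theorem exists_h1_chart [QuasiCompact j] (z : Z)
    (hj : RegImm.IsRegularImmersionAt .h1 j z) {W : Y.Opens} (hW : IsAffineOpen W)
    (hzW : j z ∈ W) :
    ∃ (b : Γ(Y, W)) (c : ℕ), j z ∈ Y.basicOpen b ∧ ∀ V' : Y.Opens, V' = Y.basicOpen b →
      ∃ g : Fin c → Γ(Y, V'), CAlgX.IsH1Regular g ∧
        RingHom.ker (j.app V').hom = Ideal.span (Set.range g) := by
  obtain ⟨⟨V, hV⟩, hzV, -, rs, hrs, hker⟩ := hj
  obtain ⟨b, h, heq, hz⟩ := exists_basicOpen_le_affine_inter hW hV (j z) ⟨hzW, hzV⟩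
  refine ⟨b, rs.length, hz, fun V' hV' => ?_⟩
  exact h1_basicOpen j hV rs hrs hker h V' (hV'.trans heq)

end Chart

section Inj

variable {Y' Y X : Scheme.{u}} (f : Y ⟶ X) (j : Y' ⟶ Y)
  (φ₁ : (Scheme.Modules.pullback j).obj (Omega.conormal f) ⟶ Omega.conormal (j ≫ f))
  (hφ₁ : OmegaSh.IsConormalMap (j ≫ f) f (𝟙 X) j φ₁)

theorem pullSect_eq_pullRes {X' : Scheme.{u}} (h : X' ⟶ X) (M : X.Modules) (U : X.Opens)
    (m : Γ(M, U)) :
    OmegaSh.pullSect h M U m = pullRes h M (le_refl (h ⁻¹ᵁ U)) m := by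
  rw [pullRes_apply]
  have : (homOfLE (le_refl (h ⁻¹ᵁ U))).op = 𝟙 _ := rfl
  rw [this, CategoryTheory.Functor.map_id]
  rfl

include hφ₁ in
theorem injective_on_good [IsImmersion f] [IsImmersion j] [QuasiCompact f]
    [QuasiCompact j] {U : X.Opens} (hU : IsAffineOpen U) (hUf : U ≤ f.coborderRange)
    (hUjf : U ≤ (j ≫ f).coborderRange)
    (hIJ : RingHom.ker (f.app U).hom ⊓ RingHom.ker ((j ≫ f).app U).hom ^ 2 ≤
      RingHom.ker (f.app U).hom * RingHom.ker ((j ≫ f).app U).hom) :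
    Function.Injective (φ₁.app ((j ≫ f) ⁻¹ᵁ U)) := by
  obtain ⟨hVf, hsf⟩ := good_of_le_coborderRange f hU hUf
  obtain ⟨hVjf, hsjf⟩ := good_of_le_coborderRange (j ≫ f) hU hUjf
  have hVj : IsAffineOpen (j ⁻¹ᵁ (f ⁻¹ᵁ U)) := hVjf
  have hsj : Function.Surjective (j.app (f ⁻¹ᵁ U)) := by
    intro y
    obtain ⟨a, ha⟩ := hsjf y
    exact ⟨f.app U a, ha⟩
  haveI : (Omega.conormal f).IsQuasicoherent :=
    Groth.Agent.Lib.Helper17.PbStalk.isQuasicoherent_pullback f (ClSub.idealMod f.ker)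
  have hρ : Function.Surjective (j.appLE (f ⁻¹ᵁ U) (j ⁻¹ᵁ (f ⁻¹ᵁ U)) le_rfl).hom := by
    rw [Conorm.appLE_refl]; exact hsj
  rw [injective_iff_map_eq_zero]
  intro x hx
  obtain ⟨m, hm⟩ := PbSurj.pullRes_surjective j (Omega.conormal f) hVf hVj le_rfl hρ x
  obtain ⟨s'', rfl⟩ := Conorm.conormalSect_surjective f hU hVf hsf m
  have hx0 : x = OmegaSh.pullSect j (Omega.conormal f) (f ⁻¹ᵁ U)
      (OmegaSh.conormalSect f U s'') := hm.symm.trans (pullSect_eq_pullRes j _ _ _).symm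
  obtain ⟨s₁, hs₁⟩ := ConormTriple.exists_s₁ f j U s''
  have h1 := ConormTriple.phi1_apply f j φ₁ hφ₁ U s'' s₁ hs₁
  have hx' : φ₁.app (j ⁻¹ᵁ (f ⁻¹ᵁ U)) x = 0 := hx
  rw [hx0, h1] at hx'
  have h2 := (Conorm.conormalSect_eq_zero_iff (j ≫ f) hU hVjf hsjf s₁).mp hx'
  rw [hs₁] at h2
  have h3 : IdealMod.val f.ker s'' ∈ RingHom.ker (f.app U).hom *
      RingHom.ker ((j ≫ f).app U).hom := hIJ ⟨Conorm.val_mem_ker f hU s'', h2⟩
  -- elements of `I * J` give zero after pulling back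
  have key : ∀ a ∈ RingHom.ker (f.app U).hom * RingHom.ker ((j ≫ f).app U).hom,
      ∃ s : Γ(ClSub.idealMod f.ker, U), IdealMod.val f.ker s = a ∧
        OmegaSh.pullSect j (Omega.conormal f) (f ⁻¹ᵁ U) (OmegaSh.conormalSect f U s) = 0 := by
    intro a ha
    refine Submodule.mul_induction_on ha (fun b hb c hc => ?_) (fun a₁ a₂ h₁ h₂ => ?_)
    · obtain ⟨t, ht⟩ := Conorm.exists_val_eq f hU b hb
      refine ⟨c • t, by rw [IdealMod.val_smul, ht, mul_comm], ?_⟩
      rw [Conorm.conormalSect_smul, OmegaSh.pullSect_smul]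
      have hc0 : j.app (f ⁻¹ᵁ U) (f.app U c) = 0 := hc
      rw [hc0, zero_smul]
    · obtain ⟨t₁, ht₁, h₁'⟩ := h₁
      obtain ⟨t₂, ht₂, h₂'⟩ := h₂
      refine ⟨t₁ + t₂, by rw [IdealMod.val_add, ht₁, ht₂], ?_⟩
      rw [map_add, map_add, h₁', h₂', add_zero]
  obtain ⟨s, hs, hs0⟩ := key _ h3
  have : s = s'' := IdealMod.val_injective f.ker U hs
  rw [hx0, ← this, hs0]
  rfl


include hφ₁ in
theorem mono_of_h1 [IsImmersion f] [IsImmersion j] [QuasiCompact f] [QuasiCompact j]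
    (hj : ∀ z : Y', RegImm.IsRegularImmersionAt .h1 j z) : Mono φ₁ := by
  haveI qc0 : (Omega.conormal f).IsQuasicoherent :=
    Groth.Agent.Lib.Helper17.PbStalk.isQuasicoherent_pullback f (ClSub.idealMod f.ker)
  haveI qc1 : ((Scheme.Modules.pullback j).obj (Omega.conormal f)).IsQuasicoherent :=
    Groth.Agent.Lib.Helper17.PbStalk.isQuasicoherent_pullback j (Omega.conormal f)
  haveI qc2 : (Omega.conormal (j ≫ f)).IsQuasicoherent :=
    Groth.Agent.Lib.Helper17.PbStalk.isQuasicoherent_pullback (j ≫ f)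
      (ClSub.idealMod (j ≫ f).ker)
  apply QcMono.mono_of_injective_on_affine_cover
  intro z
  have hz : (j ≫ f) z ∈ f.coborderRange ⊓ (j ≫ f).coborderRange :=
    ⟨ConormMap.mem_coborderRange f (j z), ConormMap.mem_coborderRange (j ≫ f) z⟩
  obtain ⟨_, ⟨U₀ : X.Opens, hU₀, rfl⟩, hzU₀, hU₀le⟩ :=
    X.isBasis_affineOpens.exists_subset_of_mem_open hz (f.coborderRange ⊓ (j ≫ f).coborderRange).2
  have hU₀f : U₀ ≤ f.coborderRange := fun y hy => (hU₀le hy).1
  have hU₀jf : U₀ ≤ (j ≫ f).coborderRange := fun y hy => (hU₀le hy).2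
  obtain ⟨hW, hsf₀⟩ := good_of_le_coborderRange f hU₀ hU₀f
  have hzW : j z ∈ f ⁻¹ᵁ U₀ := hzU₀
  obtain ⟨b, c, hzb, hchart⟩ := exists_h1_chart j z (hj z) hW hzW
  obtain ⟨a, rfl⟩ := hsf₀ b
  have hU : IsAffineOpen (X.basicOpen a) := hU₀.basicOpen a
  have hpre : f ⁻¹ᵁ (X.basicOpen a) = Y.basicOpen (f.app U₀ a) := Scheme.preimage_basicOpen f a
  obtain ⟨g, hg, hker⟩ := hchart (f ⁻¹ᵁ (X.basicOpen a)) hpre
  have hUU₀ : X.basicOpen a ≤ U₀ := X.basicOpen_le a
  have hUf : X.basicOpen a ≤ f.coborderRange := hUU₀.trans hU₀f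
  have hUjf : X.basicOpen a ≤ (j ≫ f).coborderRange := hUU₀.trans hU₀jf
  obtain ⟨-, hsf⟩ := good_of_le_coborderRange f hU hUf
  refine ⟨(j ≫ f) ⁻¹ᵁ (X.basicOpen a), (good_of_le_coborderRange (j ≫ f) hU hUjf).1, ?_,
    injective_on_good f j φ₁ hφ₁ hU hUf hUjf ?_⟩
  · change j z ∈ f ⁻¹ᵁ (X.basicOpen a)
    rw [hpre]
    exact hzb
  · refine Groth.Agent.S9325.core (f.app (X.basicOpen a)).hom hsf _ _ rfl g hg ?_
    rw [← hker]
    have : RingHom.ker (j.app (f ⁻¹ᵁ (X.basicOpen a))).hom =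
        Ideal.map (f.app (X.basicOpen a)).hom
          (RingHom.ker ((j.app (f ⁻¹ᵁ (X.basicOpen a))).hom.comp (f.app (X.basicOpen a)).hom)) := by
      rw [← RingHom.comap_ker, Ideal.map_comap_of_surjective _ hsf]
    exact this

end Inj

section Free

variable {Z Y : Scheme.{u}} (j : Z ⟶ Y)

theorem val_sum {ι : Type*} (I : Y.IdealSheafData) {W : Y.Opens} (T : Finset ι)
    (s : ι → Γ(ClSub.idealMod I, W)) :
    IdealMod.val I (∑ k ∈ T, s k) = ∑ k ∈ T, IdealMod.val I (s k) := by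
  classical
  induction T using Finset.induction_on with
  | empty => simp only [Finset.sum_empty]; exact ConormMap.val_zero I W
  | insert a T ha ih => rw [Finset.sum_insert ha, Finset.sum_insert ha, IdealMod.val_add, ih]

/-- on a good chart on which the kernel is generated by an `H_1`-regular sequence, the sections
of the conormal sheaf form a free module of finite rank -/
theorem free_on_good [IsImmersion j] [QuasiCompact j] {V : Y.Opens} (hV : IsAffineOpen V)
    (hVle : V ≤ j.coborderRange) {c : ℕ} (g : Fin c → Γ(Y, V)) (hg : CAlgX.IsH1Regular g)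
    (hker : RingHom.ker (j.app V).hom = Ideal.span (Set.range g)) :
    Module.Free Γ(Z, j ⁻¹ᵁ V) Γ(Omega.conormal j, j ⁻¹ᵁ V) ∧
      Module.Finite Γ(Z, j ⁻¹ᵁ V) Γ(Omega.conormal j, j ⁻¹ᵁ V) := by
  obtain ⟨hjV, hs⟩ := good_of_le_coborderRange j hV hVle
  have hgk : ∀ k, g k ∈ RingHom.ker (j.app V).hom := fun k => by
    rw [hker]; exact Ideal.subset_span ⟨k, rfl⟩
  choose s hsv using fun k => Conorm.exists_val_eq j hV (g k) (hgk k)
  let e : Fin c → Γ(Omega.conormal j, j ⁻¹ᵁ V) := fun k => OmegaSh.conormalSect j V (s k)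
  have hcomb : ∀ bb : Fin c → Γ(Y, V), ∑ k, j.app V (bb k) • e k =
      OmegaSh.conormalSect j V (∑ k, bb k • s k) := by
    intro bb
    rw [map_sum]
    refine Finset.sum_congr rfl fun k _ => ?_
    rw [Conorm.conormalSect_smul]
  have hli : LinearIndependent Γ(Z, j ⁻¹ᵁ V) e := by
    rw [Fintype.linearIndependent_iff]
    intro cc hcc k
    choose bb hbb using fun k => hs (cc k)
    have h1 : ∑ k, j.app V (bb k) • e k = 0 := by
      simp only [hbb]; exact hcc
    rw [hcomb] at h1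
    have h2 := (Conorm.conormalSect_eq_zero_iff j hV hjV hs _).mp h1
    rw [val_sum] at h2
    simp only [IdealMod.val_smul, hsv] at h2
    rw [hker] at h2
    have h3 := H1Loc.coeff_mem_of_sum_mem_sq g hg bb h2 k
    rw [← hker] at h3
    rw [← hbb k]
    exact h3
  have hsp : ⊤ ≤ Submodule.span Γ(Z, j ⁻¹ᵁ V) (Set.range e) := by
    intro y _
    obtain ⟨t, rfl⟩ := Conorm.conormalSect_surjective j hV hjV hs y
    have ht := Conorm.val_mem_ker j hV t
    rw [hker] at ht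
    obtain ⟨bb, hbb⟩ := (Ideal.mem_span_range_iff_exists_fun).mp ht
    have ht' : t = ∑ k, bb k • s k := by
      apply IdealMod.val_injective j.ker
      rw [val_sum, ← hbb]
      refine Finset.sum_congr rfl fun k _ => ?_
      rw [IdealMod.val_smul, hsv]
    rw [ht', ← hcomb]
    exact Submodule.sum_mem _ fun k _ => Submodule.smul_mem _ _ (Submodule.subset_span ⟨k, rfl⟩)
  let B := Module.Basis.mk hli hsp
  exact ⟨Module.Free.of_basis B, Module.Finite.of_basis B⟩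

theorem isFinLocFree_conormal_of_h1 [IsImmersion j] [QuasiCompact j]
    (hj : ∀ z : Z, RegImm.IsRegularImmersionAt .h1 j z) :
    FlatMod.IsFinLocFree (Omega.conormal j) := by
  haveI qc : (Omega.conormal j).IsQuasicoherent :=
    Groth.Agent.Lib.Helper17.PbStalk.isQuasicoherent_pullback j (ClSub.idealMod j.ker)
  apply LocFreeCrit.isFinLocFree_of_forall_mem_freeLocus
  intro z
  obtain ⟨_, ⟨W₀ : Y.Opens, hW₀, rfl⟩, hzW₀, hW₀le⟩ :=
    Y.isBasis_affineOpens.exists_subset_of_mem_open (mem_coborderRange j z) j.coborderRange.2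
  obtain ⟨b, c, hzb, hchart⟩ := exists_h1_chart j z (hj z) hW₀ hzW₀
  obtain ⟨g, hg, hker⟩ := hchart _ rfl
  have hV : IsAffineOpen (Y.basicOpen b) := hW₀.basicOpen b
  have hVle : Y.basicOpen b ≤ j.coborderRange := fun y hy => hW₀le (Y.basicOpen_le b hy)
  obtain ⟨hjV, -⟩ := good_of_le_coborderRange j hV hVle
  obtain ⟨hfree, hfin⟩ := free_on_good j hV hVle g hg hker
  haveI := hfree
  haveI := hfin
  haveI : Module.FinitePresentation Γ(Z, j ⁻¹ᵁ (Y.basicOpen b))
      Γ(Omega.conormal j, j ⁻¹ᵁ (Y.basicOpen b)) := Module.finitePresentation_of_projective _ _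
  refine ⟨j ⁻¹ᵁ (Y.basicOpen b), hjV, hzb, inferInstance, ?_⟩
  rw [(Module.freeLocus_eq_univ_iff).mpr inferInstance]
  exact Set.mem_univ _

end Free

end Groth.Agent.Lib.Helper1.ConormReg
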