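import Mathlib
import Groth.Agent.Lib.Helper15.Thickening

set_option autoImplicit false
set_option linter.style.haveILetI false
universe u
open CategoryTheory CategoryTheory.Limits AlgebraicGeometry TopologicalSpace Opposite

namespace Groth.Agent.Lib.Helper1.KerPB

open Groth.Agent.Lib.Helper15

/-- In a pullback square with `j` a closed immersion, the kernel of the base change `i` of `j` is
generated (affine locally) by the pullback of the kernel of `j`. -/
theorem ker_app_le_map {Z P W W' : Scheme.{u}} {i : Z ⟶ P} {f : Z ⟶ W}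
    {s : P ⟶ W'} {j : W ⟶ W'} (H : IsPullback i f s j) [IsClosedImmersion j]
    (U : P.Opens) (hU : IsAffineOpen U) (V : W'.Opens) (hV : IsAffineOpen V) (hUV : U ≤ s ⁻¹ᵁ V) :
    RingHom.ker (i.app U).hom ≤ Ideal.map (s.appLE V U hUV).hom (RingHom.ker (j.app V).hom) := by
  have hUY : i ⁻¹ᵁ U = i ⁻¹ᵁ U ⊓ f ⁻¹ᵁ (j ⁻¹ᵁ V) := by
    refine (inf_eq_left.mpr ?_).symm
    rw [← Scheme.Hom.comp_preimage, ← H.w, Scheme.Hom.comp_preimage]
    exact i.preimage_mono hUV
  have Hres := Scheme.Hom.isPullback_resLE H (US := V) (UT := j ⁻¹ᵁ V) (UX := U)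
    le_rfl hUV hUY
  have : IsAffine (U : Scheme.{u}) := hU
  have : IsAffine (V : Scheme.{u}) := hV
  have : IsAffine ((j ⁻¹ᵁ V : W.Opens) : Scheme.{u}) := hV.preimage j
  have Hpo := isPushout_appTop_of_isPullback Hres
  have hjapp : (j.resLE V (j ⁻¹ᵁ V) le_rfl).appTop =
      V.topIso.hom ≫ j.app V ≫ (j ⁻¹ᵁ V).topIso.inv := by
    rw [Scheme.Hom.appTop, Scheme.Hom.resLE_app_top, Scheme.Hom.appLE_eq_app]
  have hiapp : (i.resLE U (i ⁻¹ᵁ U) le_rfl).appTop =
      U.topIso.hom ≫ i.app U ≫ (i ⁻¹ᵁ U).topIso.inv := by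
    rw [Scheme.Hom.appTop, Scheme.Hom.resLE_app_top, Scheme.Hom.appLE_eq_app]
  have hsapp : (s.resLE V U hUV).appTop = V.topIso.hom ≫ s.appLE V U hUV ≫ U.topIso.inv := by
    rw [Scheme.Hom.appTop, Scheme.Hom.resLE_app_top]
  have hsurj : Function.Surjective (j.resLE V (j ⁻¹ᵁ V) le_rfl).appTop.hom := by
    rw [hjapp]
    simp only [CommRingCat.hom_comp, RingHom.coe_comp]
    exact ((ConcreteCategory.bijective_of_isIso (j ⁻¹ᵁ V).topIso.inv).2.comp
      (j.app_surjective V hV)).comp (ConcreteCategory.bijective_of_isIso V.topIso.hom).2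
  have hle := ker_le_map_of_isPushout Hpo hsurj
  intro a ha
  have h1 : U.topIso.inv.hom a ∈ RingHom.ker (i.resLE U (i ⁻¹ᵁ U) le_rfl).appTop.hom := by
    rw [RingHom.mem_ker, hiapp]
    simp only [CommRingCat.hom_comp, RingHom.comp_apply]
    have : U.topIso.hom.hom (U.topIso.inv.hom a) = a := by
      rw [← RingHom.comp_apply, ← CommRingCat.hom_comp, Iso.inv_hom_id]
      rfl
    rw [this, RingHom.mem_ker.mp ha, map_zero]
  have h2 := hle h1
  -- transport back
  have h3 : Ideal.map (s.resLE V U hUV).appTop.hom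
      (RingHom.ker (j.resLE V (j ⁻¹ᵁ V) le_rfl).appTop.hom) ≤
      Ideal.comap U.topIso.hom.hom
        (Ideal.map (s.appLE V U hUV).hom (RingHom.ker (j.app V).hom)) := by
    rw [Ideal.map_le_iff_le_comap]
    intro c hc
    rw [Ideal.mem_comap, Ideal.mem_comap, hsapp]
    simp only [CommRingCat.hom_comp, RingHom.comp_apply]
    have e1 : U.topIso.hom.hom (U.topIso.inv.hom ((s.appLE V U hUV).hom (V.topIso.hom.hom c))) =
        (s.appLE V U hUV).hom (V.topIso.hom.hom c) := by
      rw [← RingHom.comp_apply, ← CommRingCat.hom_comp, Iso.inv_hom_id]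
      rfl
    rw [e1]
    apply Ideal.mem_map_of_mem
    rw [RingHom.mem_ker]
    rw [RingHom.mem_ker, hjapp] at hc
    simp only [CommRingCat.hom_comp, RingHom.comp_apply] at hc
    exact (ConcreteCategory.bijective_of_isIso (j ⁻¹ᵁ V).topIso.inv).1
      (hc.trans (map_zero _).symm)
  have h4 := h3 h2
  rw [Ideal.mem_comap] at h4
  have e2 : U.topIso.hom.hom (U.topIso.inv.hom a) = a := by
    rw [← RingHom.comp_apply, ← CommRingCat.hom_comp, Iso.inv_hom_id]
    rfl
  rwa [e2] at h4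

end Groth.Agent.Lib.Helper1.KerPB
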