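import Mathlib
import Groth.Agent.Lib.Helper1.ConormTriple
import Groth.Agent.Lib.Helper1.KerPB

set_option autoImplicit false
set_option linter.style.haveILetI false
universe u
open CategoryTheory CategoryTheory.Limits AlgebraicGeometry TopologicalSpace Opposite TensorProduct
open Groth.Agent.Lib.Helper1.PbSect Groth.Agent.Lib.Helper3 Groth.Agent.Lib.Helper1.ConormMap
open Groth.Agent.Lib.Helper1

namespace Groth.Agent.Lib.Helper1.ConormUT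

variable {Z Y Y' Z' Z'' : Scheme.{u}} (i : Z ⟶ Y) (j : Y ⟶ Y') (i'' : Z ⟶ Z'') (n : Z'' ⟶ Z')
  (m : Z' ⟶ Y') (e : Z'' ⟶ Y)
  (ψ₁ : (Scheme.Modules.pullback i).obj (Omega.conormal j) ⟶ Omega.conormal (i'' ≫ n))
  (hψ₁ : OmegaSh.IsConormalMap (i'' ≫ n) j m i ψ₁)
  (ψ₂ : (Scheme.Modules.pullback (𝟙 Z)).obj (Omega.conormal (i'' ≫ n)) ⟶ Omega.conormal i'')
  (hψ₂ : OmegaSh.IsConormalMap i'' (i'' ≫ n) n (𝟙 Z) ψ₂)

include hψ₁ in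
theorem psi1_apply (U' : Y'.Opens) (r : Γ(ClSub.idealMod j.ker, U'))
    (s : Γ(ClSub.idealMod (i'' ≫ n).ker, m ⁻¹ᵁ U'))
    (hs : IdealMod.val (i'' ≫ n).ker s = m.app U' (IdealMod.val j.ker r))
    (V : Z.Opens) (h₁ : V ≤ i ⁻¹ᵁ (j ⁻¹ᵁ U')) (h₂ : V ≤ (i'' ≫ n) ⁻¹ᵁ (m ⁻¹ᵁ U')) :
    ψ₁.app V (QCSec.res _ h₁ (OmegaSh.pullSect i (Omega.conormal j) (j ⁻¹ᵁ U')
      (OmegaSh.conormalSect j U' r))) =
      QCSec.res _ h₂ (OmegaSh.conormalSect (i'' ≫ n) (m ⁻¹ᵁ U') s) := by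
  rw [QCExact.app_res']
  exact hψ₁.2 U' r s hs V h₁ h₂

/-- the functions in the ideal of `j`, pulled back to `Z'`, vanish on `Z` -/
theorem app_app_val_eq_zero (hsq : i ≫ j = (i'' ≫ n) ≫ m) (U' : Y'.Opens)
    (r : Γ(ClSub.idealMod j.ker, U')) :
    (i'' ≫ n).app (m ⁻¹ᵁ U') (m.app U' (IdealMod.val j.ker r)) = 0 := by
  have h1 : ((i'' ≫ n) ≫ m).app U' (IdealMod.val j.ker r) = 0 := by
    rw [Scheme.Hom.congr_app hsq.symm U']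
    change Z.presheaf.map _ (i.app _ (j.app U' (IdealMod.val j.ker r))) = 0
    rw [ConormDiff.app_val_eq_zero' j r, map_zero, map_zero]
  exact h1

include hψ₁ hψ₂ in
theorem comp_eq_zero [QuasiCompact i''] [QuasiCompact (i'' ≫ n)] (hsq : i ≫ j = (i'' ≫ n) ≫ m)
    (hw : n ≫ m = e ≫ j) :
    ψ₁ ≫ (Scheme.Modules.pullbackId Z).inv.app (Omega.conormal (i'' ≫ n)) ≫ ψ₂ = 0 := by
  apply ConormTriple.pullback_pullback_hom_ext i j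
  intro U' hU' r
  obtain ⟨s, hs⟩ := exists_val_eq_of_app_eq_zero' (i'' ≫ n) (m ⁻¹ᵁ U') _
    (app_app_val_eq_zero i j i'' n m hsq U' r)
  have h₂ : i ⁻¹ᵁ (j ⁻¹ᵁ U') ≤ (i'' ≫ n) ⁻¹ᵁ (m ⁻¹ᵁ U') := by
    rw [← Scheme.Hom.comp_preimage, ← Scheme.Hom.comp_preimage, hsq]
  have h1 := psi1_apply i j i'' n m ψ₁ hψ₁ U' r s hs (i ⁻¹ᵁ (j ⁻¹ᵁ U')) le_rfl h₂
  rw [QCSec.res_self] at h1
  obtain ⟨t, ht⟩ := ConormTriple.exists_t n i'' (m ⁻¹ᵁ U') s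
  have h2 := ConormTriple.phi2_apply n i'' ψ₂ hψ₂ (m ⁻¹ᵁ U') s t ht
  have ht0 : t = 0 := by
    apply IdealMod.val_injective i''.ker
    rw [ht, hs, val_zero]
    have h3 : (n ≫ m).app U' (IdealMod.val j.ker r) = 0 := by
      rw [Scheme.Hom.congr_app hw U']
      change Z''.presheaf.map _ (e.app _ (j.app U' (IdealMod.val j.ker r))) = 0
      rw [ConormDiff.app_val_eq_zero' j r, map_zero, map_zero]
    exact h3
  rw [ht0, map_zero] at h2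
  change ((Scheme.Modules.pullbackId Z).inv.app (Omega.conormal (i'' ≫ n)) ≫ ψ₂).app
    (i ⁻¹ᵁ (j ⁻¹ᵁ U')) (ψ₁.app (i ⁻¹ᵁ (j ⁻¹ᵁ U')) (OmegaSh.pullSect i (Omega.conormal j) (j ⁻¹ᵁ U')
      (OmegaSh.conormalSect j U' r))) = 0
  rw [h1]
  refine (QCExact.app_res' (M := Omega.conormal (i'' ≫ n))
    ((Scheme.Modules.pullbackId Z).inv.app (Omega.conormal (i'' ≫ n)) ≫ ψ₂) h₂ _).trans ?_
  rw [h2]
  exact map_zero _

section Local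

variable [IsClosedImmersion i''] [IsClosedImmersion n] [IsClosedImmersion j]
  {W' : Z'.Opens} (hW' : IsAffineOpen W')

include hψ₂ hW' in
theorem surjective_on_affine :
    Function.Surjective (((Scheme.Modules.pullbackId Z).inv.app (Omega.conormal (i'' ≫ n)) ≫ ψ₂).app
      ((i'' ≫ n) ⁻¹ᵁ W')) := by
  have hVf : IsAffineOpen (n ⁻¹ᵁ W') := hW'.preimage n
  have hsf : Function.Surjective (n.app W') := n.app_surjective W' hW'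
  have hVj : IsAffineOpen (i'' ⁻¹ᵁ (n ⁻¹ᵁ W')) := hVf.preimage i''
  have hsj : Function.Surjective (i''.app (n ⁻¹ᵁ W')) := i''.app_surjective _ hVf
  intro y
  obtain ⟨t, rfl⟩ := Conorm.conormalSect_surjective i'' hVf hVj hsj y
  obtain ⟨a, ha⟩ := hsf (IdealMod.val i''.ker t)
  have ha0 : a ∈ RingHom.ker ((i'' ≫ n).app W').hom := by
    rw [RingHom.mem_ker]
    change i''.app (n ⁻¹ᵁ W') (n.app W' a) = 0
    rw [ha]
    exact Conorm.val_mem_ker i'' hVf t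
  obtain ⟨s', hs'⟩ := Conorm.exists_val_eq (i'' ≫ n) hW' a ha0
  exact ⟨OmegaSh.conormalSect (i'' ≫ n) W' s',
    ConormTriple.phi2_apply n i'' ψ₂ hψ₂ W' s' t (by rw [hs', ha])⟩

variable (hpb : IsPullback n e m j) (hsq : i ≫ j = (i'' ≫ n) ≫ m)
  (hker : i''.ker * i''.ker = ⊥) {U' : Y'.Opens} (hU' : IsAffineOpen U') (hWU : W' ≤ m ⁻¹ᵁ U')

include hψ₁ hψ₂ hW' hpb hsq hker hU' hWU in
theorem exact_on_affine (x : Γ(Omega.conormal (i'' ≫ n), (i'' ≫ n) ⁻¹ᵁ W'))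
    (hx : ((Scheme.Modules.pullbackId Z).inv.app (Omega.conormal (i'' ≫ n)) ≫ ψ₂).app
      ((i'' ≫ n) ⁻¹ᵁ W') x = 0) :
    ∃ y : Γ((Scheme.Modules.pullback i).obj (Omega.conormal j), (i'' ≫ n) ⁻¹ᵁ W'),
      ψ₁.app ((i'' ≫ n) ⁻¹ᵁ W') y = x := by
  have hVf : IsAffineOpen (n ⁻¹ᵁ W') := hW'.preimage n
  have hVj : IsAffineOpen (i'' ⁻¹ᵁ (n ⁻¹ᵁ W')) := hVf.preimage i''
  have hsj : Function.Surjective (i''.app (n ⁻¹ᵁ W')) := i''.app_surjective _ hVf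
  have hVjf : IsAffineOpen ((i'' ≫ n) ⁻¹ᵁ W') := hVj
  have hsjf : Function.Surjective ((i'' ≫ n).app W') := (i'' ≫ n).app_surjective W' hW'
  obtain ⟨s', rfl⟩ := Conorm.conormalSect_surjective (i'' ≫ n) hW' hVjf hsjf x
  obtain ⟨t, ht⟩ := ConormTriple.exists_t n i'' W' s'
  rw [ConormTriple.phi2_apply n i'' ψ₂ hψ₂ W' s' t ht] at hx
  have h1 := (Conorm.conormalSect_eq_zero_iff i'' hVf hVj hsj t).mp hx
  have h2 : RingHom.ker (i''.app (n ⁻¹ᵁ W')).hom ^ 2 = ⊥ := by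
    rw [← Scheme.Hom.ker_apply i'' ⟨n ⁻¹ᵁ W', hVf⟩, pow_two]
    have h3 : (i''.ker * i''.ker).ideal ⟨n ⁻¹ᵁ W', hVf⟩ =
      i''.ker.ideal ⟨n ⁻¹ᵁ W', hVf⟩ * i''.ker.ideal ⟨n ⁻¹ᵁ W', hVf⟩ := rfl
    rw [← h3, hker]; rfl
  rw [h2, Ideal.mem_bot, ht] at h1
  have h4 : IdealMod.val (i'' ≫ n).ker s' ∈
      Ideal.map (m.appLE U' W' hWU).hom (RingHom.ker (j.app U').hom) :=
    KerPB.ker_app_le_map hpb W' hW' U' hU' hWU h1
  -- the span induction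
  have key : ∀ a ∈ Ideal.map (m.appLE U' W' hWU).hom (RingHom.ker (j.app U').hom),
      ∃ s₀ : Γ(ClSub.idealMod (i'' ≫ n).ker, W'), IdealMod.val (i'' ≫ n).ker s₀ = a ∧
        ∃ y : Γ((Scheme.Modules.pullback i).obj (Omega.conormal j), (i'' ≫ n) ⁻¹ᵁ W'),
          ψ₁.app ((i'' ≫ n) ⁻¹ᵁ W') y = OmegaSh.conormalSect (i'' ≫ n) W' s₀ := by
    intro a ha
    refine Submodule.span_induction ?_ ?_ ?_ ?_ ha
    · rintro _ ⟨b, hb, rfl⟩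
      obtain ⟨r, hr⟩ := Conorm.exists_val_eq j hU' b hb
      obtain ⟨s, hs⟩ := exists_val_eq_of_app_eq_zero' (i'' ≫ n) (m ⁻¹ᵁ U') _
        (app_app_val_eq_zero i j i'' n m hsq U' r)
      have h₂ : (i'' ≫ n) ⁻¹ᵁ W' ≤ (i'' ≫ n) ⁻¹ᵁ (m ⁻¹ᵁ U') := (i'' ≫ n).preimage_mono hWU
      have h₁ : (i'' ≫ n) ⁻¹ᵁ W' ≤ i ⁻¹ᵁ (j ⁻¹ᵁ U') := by
        rw [← Scheme.Hom.comp_preimage i j, hsq]
        exact h₂
      refine ⟨QCSec.res _ hWU s, ?_, _, psi1_apply i j i'' n m ψ₁ hψ₁ U' r s hs _ h₁ h₂ |>.trans ?_⟩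
      · rw [IdealMod.val_res, hs, hr]
        rfl
      · rw [OmegaSh.conormalSect_eq, OmegaSh.conormalSect_eq]
        exact (OmegaSh.pullSect_map (i'' ≫ n) (ClSub.idealMod (i'' ≫ n).ker) hWU s).symm
    · exact ⟨0, val_zero _ _, 0, by rw [map_zero, map_zero]⟩
    · rintro a₁ a₂ - - ⟨s₁, hs₁, y₁, hy₁⟩ ⟨s₂, hs₂, y₂, hy₂⟩
      exact ⟨s₁ + s₂, by rw [IdealMod.val_add, hs₁, hs₂], y₁ + y₂,
        by rw [map_add, map_add, hy₁, hy₂]⟩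
    · rintro c a₁ - ⟨s₁, hs₁, y₁, hy₁⟩
      refine ⟨c • s₁, by rw [IdealMod.val_smul, hs₁]; rfl, ((i'' ≫ n).app W' c) • y₁, ?_⟩
      rw [Conorm.conormalSect_smul, ← hy₁]
      exact Scheme.Modules.Hom.app_smul _ _ _
  obtain ⟨s₀, hs₀, y, hy⟩ := key _ h4
  have : s₀ = s' := IdealMod.val_injective (i'' ≫ n).ker W' hs₀
  rw [this] at hy
  exact ⟨y, hy⟩

end Local

end Groth.Agent.Lib.Helper1.ConormUT
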