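import Mathlib
import Groth.Agent.Lib.Helper1.ConormUT
import Groth.Agent.Lib.Helper1.ConormSplit
import Groth.Agent.Lib.Helper1.ConormSES
import Groth.Agent.Lib.Helper1.ConormLciRing
import Groth.Agent.Lib.Helper1.UTRing
import Groth.Agent.Lib.Helper1.ConormReg

set_option autoImplicit false
set_option linter.style.haveILetI false
universe u
open CategoryTheory CategoryTheory.Limits AlgebraicGeometry TopologicalSpace Opposite TensorProduct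
open Groth.Agent.Lib.Helper1.PbSect Groth.Agent.Lib.Helper3 Groth.Agent.Lib.Helper1.ConormMap
open Groth.Agent.Lib.Helper1

namespace Groth.Agent.Lib.Helper1.ConormLci

section Formula

variable {Z Y Y' Z' : Scheme.{u}} (i : Z ⟶ Y) (j : Y ⟶ Y') (i' : Z ⟶ Z') (m : Z' ⟶ Y')
  (ψ₁ : (Scheme.Modules.pullback i).obj (Omega.conormal j) ⟶ Omega.conormal i')
  (hψ₁ : OmegaSh.IsConormalMap i' j m i ψ₁)

/-- the functions in the ideal of `j`, pulled back to `Z'`, vanish on `Z` -/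
theorem app_app_val_eq_zero (hsq : i ≫ j = i' ≫ m) (U' : Y'.Opens)
    (r : Γ(ClSub.idealMod j.ker, U')) :
    i'.app (m ⁻¹ᵁ U') (m.app U' (IdealMod.val j.ker r)) = 0 := by
  have h1 : (i' ≫ m).app U' (IdealMod.val j.ker r) = 0 := by
    rw [Scheme.Hom.congr_app hsq.symm U']
    change Z.presheaf.map _ (i.app _ (j.app U' (IdealMod.val j.ker r))) = 0
    rw [ConormDiff.app_val_eq_zero' j r, map_zero, map_zero]
  exact h1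

include hψ₁ in
theorem psi1_pullRes [QuasiCompact i'] (hsq : i ≫ j = i' ≫ m) (U' : Y'.Opens) (W' : Z'.Opens)
    (hWU : W' ≤ m ⁻¹ᵁ U') (e : i' ⁻¹ᵁ W' ≤ i ⁻¹ᵁ (j ⁻¹ᵁ U'))
    (r : Γ(ClSub.idealMod j.ker, U')) :
    ∃ t : Γ(ClSub.idealMod i'.ker, W'),
      IdealMod.val i'.ker t = (m.appLE U' W' hWU).hom (IdealMod.val j.ker r) ∧
      ψ₁.app (i' ⁻¹ᵁ W') (pullRes i (Omega.conormal j) e (OmegaSh.conormalSect j U' r)) =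
        OmegaSh.conormalSect i' W' t := by
  obtain ⟨s, hs⟩ := exists_val_eq_of_app_eq_zero' i' (m ⁻¹ᵁ U') _
    (app_app_val_eq_zero i j i' m hsq U' r)
  have h₂ : i' ⁻¹ᵁ W' ≤ i' ⁻¹ᵁ (m ⁻¹ᵁ U') := i'.preimage_mono hWU
  refine ⟨QCSec.res _ hWU s, ?_, ?_⟩
  · rw [IdealMod.val_res, hs]
    rfl
  · have h1 := hψ₁.2 U' r s hs (i' ⁻¹ᵁ W') e h₂
    rw [pullRes_apply]
    refine (QCExact.app_res' ψ₁ e _).trans (h1.trans ?_)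
    rw [OmegaSh.conormalSect_eq, OmegaSh.conormalSect_eq]
    exact (OmegaSh.pullSect_map i' (ClSub.idealMod i'.ker) hWU s).symm

end Formula

section Chart

variable {Z Y X Z' Y' : Scheme.{u}} (i : Z ⟶ Y) (b : Y ⟶ X)
  (i' : Z ⟶ Z') (c : Z' ⟶ X) (hZ' : OmegaSh.IsUnivThickening (i ≫ b) i' c)
  (j : Y ⟶ Y') (d : Y' ⟶ X) (hY' : OmegaSh.IsUnivThickening b j d)
  (m : Z' ⟶ Y') (hm₁ : i' ≫ m = i ≫ j) (hm₂ : m ≫ d = c)
  (ψ₁ : (Scheme.Modules.pullback i).obj (Omega.conormal j) ⟶ Omega.conormal i')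
  (hψ₁ : OmegaSh.IsConormalMap i' j m i ψ₁)

/-- composite of three `appLE`s -/
theorem appLE3 {A₁ A₂ A₃ A₄ : Scheme.{u}} (f₁ : A₁ ⟶ A₂) (f₂ : A₂ ⟶ A₃) (f₃ : A₃ ⟶ A₄)
    (U₄ : A₄.Opens) (U₃ : A₃.Opens) (U₂ : A₂.Opens) (U₁ : A₁.Opens)
    (e₃ : U₃ ≤ f₃ ⁻¹ᵁ U₄) (e₂ : U₂ ≤ f₂ ⁻¹ᵁ U₃) (e₁ : U₁ ≤ f₁ ⁻¹ᵁ U₂)
    (e : U₁ ≤ (f₁ ≫ f₂ ≫ f₃) ⁻¹ᵁ U₄) (r : Γ(A₄, U₄)) :
    (f₁.appLE U₂ U₁ e₁).hom ((f₂.appLE U₃ U₂ e₂).hom ((f₃.appLE U₄ U₃ e₃).hom r)) =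
      ((f₁ ≫ f₂ ≫ f₃).appLE U₄ U₁ e).hom r := by
  have h1 := Scheme.Hom.appLE_comp_appLE f₂ f₃ U₄ U₃ U₂ e₃ e₂
  have h2 := Scheme.Hom.appLE_comp_appLE f₁ (f₂ ≫ f₃) U₄ U₂ U₁
    (e₂.trans ((Opens.map f₂.base).map (homOfLE e₃)).le) e₁
  have h3 : (f₃.appLE U₄ U₃ e₃ ≫ f₂.appLE U₃ U₂ e₂) ≫ f₁.appLE U₂ U₁ e₁ =
      (f₁ ≫ f₂ ≫ f₃).appLE U₄ U₁ e := by
    rw [h1, h2]
  exact congr($h3 r)

theorem appLE2 {A₁ A₂ A₃ : Scheme.{u}} (f₁ : A₁ ⟶ A₂) (f₂ : A₂ ⟶ A₃)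
    (U₃ : A₃.Opens) (U₂ : A₂.Opens) (U₁ : A₁.Opens)
    (e₂ : U₂ ≤ f₂ ⁻¹ᵁ U₃) (e₁ : U₁ ≤ f₁ ⁻¹ᵁ U₂)
    (e : U₁ ≤ (f₁ ≫ f₂) ⁻¹ᵁ U₃) (r : Γ(A₃, U₃)) :
    (f₁.appLE U₂ U₁ e₁).hom ((f₂.appLE U₃ U₂ e₂).hom r) = ((f₁ ≫ f₂).appLE U₃ U₁ e).hom r := by
  have h1 := Scheme.Hom.appLE_comp_appLE f₁ f₂ U₃ U₂ U₁ e₂ e₁
  exact congr($h1 r)

theorem appLE_congr_apply {A₁ A₂ : Scheme.{u}} {g₁ g₂ : A₁ ⟶ A₂} (h : g₁ = g₂) (U : A₂.Opens)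
    (V : A₁.Opens) (e₁ : V ≤ g₁ ⁻¹ᵁ U) (e₂ : V ≤ g₂ ⁻¹ᵁ U) (r : Γ(A₂, U)) :
    (g₁.appLE U V e₁).hom r = (g₂.appLE U V e₂).hom r := by
  subst h; rfl


include hZ' hY' hm₁ hm₂ hψ₁ in
set_option maxHeartbeats 1600000 in
theorem injective_on_chart {VX : X.Opens} (hVX : IsAffineOpen VX) {V'Y : Y'.Opens}
    (hV'Y : IsAffineOpen V'Y) (eY : V'Y ≤ d ⁻¹ᵁ VX) {W' : Z'.Opens} (hW' : IsAffineOpen W')
    (eW : W' ≤ m ⁻¹ᵁ V'Y)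
    (S' : Type u) [CommRing S'] [Algebra Γ(Y', V'Y) S'] [Module.Flat Γ(Y', V'Y) S']
    (W₀ : Z.Opens) (hW₀ : W₀ = i' ⁻¹ᵁ W') (eγ : W₀ ≤ i ⁻¹ᵁ (j ⁻¹ᵁ V'Y))
    (σ : S' →+* Γ(Z, W₀)) (hσ : Function.Surjective σ)
    (hσB : ∀ b' : Γ(Y', V'Y), σ (algebraMap Γ(Y', V'Y) S' b') =
      (i.appLE (j ⁻¹ᵁ V'Y) W₀ eγ).hom ((j.app V'Y).hom b'))
    (hIJ : (RingHom.ker (j.app V'Y).hom).map (algebraMap Γ(Y', V'Y) S') ⊓ RingHom.ker σ ^ 2 ≤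
      (RingHom.ker (j.app V'Y).hom).map (algebraMap Γ(Y', V'Y) S') * RingHom.ker σ) :
    Function.Injective (ψ₁.app W₀) := by
  classical
  subst hW₀
  haveI hcj : IsClosedImmersion j := hY'.1.1.1
  haveI hci' : IsClosedImmersion i' := hZ'.1.1.1
  have hkerj : j.ker * j.ker = ⊥ := hY'.1.2
  have hkeri' : i'.ker * i'.ker = ⊥ := hZ'.1.2
  have hjd : j ≫ d = b := hY'.2.1
  have hi'c : i' ≫ c = i ≫ b := hZ'.2.1
  have hVY : IsAffineOpen (j ⁻¹ᵁ V'Y) := hV'Y.preimage j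
  have hW : IsAffineOpen (i' ⁻¹ᵁ W') := hW'.preimage i'
  have eZ : W' ≤ c ⁻¹ᵁ VX := by
    intro w hw
    have h1 : d (m w) ∈ VX := eY (eW hw)
    have h2 : c w = d (m w) := by
      have := congrArg (fun g => g.base w) hm₂
      exact this.symm
    change c w ∈ VX
    rw [h2]; exact h1
  letI algRB' : Algebra Γ(X, VX) Γ(Y', V'Y) := (d.appLE VX V'Y eY).hom.toAlgebra
  letI algB'B : Algebra Γ(Y', V'Y) Γ(Y, j ⁻¹ᵁ V'Y) :=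
    (j.appLE V'Y (j ⁻¹ᵁ V'Y) le_rfl).hom.toAlgebra
  letI algRB : Algebra Γ(X, VX) Γ(Y, j ⁻¹ᵁ V'Y) :=
    ((j.appLE V'Y (j ⁻¹ᵁ V'Y) le_rfl).hom.comp (d.appLE VX V'Y eY).hom).toAlgebra
  haveI tB : IsScalarTower Γ(X, VX) Γ(Y', V'Y) Γ(Y, j ⁻¹ᵁ V'Y) :=
    IsScalarTower.of_algebraMap_eq fun _ => rfl
  letI algRC' : Algebra Γ(X, VX) Γ(Z', W') := (c.appLE VX W' eZ).hom.toAlgebra
  letI algC'C : Algebra Γ(Z', W') Γ(Z, i' ⁻¹ᵁ W') :=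
    (i'.appLE W' (i' ⁻¹ᵁ W') le_rfl).hom.toAlgebra
  letI algRC : Algebra Γ(X, VX) Γ(Z, i' ⁻¹ᵁ W') :=
    ((i'.appLE W' (i' ⁻¹ᵁ W') le_rfl).hom.comp (c.appLE VX W' eZ).hom).toAlgebra
  haveI tC : IsScalarTower Γ(X, VX) Γ(Z', W') Γ(Z, i' ⁻¹ᵁ W') :=
    IsScalarTower.of_algebraMap_eq fun _ => rfl
  have hπB := UT.isUnivThickeningRing_of_isUnivThickening hY' hVX hV'Y eY
  have hπC := UT.isUnivThickeningRing_of_isUnivThickening hZ' hVX hW' eZ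
  letI algRS' : Algebra Γ(X, VX) S' :=
    ((algebraMap Γ(Y', V'Y) S').comp (algebraMap Γ(X, VX) Γ(Y', V'Y))).toAlgebra
  haveI tS' : IsScalarTower Γ(X, VX) Γ(Y', V'Y) S' := IsScalarTower.of_algebraMap_eq fun _ => rfl
  have hjapp : ∀ b' : Γ(Y', V'Y), (j.appLE V'Y (j ⁻¹ᵁ V'Y) le_rfl).hom b' = (j.app V'Y).hom b' := by
    intro b'; rw [Conorm.appLE_refl]
  have hi'app : ∀ c' : Γ(Z', W'), (i'.appLE W' (i' ⁻¹ᵁ W') le_rfl).hom c' = (i'.app W').hom c' := by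
    intro c'; rw [Conorm.appLE_refl]
  let γ : Γ(Y, j ⁻¹ᵁ V'Y) →ₐ[Γ(X, VX)] Γ(Z, i' ⁻¹ᵁ W') :=
    { (i.appLE (j ⁻¹ᵁ V'Y) (i' ⁻¹ᵁ W') eγ).hom with
      commutes' := by
        intro r
        have e_ic : i' ⁻¹ᵁ W' ≤ (i' ≫ c) ⁻¹ᵁ VX := i'.preimage_mono eZ
        have e_ijd : i' ⁻¹ᵁ W' ≤ (i ≫ j ≫ d) ⁻¹ᵁ VX := by rw [hjd, ← hi'c]; exact e_ic
        change (i.appLE (j ⁻¹ᵁ V'Y) (i' ⁻¹ᵁ W') eγ).hom
          ((j.appLE V'Y (j ⁻¹ᵁ V'Y) le_rfl).hom ((d.appLE VX V'Y eY).hom r)) =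
          (i'.appLE W' (i' ⁻¹ᵁ W') le_rfl).hom ((c.appLE VX W' eZ).hom r)
        rw [appLE3 i j d VX V'Y (j ⁻¹ᵁ V'Y) (i' ⁻¹ᵁ W') eY le_rfl eγ e_ijd r,
          appLE2 i' c VX W' (i' ⁻¹ᵁ W') eZ le_rfl e_ic r]
        exact appLE_congr_apply (by rw [hjd, hi'c]) _ _ _ _ r }
  let mₐ : Γ(Y', V'Y) →ₐ[Γ(X, VX)] Γ(Z', W') :=
    { (m.appLE V'Y W' eW).hom with
      commutes' := by
        intro r
        have e_md : W' ≤ (m ≫ d) ⁻¹ᵁ VX := by rw [hm₂]; exact eZ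
        change (m.appLE V'Y W' eW).hom ((d.appLE VX V'Y eY).hom r) = (c.appLE VX W' eZ).hom r
        rw [appLE2 m d VX V'Y W' eY eW e_md r]
        exact appLE_congr_apply hm₂ _ _ _ _ r }
  have hm : ∀ b', (IsScalarTower.toAlgHom Γ(X, VX) Γ(Z', W') Γ(Z, i' ⁻¹ᵁ W')) (mₐ b') =
      γ ((IsScalarTower.toAlgHom Γ(X, VX) Γ(Y', V'Y) Γ(Y, j ⁻¹ᵁ V'Y)) b') := by
    intro b'
    have e1 : i' ⁻¹ᵁ W' ≤ (i' ≫ m) ⁻¹ᵁ V'Y := i'.preimage_mono eW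
    have e2 : i' ⁻¹ᵁ W' ≤ (i ≫ j) ⁻¹ᵁ V'Y := eγ
    change (i'.appLE W' (i' ⁻¹ᵁ W') le_rfl).hom ((m.appLE V'Y W' eW).hom b') =
      (i.appLE (j ⁻¹ᵁ V'Y) (i' ⁻¹ᵁ W') eγ).hom ((j.appLE V'Y (j ⁻¹ᵁ V'Y) le_rfl).hom b')
    rw [appLE2 i' m V'Y W' (i' ⁻¹ᵁ W') eW le_rfl e1 b',
      appLE2 i j V'Y (j ⁻¹ᵁ V'Y) (i' ⁻¹ᵁ W') le_rfl eγ e2 b']
    exact appLE_congr_apply hm₁ _ _ _ _ b'
  let σₐ : S' →ₐ[Γ(X, VX)] Γ(Z, i' ⁻¹ᵁ W') :=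
    { σ with
      commutes' := by
        intro r
        change σ (algebraMap Γ(Y', V'Y) S' ((d.appLE VX V'Y eY).hom r)) = _
        rw [hσB, ← hjapp]
        exact γ.commutes r }
  have hsq : i ≫ j = i' ≫ m := hm₁.symm
  haveI qc0 : (Omega.conormal j).IsQuasicoherent :=
    Groth.Agent.Lib.Helper17.PbStalk.isQuasicoherent_pullback j (ClSub.idealMod j.ker)
  have hjs : Function.Surjective (OmegaSh.conormalSect j V'Y) :=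
    (ConormSplit.conormalSect_bijective j hV'Y hkerj).2
  have hi'b := ConormSplit.conormalSect_bijective i' hW' hkeri'
  have hi's : Function.Surjective (i'.app W').hom := i'.app_surjective W' hW'
  let N : Ideal Γ(Y', V'Y) := RingHom.ker (j.app V'Y).hom
  have hmemN : ∀ x : Γ(Y', V'Y), x ∈ N ↔
      (IsScalarTower.toAlgHom Γ(X, VX) Γ(Y', V'Y) Γ(Y, j ⁻¹ᵁ V'Y)) x = 0 := by
    intro x
    change (j.app V'Y).hom x = 0 ↔ (j.appLE V'Y (j ⁻¹ᵁ V'Y) le_rfl).hom x = 0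
    rw [hjapp]
  have hmemJ : ∀ x : S', x ∈ RingHom.ker σ ↔ σₐ x = 0 := fun x => RingHom.mem_ker
  -- the target module
  let ρ : Γ(Y', V'Y) →+* Γ(Z, i' ⁻¹ᵁ W') :=
    (i.appLE (j ⁻¹ᵁ V'Y) (i' ⁻¹ᵁ W') eγ).hom.comp (j.app V'Y).hom
  letI modQ : Module Γ(Y', V'Y)
      Γ((Scheme.Modules.pullback i).obj (Omega.conormal j), i' ⁻¹ᵁ W') :=
    Module.compHom _ ρ
  have hsmulQ : ∀ (b' : Γ(Y', V'Y))
      (q : Γ((Scheme.Modules.pullback i).obj (Omega.conormal j), i' ⁻¹ᵁ W')),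
      b' • q = ρ b' • q := fun _ _ => rfl
  -- inverse of `val` on `N`
  have hrinv : ∀ n : N, ∃ r : Γ(ClSub.idealMod j.ker, V'Y), IdealMod.val j.ker r = n.1 :=
    fun n => Conorm.exists_val_eq j hV'Y n.1 n.2
  choose rinv hrinv using hrinv
  have hrinv_add : ∀ n₁ n₂ : N, rinv (n₁ + n₂) = rinv n₁ + rinv n₂ := by
    intro n₁ n₂
    apply IdealMod.val_injective j.ker V'Y
    rw [IdealMod.val_add, hrinv, hrinv, hrinv]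
    rfl
  have hrinv_smul : ∀ (b' : Γ(Y', V'Y)) (n : N), rinv (b' • n) = b' • rinv n := by
    intro b' n
    apply IdealMod.val_injective j.ker V'Y
    rw [IdealMod.val_smul, hrinv, hrinv]
    rfl
  let g : N → Γ((Scheme.Modules.pullback i).obj (Omega.conormal j), i' ⁻¹ᵁ W') := fun n =>
    pullRes i (Omega.conormal j) eγ (OmegaSh.conormalSect j V'Y (rinv n))
  have hg_add : ∀ n₁ n₂ : N, g (n₁ + n₂) = g n₁ + g n₂ := by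
    intro n₁ n₂
    change pullRes i (Omega.conormal j) eγ (OmegaSh.conormalSect j V'Y (rinv (n₁ + n₂))) = _
    rw [hrinv_add, map_add, map_add]
  have hg_smul : ∀ (b' : Γ(Y', V'Y)) (n : N), g (b' • n) = ρ b' • g n := by
    intro b' n
    change pullRes i (Omega.conormal j) eγ (OmegaSh.conormalSect j V'Y (rinv (b' • n))) = _
    rw [hrinv_smul, Conorm.conormalSect_smul, pullRes_smul]
    rfl
  have hσρ : ∀ b' : Γ(Y', V'Y), σ (algebraMap Γ(Y', V'Y) S' b') = ρ b' := fun b' => hσB b'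
  let lam : N →ₗ[Γ(Y', V'Y)] S' →ₗ[Γ(Y', V'Y)]
      Γ((Scheme.Modules.pullback i).obj (Omega.conormal j), i' ⁻¹ᵁ W') :=
    LinearMap.mk₂ Γ(Y', V'Y) (fun n p => σ p • g n)
      (fun n₁ n₂ p => by
        change σ p • g (n₁ + n₂) = σ p • g n₁ + σ p • g n₂
        rw [hg_add, smul_add])
      (fun b' n p => by
        change σ p • g (b' • n) = b' • (σ p • g n)
        rw [hg_smul, hsmulQ, smul_comm])
      (fun n p₁ p₂ => by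
        change σ (p₁ + p₂) • g n = σ p₁ • g n + σ p₂ • g n
        rw [map_add, add_smul])
      (fun b' n p => by
        change σ (b' • p) • g n = b' • (σ p • g n)
        rw [Algebra.smul_def, map_mul, hσρ, hsmulQ, mul_smul])
  have hlam : ∀ n, ∀ p ∈ RingHom.ker σ, lam n p = 0 := by
    intro n p hp
    change σ p • g n = 0
    rw [RingHom.mem_ker.mp hp, zero_smul]
  have hlam_apply : ∀ n p, lam n p = σ p • g n := fun _ _ => rfl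
  refine (injective_iff_map_eq_zero (ψ₁.app (i' ⁻¹ᵁ W')).hom).mpr ?_
  intro x hx
  have hx' : x ∈ Submodule.span Γ(Z, i' ⁻¹ᵁ W')
      (Set.range (pullRes i (Omega.conormal j) eγ)) := by
    rw [span_range_pullRes i (Omega.conormal j) hVY hW eγ]; trivial
  obtain ⟨cf, hcf⟩ := Finsupp.mem_span_range_iff_exists_finsupp.mp hx'
  have hr : ∀ k : ↥cf.support, ∃ r : Γ(ClSub.idealMod j.ker, V'Y),
      OmegaSh.conormalSect j V'Y r = k.1 := fun k => hjs k.1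
  choose r hr using hr
  have hp : ∀ k : ↥cf.support, ∃ p : S', σ p = cf k.1 := fun k => hσ _
  choose p hp using hp
  have hct : ∀ k : ↥cf.support, ∃ c' : Γ(Z', W'), (i'.app W').hom c' = cf k.1 := fun k => hi's _
  choose ct hct using hct
  have hxsum : x = ∑ k : ↥cf.support, cf k.1 • pullRes i (Omega.conormal j) eγ k.1 := by
    rw [← hcf, Finsupp.sum, ← Finset.sum_coe_sort]
  have ht : ∀ k : ↥cf.support, ∃ t : Γ(ClSub.idealMod i'.ker, W'),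
      IdealMod.val i'.ker t = (m.appLE V'Y W' eW).hom (IdealMod.val j.ker (r k)) ∧
      ψ₁.app (i' ⁻¹ᵁ W') (pullRes i (Omega.conormal j) eγ (OmegaSh.conormalSect j V'Y (r k))) =
        OmegaSh.conormalSect i' W' t := fun k =>
    psi1_pullRes i j i' m ψ₁ hψ₁ hsq V'Y W' eW eγ (r k)
  choose t ht₁ ht₂ using ht
  let n : ↥cf.support → N := fun k => ⟨IdealMod.val j.ker (r k), Conorm.val_mem_ker j hV'Y (r k)⟩
  have hrn : ∀ k, rinv (n k) = r k := fun k =>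
    IdealMod.val_injective j.ker V'Y (hrinv (n k))
  -- the image of `x`
  have himg : (ψ₁.app (i' ⁻¹ᵁ W')).hom x =
      (OmegaSh.conormalSect i' W').hom (∑ k : ↥cf.support, ct k • t k) := by
    rw [hxsum, map_sum, map_sum]
    refine Finset.sum_congr rfl fun k _ => ?_
    have h0 : (ψ₁.app (i' ⁻¹ᵁ W')).hom (cf k.1 • pullRes i (Omega.conormal j) eγ k.1) =
        cf k.1 • (ψ₁.app (i' ⁻¹ᵁ W')).hom (pullRes i (Omega.conormal j) eγ k.1) :=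
      Scheme.Modules.Hom.app_smul ψ₁ _ _
    have h1 : (ψ₁.app (i' ⁻¹ᵁ W')).hom (pullRes i (Omega.conormal j) eγ k.1) =
        OmegaSh.conormalSect i' W' (t k) := by
      rw [← hr k]; exact ht₂ k
    rw [h0, h1]
    have h2 := Conorm.conormalSect_smul i' W' (ct k) (t k)
    rw [← hct k]
    exact h2.symm
  have hzero : ∑ k : ↥cf.support, ct k • t k = 0 := by
    apply hi'b.1
    have h0 : OmegaSh.conormalSect i' W' (0 : Γ(ClSub.idealMod i'.ker, W')) = 0 :=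
      map_zero (OmegaSh.conormalSect i' W').hom
    rw [h0]
    exact himg.symm.trans hx
  have hsum : ∑ k : ↥cf.support, ct k * mₐ (n k).1 = 0 := by
    have h1 := congrArg (IdealMod.val i'.ker) hzero
    rw [ConormReg.val_sum, ConormMap.val_zero] at h1
    rw [← h1]
    refine Finset.sum_congr rfl fun k _ => ?_
    rw [IdealMod.val_smul, ht₁ k]
    rfl
  have hctp : ∀ k : ↥cf.support,
      (IsScalarTower.toAlgHom Γ(X, VX) Γ(Z', W') Γ(Z, i' ⁻¹ᵁ W')) (ct k) = σₐ (p k) := by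
    intro k
    change (i'.appLE W' (i' ⁻¹ᵁ W') le_rfl).hom (ct k) = σ (p k)
    rw [hi'app, hct, hp]
  have hσBₐ : ∀ b' : Γ(Y', V'Y), σₐ (algebraMap Γ(Y', V'Y) S' b') =
      γ ((IsScalarTower.toAlgHom Γ(X, VX) Γ(Y', V'Y) Γ(Y, j ⁻¹ᵁ V'Y)) b') := by
    intro b'
    change σ (algebraMap Γ(Y', V'Y) S' b') =
      (i.appLE (j ⁻¹ᵁ V'Y) (i' ⁻¹ᵁ W') eγ).hom ((j.appLE V'Y (j ⁻¹ᵁ V'Y) le_rfl).hom b')
    rw [hσB, hjapp]
  have hfin := sum_eq_zero (IsScalarTower.toAlgHom Γ(X, VX) Γ(Y', V'Y) Γ(Y, j ⁻¹ᵁ V'Y)) hπB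
    (IsScalarTower.toAlgHom Γ(X, VX) Γ(Z', W') Γ(Z, i' ⁻¹ᵁ W')) hπC γ mₐ hm σₐ hσ hσBₐ
    N hmemN (RingHom.ker σ) hmemJ hIJ n p ct hctp hsum lam hlam
  rw [hxsum, ← hfin]
  refine Finset.sum_congr rfl fun k _ => ?_
  rw [hlam_apply, hp]
  change _ = cf k.1 • pullRes i (Omega.conormal j) eγ (OmegaSh.conormalSect j V'Y (rinv (n k)))
  rw [hrn, hr]

end Chart

end Groth.Agent.Lib.Helper1.ConormLci
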