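import Mathlib

set_option autoImplicit false
set_option linter.style.haveILetI false
universe u

namespace Groth.Agent.Lib.Helper1.SmoothLift

open MvPolynomial

/-- units lift along surjections with square-zero kernel -/
theorem isUnit_of_map_of_sq_zero {A B : Type*} [CommRing A] [CommRing B] (q : A →+* B)
    (hq : Function.Surjective q) (hk : ∀ x y, q x = 0 → q y = 0 → x * y = 0) (a : A)
    (ha : IsUnit (q a)) : IsUnit a := by
  obtain ⟨u, hu⟩ := ha
  obtain ⟨b, hb⟩ := hq (↑u⁻¹ : B)
  have h1 : q (a * b - 1) = 0 := by
    rw [map_sub, map_mul, ← hu, hb, Units.mul_inv, map_one, sub_self]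
  have h2 : (a * b - 1) * (a * b - 1) = 0 := hk _ _ h1 h1
  have h3 : a * (b * (2 - a * b)) = 1 := by
    have : a * (b * (2 - a * b)) = 1 - (a * b - 1) * (a * b - 1) := by ring
    rw [this, h2, sub_zero]
  exact IsUnit.of_mul_eq_one _ h3

variable {B' B S : Type u} [CommRing B'] [CommRing B] [CommRing S] [Algebra B' B] [Algebra B S]
  [Algebra B' S] [IsScalarTower B' B S]

set_option maxHeartbeats 800000 in
/-- a standard smooth algebra lifts to a flat algebra along a surjection with square-zero kernel -/
theorem exists_flat_lift (hsurj : Function.Surjective (algebraMap B' B))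
    (hsq : RingHom.ker (algebraMap B' B) ^ 2 = ⊥) [Algebra.IsStandardSmooth B S] :
    ∃ (S' : Type u) (_ : CommRing S') (_ : Algebra B' S') (q : S' →ₐ[B'] S),
      Module.Flat B' S' ∧ Function.Surjective q ∧
        RingHom.ker q.toRingHom = (RingHom.ker (algebraMap B' B)).map (algebraMap B' S') := by
  classical
  obtain ⟨ι, σ, hσ, hι, ⟨P⟩⟩ := Algebra.IsStandardSmooth.out (R := B) (S := S)
  letI : Fintype σ := Fintype.ofFinite σ
  haveI hc : P.HasCoeffs B' := ⟨by
    intro x _
    obtain ⟨y, hy⟩ := hsurj x
    exact ⟨y, hy⟩⟩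
  let S' := P.toPresentation.ModelOfHasCoeffs B'
  let mk' : MvPolynomial ι B' →ₐ[B'] S' := Ideal.Quotient.mkₐ B' _
  have hmk' : Function.Surjective mk' := Ideal.Quotient.mkₐ_surjective B' _
  have hkill : ∀ a ∈ Ideal.span (Set.range (P.toPresentation.relationOfHasCoeffs B')),
      (MvPolynomial.aeval P.val : MvPolynomial ι B' →ₐ[B'] S) a = 0 := by
    intro a ha
    rw [← RingHom.mem_ker]
    revert a
    rw [← SetLike.le_def, Ideal.span_le]
    rintro a ⟨r, rfl⟩
    simp
  let q : S' →ₐ[B'] S := Ideal.Quotient.liftₐ _ (MvPolynomial.aeval P.val) hkill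
  have hq : ∀ p : MvPolynomial ι B', q (mk' p) = MvPolynomial.aeval P.val p := fun p => rfl
  have hqs : Function.Surjective q := by
    intro s
    obtain ⟨p, hp⟩ := P.algebraMap_surjective s
    obtain ⟨p', rfl⟩ := MvPolynomial.map_surjective (algebraMap B' B) hsurj p
    refine ⟨mk' p', ?_⟩
    rw [hq, ← MvPolynomial.aeval_map_algebraMap B]
    exact (Algebra.Generators.algebraMap_apply _ _).symm.trans hp
  have hker : RingHom.ker q.toRingHom =
      (RingHom.ker (algebraMap B' B)).map (algebraMap B' S') := by
    apply le_antisymm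
    · intro x hx
      obtain ⟨p', rfl⟩ := hmk' x
      have h1 : MvPolynomial.aeval P.val p' = 0 := hx
      rw [← MvPolynomial.aeval_map_algebraMap B] at h1
      have h2 : MvPolynomial.map (algebraMap B' B) p' ∈ P.ker := by
        rw [Algebra.Generators.ker_eq_ker_aeval_val]; exact h1
      rw [← P.span_range_relation_eq_ker, Ideal.mem_span_range_iff_exists_fun] at h2
      obtain ⟨h, hh⟩ := h2
      choose h' hh' using fun r => MvPolynomial.map_surjective (algebraMap B' B) hsurj (h r)
      have h3 : MvPolynomial.map (algebraMap B' B)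
          (p' - ∑ r, h' r * P.toPresentation.relationOfHasCoeffs B' r) = 0 := by
        rw [map_sub, map_sum, ← hh, sub_eq_zero]
        refine Finset.sum_congr rfl fun r _ => ?_
        rw [map_mul, hh', P.toPresentation.map_relationOfHasCoeffs]
      have h4 : p' - ∑ r, h' r * P.toPresentation.relationOfHasCoeffs B' r ∈
          (RingHom.ker (algebraMap B' B)).map (MvPolynomial.C : B' →+* MvPolynomial ι B') := by
        rw [← MvPolynomial.ker_map]; exact h3
      have h5 : mk' p' = mk' (p' - ∑ r, h' r * P.toPresentation.relationOfHasCoeffs B' r) := by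
        rw [map_sub, map_sum]
        have : ∀ r, mk' (h' r * P.toPresentation.relationOfHasCoeffs B' r) = 0 := by
          intro r
          rw [map_mul]
          have : mk' (P.toPresentation.relationOfHasCoeffs B' r) = 0 :=
            Ideal.Quotient.eq_zero_iff_mem.mpr (Ideal.subset_span ⟨r, rfl⟩)
          rw [this, mul_zero]
        simp only [this, Finset.sum_const_zero, sub_zero]
      rw [h5]
      have h6 := Ideal.mem_map_of_mem mk'.toRingHom h4
      rw [Ideal.map_map] at h6
      exact h6
    · rw [Ideal.map_le_iff_le_comap]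
      intro n hn
      rw [Ideal.mem_comap, RingHom.mem_ker]
      change q (algebraMap B' S' n) = 0
      rw [AlgHom.commutes, IsScalarTower.algebraMap_apply B' B S, RingHom.mem_ker.mp hn, map_zero]
  have hkk : ∀ x y : S', q x = 0 → q y = 0 → x * y = 0 := by
    intro x y hx hy
    have h1 : x * y ∈ ((RingHom.ker (algebraMap B' B)).map (algebraMap B' S')) ^ 2 := by
      rw [pow_two, ← hker]
      exact Ideal.mul_mem_mul hx hy
    rw [← Ideal.map_pow, hsq, Ideal.map_bot] at h1
    exact h1
  -- the submersive presentation
  let Q : Algebra.SubmersivePresentation B' S' ι σ :=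
    { toPreSubmersivePresentation := P.toPreSubmersivePresentation.ofHasCoeffs B'
      jacobian_isUnit := by
        apply isUnit_of_map_of_sq_zero q.toRingHom hqs hkk
        have h1 : (P.toPreSubmersivePresentation.ofHasCoeffs B').jacobian =
            (Ideal.Quotient.mk _ (P.jacobianOfHasCoeffs B') : S') := by
          rw [Algebra.PreSubmersivePresentation.jacobian_eq_jacobiMatrix_det]
          simp [Algebra.SubmersivePresentation.jacobianOfHasCoeffs]
          rw [← Algebra.Generators.algebraMap_apply]
          rfl
        rw [h1]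
        change IsUnit (q (mk' (P.jacobianOfHasCoeffs B')))
        rw [hq, P.aeval_jacobianOfHasCoeffs]
        exact P.jacobian_isUnit }
  haveI : Algebra.IsStandardSmooth B' S' := Q.isStandardSmooth
  exact ⟨S', inferInstance, inferInstance, q, inferInstance, hqs, hker⟩

end Groth.Agent.Lib.Helper1.SmoothLift
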