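import Mathlib
import Groth.Agent.Lib.Helper1.ConormLciChart
import Groth.Agent.Lib.Helper1.SmoothLift
import Groth.Agent.Lib.Helper1.UTKoszul
import Groth.Agent.S9325

set_option autoImplicit false
set_option linter.style.haveILetI false
universe u
open CategoryTheory CategoryTheory.Limits AlgebraicGeometry TopologicalSpace Opposite TensorProduct
open Groth.Agent.Lib.Helper1.PbSect Groth.Agent.Lib.Helper3 Groth.Agent.Lib.Helper1.ConormMap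
open Groth.Agent.Lib.Helper1

namespace Groth.Agent.Lib.Helper1.ConormLci

section StdSmooth

variable {P Y : Scheme.{u}} (π : P ⟶ Y) [Smooth π]

theorem exists_stdSmooth_basicOpen {VY : Y.Opens} (hVY : IsAffineOpen VY) {D₁ : P.Opens}
    (hD₁ : IsAffineOpen D₁) (e : D₁ ≤ π ⁻¹ᵁ VY) (p : P) (hp : p ∈ D₁) :
    ∃ x : Γ(P, D₁), p ∈ P.basicOpen x ∧
      (letI := (π.appLE VY (P.basicOpen x) ((P.basicOpen_le x).trans e)).hom.toAlgebra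
       Algebra.IsStandardSmooth Γ(Y, VY) Γ(P, P.basicOpen x)) := by
  letI alg₁ : Algebra Γ(Y, VY) Γ(P, D₁) := (π.appLE VY D₁ e).hom.toAlgebra
  haveI hsm : Algebra.Smooth Γ(Y, VY) Γ(P, D₁) := π.smooth_appLE hVY hD₁ e
  obtain ⟨s, hs, hstd⟩ := Algebra.Smooth.exists_span_eq_top_isStandardSmooth Γ(Y, VY) Γ(P, D₁)
  have hcov := (hD₁.iSup_basicOpen_eq_self_iff (s := s)).mpr hs
  have hp' : p ∈ ⨆ f : s, P.basicOpen f.1 := by rw [hcov]; exact hp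
  obtain ⟨⟨x, hxs⟩, hpx⟩ := TopologicalSpace.Opens.mem_iSup.mp hp'
  refine ⟨x, hpx, ?_⟩
  letI alg₂ : Algebra Γ(P, D₁) Γ(P, P.basicOpen x) :=
    (P.presheaf.map (homOfLE (P.basicOpen_le x)).op).hom.toAlgebra
  haveI : IsLocalization.Away x Γ(P, P.basicOpen x) := hD₁.isLocalization_basicOpen x
  letI alg₃ : Algebra Γ(Y, VY) Γ(P, P.basicOpen x) :=
    (π.appLE VY (P.basicOpen x) ((P.basicOpen_le x).trans e)).hom.toAlgebra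
  haveI : IsScalarTower Γ(Y, VY) Γ(P, D₁) Γ(P, P.basicOpen x) :=
    IsScalarTower.of_algebraMap_eq fun r => by
      have h1 := Scheme.Hom.appLE_map π e (homOfLE (P.basicOpen_le x)).op
      exact congr($h1.symm r)
  haveI := hstd x hxs
  let eq₁ : Localization.Away x ≃ₐ[Γ(P, D₁)] Γ(P, P.basicOpen x) :=
    IsLocalization.algEquiv (Submonoid.powers x) _ _
  exact Algebra.IsStandardSmooth.of_algEquiv (eq₁.restrictScalars Γ(Y, VY))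

end StdSmooth

section Exists

variable {Z Y X Z' Y' : Scheme.{u}} (i : Z ⟶ Y) (b : Y ⟶ X)
  (i' : Z ⟶ Z') (c : Z' ⟶ X) (hZ' : OmegaSh.IsUnivThickening (i ≫ b) i' c)
  (j : Y ⟶ Y') (d : Y' ⟶ X) (hY' : OmegaSh.IsUnivThickening b j d)
  (m : Z' ⟶ Y') (hm₁ : i' ≫ m = i ≫ j) (hm₂ : m ≫ d = c)
  (ψ₁ : (Scheme.Modules.pullback i).obj (Omega.conormal j) ⟶ Omega.conormal i')
  (hψ₁ : OmegaSh.IsConormalMap i' j m i ψ₁)

include hZ' hY' hm₁ hm₂ hψ₁ in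
set_option maxHeartbeats 1600000 in
theorem exists_injective_chart (z : Z) (hz : Synt.IsKoszulAt i z) :
    ∃ W₀ : Z.Opens, IsAffineOpen W₀ ∧ z ∈ W₀ ∧ Function.Injective (ψ₁.app W₀) := by
  classical
  obtain ⟨U, P, ι, π, hzU, -, hι, hπ, hcomp⟩ := hz
  haveI := hπ
  haveI := hι.1
  haveI hcj : IsClosedImmersion j := hY'.1.1.1
  haveI hci' : IsClosedImmersion i' := hZ'.1.1.1
  have hi'surj : Function.Surjective i' := hZ'.1.1.2.surj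
  have hjd : j ≫ d = b := hY'.2.1
  have hkerj : j.ker * j.ker = ⊥ := hY'.1.2
  -- opens in X, Y', Y
  obtain ⟨_, ⟨VX : X.Opens, hVX, rfl⟩, hzVX, -⟩ := X.isBasis_affineOpens.exists_subset_of_mem_open
    (Set.mem_univ (b (i z))) isOpen_univ
  have hzd : j (i z) ∈ d ⁻¹ᵁ VX := by
    change d (j (i z)) ∈ VX
    have h1 : d (j (i z)) = b (i z) := by
      have := congrArg (fun g => g.base (i z)) hjd
      exact this
    rw [h1]; exact hzVX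
  obtain ⟨_, ⟨V'Y : Y'.Opens, hV'Y, rfl⟩, hzV'Y, eY⟩ :=
    Y'.isBasis_affineOpens.exists_subset_of_mem_open hzd (d ⁻¹ᵁ VX).2
  have hVY : IsAffineOpen (j ⁻¹ᵁ V'Y) := hV'Y.preimage j
  -- the H1 chart of ι
  obtain ⟨⟨V, hV⟩, hzV, hclV, rs, hrs, hker⟩ := hι.2 ⟨z, hzU⟩
  haveI := hclV
  have hrs' : LCI.IsKoszulRegularSeq Γ(P, V) rs := hrs
  have hH1 : CAlgX.IsH1Regular rs.get := fun a ha =>
    H10KL.h1_of_isZero_homology _ rs (hrs' (-1) (by norm_num)) a ha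
  obtain ⟨hιV, hsV⟩ := ConormMap.good_of_le_coborderRange ι hV
    (UTKoszul.le_coborderRange_of_isClosedImmersion_restrict ι V)
  have hπι : π (ι ⟨z, hzU⟩) = i z := by
    have := congrArg (fun g => g.base ⟨z, hzU⟩) hcomp
    exact this
  have hzVY : π (ι ⟨z, hzU⟩) ∈ j ⁻¹ᵁ V'Y := by rw [hπι]; exact hzV'Y
  obtain ⟨h, hDle, hzD⟩ := hV.exists_basicOpen_le (V := V ⊓ π ⁻¹ᵁ (j ⁻¹ᵁ V'Y))
    ⟨ι ⟨z, hzU⟩, ⟨hzV, hzVY⟩⟩ hzV
  have hD₁ : IsAffineOpen (P.basicOpen h) := hV.basicOpen h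
  obtain ⟨hιD₁, hsD₁, hkerD₁⟩ := UTKoszul.good_basicOpen ι hV hιV hsV h
  have hD₁π : P.basicOpen h ≤ π ⁻¹ᵁ (j ⁻¹ᵁ V'Y) := hDle.trans inf_le_right
  obtain ⟨x, hzx, hstd⟩ := exists_stdSmooth_basicOpen π hVY hD₁ hD₁π (ι ⟨z, hzU⟩) hzD
  have hD : IsAffineOpen (P.basicOpen x) := hD₁.basicOpen x
  obtain ⟨hιD, hsD, hkerD⟩ := UTKoszul.good_basicOpen ι hD₁ hιD₁ hsD₁ x
  have hDπ : P.basicOpen x ≤ π ⁻¹ᵁ (j ⁻¹ᵁ V'Y) := (P.basicOpen_le x).trans hD₁π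
  -- the opens of `Z` and `Z'`
  have hW : IsAffineOpen (U.ι ''ᵁ (ι ⁻¹ᵁ (P.basicOpen x))) := hιD.image_of_isOpenImmersion U.ι
  obtain ⟨W', hW'eq⟩ := ConormOpen.exists_preimage_eq i' (U.ι ''ᵁ (ι ⁻¹ᵁ (P.basicOpen x)))
  have hW' : IsAffineOpen W' :=
    Groth.Agent.Lib.Helper28.Thick.isAffineOpen_of_preimage i' hi'surj (by rw [hW'eq]; exact hW)
  have hzW : z ∈ U.ι ''ᵁ (ι ⁻¹ᵁ (P.basicOpen x)) := ⟨⟨z, hzU⟩, hzx, rfl⟩
  have eγ : U.ι ''ᵁ (ι ⁻¹ᵁ (P.basicOpen x)) ≤ i ⁻¹ᵁ (j ⁻¹ᵁ V'Y) := by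
    rintro _ ⟨u, hu', rfl⟩
    change i (U.ι u) ∈ j ⁻¹ᵁ V'Y
    have h1 : i (U.ι u) = π (ι u) := by
      have := congrArg (fun g => g.base u) hcomp
      exact this.symm
    rw [h1]
    exact hDπ hu'
  have eW : W' ≤ m ⁻¹ᵁ V'Y := by
    intro y' hy'
    obtain ⟨y, rfl⟩ := hi'surj y'
    have hy : y ∈ i' ⁻¹ᵁ W' := hy'
    rw [hW'eq] at hy
    change m (i' y) ∈ V'Y
    have h1 : m (i' y) = j (i y) := by
      have := congrArg (fun g => g.base y) hm₁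
      exact this
    rw [h1]
    exact eγ hy
  -- the generators
  letI algD₁ : Algebra Γ(P, V) Γ(P, P.basicOpen h) :=
    (P.presheaf.map (homOfLE (P.basicOpen_le h)).op).hom.toAlgebra
  haveI locD₁ : IsLocalization.Away h Γ(P, P.basicOpen h) := hV.isLocalization_basicOpen h
  letI algD : Algebra Γ(P, P.basicOpen h) Γ(P, P.basicOpen x) :=
    (P.presheaf.map (homOfLE (P.basicOpen_le x)).op).hom.toAlgebra
  haveI locD : IsLocalization.Away x Γ(P, P.basicOpen x) := hD₁.isLocalization_basicOpen x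
  have hg₁ := H1Loc.isH1Regular_of_isLocalization (Submonoid.powers h) Γ(P, P.basicOpen h)
    rs.get hH1
  have hg₂ := H1Loc.isH1Regular_of_isLocalization (Submonoid.powers x) Γ(P, P.basicOpen x)
    _ hg₁
  have hgI : RingHom.ker (ι.app (P.basicOpen x)).hom =
      Ideal.span (Set.range fun k => algebraMap Γ(P, P.basicOpen h) Γ(P, P.basicOpen x)
        (algebraMap Γ(P, V) Γ(P, P.basicOpen h) (rs.get k))) := by
    rw [hkerD, hkerD₁, hker, UTKoszul.ofList_eq_span_range', Ideal.map_span, Ideal.map_span,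
      ← Set.range_comp, ← Set.range_comp]
    rfl
  -- the rings
  letI algB'B : Algebra Γ(Y', V'Y) Γ(Y, j ⁻¹ᵁ V'Y) := (j.app V'Y).hom.toAlgebra
  letI algBS : Algebra Γ(Y, j ⁻¹ᵁ V'Y) Γ(P, P.basicOpen x) :=
    (π.appLE (j ⁻¹ᵁ V'Y) (P.basicOpen x) hDπ).hom.toAlgebra
  letI algB'S : Algebra Γ(Y', V'Y) Γ(P, P.basicOpen x) :=
    ((π.appLE (j ⁻¹ᵁ V'Y) (P.basicOpen x) hDπ).hom.comp (j.app V'Y).hom).toAlgebra
  haveI tow : IsScalarTower Γ(Y', V'Y) Γ(Y, j ⁻¹ᵁ V'Y) Γ(P, P.basicOpen x) :=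
    IsScalarTower.of_algebraMap_eq fun _ => rfl
  haveI hstd' : Algebra.IsStandardSmooth Γ(Y, j ⁻¹ᵁ V'Y) Γ(P, P.basicOpen x) := hstd
  have hsurjB : Function.Surjective (algebraMap Γ(Y', V'Y) Γ(Y, j ⁻¹ᵁ V'Y)) :=
    j.app_surjective V'Y hV'Y
  have hsqB : RingHom.ker (algebraMap Γ(Y', V'Y) Γ(Y, j ⁻¹ᵁ V'Y)) ^ 2 = ⊥ := by
    change RingHom.ker (j.app V'Y).hom ^ 2 = ⊥
    rw [← Scheme.Hom.ker_apply j ⟨V'Y, hV'Y⟩, pow_two]
    have h3 : (j.ker * j.ker).ideal ⟨V'Y, hV'Y⟩ =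
        j.ker.ideal ⟨V'Y, hV'Y⟩ * j.ker.ideal ⟨V'Y, hV'Y⟩ := rfl
    rw [← h3, hkerj]; rfl
  obtain ⟨S', instS', algS', q, hflat, hqs, hkerq⟩ :=
    SmoothLift.exists_flat_lift (B' := Γ(Y', V'Y)) (B := Γ(Y, j ⁻¹ᵁ V'Y))
      (S := Γ(P, P.basicOpen x)) hsurjB hsqB
  haveI := hflat
  let σ : S' →+* Γ(Z, U.ι ''ᵁ (ι ⁻¹ᵁ (P.basicOpen x))) :=
    (ι.app (P.basicOpen x)).hom.comp q.toRingHom
  have hσ : Function.Surjective σ := hsD.comp hqs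
  -- compatibility
  have hcompat : ∀ r : Γ(Y, j ⁻¹ᵁ V'Y),
      (ι.app (P.basicOpen x)).hom ((π.appLE (j ⁻¹ᵁ V'Y) (P.basicOpen x) hDπ).hom r) =
        (i.appLE (j ⁻¹ᵁ V'Y) (U.ι ''ᵁ (ι ⁻¹ᵁ (P.basicOpen x))) eγ).hom r := by
    intro r
    have h1 : π.appLE (j ⁻¹ᵁ V'Y) (P.basicOpen x) hDπ ≫ ι.app (P.basicOpen x) =
        (ι ≫ π).appLE (j ⁻¹ᵁ V'Y) (ι ⁻¹ᵁ (P.basicOpen x)) (fun y hy => hDπ hy) := by
      rw [Scheme.Hom.app_eq_appLE]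
      exact Scheme.Hom.appLE_comp_appLE ι π (j ⁻¹ᵁ V'Y) (P.basicOpen x) (ι ⁻¹ᵁ (P.basicOpen x))
        hDπ le_rfl
    have e₁ : ι ⁻¹ᵁ (P.basicOpen x) ≤ U.ι ⁻¹ᵁ (U.ι ''ᵁ (ι ⁻¹ᵁ (P.basicOpen x))) :=
      fun y hy => ⟨y, hy, rfl⟩
    have h2 : (ι ≫ π).appLE (j ⁻¹ᵁ V'Y) (ι ⁻¹ᵁ (P.basicOpen x)) (fun y hy => hDπ hy) =
        (U.ι ≫ i).appLE (j ⁻¹ᵁ V'Y) (ι ⁻¹ᵁ (P.basicOpen x)) (fun y hy => eγ (e₁ hy)) :=
      ConormSES.appLE_congr' hcomp _ _ _ _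
    have h3 : (U.ι ≫ i).appLE (j ⁻¹ᵁ V'Y) (ι ⁻¹ᵁ (P.basicOpen x)) (fun y hy => eγ (e₁ hy)) =
        i.appLE (j ⁻¹ᵁ V'Y) (U.ι ''ᵁ (ι ⁻¹ᵁ (P.basicOpen x))) eγ ≫
          U.ι.appLE (U.ι ''ᵁ (ι ⁻¹ᵁ (P.basicOpen x))) (ι ⁻¹ᵁ (P.basicOpen x)) e₁ :=
      (Scheme.Hom.appLE_comp_appLE U.ι i (j ⁻¹ᵁ V'Y) _ _ eγ e₁).symm
    have h4 : U.ι.appLE (U.ι ''ᵁ (ι ⁻¹ᵁ (P.basicOpen x))) (ι ⁻¹ᵁ (P.basicOpen x)) e₁ = 𝟙 _ := by
      rw [Scheme.Opens.ι_appLE]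
      exact Z.presheaf.map_id _
    have h5 := h1.trans (h2.trans h3)
    rw [h4] at h5
    have h6 := h5.trans (Category.comp_id _)
    exact congr($h6 r)
  have hσB : ∀ b' : Γ(Y', V'Y), σ (algebraMap Γ(Y', V'Y) S' b') =
      (i.appLE (j ⁻¹ᵁ V'Y) (U.ι ''ᵁ (ι ⁻¹ᵁ (P.basicOpen x))) eγ).hom ((j.app V'Y).hom b') := by
    intro b'
    rw [← hcompat]
    change (ι.app (P.basicOpen x)).hom (q (algebraMap Γ(Y', V'Y) S' b')) = _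
    rw [q.commutes]
    rfl
  -- the ideal-theoretic condition
  have hspan : Ideal.span (Set.range fun k => algebraMap Γ(P, P.basicOpen h) Γ(P, P.basicOpen x)
        (algebraMap Γ(P, V) Γ(P, P.basicOpen h) (rs.get k))) =
      (RingHom.ker σ).map q.toRingHom := by
    rw [← hgI]
    have h1 : RingHom.ker σ = (RingHom.ker (ι.app (P.basicOpen x)).hom).comap q.toRingHom := by
      rw [RingHom.comap_ker]
      rfl
    rw [h1]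
    exact (Ideal.map_comap_of_surjective q.toRingHom hqs _).symm
  have hIJ := Groth.Agent.S9325.core q.toRingHom hqs
    ((RingHom.ker (algebraMap Γ(Y', V'Y) Γ(Y, j ⁻¹ᵁ V'Y))).map (algebraMap Γ(Y', V'Y) S'))
    (RingHom.ker σ) hkerq _ hg₂ hspan
  refine ⟨U.ι ''ᵁ (ι ⁻¹ᵁ (P.basicOpen x)), hW, hzW, ?_⟩
  exact injective_on_chart i b i' c hZ' j d hY' m hm₁ hm₂ ψ₁ hψ₁ hVX hV'Y eY hW' eW S' _
    hW'eq.symm eγ σ hσ hσB hIJ

include hZ' hY' hm₁ hm₂ hψ₁ in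
theorem mono_psi1 (hlci : ∀ z : Z, Synt.IsKoszulAt i z) : Mono ψ₁ := by
  haveI hcj : IsClosedImmersion j := hY'.1.1.1
  haveI hci' : IsClosedImmersion i' := hZ'.1.1.1
  haveI qc0 : (Omega.conormal j).IsQuasicoherent :=
    Groth.Agent.Lib.Helper17.PbStalk.isQuasicoherent_pullback j (ClSub.idealMod j.ker)
  haveI qc1 : ((Scheme.Modules.pullback i).obj (Omega.conormal j)).IsQuasicoherent :=
    Groth.Agent.Lib.Helper17.PbStalk.isQuasicoherent_pullback i (Omega.conormal j)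
  haveI qc2 : (Omega.conormal i').IsQuasicoherent :=
    Groth.Agent.Lib.Helper17.PbStalk.isQuasicoherent_pullback i' (ClSub.idealMod i'.ker)
  apply QcMono.mono_of_injective_on_affine_cover
  intro z
  exact exists_injective_chart i b i' c hZ' j d hY' m hm₁ hm₂ ψ₁ hψ₁ z (hlci z)

end Exists

end Groth.Agent.Lib.Helper1.ConormLci
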