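import Mathlib
import Groth.Agent.Lib.Helper1.ConormMap
import Groth.Agent.Lib.Helper1.FSmoothHom
set_option autoImplicit false
set_option linter.style.haveILetI false
universe u
open CategoryTheory CategoryTheory.Limits AlgebraicGeometry TopologicalSpace Opposite
open Groth.Agent.Lib.Helper1.PbSect Groth.Agent.Lib.Helper3 Groth.Agent.Lib.Helper1.ConormMap
open Groth.Agent.Lib.Helper1
open TensorProduct

namespace Groth.Agent.Lib.Helper1.ConormSmooth

section Ring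

variable (R P S : Type u) [CommRing R] [CommRing P] [CommRing S] [Algebra R P] [Algebra P S]
  [Algebra R S] [IsScalarTower R P S]

theorem mem_sq_of_tmul_D_eq_zero_of_formallySmooth [Algebra.FormallySmooth R S]
    (hs : Function.Surjective (algebraMap P S))
    (x : P) (hx : x ∈ RingHom.ker (algebraMap P S))
    (h0 : (1 : S) ⊗ₜ[P] KaehlerDifferential.D R P x = 0) :
    x ∈ RingHom.ker (algebraMap P S) ^ 2 := by
  have hsurj : Function.Surjective (IsScalarTower.toAlgHom R P S).kerSquareLift := by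
    intro s
    obtain ⟨y, rfl⟩ := hs s
    exact ⟨Ideal.Quotient.mk _ y, rfl⟩
  have hnil : IsNilpotent (RingHom.ker
      ((IsScalarTower.toAlgHom R P S).kerSquareLift :
        P ⧸ RingHom.ker (IsScalarTower.toAlgHom R P S).toRingHom ^ 2 →+* S)) := by
    refine ⟨2, ?_⟩
    have := AlgHom.ker_kerSquareLift (IsScalarTower.toAlgHom R P S)
    change RingHom.ker (IsScalarTower.toAlgHom R P S).kerSquareLift.toRingHom ^ 2 = ⊥
    rw [this]
    exact Ideal.cotangentIdeal_square _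
  let g := Algebra.FormallySmooth.liftOfSurjective (AlgHom.id R S)
    (IsScalarTower.toAlgHom R P S).kerSquareLift hsurj hnil
  have hg : (IsScalarTower.toAlgHom R P S).kerSquareLift.comp g = AlgHom.id R S :=
    Algebra.FormallySmooth.comp_liftOfSurjective _ _ hsurj hnil
  obtain ⟨l, hl⟩ := (retractionKerCotangentToTensorEquivSection
    (R := R) hs).symm ⟨g, hg⟩
  have h1 : KaehlerDifferential.kerCotangentToTensor R P S (Ideal.toCotangent _ ⟨x, hx⟩) = 0 := h0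
  have h2 := congr($hl (Ideal.toCotangent _ ⟨x, hx⟩))
  simp only [LinearMap.coe_comp, Function.comp_apply, LinearMap.id_coe, id_eq] at h2
  rw [h1, map_zero] at h2
  exact (Ideal.toCotangent_eq_zero _ _).mp h2.symm

end Ring

variable {Z X S : Scheme.{u}} (f : X ⟶ S) (i : Z ⟶ X)
  {ΩX : X.Modules} (dX : OmegaSh.Der f ΩX) (hX : OmegaSh.IsUniversal dX)
  (φ : Omega.conormal i ⟶ (Scheme.Modules.pullback i).obj ΩX) (hφ : OmegaSh.IsConormalDiff i dX φ)

include hX hφ in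
theorem injective_on_good_of_formallySmooth [QuasiCompact i] {U : X.Opens} (hU : IsAffineOpen U)
    (hV : IsAffineOpen (i ⁻¹ᵁ U))
    (hs : Function.Surjective (i.app U)) {VS : S.Opens} (hVS : IsAffineOpen VS)
    (hUVS : U ≤ f ⁻¹ᵁ VS)
    (hsm : ((i.appLE U (i ⁻¹ᵁ U) le_rfl).hom.comp (f.appLE VS U hUVS).hom).FormallySmooth) :
    Function.Injective (φ.app (i ⁻¹ᵁ U)) := by
  have hZ := DerExists.isUniversal_dsh (i ≫ f)
  obtain ⟨c, hc, -⟩ := DerCompat.existsUnique_isDiffCompat f (i ≫ f) i (𝟙 S)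
    (by rw [Category.comp_id]) dX (DerExists.dsh (i ≫ f)) hX
  letI alg₁ := (f.appLE VS U hUVS).hom.toAlgebra
  letI alg₃ := (i.appLE U (i ⁻¹ᵁ U) le_rfl).hom.toAlgebra
  letI alg₅ := ((i.appLE U (i ⁻¹ᵁ U) le_rfl).hom.comp (f.appLE VS U hUVS).hom).toAlgebra
  haveI t₁ : IsScalarTower Γ(S, VS) Γ(X, U) Γ(Z, i ⁻¹ᵁ U) :=
    IsScalarTower.of_algebraMap_eq fun _ => rfl
  haveI : Algebra.FormallySmooth Γ(S, VS) Γ(Z, i ⁻¹ᵁ U) := hsm
  obtain ⟨E, T, h1, h2, -, -, -⟩ :=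
    OmSeq2.exists_equivs_tower f i dX hX (DerExists.dsh (i ≫ f)) hZ c hc hVS hU hV le_rfl hUVS
  have halg : ∀ b : Γ(X, U), algebraMap Γ(X, U) Γ(Z, i ⁻¹ᵁ U) b = (i.app U).hom b := by
    intro b
    change (i.appLE U (i ⁻¹ᵁ U) le_rfl).hom b = _
    rw [Conorm.appLE_refl]
  have hsurj : Function.Surjective (algebraMap Γ(X, U) Γ(Z, i ⁻¹ᵁ U)) := by
    intro y
    obtain ⟨b, hb⟩ := hs y
    exact ⟨b, (halg b).trans hb⟩
  rw [injective_iff_map_eq_zero]
  intro y hy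
  obtain ⟨s, rfl⟩ := Conorm.conormalSect_surjective i hU hV hs y
  rw [hφ U s, Conorm.idealSect_eq_val] at hy
  have h3 : E ((1 : Γ(Z, i ⁻¹ᵁ U)) ⊗ₜ KaehlerDifferential.D Γ(S, VS) Γ(X, U)
      (IdealMod.val i.ker s)) = 0 := by
    rw [h2, one_smul, ConormSeq.pullRes_refl]
    exact hy
  have h4 : (1 : Γ(Z, i ⁻¹ᵁ U)) ⊗ₜ[Γ(X, U)] KaehlerDifferential.D Γ(S, VS) Γ(X, U)
      (IdealMod.val i.ker s) = 0 := by
    apply E.injective
    rw [h3, map_zero]
  have hker : IdealMod.val i.ker s ∈ RingHom.ker (algebraMap Γ(X, U) Γ(Z, i ⁻¹ᵁ U)) := by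
    rw [RingHom.mem_ker, halg]
    exact Conorm.val_mem_ker i hU s
  have h5 := mem_sq_of_tmul_D_eq_zero_of_formallySmooth Γ(S, VS) Γ(X, U) Γ(Z, i ⁻¹ᵁ U) hsurj _
    hker h4
  have hkereq : RingHom.ker (algebraMap Γ(X, U) Γ(Z, i ⁻¹ᵁ U)) = RingHom.ker (i.app U).hom := by
    ext b
    rw [RingHom.mem_ker, RingHom.mem_ker, halg]
  rw [hkereq] at h5
  exact (Conorm.conormalSect_eq_zero_iff i hU hV hs s).mpr h5

include hX hφ in
theorem mono_conormalDiff_of_formallySmooth [IsImmersion i] [QuasiCompact i]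
    (hf : MoreMor.IsFormallySmoothHom (i ≫ f)) : Mono φ := by
  haveI qX : ΩX.IsQuasicoherent := DerSmooth.isQuasicoherent f dX hX
  haveI qN : ((Scheme.Modules.pullback i).obj ΩX).IsQuasicoherent :=
    Groth.Agent.Lib.Helper17.PbStalk.isQuasicoherent_pullback i ΩX
  haveI qC : (Omega.conormal i).IsQuasicoherent :=
    Groth.Agent.Lib.Helper17.PbStalk.isQuasicoherent_pullback i (ClSub.idealMod i.ker)
  apply QcMono.mono_of_injective_on_affine_cover
  intro z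
  obtain ⟨_, ⟨VS : S.Opens, hVS, rfl⟩, hzVS, -⟩ := S.isBasis_affineOpens.exists_subset_of_mem_open
    (Set.mem_univ (f (i z))) isOpen_univ
  obtain ⟨U, hU, hzU, hUle, hV, hs⟩ := Conorm.exists_good i z (f ⁻¹ᵁ VS) hzVS
  refine ⟨i ⁻¹ᵁ U, hV, hzU, ?_⟩
  refine injective_on_good_of_formallySmooth f i dX hX φ hφ hU hV hs hVS hUle ?_
  have hle : i ⁻¹ᵁ U ≤ (i ≫ f) ⁻¹ᵁ VS := fun y hy => hUle hy
  have h1 := FSmoothHom.formallySmooth_appLE (i ≫ f) hf hV hVS hle
  have h2 : (i ≫ f).appLE VS (i ⁻¹ᵁ U) hle = f.appLE VS U hUle ≫ i.appLE U (i ⁻¹ᵁ U) le_rfl :=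
    (Scheme.Hom.appLE_comp_appLE _ _ _ _ _ _ _).symm
  rw [h2] at h1
  exact h1

end Groth.Agent.Lib.Helper1.ConormSmooth
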