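import Mathlib
import Groth.Agent.Lib.Helper1.Conorm
import Groth.Agent.Lib.Helper1.DerUnram

set_option autoImplicit false
set_option linter.style.haveILetI false
universe u
open CategoryTheory CategoryTheory.Limits AlgebraicGeometry TopologicalSpace Opposite

namespace Groth.Agent.Lib.Helper1.ConormZero

open Groth.Agent.Lib.Helper1.Conorm Groth.Agent.Lib.Helper3

variable {Z X : Scheme.{u}} (i : Z ⟶ X)

/-- the conormal sheaf of a closed immersion with trivial ideal vanishes -/
theorem isZero_conormal_of_ker_eq_bot [IsClosedImmersion i] (hk : i.ker = ⊥) :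
    IsZero (Omega.conormal i) := by
  rw [DerUnram.isZero_iff_forall_subsingleton]
  apply DerUnram.subsingleton_of_forall_exists
  intro z W hzW
  -- `W = i⁻¹ W'`
  obtain ⟨W', hW'o, hW'⟩ := (i.isEmbedding.isOpen_iff.mp W.2)
  let W'' : X.Opens := ⟨W', hW'o⟩
  have hzW'' : i z ∈ W'' := by
    have : z ∈ (i.base ⁻¹' W') := by rw [hW']; exact hzW
    exact this
  obtain ⟨_, ⟨U : X.Opens, hU, rfl⟩, hzU, hUle⟩ := X.isBasis_affineOpens.exists_subset_of_mem_open
    hzW'' W''.2
  refine ⟨i ⁻¹ᵁ U, hzU, ?_, ?_⟩
  · intro y hy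
    have : y ∈ i.base ⁻¹' W' := hUle hy
    rw [hW'] at this
    exact this
  · have hV : IsAffineOpen (i ⁻¹ᵁ U) := hU.preimage i
    have hs : Function.Surjective (i.app U) := i.app_surjective U hU
    refine ⟨fun a b => ?_⟩
    have h0 : ∀ c : Γ(Omega.conormal i, i ⁻¹ᵁ U), c = 0 := by
      intro c
      obtain ⟨s, rfl⟩ := conormalSect_surjective i hU hV hs c
      have h1 := val_mem_ker i hU s
      have h2 : RingHom.ker (i.app U).hom = ⊥ := by
        have := Scheme.Hom.ker_apply i ⟨U, hU⟩
        rw [hk] at this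
        exact this.symm.trans rfl
      rw [h2] at h1
      have hz : IdealMod.val i.ker (0 : Γ(ClSub.idealMod i.ker, U)) = 0 := by
        have := IdealMod.val_add i.ker (0 : Γ(ClSub.idealMod i.ker, U)) 0
        rw [add_zero] at this
        exact left_eq_add.mp this
      have h3 : s = 0 := by
        apply IdealMod.val_injective i.ker U
        rw [(Ideal.mem_bot).mp h1]
        exact hz.symm
      rw [h3, map_zero]
    rw [h0 a, h0 b]

/-- a closed immersion with square-zero ideal and vanishing conormal sheaf has trivial ideal -/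
theorem ker_eq_bot_of_isZero_conormal [IsClosedImmersion i] (hsq : i.ker * i.ker = ⊥)
    (h0 : IsZero (Omega.conormal i)) : i.ker = ⊥ := by
  rw [DerUnram.isZero_iff_forall_subsingleton] at h0
  apply Scheme.IdealSheafData.ext
  funext U
  have hU : IsAffineOpen (U : X.Opens) := U.2
  have hV : IsAffineOpen (i ⁻¹ᵁ (U : X.Opens)) := hU.preimage i
  have hs : Function.Surjective (i.app (U : X.Opens)) := i.app_surjective U hU
  change i.ker.ideal U = (⊥ : Ideal _)
  rw [eq_bot_iff]
  intro b hb
  have hb' : b ∈ RingHom.ker (i.app (U : X.Opens)).hom := by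
    rw [← Scheme.Hom.ker_apply i U]; exact hb
  obtain ⟨s, rfl⟩ := exists_val_eq i hU b hb'
  have h1 : OmegaSh.conormalSect i U s = 0 := (h0 _).elim _ _
  rw [conormalSect_eq_zero_iff i hU hV hs] at h1
  have h2 : RingHom.ker (i.app (U : X.Opens)).hom ^ 2 = ⊥ := by
    rw [← Scheme.Hom.ker_apply i U, pow_two]
    have h3 : (i.ker * i.ker).ideal U = i.ker.ideal U * i.ker.ideal U := rfl
    rw [← h3, hsq]; rfl
  rw [h2] at h1
  exact h1

end Groth.Agent.Lib.Helper1.ConormZero
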