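import Mathlib
import Groth.Prelude
import Groth.Agent.Lib.Helper3.VACore
import Groth.Agent.Lib.Helper3.PbBasic
import Groth.Agent.Lib.Helper3.SubIdeal
import Groth.Agent.Lib.Helper7.Mumford
import Groth.Agent.Lib.Helper11.ZsConnC

/-!
# Morphisms to projective space that are constant on a connected proper scheme

`Z` connected and proper over a field, `ψ : Z ⟶ P^n_S` (`S` affine). Then `ψ` is constant iff
`ψ^* O(1)` is trivial.
-/

set_option autoImplicit false
universe u
open CategoryTheory CategoryTheory.Limits AlgebraicGeometry TopologicalSpace Opposite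
open Scheme.Modules

namespace Groth.Agent.Lib.Helper1.ConstTwist

open Groth.Agent.Lib.Helper3 Groth.Agent.Lib.Helper3.QCSec Groth.Agent.Lib.Helper3.InvGen
  Groth.Agent.Lib.Helper3.VACore Groth.Agent.Lib.Helper3.InvAmple
  Groth.Agent.Lib.Helper3.ProjPullGen Groth.Agent.Lib.Helper3.TwistProj

/-- the pullback of an invertible module along a morphism with image a single point is trivial -/
theorem nonempty_pullback_iso_unit_of_range {Z P : Scheme.{u}} (ψ : Z ⟶ P) (M : P.Modules)
    (hM : PicF.IsInvertible M) (c : P) (hc : Set.range ψ.base ⊆ {c}) :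
    Nonempty ((Scheme.Modules.pullback ψ).obj M ≅ Coh.structureModule Z) := by
  obtain ⟨V, hxV, ⟨eV⟩⟩ := hM c
  have hrange : Set.range ψ.base ⊆ Set.range V.ι.base := by
    rw [Scheme.Opens.range_ι]
    intro y hy
    have := hc hy
    rw [Set.mem_singleton_iff] at this
    rw [this]
    exact hxV
  let g' : Z ⟶ (V : Scheme.{u}) := IsOpenImmersion.lift V.ι ψ hrange
  have hg' : g' ≫ V.ι = ψ := IsOpenImmersion.lift_fac _ _ _
  let e2 : (Scheme.Modules.pullback ψ).obj M ≅ (Scheme.Modules.pullback (g' ≫ V.ι)).obj M :=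
    (Scheme.Modules.pullbackCongr hg'.symm).app M
  let e3 : (Scheme.Modules.pullback (g' ≫ V.ι)).obj M ≅
      (Scheme.Modules.pullback g').obj ((Scheme.Modules.pullback V.ι).obj M) :=
    ((Scheme.Modules.pullbackComp g' V.ι).app M).symm
  let e4 : (Scheme.Modules.pullback V.ι).obj M ≅ M.restrict V.ι :=
    ((Scheme.Modules.restrictFunctorIsoPullback V.ι).app M).symm
  let e5 : (Scheme.Modules.pullback g').obj ((Scheme.Modules.pullback V.ι).obj M) ≅
      (Scheme.Modules.pullback g').obj (Coh.structureModule (V : Scheme.{u})) :=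
    (Scheme.Modules.pullback g').mapIso (e4 ≪≫ eV)
  exact ⟨e2 ≪≫ e3 ≪≫ e5 ≪≫ Groth.Agent.Lib.Helper3.PbBasic.pbUnit g'⟩

lemma isInvertible_twistOver (n : ℕ) (S : Scheme.{u}) (d : ℤ) :
    PicF.IsInvertible (Twist.twistOver n S d) :=
  PbBasic.isInvertible_pullback _
    (Groth.Agent.Lib.Helper7.TwProj.isInvertible_twist
      (Groth.Agent.Lib.Helper7.Mumford.hU n (ULift.{u} ℤ)) d)

/-- on a connected scheme proper over a field, every basic open is empty or everything -/
theorem basicOpen_eq_bot_or_top (κ : Type u) [Field κ] (Z : Scheme.{u})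
    [Z.Over (Spec (CommRingCat.of κ))] [IsProper (Z ↘ Spec (CommRingCat.of κ))]
    [PreconnectedSpace Z] (a : Γ(Z, ⊤)) : Z.basicOpen a = ⊥ ∨ Z.basicOpen a = ⊤ := by
  letI : Algebra κ Γ(Z, ⊤) := (Coh.toGlobal (Z ↘ Spec (CommRingCat.of κ))).toAlgebra
  haveI : Module.Finite κ (Coh.HH Z (Coh.structureModule Z) 0) :=
    Groth.Agent.S0002.result κ Z _ (Groth.Agent.Lib.Helper23.T2.isCoh_structureModule Z) 0
  haveI : Module.Finite κ Γ(Z, ⊤) :=
    Module.Finite.equiv (Groth.Agent.Lib.Helper11.ZsConnC.H0structEquiv' κ Z)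
  haveI : Algebra.IsIntegral κ Γ(Z, ⊤) := Algebra.IsIntegral.of_finite κ _
  have halg : IsAlgebraic κ a := (Algebra.IsIntegral.isIntegral (R := κ) a).isAlgebraic
  exact Groth.Agent.Lib.Helper11.ZsConnC.basicOpen_eq_bot_or_top κ Z a halg

/-- on a connected scheme proper over a field, `Z ⟶ Spec Γ(Z, ⊤)` is constant -/
theorem toSpecΓ_const (κ : Type u) [Field κ] (Z : Scheme.{u})
    [Z.Over (Spec (CommRingCat.of κ))] [IsProper (Z ↘ Spec (CommRingCat.of κ))]
    [PreconnectedSpace Z] (z z' : Z) : Z.toSpecΓ.base z = Z.toSpecΓ.base z' := by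
  apply PrimeSpectrum.ext
  ext b
  have key : ∀ w : Z, b ∈ (Z.toSpecΓ.base w).asIdeal ↔ w ∉ Z.basicOpen b := by
    intro w
    rw [← Scheme.toSpecΓ_preimage_basicOpen]
    show b ∈ (Z.toSpecΓ.base w).asIdeal ↔ ¬ (b ∉ (Z.toSpecΓ.base w).asIdeal)
    exact not_not.symm
  rw [key, key]
  rcases basicOpen_eq_bot_or_top κ Z b with h | h <;> rw [h] <;> simp

/-- **Key.** a morphism from a connected proper scheme over a field to `P^n_S`, `S` affine, whose
pullback of `O(1)` is trivial, is constant -/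
theorem const_of_iso (κ : Type u) [Field κ] (Z : Scheme.{u})
    [Z.Over (Spec (CommRingCat.of κ))] [IsProper (Z ↘ Spec (CommRingCat.of κ))]
    [ConnectedSpace Z] (n : ℕ) (S : Scheme.{u}) [IsAffine S]
    (ψ : Z ⟶ CohB1.ProjSpaceOver n S)
    (τ0 : (Scheme.Modules.pullback ψ).obj (Twist.twistOver n S 1) ≅ Coh.structureModule Z)
    (z z' : Z) : ψ.base z = ψ.base z' := by
  classical
  let R := ULift.{u} ℤ
  let fst : CohB1.ProjSpaceOver n S ⟶ Proj (CohB1.polyGrading n R) :=
    pullback.fst (CohB1.ProjSpace.toSpec n R) (specULiftZIsTerminal.from S)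
  haveI : IsAffineHom fst := by
    haveI : IsAffineHom (specULiftZIsTerminal.from S) := isAffineHom_of_isAffine _
    exact MorphismProperty.pullback_fst (P := @IsAffineHom) _ _ inferInstance
  let r : Z ⟶ Proj (CohB1.polyGrading n R) := ψ ≫ fst
  let T := Twist.twist (CohB1.polyGrading n R) ((1 : ℕ) : ℤ)
  have hT : Twist.twistOver n S 1 = (Scheme.Modules.pullback fst).obj T := rfl
  let e1 : (Scheme.Modules.pullback ψ).obj ((Scheme.Modules.pullback fst).obj T) ≅
      (Scheme.Modules.pullback (ψ ≫ fst)).obj T := (Scheme.Modules.pullbackComp ψ fst).app T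
  have τ0' : (Scheme.Modules.pullback ψ).obj ((Scheme.Modules.pullback fst).obj T) ≅
      Coh.structureModule Z := τ0
  let τ : (Scheme.Modules.pullback r).obj T ≅ Coh.structureModule Z := e1.symm ≪≫ τ0'
  -- the coordinate sections
  let σ : Fin (n + 1) → Γ(Coh.structureModule Z, ⊤) := fun i =>
    τ.hom.app ⊤ (gpull r T (gsec (⟨MvPolynomial.X i, MvPolynomial.isHomogeneous_X R i⟩ :
      CohB1.polyGrading n R 1)))
  have hpre : ∀ i, r ⁻¹ᵁ Proj.basicOpen (CohB1.polyGrading n R) (MvPolynomial.X i) =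
      Z.basicOpen (toFun ⊤ (sec (globalHom (Coh.structureModule Z) (σ i)) ⊤)) := by
    intro i
    have h1 := preimage_basicOpen_eq_locus (𝒜 := CohB1.polyGrading n R) r
      (hasUnitFrac_projSpace R n) τ (MvPolynomial.isHomogeneous_X R i) (s := σ i) rfl
    rw [h1]
    show CohB1.genLocus _ (globalHom _ (σ i)) = _
    exact genLocus_unit_eq_basicOpen _
  -- the coordinate charts cover
  have hcov : ∀ x : Proj (CohB1.polyGrading n R), ∃ i : Fin (n + 1),
      x ∈ Proj.basicOpen (CohB1.polyGrading n R) (MvPolynomial.X i) := by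
    intro x
    obtain ⟨j, hj, hx⟩ := Groth.Agent.Lib.Helper7.Mumford.hcov n R x
    have hj' : j < n + 1 := by omega
    refine ⟨⟨j, hj'⟩, ?_⟩
    have : ((Groth.Agent.Lib.Helper7.Mumford.fs n R j : (CohB1.polyGrading n R) 1) :
        MvPolynomial (Fin (n + 1)) R) = MvPolynomial.X ⟨j, hj'⟩ := by
      simp [Groth.Agent.Lib.Helper7.Mumford.fs, hj']
    rw [this] at hx
    exact hx
  obtain ⟨i, hi⟩ := hcov (r.base z)
  have hzi : z ∈ r ⁻¹ᵁ Proj.basicOpen (CohB1.polyGrading n R) (MvPolynomial.X i) := hi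
  have htop : r ⁻¹ᵁ Proj.basicOpen (CohB1.polyGrading n R) (MvPolynomial.X i) = ⊤ := by
    rw [hpre i] at hzi ⊢
    rcases basicOpen_eq_bot_or_top κ Z
      (toFun ⊤ (sec (globalHom (Coh.structureModule Z) (σ i)) ⊤)) with h | h
    · rw [h] at hzi
      exact absurd hzi (by simp)
    · exact h
  -- the affine open `W` of `P^n_S`
  have hDaff : IsAffineOpen (Proj.basicOpen (CohB1.polyGrading n R) (MvPolynomial.X i)) :=
    Proj.isAffineOpen_basicOpen (CohB1.polyGrading n R) (MvPolynomial.X i)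
      (MvPolynomial.isHomogeneous_X R i) Nat.one_pos
  let W : (CohB1.ProjSpaceOver n S).Opens :=
    fst ⁻¹ᵁ Proj.basicOpen (CohB1.polyGrading n R) (MvPolynomial.X i)
  have hWaff : IsAffineOpen W := hDaff.preimage fst
  haveI : IsAffine (W : Scheme.{u}) := hWaff
  have hrange : Set.range ψ.base ⊆ Set.range W.ι.base := by
    rw [Scheme.Opens.range_ι]
    rintro _ ⟨w, rfl⟩
    have : w ∈ r ⁻¹ᵁ Proj.basicOpen (CohB1.polyGrading n R) (MvPolynomial.X i) := by
      rw [htop]; trivial
    exact this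
  let f : Z ⟶ (W : Scheme.{u}) := IsOpenImmersion.lift W.ι ψ hrange
  have hf : f ≫ W.ι = ψ := IsOpenImmersion.lift_fac _ _ _
  have hnat := Scheme.toSpecΓ_naturality f
  have h2 : (f ≫ (W : Scheme.{u}).toSpecΓ).base z = (f ≫ (W : Scheme.{u}).toSpecΓ).base z' := by
    rw [hnat]
    show (Spec.map f.appTop).base (Z.toSpecΓ.base z) = (Spec.map f.appTop).base (Z.toSpecΓ.base z')
    rw [toSpecΓ_const κ Z z z']
  have h3 : f.base z = f.base z' := by
    have hinj : Function.Injective (W : Scheme.{u}).toSpecΓ.base :=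
      (ConcreteCategory.bijective_of_isIso ((W : Scheme.{u}).toSpecΓ.base)).1
    exact hinj h2
  rw [← hf]
  show W.ι.base (f.base z) = W.ι.base (f.base z')
  rw [h3]

end Groth.Agent.Lib.Helper1.ConstTwist
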