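import Mathlib

set_option autoImplicit false
open TopologicalSpace Set

namespace Groth.Agent.Lib.Helper1.CountDense

variable {α : Type*} [TopologicalSpace α]

/-- In a sober T0 Noetherian space with well-founded strict generization, every set has a
countable subset with the same closure. -/
theorem main [NoetherianSpace α] [QuasiSober α] [T0Space α]
    (hwf : WellFounded (fun a b : α => a ⤳ b ∧ a ≠ b)) :
    ∀ Z : Closeds α, ∀ T : Set α, closure T = (Z : Set α) →
      ∃ E ⊆ T, E.Countable ∧ closure E = (Z : Set α) := by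
  intro Z
  induction Z using WellFounded.induction (r := ((· < ·) : Closeds α → Closeds α → Prop))
    (hwf := wellFounded_lt) with
  | _ Z IH => ?_
  intro T hT
  have hTZ : T ⊆ (Z : Set α) := hT ▸ subset_closure
  by_cases hirr : IsIrreducible (Z : Set α)
  swap
  · -- reducible or empty
    by_cases hne : (Z : Set α).Nonempty
    swap
    · rw [Set.not_nonempty_iff_eq_empty] at hne
      refine ⟨∅, Set.empty_subset _, Set.countable_empty, ?_⟩
      rw [closure_empty, hne]
    have hpre : ¬ IsPreirreducible (Z : Set α) := fun h => hirr ⟨hne, h⟩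
    rw [isPreirreducible_iff_isClosed_union_isClosed] at hpre
    push Not at hpre
    obtain ⟨z₁, z₂, hz₁, hz₂, hsub, hn₁, hn₂⟩ := hpre
    have key : ∀ z : Set α, IsClosed z → ¬ (Z : Set α) ⊆ z →
        ∃ E ⊆ T ∩ z, E.Countable ∧ closure E = closure (T ∩ z) := by
      intro z hz hn
      let Z' : Closeds α := ⟨closure (T ∩ z), isClosed_closure⟩
      have hle : Z' ≤ Z := by
        change closure (T ∩ z) ⊆ (Z : Set α)
        exact closure_minimal (Set.inter_subset_left.trans hTZ) Z.isClosed
      have hlt : Z' < Z := by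
        refine lt_of_le_of_ne hle fun h => hn ?_
        have : (Z : Set α) = closure (T ∩ z) := congrArg (fun W : Closeds α => (W : Set α)) h.symm
        rw [this]
        exact closure_minimal Set.inter_subset_right hz
      exact IH Z' hlt (T ∩ z) rfl
    obtain ⟨E₁, hE₁, hc₁, hcl₁⟩ := key z₁ hz₁ hn₁
    obtain ⟨E₂, hE₂, hc₂, hcl₂⟩ := key z₂ hz₂ hn₂
    refine ⟨E₁ ∪ E₂, Set.union_subset (hE₁.trans Set.inter_subset_left)
      (hE₂.trans Set.inter_subset_left), hc₁.union hc₂, ?_⟩
    rw [closure_union, hcl₁, hcl₂, ← closure_union, ← Set.inter_union_distrib_left,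
      Set.inter_eq_left.2 (hTZ.trans hsub), hT]
  -- irreducible case
  set η := hirr.genericPoint with hη_def
  have hη : closure {η} = (Z : Set α) := hirr.isGenericPoint_genericPoint Z.isClosed
  have hηZ : η ∈ (Z : Set α) := hη ▸ subset_closure (Set.mem_singleton η)
  by_cases hηT : η ∈ T
  · exact ⟨{η}, Set.singleton_subset_iff.2 hηT, Set.countable_singleton η, hη⟩
  -- good points
  let P : Set α := {y | y ∈ (Z : Set α) ∧ y ≠ η ∧ closure (T ∩ closure {y}) = closure {y}}
  let M : Set α := {m | m ∈ P ∧ ∀ y ∈ P, y ⤳ m → y = m}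
  have hTP : ∀ t ∈ T, t ∈ P := by
    intro t ht
    refine ⟨hTZ ht, fun h => hηT (h ▸ ht), ?_⟩
    apply subset_antisymm
    · exact closure_minimal Set.inter_subset_right isClosed_closure
    · exact closure_mono (Set.singleton_subset_iff.2 ⟨ht, subset_closure rfl⟩)
  have hTM : ∀ t ∈ T, ∃ m ∈ M, m ⤳ t := by
    intro t ht
    let A : Set α := {y | y ∈ P ∧ y ⤳ t}
    have hA : A.Nonempty := ⟨t, hTP t ht, specializes_rfl⟩
    refine ⟨hwf.min A hA, ⟨(hwf.min_mem A hA).1, fun y hy hym => ?_⟩, (hwf.min_mem A hA).2⟩
    by_contra hne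
    exact hwf.not_lt_min A (x := y) ⟨hy, hym.trans (hwf.min_mem A hA).2⟩ ⟨hym, hne⟩
  have hMinf : M.Infinite := by
    intro hfin
    have hC : IsClosed (⋃ m ∈ M, closure ({m} : Set α)) :=
      hfin.isClosed_biUnion fun _ _ => isClosed_closure
    have hTC : T ⊆ ⋃ m ∈ M, closure ({m} : Set α) := by
      intro t ht
      obtain ⟨m, hm, hmt⟩ := hTM t ht
      exact Set.mem_biUnion hm (specializes_iff_mem_closure.1 hmt)
    have : η ∈ ⋃ m ∈ M, closure ({m} : Set α) := by
      have := closure_minimal hTC hC
      rw [hT] at this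
      exact this hηZ
    simp only [Set.mem_iUnion] at this
    obtain ⟨m, hm, hηm⟩ := this
    have h1 : m ⤳ η := specializes_iff_mem_closure.2 hηm
    have h2 : η ⤳ m := specializes_iff_mem_closure.2 (hη ▸ hm.1.1)
    exact hm.1.2.1 (h1.antisymm h2).eq
  let f : ℕ ↪ M := hMinf.natEmbedding
  have hfM : ∀ i, (f i : α) ∈ M := fun i => (f i).2
  have hY : ∀ i, ∃ E ⊆ T ∩ closure {(f i : α)}, E.Countable ∧
      closure E = closure {(f i : α)} := by
    intro i
    let Y : Closeds α := ⟨closure {(f i : α)}, isClosed_closure⟩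
    have hle : Y ≤ Z := by
      change closure {(f i : α)} ⊆ (Z : Set α)
      exact closure_minimal (Set.singleton_subset_iff.2 (hfM i).1.1) Z.isClosed
    have hlt : Y < Z := by
      refine lt_of_le_of_ne hle fun h => (hfM i).1.2.1 ?_
      have h1 : IsGenericPoint (f i : α) (Z : Set α) :=
        congrArg (fun W : Closeds α => (W : Set α)) h
      have h2 : IsGenericPoint η (Z : Set α) := hη
      exact h1.eq h2
    exact IH Y hlt (T ∩ closure {(f i : α)}) (hfM i).1.2.2
  choose E hE hEc hEcl using hY
  refine ⟨⋃ i, E i, Set.iUnion_subset fun i => (hE i).trans Set.inter_subset_left,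
    Set.countable_iUnion hEc, ?_⟩
  apply subset_antisymm
  · exact closure_minimal (Set.iUnion_subset fun i => ((hE i).trans Set.inter_subset_left).trans hTZ)
      Z.isClosed
  rw [← hη]
  apply closure_minimal _ isClosed_closure
  rw [Set.singleton_subset_iff]
  by_contra hη'
  -- minimal bad closed set
  let Q : Closeds α → Prop := fun W => closure (T ∩ (W : Set α)) = (W : Set α) ∧
    η ∉ (W : Set α) ∧ {i | (f i : α) ∈ (W : Set α)}.Infinite
  let W₀ : Closeds α := ⟨closure (⋃ i, E i), isClosed_closure⟩
  have hQ₀ : Q W₀ := by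
    refine ⟨?_, hη', ?_⟩
    · apply subset_antisymm
      · exact closure_minimal Set.inter_subset_right isClosed_closure
      · exact closure_mono (Set.subset_inter
          (Set.iUnion_subset fun i => (hE i).trans Set.inter_subset_left) subset_closure)
    · have : {i | (f i : α) ∈ (W₀ : Set α)} = Set.univ := by
        ext i
        simp only [Set.mem_ofPred_eq, Set.mem_univ, iff_true]
        have h1 : (f i : α) ∈ closure (E i) := by
          rw [hEcl i]; exact subset_closure rfl
        exact closure_mono (Set.subset_iUnion E i) h1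
      rw [this]
      exact Set.infinite_univ
  have hwfC : WellFounded ((· < ·) : Closeds α → Closeds α → Prop) := wellFounded_lt
  let S : Set (Closeds α) := {W | Q W}
  have hS : S.Nonempty := ⟨W₀, hQ₀⟩
  set W := hwfC.min S hS with hW_def
  have hQW : Q W := hwfC.min_mem S hS
  have hWmin : ∀ W' : Closeds α, Q W' → ¬ W' < W := fun W' h => hwfC.not_lt_min S (x := W') h
  obtain ⟨hgood, hηW, hinf⟩ := hQW
  have hWirr : IsIrreducible (W : Set α) := by
    refine ⟨?_, ?_⟩
    · obtain ⟨i, hi⟩ := hinf.nonempty
      exact ⟨_, hi⟩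
    · rw [isPreirreducible_iff_isClosed_union_isClosed]
      intro z₁ z₂ hz₁ hz₂ hsub
      by_contra hcon
      push Not at hcon
      obtain ⟨hn₁, hn₂⟩ := hcon
      have mk : ∀ z : Set α, IsClosed z → ¬ (W : Set α) ⊆ z →
          ∃ A : Closeds α, A < W ∧ (A : Set α) = closure (T ∩ (W : Set α) ∩ z) ∧
            closure (T ∩ (A : Set α)) = (A : Set α) ∧ η ∉ (A : Set α) := by
        intro z hz hn
        let A : Closeds α := ⟨closure (T ∩ (W : Set α) ∩ z), isClosed_closure⟩
        have hAW : (A : Set α) ⊆ (W : Set α) :=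
          closure_minimal (Set.inter_subset_left.trans Set.inter_subset_right) W.isClosed
        refine ⟨A, ?_, rfl, ?_, fun h => hηW (hAW h)⟩
        · refine lt_of_le_of_ne hAW fun h => hn ?_
          have : (W : Set α) = closure (T ∩ (W : Set α) ∩ z) :=
            congrArg (fun V : Closeds α => (V : Set α)) h.symm
          rw [this]
          exact closure_minimal Set.inter_subset_right hz
        · apply subset_antisymm
          · exact closure_minimal Set.inter_subset_right A.isClosed
          · change closure (T ∩ (W : Set α) ∩ z) ⊆ _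
            apply closure_mono
            intro x hx
            exact ⟨hx.1.1, subset_closure hx⟩
      obtain ⟨A, hA, hAeq, hAgood, hAη⟩ := mk z₁ hz₁ hn₁
      obtain ⟨B, hB, hBeq, hBgood, hBη⟩ := mk z₂ hz₂ hn₂
      have hcover : (W : Set α) = (A : Set α) ∪ (B : Set α) := by
        rw [hAeq, hBeq, ← closure_union, ← Set.inter_union_distrib_left,
          Set.inter_eq_left.2 (Set.inter_subset_right.trans hsub), hgood]
      have hunion : {i | (f i : α) ∈ (W : Set α)} =
          {i | (f i : α) ∈ (A : Set α)} ∪ {i | (f i : α) ∈ (B : Set α)} := by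
        ext i
        simp only [Set.mem_ofPred_eq, Set.mem_union]
        rw [hcover]
        rfl
      rw [hunion, Set.infinite_union] at hinf
      rcases hinf with h | h
      · exact hWmin A ⟨hAgood, hAη, h⟩ hA
      · exact hWmin B ⟨hBgood, hBη, h⟩ hB
  set w := hWirr.genericPoint with hw_def
  have hw : closure {w} = (W : Set α) := hWirr.isGenericPoint_genericPoint W.isClosed
  have hwW : w ∈ (W : Set α) := hw ▸ subset_closure (Set.mem_singleton w)
  have hWZ : (W : Set α) ⊆ (Z : Set α) := by
    rw [← hgood, ← hT]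
    exact closure_mono Set.inter_subset_left
  have hwP : w ∈ P := by
    refine ⟨hWZ hwW, fun h => hηW (h ▸ hwW), ?_⟩
    rw [hw, hgood]
  obtain ⟨i, hi, j, hj, hij⟩ := hinf.nontrivial
  have hi' : w = (f i : α) :=
    (hfM i).2 w hwP (specializes_iff_mem_closure.2 (hw ▸ hi))
  have hj' : w = (f j : α) :=
    (hfM j).2 w hwP (specializes_iff_mem_closure.2 (hw ▸ hj))
  exact hij (f.injective (Subtype.ext (hi'.symm.trans hj')))

end Groth.Agent.Lib.Helper1.CountDense
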