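import Mathlib

set_option autoImplicit false
set_option linter.style.haveILetI false
open CategoryTheory CategoryTheory.Limits AlgebraicGeometry TopologicalSpace
universe u

namespace Groth.Agent.Lib.Helper1.CurveFlat

/-- Krull dimension of a local ring of a scheme is at most the dimension of the scheme -/
theorem ringKrullDim_stalk_le (Y : Scheme.{u}) (y : Y) :
    ringKrullDim (Y.presheaf.stalk y) ≤ topologicalKrullDim Y := by
  rw [← PrimeSpectrum.topologicalKrullDim_eq_ringKrullDim]
  exact (Y.fromSpecStalk y).isEmbedding.isInducing.topologicalKrullDim_le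

/-- a morphism from an integral scheme to an integral scheme of dimension `≤ 1` whose image has at
least two points is dominant -/
theorem map_genericPoint {X Y : Scheme.{u}} [IsIntegral X] [IsIntegral Y]
    (hY : topologicalKrullDim Y ≤ 1) (f : X ⟶ Y) (hnc : (Set.range f.base).Nontrivial) :
    f.base (genericPoint X) = genericPoint Y := by
  by_contra hne
  have hηY : ∀ y : Y, genericPoint Y ⤳ y := fun y => by
    rw [specializes_iff_mem_closure, (genericPoint_spec Y).def]; trivial
  have hηX : ∀ x : X, genericPoint X ⤳ x := fun x => by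
    rw [specializes_iff_mem_closure, (genericPoint_spec X).def]; trivial
  obtain ⟨y₁, hy₁, hy₁ne⟩ : ∃ y₁ ∈ Set.range f.base, y₁ ≠ f.base (genericPoint X) := by
    obtain ⟨a, ha, b, hb, hab⟩ := hnc
    by_cases h : a = f.base (genericPoint X)
    · exact ⟨b, hb, fun hb' => hab (h.trans hb'.symm)⟩
    · exact ⟨a, ha, h⟩
  obtain ⟨x₁, rfl⟩ := hy₁
  have hsp : f.base (genericPoint X) ⤳ f.base x₁ := (hηX x₁).map f.continuous
  have h1 : f.base x₁ < f.base (genericPoint X) := by
    rw [lt_iff_le_not_ge]
    refine ⟨Scheme.le_iff_specializes.2 hsp, fun h => hy₁ne ?_⟩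
    exact (hsp.antisymm (Scheme.le_iff_specializes.1 h)).eq.symm
  have h2 : f.base (genericPoint X) < genericPoint Y := by
    rw [lt_iff_le_not_ge]
    refine ⟨Scheme.le_iff_specializes.2 (hηY _), fun h => hne ?_⟩
    exact ((hηY _).antisymm (Scheme.le_iff_specializes.1 h)).eq.symm
  have e1 := Order.coheight_add_one_le h1
  have e2 := Order.coheight_add_one_le h2
  have e3 : (2 : ℕ∞) ≤ Order.coheight (f.base x₁) := by
    calc (2 : ℕ∞) = 0 + 1 + 1 := by norm_num
      _ ≤ Order.coheight (genericPoint Y) + 1 + 1 := by gcongr; exact zero_le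
      _ ≤ Order.coheight (f.base (genericPoint X)) + 1 := by gcongr
      _ ≤ Order.coheight (f.base x₁) := e1
  have e4 := (ringKrullDim_stalk_le Y (f.base x₁)).trans hY
  rw [ringKrullDim_stalk_eq_coheight] at e4
  have e5 : (Order.coheight (f.base x₁) : WithBot ℕ∞) ≤ ((1 : ℕ∞) : WithBot ℕ∞) := by exact_mod_cast e4
  rw [WithBot.coe_le_coe] at e5
  have := e3.trans e5
  norm_num at this

theorem stalkMap_injective_of_genericPoint {X Y : Scheme.{u}} [IsIntegral X] [IsIntegral Y]
    (f : X ⟶ Y) [QuasiCompact f] (h : f.base (genericPoint X) = genericPoint Y) (x : X) :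
    Function.Injective (f.stalkMap x).hom := by
  haveI : IsDominant f := by
    constructor
    rw [DenseRange, dense_iff_closure_eq, ← Set.univ_subset_iff, ← (genericPoint_spec Y).def]
    apply closure_mono
    rw [Set.singleton_subset_iff]
    exact ⟨genericPoint X, h⟩
  haveI := IsSchemeTheoreticallyDominant.of_isDominant f
  rw [injective_iff_map_eq_zero]
  intro a ha
  obtain ⟨V, hyV, s, rfl⟩ := TopCat.Presheaf.exists_germ_eq Y.presheaf a
  rw [Scheme.Hom.germ_stalkMap_apply] at ha
  have h1 : (f.app V).hom s = 0 := by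
    apply germ_injective_of_isIntegral X x hyV
    rw [ha, map_zero]
  have h2 : s = 0 := by
    apply f.app_injective V
    rw [h1, map_zero]
  rw [h2, map_zero]

theorem flat_of_genericPoint {X Y : Scheme.{u}} [IsIntegral X] [IsIntegral Y]
    [IsLocallyNoetherian Y] (hY : topologicalKrullDim Y ≤ 1)
    (hN : ∀ y : Y, IsDomain (Y.presheaf.stalk y) ∧ IsIntegrallyClosed (Y.presheaf.stalk y))
    (f : X ⟶ Y) [QuasiCompact f] (h : f.base (genericPoint X) = genericPoint Y) : Flat f := by
  apply Flat.of_stalkMap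
  intro x
  haveI := (hN (f.base x)).1
  haveI := (hN (f.base x)).2
  haveI hk : Ring.KrullDimLE 1 (Y.presheaf.stalk (f.base x)) := by
    rw [Ring.krullDimLE_iff]
    exact (ringKrullDim_stalk_le Y (f.base x)).trans hY
  haveI : Ring.DimensionLEOne (Y.presheaf.stalk (f.base x)) :=
    ⟨fun {p} hp0 hp => Ring.krullDimLE_one_iff_of_noZeroDivisors.1 hk p hp0 hp⟩
  haveI : IsDedekindRing (Y.presheaf.stalk (f.base x)) :=
    { toIsNoetherian := inferInstance
      toDimensionLEOne := inferInstance
      toIsIntegralClosure := (isIntegrallyClosed_iff_isIntegralClosure _).1 inferInstance }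
  letI := (f.stalkMap x).hom.toAlgebra
  change Module.Flat (Y.presheaf.stalk (f.base x)) (X.presheaf.stalk x)
  rw [IsDedekindDomain.flat_iff_torsion_eq_bot, Submodule.eq_bot_iff]
  intro m hm
  rw [Submodule.mem_torsion_iff] at hm
  obtain ⟨⟨r, hr⟩, hrm⟩ := hm
  have hr0 : r ≠ 0 := nonZeroDivisors.ne_zero hr
  have h1 : (f.stalkMap x).hom r * m = 0 := hrm
  have h2 : (f.stalkMap x).hom r ≠ 0 := fun h0 =>
    hr0 (stalkMap_injective_of_genericPoint f h x (by rw [h0, map_zero]))
  exact (mul_eq_zero.1 h1).resolve_left h2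

end Groth.Agent.Lib.Helper1.CurveFlat
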