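import Mathlib
import Groth.Prelude.Def_KZero
import Groth.Prelude.Def_ChowK
import Groth.Agent.Lib.Helper17.DevEngine
import Groth.Agent.Lib.Helper17.DevKey
import Groth.Agent.Lib.Helper17.DevTest
import Groth.Agent.Lib.Helper10.SerreK0

/-!
# The dimension filtration of K_0(Coh X) is generated by structure sheaves of integral subschemes
-/

set_option autoImplicit false
set_option linter.style.haveILetI false
universe u
open CategoryTheory CategoryTheory.Limits AlgebraicGeometry Opposite

namespace Groth.Agent.Lib.Helper1.K0Dim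

open Groth.Agent.Lib.Helper17 H10K0

theorem dim_le_of_subset {T : Type*} [TopologicalSpace T] {A B : Set T} (h : A ⊆ B) :
    topologicalKrullDim ↥A ≤ topologicalKrullDim ↥B :=
  (Topology.IsEmbedding.inclusion h).isInducing.topologicalKrullDim_le

theorem closureStructureSheaf_eq {X : Scheme.{u}} (y : X) :
    Cyc.closureStructureSheaf y =
      DevTest.A (Scheme.IdealSheafData.vanishingIdeal ⟨closure {y}, isClosed_closure⟩) := rfl

theorem isCoh_closureStructureSheaf {X : Scheme.{u}} [IsNoetherian X] (y : X) :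
    Coh.IsCoh (Cyc.closureStructureSheaf y) := by
  rw [closureStructureSheaf_eq]
  exact DevTest.isCoh_A _

theorem support_closureStructureSheaf {X : Scheme.{u}} [IsNoetherian X] (y : X) :
    CohB1.support (Cyc.closureStructureSheaf y) = closure {y} := by
  rw [closureStructureSheaf_eq, DevTest.support_A,
    Scheme.IdealSheafData.coe_support_vanishingIdeal]
  rfl

theorem length_closureStructureSheaf {X : Scheme.{u}} [IsNoetherian X] (y : X) :
    Module.length (X.presheaf.stalk y) ((Cyc.closureStructureSheaf y).presheaf.stalk y) = 1 := by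
  rw [closureStructureSheaf_eq]
  exact DevTest.length_stalk_A ⟨closure {y}, isClosed_closure⟩ y rfl

theorem key5643 (X : Scheme.{u}) [IsNoetherian X] (n : ℕ) :
    AddSubgroup.closure {c : KZero.K0sub (fun M : X.Modules => Coh.IsCoh M) |
        ∃ G : X.Modules, Coh.IsCoh G ∧ topologicalKrullDim ↥(CohB1.support G) ≤ n ∧
          c = KZero.clSub (fun M : X.Modules => Coh.IsCoh M) G} =
      AddSubgroup.closure {c : KZero.K0sub (fun M : X.Modules => Coh.IsCoh M) |
        ∃ x : ↥X, topologicalKrullDim ↥(closure ({x} : Set ↥X)) ≤ n ∧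
          c = KZero.clSub (fun M : X.Modules => Coh.IsCoh M) (Cyc.closureStructureSheaf x)} := by
  set Q : ObjectProperty X.Modules := fun G : X.Modules => Coh.IsCoh G with hQ
  set H := AddSubgroup.closure {c : KZero.K0sub Q |
        ∃ x : ↥X, topologicalKrullDim ↥(closure ({x} : Set ↥X)) ≤ n ∧
          c = KZero.clSub Q (Cyc.closureStructureSheaf x)} with hH
  apply le_antisymm
  swap
  · apply AddSubgroup.closure_mono
    rintro c ⟨x, hx, rfl⟩
    refine ⟨Cyc.closureStructureSheaf x, isCoh_closureStructureSheaf x, ?_, rfl⟩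
    rw [support_closureStructureSheaf]
    exact hx
  rw [AddSubgroup.closure_le]
  rintro c ⟨G₀, hG₀, hdim, rfl⟩
  show KZero.clSub Q G₀ ∈ H
  let P : X.Modules → Prop := fun M => KZero.clSub Q M ∈ H
  have hPiso : ∀ M N : X.Modules, Nonempty (M ≅ N) → P M → P N := by
    rintro M N ⟨e⟩ hM
    by_cases hN : Q N
    · have hM' : Q M := DevBasic.isCoh_of_iso e.symm hN
      have hC : Q (cokernel e.hom) := DevBasic.isCoh_of_isZero (isZero_cokernel_of_epi e.hom)
      have h2 : KZero.clSub Q N = KZero.clSub Q M + KZero.clSub Q (cokernel e.hom) :=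
        clSub_ses Q _ (ses_of_iso e) hM' hN hC
      show KZero.clSub Q N ∈ H
      rw [h2, clSub_isZero Q (isZero_cokernel_of_epi e.hom) hC, add_zero]
      exact hM
    · show KZero.clSub Q N ∈ H
      unfold KZero.clSub
      rw [dif_neg hN]
      exact H.zero_mem
  have hP0 : ∀ M : X.Modules, IsZero M → P M := by
    intro M hz
    have hM : Q M := DevBasic.isCoh_of_isZero hz
    show KZero.clSub Q M ∈ H
    rw [clSub_isZero Q hz hM]
    exact H.zero_mem
  have h23 : ∀ S : ShortComplex X.Modules, S.ShortExact → Coh.IsCoh S.X₁ → Coh.IsCoh S.X₂ →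
      Coh.IsCoh S.X₃ → CohB1.support S.X₂ ⊆ CohB1.support G₀ →
      (P S.X₁ → P S.X₂ → P S.X₃) ∧ (P S.X₁ → P S.X₃ → P S.X₂) ∧ (P S.X₂ → P S.X₃ → P S.X₁) := by
    intro S hS h1 h2 h3 _
    have he : KZero.clSub Q S.X₂ = KZero.clSub Q S.X₁ + KZero.clSub Q S.X₃ :=
      clSub_ses Q S hS h1 h2 h3
    refine ⟨fun p1 p2 => ?_, fun p1 p3 => ?_, fun p2 p3 => ?_⟩
    · show KZero.clSub Q S.X₃ ∈ H
      have : KZero.clSub Q S.X₃ = KZero.clSub Q S.X₂ - KZero.clSub Q S.X₁ := by rw [he]; abel
      rw [this]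
      exact H.sub_mem p2 p1
    · show KZero.clSub Q S.X₂ ∈ H
      rw [he]
      exact H.add_mem p1 p3
    · show KZero.clSub Q S.X₁ ∈ H
      have : KZero.clSub Q S.X₁ = KZero.clSub Q S.X₂ - KZero.clSub Q S.X₃ := by rw [he]; abel
      rw [this]
      exact H.sub_mem p2 p3
  refine DevEngine.engine X P hPiso (CohB1.support G₀) hP0
    (fun S hS h1 h2 h3 hs' p1 p3 => (h23 S hS h1 h2 h3 hs').2.1 p1 p3) ?_ G₀ hG₀ le_rfl
  intro Z hZ hirr hZY IH G hG hGs _
  obtain ⟨y, hy⟩ := QuasiSober.sober hirr hZ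
  have hy' : closure {y} = Z := hy
  have hyZ : y ∈ Z := hy' ▸ subset_closure (Set.mem_singleton y)
  have hgenZ : ∀ x ∈ Z, y ⤳ x := fun x hx => specializes_iff_mem_closure.mpr (hy'.symm ▸ hx)
  refine DevKey.key23 P (CohB1.support G₀) h23 Z hZY y hgenZ ?_ (Cyc.closureStructureSheaf y)
    (isCoh_closureStructureSheaf y) ?_ ?_ (length_closureStructureSheaf y) G hG hGs
  · intro F' hF' hs' hyF'
    exact IH F' hF' hs' (fun heq => hyF' (heq ▸ hyZ))
  · rw [support_closureStructureSheaf, hy']
  · apply AddSubgroup.subset_closure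
    refine ⟨y, ?_, rfl⟩
    rw [hy']
    exact (dim_le_of_subset hZY).trans hdim

end Groth.Agent.Lib.Helper1.K0Dim
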