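import Mathlib

/-!
# Strict monotonicity of the topological Krull dimension on irreducible closed subsets
-/

set_option autoImplicit false
open TopologicalSpace Topology Order

namespace Groth.Agent.Lib.Helper1.TopDim

variable {T : Type*} [TopologicalSpace T]

/-- a proper closed subset of an irreducible closed set has strictly smaller dimension. -/
theorem dim_add_one_le {A B : Set T} (hAB : A ⊆ B) (hA : IsClosed A) (hAne : A.Nonempty)
    (hB : IsIrreducible B) (hne : A ≠ B) :
    topologicalKrullDim ↥A + 1 ≤ topologicalKrullDim ↥B := by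
  haveI : Nonempty ↥A := hAne.to_subtype
  haveI : IrreducibleSpace ↥B := Subtype.irreducibleSpace hB
  have hincl : IsInducing (Set.inclusion hAB) := (IsEmbedding.inclusion hAB).isInducing
  let top : IrreducibleCloseds ↥B :=
    { carrier := Set.univ
      isIrreducible' := IrreducibleSpace.isIrreducible_univ _
      isClosed' := isClosed_univ }
  let g : WithTop (IrreducibleCloseds ↥A) → IrreducibleCloseds ↥B := fun a =>
    match a with
    | ⊤ => top
    | (c : IrreducibleCloseds ↥A) => IrreducibleCloseds.map (Set.inclusion hAB) hincl.continuous c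
  have hnetop : ∀ c : IrreducibleCloseds ↥A,
      IrreducibleCloseds.map (Set.inclusion hAB) hincl.continuous c < top := by
    intro c
    refine lt_of_le_of_ne (fun x _ => Set.mem_univ x) ?_
    intro heq
    apply hne
    apply Set.Subset.antisymm hAB
    intro b hb
    have h1 : (⟨b, hb⟩ : ↥B) ∈ (top : Set ↥B) := Set.mem_univ _
    rw [← heq, IrreducibleCloseds.coe_map] at h1
    have hcl : IsClosed (Set.range (Set.inclusion hAB)) := by
      have : Set.range (Set.inclusion hAB) = (Subtype.val : ↥B → T) ⁻¹' A := by
        ext ⟨z, hz⟩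
        simp only [Set.mem_range, Set.mem_preimage]
        constructor
        · rintro ⟨⟨w, hw⟩, hwz⟩
          have : w = z := congrArg Subtype.val hwz
          exact this ▸ hw
        · intro hzA
          exact ⟨⟨z, hzA⟩, rfl⟩
      rw [this]
      exact hA.preimage continuous_subtype_val
    have h2 : closure (Set.inclusion hAB '' (c : Set ↥A)) ⊆ Set.range (Set.inclusion hAB) :=
      closure_minimal (Set.image_subset_range _ _) hcl
    obtain ⟨⟨w, hw⟩, hwb⟩ := h2 h1
    have : w = b := congrArg Subtype.val hwb
    exact this ▸ hw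
  have hg : StrictMono g := by
    intro a b hab
    cases a with
    | top => exact absurd hab (not_top_lt)
    | coe a =>
      cases b with
      | top => exact hnetop a
      | coe b =>
        exact IrreducibleCloseds.map_strictMono_of_isInducing hincl (WithTop.coe_lt_coe.mp hab)
  haveI : Nonempty (IrreducibleCloseds ↥A) := by
    obtain ⟨a⟩ := ‹Nonempty ↥A›
    exact ⟨⟨closure {a}, isIrreducible_singleton.closure, isClosed_closure⟩⟩
  have := krullDim_le_of_strictMono g hg
  rw [krullDim_WithTop] at this
  exact this

theorem dim_le_of_subset {A B : Set T} (h : A ⊆ B) :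
    topologicalKrullDim ↥A ≤ topologicalKrullDim ↥B :=
  (IsEmbedding.inclusion h).isInducing.topologicalKrullDim_le

/-- a point of a closed set of dimension `≤ n` whose closure has dimension `n` has no proper
generization in that set. -/
theorem eq_of_specializes_of_dim [T0Space T] {X' : Set T} (hX' : IsClosed X') (n : ℕ)
    (hdim : topologicalKrullDim ↥X' ≤ n) {x x' : T} (hx' : x' ∈ X') (h : x' ⤳ x)
    (hxn : topologicalKrullDim ↥(closure ({x} : Set T)) = n) : x' = x := by
  by_contra hne
  have hAB : closure ({x} : Set T) ⊆ closure {x'} :=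
    closure_minimal (Set.singleton_subset_iff.mpr (specializes_iff_mem_closure.mp h))
      isClosed_closure
  have hneq : closure ({x} : Set T) ≠ closure {x'} := fun heq =>
    hne ((inseparable_iff_closure_eq.mpr heq).eq).symm
  have h1 := dim_add_one_le hAB isClosed_closure ⟨x, subset_closure rfl⟩
    (isIrreducible_singleton.closure) hneq
  have h2 : topologicalKrullDim ↥(closure ({x'} : Set T)) ≤ n :=
    (dim_le_of_subset (closure_minimal (Set.singleton_subset_iff.mpr hx') hX')).trans hdim
  rw [hxn] at h1
  have h3 : ((n : ℕ) : WithBot ℕ∞) + 1 ≤ n := h1.trans h2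
  have h4 : ((n + 1 : ℕ) : WithBot ℕ∞) ≤ (n : ℕ) := by
    push_cast
    exact h3
  have h5 : n + 1 ≤ n := by exact_mod_cast h4
  omega

/-- a closed subset of a Noetherian sober space has finitely many maximal points. -/
theorem finite_maximal [NoetherianSpace T] [QuasiSober T] [T0Space T] {X' : Set T}
    (hX' : IsClosed X') : {x ∈ X' | ∀ x' ∈ X', x' ⤳ x → x' = x}.Finite := by
  obtain ⟨S, hSf, hSc, hSi, hSU⟩ := NoetherianSpace.exists_finite_set_isClosed_irreducible hX'
  have hgen : ∀ t : S, ∃ g : T, IsGenericPoint g (t : Set T) := fun t =>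
    QuasiSober.sober (hSi t.1 t.2) (hSc t.1 t.2)
  choose g hg using hgen
  haveI : Finite S := hSf
  refine (Set.finite_range g).subset ?_
  rintro x ⟨hx, hmax⟩
  rw [hSU] at hx
  obtain ⟨t, htS, hxt⟩ := hx
  have h1 : g ⟨t, htS⟩ ⤳ x := by
    rw [specializes_iff_mem_closure, (hg ⟨t, htS⟩).def]
    exact hxt
  have h2 : g ⟨t, htS⟩ ∈ X' := by
    rw [hSU]
    refine ⟨t, htS, ?_⟩
    have := (hg ⟨t, htS⟩).def
    have h3 : g ⟨t, htS⟩ ∈ closure ({g ⟨t, htS⟩} : Set T) := subset_closure rfl
    rw [this] at h3
    exact h3
  exact ⟨⟨t, htS⟩, hmax _ h2 h1⟩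

end Groth.Agent.Lib.Helper1.TopDim
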