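import Mathlib
import Groth.Agent.Lib.Helper1.K0Dim
import Groth.Agent.Lib.Helper1.TopDim

/-!
# The class of a coherent module modulo lower-dimensional classes
-/

set_option autoImplicit false
set_option linter.style.haveILetI false
universe u
open CategoryTheory CategoryTheory.Limits AlgebraicGeometry Opposite

namespace Groth.Agent.Lib.Helper1.K0Dim

open Groth.Agent.Lib.Helper17 H10K0 Groth.Agent.Lib.Helper17.DevBasic
  Groth.Agent.Lib.Helper17.StalkExact

variable {X : Scheme.{u}} [IsNoetherian X] (n : ℕ)

/-- the `x`-term of the cycle class. -/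
noncomputable def term (M : X.Modules) (x : X) :
    KZero.K0sub (fun M : X.Modules => Coh.IsCoh M) :=
  if topologicalKrullDim ↥(closure ({x} : Set ↥X)) = n then
    (Module.length (X.presheaf.stalk x) (M.presheaf.stalk x)).toNat •
      KZero.clSub (fun M : X.Modules => Coh.IsCoh M) (Cyc.closureStructureSheaf x)
  else 0

theorem term_eq_zero_of_notMem (M : X.Modules) (x : X) (hx : x ∉ CohB1.support M) :
    term n M x = 0 := by
  unfold term
  split_ifs
  · rw [DevKey.length_eq_zero_of_notMem hx]
    simp
  · rfl

theorem term_eq_zero_of_dim (M : X.Modules) (x : X)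
    (hx : topologicalKrullDim ↥(closure ({x} : Set ↥X)) ≠ n) : term n M x = 0 := by
  unfold term
  rw [if_neg hx]

section Bounded

variable {X' : Set X} (hX' : IsClosed X') (hdim : topologicalKrullDim ↥X' ≤ n)
include hX' hdim

theorem finite_support_term (M : X.Modules) (hs : CohB1.support M ⊆ X') :
    (Function.support (term n M)).Finite := by
  refine (TopDim.finite_maximal hX').subset ?_
  intro x hx
  have h1 : topologicalKrullDim ↥(closure ({x} : Set ↥X)) = n := by
    by_contra h
    exact hx (term_eq_zero_of_dim n M x h)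
  have h2 : x ∈ CohB1.support M := by
    by_contra h
    exact hx (term_eq_zero_of_notMem n M x h)
  exact ⟨hs h2, fun x' hx' h => TopDim.eq_of_specializes_of_dim hX' n hdim hx' h h1⟩

theorem length_ne_top_of_dim (M : X.Modules) (hM : Coh.IsCoh M) (hs : CohB1.support M ⊆ X')
    (x : X) (hx : topologicalKrullDim ↥(closure ({x} : Set ↥X)) = n) :
    Module.length (X.presheaf.stalk x) (M.presheaf.stalk x) ≠ ⊤ := by
  haveI := hM.1
  haveI := hM.2
  refine (CohStalk.length_stalk_lt_top M x fun x' hx' h => ?_).ne
  exact TopDim.eq_of_specializes_of_dim hX' n hdim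
    (hs (not_subsingleton_iff_nontrivial.mpr hx')) h hx

theorem term_add (S : ShortComplex X.Modules) (hS : S.ShortExact) (h1 : Coh.IsCoh S.X₁)
    (h2 : Coh.IsCoh S.X₂) (h3 : Coh.IsCoh S.X₃) (hs : CohB1.support S.X₂ ⊆ X') (x : X) :
    term n S.X₂ x = term n S.X₁ x + term n S.X₃ x := by
  haveI := hS.mono_f
  haveI := hS.epi_g
  by_cases hx : topologicalKrullDim ↥(closure ({x} : Set ↥X)) = n
  · unfold term
    rw [if_pos hx, if_pos hx, if_pos hx, length_stalk_add S hS x,
      ENat.toNat_add
        (length_ne_top_of_dim n hX' hdim _ h1 ((support_subset_of_mono S.f).trans hs) x hx)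
        (length_ne_top_of_dim n hX' hdim _ h3 ((support_subset_of_epi S.g).trans hs) x hx),
      add_smul]
  · rw [term_eq_zero_of_dim n _ x hx, term_eq_zero_of_dim n _ x hx, term_eq_zero_of_dim n _ x hx,
      add_zero]

theorem sig_add (S : ShortComplex X.Modules) (hS : S.ShortExact) (h1 : Coh.IsCoh S.X₁)
    (h2 : Coh.IsCoh S.X₂) (h3 : Coh.IsCoh S.X₃) (hs : CohB1.support S.X₂ ⊆ X') :
    finsum (term n S.X₂) = finsum (term n S.X₁) + finsum (term n S.X₃) := by
  haveI := hS.mono_f
  haveI := hS.epi_g
  rw [← finsum_add_distrib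
    (finite_support_term n hX' hdim _ ((support_subset_of_mono S.f).trans hs))
    (finite_support_term n hX' hdim _ ((support_subset_of_epi S.g).trans hs))]
  exact finsum_congr (fun x => term_add n hX' hdim S hS h1 h2 h3 hs x)

end Bounded

end Groth.Agent.Lib.Helper1.K0Dim
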