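import Mathlib
import Groth.Agent.Lib.Helper1.K0Dim2
import Groth.Agent.Lib.Helper17.DevEngine
import Groth.Agent.Lib.Helper17.DevKey

/-!
# `[F] ≡ Σ length(F_x) [O_{Z(x)}]` modulo lower-dimensional classes
-/

set_option autoImplicit false
set_option linter.style.haveILetI false
universe u
open CategoryTheory CategoryTheory.Limits AlgebraicGeometry Opposite

namespace Groth.Agent.Lib.Helper1.K0Dim

open Groth.Agent.Lib.Helper17 H10K0 Groth.Agent.Lib.Helper17.DevBasic
  Groth.Agent.Lib.Helper17.StalkExact

variable {X : Scheme.{u}} [IsNoetherian X] (n : ℕ)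

theorem term_iso {M N : X.Modules} (e : M ≅ N) (x : X) : term n M x = term n N x := by
  have hS := ses_of_iso e
  have hl := length_stalk_add _ hS x
  have h0 : Module.length (X.presheaf.stalk x) ((cokernel e.hom).presheaf.stalk x) = 0 := by
    apply DevKey.length_eq_zero_of_notMem
    rw [support_eq_empty_of_isZero (isZero_cokernel_of_epi e.hom)]
    exact Set.notMem_empty x
  simp only at hl
  rw [h0, add_zero] at hl
  unfold term
  rw [hl]

theorem finsum_term_of_isZero {M : X.Modules} (hz : IsZero M) : finsum (term n M) = 0 := by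
  apply finsum_eq_zero_of_forall_eq_zero
  intro x
  apply term_eq_zero_of_notMem
  rw [support_eq_empty_of_isZero hz]
  exact Set.notMem_empty x

theorem finsum_term_closureStructureSheaf (y : X)
    (hy : topologicalKrullDim ↥(closure ({y} : Set ↥X)) = n) :
    finsum (term n (Cyc.closureStructureSheaf y)) =
      KZero.clSub (fun M : X.Modules => Coh.IsCoh M) (Cyc.closureStructureSheaf y) := by
  rw [finsum_eq_single _ y]
  · unfold term
    rw [if_pos hy, length_closureStructureSheaf y]
    simp
  · intro x hx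
    by_cases hxs : x ∈ CohB1.support (Cyc.closureStructureSheaf y)
    · by_cases hxd : topologicalKrullDim ↥(closure ({x} : Set ↥X)) = n
      · exfalso
        rw [support_closureStructureSheaf] at hxs
        have : y = x := TopDim.eq_of_specializes_of_dim isClosed_closure n hy.le
          (subset_closure rfl) (specializes_iff_mem_closure.mpr hxs) hxd
        exact hx this.symm
      · exact term_eq_zero_of_dim n _ x hxd
    · exact term_eq_zero_of_notMem n _ x hxs

theorem finsum_term_eq_zero_of_dim_lt (M : X.Modules) (hcl : IsClosed (CohB1.support M))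
    (hd : topologicalKrullDim ↥(CohB1.support M) < n) : finsum (term n M) = 0 := by
  apply finsum_eq_zero_of_forall_eq_zero
  intro x
  by_cases hxs : x ∈ CohB1.support M
  · apply term_eq_zero_of_dim
    intro hxd
    have h1 : closure {x} ⊆ CohB1.support M :=
      hcl.closure_subset_iff.mpr (Set.singleton_subset_iff.mpr hxs)
    have h2 := TopDim.dim_le_of_subset h1
    rw [hxd] at h2
    exact absurd (h2.trans_lt hd) (lt_irrefl _)
  · exact term_eq_zero_of_notMem n _ x hxs

theorem key5642 (X : Scheme.{u}) [IsNoetherian X] (n : ℕ) (F : X.Modules) (hF : Coh.IsCoh F)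
    (hsupp : topologicalKrullDim ↥(CohB1.support F) ≤ n) :
    KZero.clSub (fun M : X.Modules => Coh.IsCoh M) F - finsum (term n F) ∈
      AddSubgroup.closure {c : KZero.K0sub (fun M : X.Modules => Coh.IsCoh M) |
        ∃ G : X.Modules, Coh.IsCoh G ∧ topologicalKrullDim ↥(CohB1.support G) < n ∧
          c = KZero.clSub (fun M : X.Modules => Coh.IsCoh M) G} := by
  set Q : ObjectProperty X.Modules := fun G : X.Modules => Coh.IsCoh G with hQ
  set H := AddSubgroup.closure {c : KZero.K0sub Q |
        ∃ G : X.Modules, Coh.IsCoh G ∧ topologicalKrullDim ↥(CohB1.support G) < n ∧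
          c = KZero.clSub Q G} with hH
  have hclosed : ∀ M : X.Modules, Coh.IsCoh M → IsClosed (CohB1.support M) :=
    fun M hM => Groth.Agent.S0020.result X M hM.2
  have hX' := hclosed F hF
  let P : X.Modules → Prop := fun M => KZero.clSub Q M - finsum (term n M) ∈ H
  have hPiso : ∀ M N : X.Modules, Nonempty (M ≅ N) → P M → P N := by
    rintro M N ⟨e⟩ hM
    have ht : term n M = term n N := funext (term_iso n e)
    have hc : KZero.clSub Q M = KZero.clSub Q N := by
      by_cases hN : Q N
      · have hM' : Q M := DevBasic.isCoh_of_iso e.symm hN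
        have hC : Q (cokernel e.hom) := DevBasic.isCoh_of_isZero (isZero_cokernel_of_epi e.hom)
        have h2 : KZero.clSub Q N = KZero.clSub Q M + KZero.clSub Q (cokernel e.hom) :=
          clSub_ses Q _ (ses_of_iso e) hM' hN hC
        rw [h2, clSub_isZero Q (isZero_cokernel_of_epi e.hom) hC, add_zero]
      · have hM' : ¬ Q M := fun h => hN (DevBasic.isCoh_of_iso e h)
        unfold KZero.clSub
        rw [dif_neg hN, dif_neg hM']
    show KZero.clSub Q N - finsum (term n N) ∈ H
    rw [← ht, ← hc]
    exact hM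
  have hP0 : ∀ M : X.Modules, IsZero M → P M := by
    intro M hz
    have hM : Q M := DevBasic.isCoh_of_isZero hz
    show KZero.clSub Q M - finsum (term n M) ∈ H
    rw [clSub_isZero Q hz hM, finsum_term_of_isZero n hz, sub_zero]
    exact H.zero_mem
  have h23 : ∀ S : ShortComplex X.Modules, S.ShortExact → Coh.IsCoh S.X₁ → Coh.IsCoh S.X₂ →
      Coh.IsCoh S.X₃ → CohB1.support S.X₂ ⊆ CohB1.support F →
      (P S.X₁ → P S.X₂ → P S.X₃) ∧ (P S.X₁ → P S.X₃ → P S.X₂) ∧ (P S.X₂ → P S.X₃ → P S.X₁) := by
    intro S hS h1 h2 h3 hs'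
    have he : KZero.clSub Q S.X₂ = KZero.clSub Q S.X₁ + KZero.clSub Q S.X₃ :=
      clSub_ses Q S hS h1 h2 h3
    have hs := sig_add n hX' hsupp S hS h1 h2 h3 hs'
    refine ⟨fun p1 p2 => ?_, fun p1 p3 => ?_, fun p2 p3 => ?_⟩
    · show KZero.clSub Q S.X₃ - finsum (term n S.X₃) ∈ H
      have : KZero.clSub Q S.X₃ - finsum (term n S.X₃) =
          (KZero.clSub Q S.X₂ - finsum (term n S.X₂)) -
            (KZero.clSub Q S.X₁ - finsum (term n S.X₁)) := by rw [he, hs]; abel
      rw [this]
      exact H.sub_mem p2 p1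
    · show KZero.clSub Q S.X₂ - finsum (term n S.X₂) ∈ H
      have : KZero.clSub Q S.X₂ - finsum (term n S.X₂) =
          (KZero.clSub Q S.X₁ - finsum (term n S.X₁)) +
            (KZero.clSub Q S.X₃ - finsum (term n S.X₃)) := by rw [he, hs]; abel
      rw [this]
      exact H.add_mem p1 p3
    · show KZero.clSub Q S.X₁ - finsum (term n S.X₁) ∈ H
      have : KZero.clSub Q S.X₁ - finsum (term n S.X₁) =
          (KZero.clSub Q S.X₂ - finsum (term n S.X₂)) -
            (KZero.clSub Q S.X₃ - finsum (term n S.X₃)) := by rw [he, hs]; abel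
      rw [this]
      exact H.sub_mem p2 p3
  refine DevEngine.engine X P hPiso (CohB1.support F) hP0
    (fun S hS h1 h2 h3 hs' p1 p3 => (h23 S hS h1 h2 h3 hs').2.1 p1 p3) ?_ F hF le_rfl
  intro Z hZ hirr hZY IH G hG hGs _
  obtain ⟨y, hy⟩ := QuasiSober.sober hirr hZ
  have hy' : closure {y} = Z := hy
  have hyZ : y ∈ Z := hy' ▸ subset_closure (Set.mem_singleton y)
  have hgenZ : ∀ x ∈ Z, y ⤳ x := fun x hx => specializes_iff_mem_closure.mpr (hy'.symm ▸ hx)
  by_cases hd : topologicalKrullDim ↥(closure ({y} : Set ↥X)) = n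
  · refine DevKey.key23 P (CohB1.support F) h23 Z hZY y hgenZ ?_ (Cyc.closureStructureSheaf y)
      (isCoh_closureStructureSheaf y) ?_ ?_ (length_closureStructureSheaf y) G hG hGs
    · intro F' hF' hs' hyF'
      exact IH F' hF' hs' (fun heq => hyF' (heq ▸ hyZ))
    · rw [support_closureStructureSheaf, hy']
    · show KZero.clSub Q (Cyc.closureStructureSheaf y) -
        finsum (term n (Cyc.closureStructureSheaf y)) ∈ H
      rw [finsum_term_closureStructureSheaf n y hd, sub_self]
      exact H.zero_mem
  · have hle : topologicalKrullDim ↥Z ≤ n := (TopDim.dim_le_of_subset hZY).trans hsupp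
    have hlt : topologicalKrullDim ↥Z < n := lt_of_le_of_ne hle (hy' ▸ hd)
    have hGd : topologicalKrullDim ↥(CohB1.support G) < n :=
      (TopDim.dim_le_of_subset hGs).trans_lt hlt
    show KZero.clSub Q G - finsum (term n G) ∈ H
    rw [finsum_term_eq_zero_of_dim_lt n G (hclosed G hG) hGd, sub_zero]
    exact AddSubgroup.subset_closure ⟨G, hG, hGd, rfl⟩

end Groth.Agent.Lib.Helper1.K0Dim
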