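import Mathlib

/-!
# Length of a localization of a finite power
-/

set_option autoImplicit false
universe u

namespace Groth.Agent.Lib.Helper1.TensorRank

theorem length_of_pi_equiv {R : Type*} [CommRing R] (S : Submonoid R) (Rp : Type*) [CommRing Rp]
    [Algebra R Rp] [IsLocalization S Rp]
    {M N M' N' : Type*} [AddCommGroup M] [Module R M] [AddCommGroup N] [Module R N]
    [AddCommGroup M'] [Module R M'] [Module Rp M'] [IsScalarTower R Rp M']
    [AddCommGroup N'] [Module R N'] [Module Rp N'] [IsScalarTower R Rp N']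
    (g : M →ₗ[R] M') [IsLocalizedModule S g] (h : N →ₗ[R] N') [IsLocalizedModule S h]
    (n : ℕ) (φ : (Fin n → M) ≃ₗ[R] N) :
    Module.length Rp N' = n * Module.length Rp M' := by
  let gp : (Fin n → M) →ₗ[R] (Fin n → M') := LinearMap.pi fun i => g.comp (LinearMap.proj i)
  haveI : IsLocalizedModule S gp := IsLocalizedModule.pi (S := S) (fun _ : Fin n => g)
  let h' : (Fin n → M) →ₗ[R] N' := h.comp φ.toLinearMap
  haveI : IsLocalizedModule S h' := IsLocalizedModule.of_linearEquiv_right S h φ
  let e0 : (Fin n → M') ≃ₗ[R] N' := IsLocalizedModule.linearEquiv S gp h'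
  let e1 : (Fin n → M') ≃ₗ[Rp] N' := e0.extendScalarsOfIsLocalization S Rp
  rw [← e1.length_eq, Module.length_pi]
  simp

end Groth.Agent.Lib.Helper1.TensorRank
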