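import Mathlib
import Groth.Prelude
import Groth.Agent.Lib.Helper1.TensorRank1
import Groth.Agent.Lib.Helper13.TmBasis
import Groth.Agent.Lib.Helper3.InvMonoidal
import Groth.Agent.Lib.Helper3.AssPoints
import Groth.Agent.Lib.Helper3.FreeBasis
import Groth.Agent.Lib.Helper17.TensorSec

/-!
# Length of the stalk of `F ⊗ E` for `E` free of rank `n` near `x`
-/

set_option autoImplicit false
set_option linter.style.haveILetI false
universe u
open CategoryTheory CategoryTheory.Limits AlgebraicGeometry TopologicalSpace Opposite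
open Scheme.Modules

namespace Groth.Agent.Lib.Helper1.TensorRank

open Groth.Agent.Lib.Helper3 Groth.Agent.Lib.Helper3.QCSec
  Groth.Agent.Lib.Helper3.InvTensor Groth.Agent.Lib.Helper3.FreeBasis
  Groth.Agent.Lib.Helper13.TmBasis Groth.Agent.Lib.Helper17

variable {X : Scheme.{u}}

theorem tmb_add (F L : X.Modules) (V : X.Opens) {n : ℕ} (t t' : Fin n → Γ(F, V))
    (e : Fin n → Γ(L, V)) : tmb F L V (t + t') e = tmb F L V t e + tmb F L V t' e := by
  unfold tmb
  rw [← Finset.sum_add_distrib]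
  exact Finset.sum_congr rfl (fun i _ => tm_add_left F L V _ _ _)

theorem tmb_smul (F L : X.Modules) (V : X.Opens) {n : ℕ} (r : Γ(X, V)) (t : Fin n → Γ(F, V))
    (e : Fin n → Γ(L, V)) : tmb F L V (r • t) e = r • tmb F L V t e := by
  unfold tmb
  rw [Finset.smul_sum]
  exact Finset.sum_congr rfl (fun i _ => tm_smul_left F L V _ _ _)

theorem length_stalk_tensor (F E : X.Modules) [F.IsQuasicoherent] [E.IsQuasicoherent]
    {U : X.Opens} (hU : IsAffineOpen U) {n : ℕ} {e : Fin n → Γ(E, U)} (hb : IsBasis E U e)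
    (x : X) (hx : x ∈ U) :
    Module.length (X.presheaf.stalk x) ((CohB1.tensorMod F E).presheaf.stalk x) =
      n * Module.length (X.presheaf.stalk x) (F.presheaf.stalk x) := by
  haveI := TensorSec.isQuasicoherent_tensorMod F E
  letI i1 : Algebra Γ(X, U) (X.presheaf.stalk x) :=
    TopCat.Presheaf.algebra_section_stalk X.presheaf (U := U) ⟨x, hx⟩
  letI i2F : Module Γ(X, U) (F.presheaf.stalk x) :=
    Module.compHom _ (algebraMap Γ(X, U) (X.presheaf.stalk x))
  letI i2T : Module Γ(X, U) ((CohB1.tensorMod F E).presheaf.stalk x) :=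
    Module.compHom _ (algebraMap Γ(X, U) (X.presheaf.stalk x))
  haveI i3F : IsScalarTower Γ(X, U) (X.presheaf.stalk x) (F.presheaf.stalk x) :=
    IsScalarTower.of_algebraMap_smul fun r y => rfl
  haveI i3T : IsScalarTower Γ(X, U) (X.presheaf.stalk x)
      ((CohB1.tensorMod F E).presheaf.stalk x) :=
    IsScalarTower.of_algebraMap_smul fun r y => rfl
  haveI i4 : IsLocalization.AtPrime (X.presheaf.stalk x) (hU.primeIdealOf ⟨x, hx⟩).asIdeal :=
    hU.isLocalization_stalk ⟨x, hx⟩
  let gF : Γ(F, U) →ₗ[Γ(X, U)] F.presheaf.stalk x :=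
    { toFun := F.presheaf.germ U x hx
      map_add' := map_add _
      map_smul' := fun r m => QS.germ_smul F x hx r m }
  let gT : Γ(CohB1.tensorMod F E, U) →ₗ[Γ(X, U)] (CohB1.tensorMod F E).presheaf.stalk x :=
    { toFun := (CohB1.tensorMod F E).presheaf.germ U x hx
      map_add' := map_add _
      map_smul' := fun r m => QS.germ_smul (CohB1.tensorMod F E) x hx r m }
  haveI hF : IsLocalizedModule (hU.primeIdealOf ⟨x, hx⟩).asIdeal.primeCompl gF :=
    QS.isLocalizedModule_germ hU F x hx (fun r y => rfl) gF (fun m => rfl)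
  haveI hT : IsLocalizedModule (hU.primeIdealOf ⟨x, hx⟩).asIdeal.primeCompl gT :=
    QS.isLocalizedModule_germ hU (CohB1.tensorMod F E) x hx (fun r y => rfl) gT (fun m => rfl)
  let L : (Fin n → Γ(F, U)) →ₗ[Γ(X, U)] Γ(CohB1.tensorMod F E, U) :=
    { toFun := fun t => tmb F E U t (fun i => res E (le_refl U) (e i))
      map_add' := fun t t' => tmb_add F E U t t' _
      map_smul' := fun r t => tmb_smul F E U r t _ }
  let φ : (Fin n → Γ(F, U)) ≃ₗ[Γ(X, U)] Γ(CohB1.tensorMod F E, U) :=
    LinearEquiv.ofBijective L (tmb_bijective F E hb U (le_refl U))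
  exact length_of_pi_equiv (hU.primeIdealOf ⟨x, hx⟩).asIdeal.primeCompl (X.presheaf.stalk x)
    gF gT n φ

end Groth.Agent.Lib.Helper1.TensorRank
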