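import Mathlib
import Groth.Prelude
import Groth.Agent.Lib.Helper1.TensorRank2
import Groth.Agent.Lib.Helper1.K0Dim3
import Groth.Agent.Lib.Helper7.TorsFree
import Groth.Agent.Lib.Helper17.SuppTensor

/-!
# `[E ⊗ F] ≡ e [F]` modulo lower-dimensional classes
-/

set_option autoImplicit false
set_option linter.style.haveILetI false
universe u
open CategoryTheory CategoryTheory.Limits AlgebraicGeometry TopologicalSpace Opposite
open Scheme.Modules

namespace Groth.Agent.Lib.Helper1.TensorRank

open Groth.Agent.Lib.Helper3 Groth.Agent.Lib.Helper3.QCSec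
  Groth.Agent.Lib.Helper3.InvTensor Groth.Agent.Lib.Helper3.FreeBasis
  Groth.Agent.Lib.Helper13.TmBasis Groth.Agent.Lib.Helper17 Groth.Agent.Lib.Helper1.K0Dim

variable {X : Scheme.{u}}

theorem length_stalk_tensor' (F E : X.Modules) [F.IsQuasicoherent] {n : ℕ}
    (hE : FlatMod.IsFinLocFreeOfRank n E) (x : X) :
    Module.length (X.presheaf.stalk x) ((CohB1.tensorMod F E).presheaf.stalk x) =
      n * Module.length (X.presheaf.stalk x) (F.presheaf.stalk x) := by
  have hEc := Groth.Agent.Lib.Helper7.TorsFree.isCoh_of_isFinLocFreeOfRank' hE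
  haveI := hEc.1
  obtain ⟨U, e, hxU, hb⟩ := isFinLocFreeOfRank_iff.mp hE x
  obtain ⟨V, hV, hxV, hVU⟩ : ∃ V : X.Opens, IsAffineOpen V ∧ x ∈ V ∧ V ≤ U := by
    obtain ⟨_, ⟨V, hV, rfl⟩, hxV, hVU⟩ :=
      (X.isBasis_affineOpens).exists_subset_of_mem_open hxU U.2
    exact ⟨V, hV, hxV, hVU⟩
  exact length_stalk_tensor F E hV (hb.mono hVU) x hxV

theorem key7763 (X : Scheme.{u}) [IsNoetherian X]
    (E : X.Modules) (e : ℕ) (hE : FlatMod.IsFinLocFreeOfRank e E)
    (F : X.Modules) (hF : Coh.IsCoh F) (r : ℕ) (hr : topologicalKrullDim (CohB1.support F) ≤ r) :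
    KZero.clSub (fun M : X.Modules => Coh.IsCoh M) (CohB1.tensorMod E F) -
        e • KZero.clSub (fun M : X.Modules => Coh.IsCoh M) F ∈
      AddSubgroup.closure {x : KZero.K0sub (fun M : X.Modules => Coh.IsCoh M) |
        ∃ G : X.Modules, Coh.IsCoh G ∧ topologicalKrullDim (CohB1.support G) < r ∧
          x = KZero.clSub (fun M : X.Modules => Coh.IsCoh M) G} := by
  have hEc := Groth.Agent.Lib.Helper7.TorsFree.isCoh_of_isFinLocFreeOfRank' hE
  haveI := hEc.1
  haveI := hEc.2
  haveI := hF.1
  haveI := hF.2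
  have hT : Coh.IsCoh (CohB1.tensorMod F E) :=
    ⟨TensorSec.isQuasicoherent_tensorMod F E, TensorSec.isFiniteType_tensorMod F E⟩
  let b := InvMonoidal.braid E F
  have hET : Coh.IsCoh (CohB1.tensorMod E F) := DevBasic.isCoh_of_iso b.symm hT
  have hsub : CohB1.support (CohB1.tensorMod E F) ⊆ CohB1.support F := by
    rw [DevBasic.support_eq_of_iso b, SuppTensor.support_tensorMod F E]
    exact Set.inter_subset_left
  have hclF : IsClosed (CohB1.support F) := Groth.Agent.S0020.result X F hF.2
  have h1 := key5642 X r (CohB1.tensorMod E F) hET ((TopDim.dim_le_of_subset hsub).trans hr)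
  have h2 := key5642 X r F hF hr
  have hterm : ∀ x : X, term r (CohB1.tensorMod E F) x = e • term r F x := by
    intro x
    rw [term_iso r b x]
    unfold term
    split_ifs with hx
    · rw [length_stalk_tensor' F E hE x, ENat.toNat_mul, ENat.toNat_natCast, mul_smul]
    · rw [smul_zero]
  have hfin : (Function.support (term r F)).Finite :=
    finite_support_term r hclF hr F (le_refl _)
  have hsum : finsum (term r (CohB1.tensorMod E F)) = e • finsum (term r F) := by
    rw [smul_finsum' e hfin]
    exact congrArg finsum (funext hterm)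
  set H := AddSubgroup.closure {x : KZero.K0sub (fun M : X.Modules => Coh.IsCoh M) |
        ∃ G : X.Modules, Coh.IsCoh G ∧ topologicalKrullDim (CohB1.support G) < r ∧
          x = KZero.clSub (fun M : X.Modules => Coh.IsCoh M) G} with hH
  have h3 : e • (KZero.clSub (fun M : X.Modules => Coh.IsCoh M) F - finsum (term r F)) ∈ H :=
    H.nsmul_mem h2 e
  have := H.sub_mem h1 h3
  rw [hsum] at this
  convert this using 1
  rw [smul_sub]
  abel

end Groth.Agent.Lib.Helper1.TensorRank
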