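import Mathlib
import Groth.Agent.Lib.Helper3.PbBasic
import Groth.Agent.Lib.Helper17.PbStalk
set_option autoImplicit false
set_option linter.style.haveILetI false
universe u
open CategoryTheory CategoryTheory.Limits AlgebraicGeometry TopologicalSpace Opposite

namespace Groth.Agent.Lib.Helper1.FreeField

/-- a quasi-coherent module on the spectrum of a field is free -/
theorem exists_iso_free (R : CommRingCat.{u}) (hR : IsField R) (C : (Spec (.of R)).Modules)
    [C.IsQuasicoherent] : ∃ I : Type u, Nonempty (C ≅ SheafOfModules.free I) := by
  haveI : IsIso C.fromTildeΓ := inferInstance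
  let M : ModuleCat R := (moduleSpecΓFunctor (R := R)).obj C
  letI := hR.toField
  let b := Module.Basis.ofVectorSpace R M
  let e : M ≅ ModuleCat.of R (Module.Basis.ofVectorSpaceIndex R M →₀ R) := b.repr.toModuleIso
  refine ⟨Module.Basis.ofVectorSpaceIndex R M, ⟨?_⟩⟩
  exact (asIso C.fromTildeΓ).symm ≪≫ (tilde.functor R).mapIso e ≪≫
    tildeFinsupp _

set_option backward.isDefEq.respectTransparency.types false in
/-- pullback of a free module is free -/
noncomputable def pullbackFreeIso {X Y : Scheme.{u}} (f : X ⟶ Y) (I : Type u) :
    (Scheme.Modules.pullback f).obj (SheafOfModules.free I) ≅ SheafOfModules.free I :=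
  SheafOfModules.pullbackObjFreeIso f.toRingCatSheafHom I

end Groth.Agent.Lib.Helper1.FreeField
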