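import Groth.Agent.Lib.Helper1.FFPS
import Groth.Agent.Lib.Helper2.ProperOver
import Groth.Agent.Lib.Helper13.ProperSupp
import Groth.Agent.Lib.Helper3.QCOpen
import Groth.Agent.S0020

/-!
# Modules vanishing off a closed set proper over the base: finiteness and formal functions
-/
set_option autoImplicit false
universe u
open CategoryTheory CategoryTheory.Limits AlgebraicGeometry Opposite
open Groth.Agent.Lib.Helper23.T2 Groth.Agent.Lib.Helper13.SerreCrit1 Groth.Agent.Lib.Helper3
open Formal

noncomputable section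

namespace Groth.Agent.Lib.Helper1.FFSupp

open FFFam FFCoh FFClaim FFIM FFMain FFFinal

variable {X : Scheme.{u}}

/-- the module has no sections over opens disjoint from `Z`. -/
def VanOff (Z : Set X) (G : X.Modules) : Prop :=
  ∀ U : X.Opens, Disjoint (U : Set X) Z → Subsingleton Γ(G, U)

lemma vanOff_support (M : X.Modules) : VanOff (CohB1.support M) M := by
  intro U hU
  apply QCOpen.subsingleton_sections_of_stalks M U
  intro x hx
  by_contra h
  exact (Set.disjoint_left.mp hU) hx h

lemma vanOff_sub (Z : Set X) {K G : X.Modules} (i : K ⟶ G) [Mono i] (h : VanOff Z G) :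
    VanOff Z K := by
  intro U hU
  haveI := h U hU
  exact (QCExact.injective_sections i U).subsingleton

lemma vanOff_sum (Z : Set X) (r : ℕ) (G : X.Modules) (h : VanOff Z G) :
    VanOff Z (⨁ fun _ : Fin r => G) := by
  intro U hU
  haveI := h U hU
  refine ⟨fun x y => ?_⟩
  have key : ∀ z : Γ((⨁ fun _ : Fin r => G : X.Modules), U), z = 0 := by
    intro z
    have h1 : (∑ j, biproduct.π (fun _ : Fin r => G) j ≫ biproduct.ι (fun _ : Fin r => G) j).app U z
        = z := by
      rw [biproduct.total]; rfl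
    rw [Groth.Agent.Lib.Helper13.SerreCrit2.sum_app] at h1
    rw [← h1]
    refine Finset.sum_eq_zero fun j _ => ?_
    rw [app_comp_apply, Subsingleton.elim ((biproduct.π (fun _ : Fin r => G) j).app U z) 0,
      map_zero]
  rw [key x, key y]

lemma support_subset_of_vanOff (Z : Set X) (hZ : IsClosed Z) (G : X.Modules) (h : VanOff Z G) :
    CohB1.support G ⊆ Z := by
  intro x hx
  by_contra hxZ
  apply hx
  let U : X.Opens := ⟨Zᶜ, hZ.isOpen_compl⟩
  refine ⟨fun a b => ?_⟩
  have key : ∀ g : G.presheaf.stalk x, g = 0 := by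
    intro g
    obtain ⟨V, hxV, s, rfl⟩ := TopCat.Presheaf.germ_exist G.presheaf g
    have hxVU : x ∈ V ⊓ U := ⟨hxV, hxZ⟩
    haveI := h (V ⊓ U) (by
      rw [Set.disjoint_left]
      rintro y ⟨_, hyU⟩ hyZ
      exact hyU hyZ)
    have h1 := TopCat.Presheaf.germ_res_apply G.presheaf (homOfLE (inf_le_left : V ⊓ U ≤ V)) x
      hxVU s
    rw [← h1, Subsingleton.elim (G.presheaf.map (homOfLE (inf_le_left : V ⊓ U ≤ V)).op s) 0,
      map_zero]
  rw [key a, key b]

section Fin

variable (A : Type u) [CommRing A] [IsNoetherianRing A] [X.Over (Spec (CommRingCat.of A))]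
  [LocallyOfFiniteType (X ↘ Spec (CommRingCat.of A))]

theorem finite_HH_of_properSupport (F : X.Modules) (hF : Coh.IsCoh F)
    (hs : ClSub.IsProperOver (X ↘ Spec (CommRingCat.of A)) (CohB1.support F)) (n : ℕ) :
    Module.Finite A (Coh.HH X F n) := by
  obtain ⟨Z, i, hi, hprop, G, hGq, hGft, ⟨e⟩⟩ :=
    (Groth.Agent.Lib.Helper13.ProperSupp.isProperOver_support_iff
      (X ↘ Spec (CommRingCat.of A)) F hF.1 hF.2).1 hs
  haveI := hi
  haveI := hprop
  haveI : G.IsQuasicoherent := hGq
  have h1 := proper_cohomology_finite (i ≫ (X ↘ Spec (CommRingCat.of A))) G ⟨hGq, hGft⟩ n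
  have h2 := (push_closed_iff i (X ↘ Spec (CommRingCat.of A)) G n).2 h1
  have h3 : (finClass (Coh.toGlobal (X ↘ Spec (CommRingCat.of A)))).P (HHm F n) :=
    (finClass _).of_equiv (HmapEquiv e n) h2
  exact (finClass_HHm_iff A F n).1 h3

theorem good_vanOff (Z : Set X) (hZ : ClSub.IsProperOver (X ↘ Spec (CommRingCat.of A)) Z) :
    FFPS.Good A (VanOff Z) where
  fin G hG hP p := by
    have hsub := support_subset_of_vanOff Z hZ.1 G hP
    have hcl : IsClosed (CohB1.support G) := Groth.Agent.S0020.result X G hG.2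
    exact finite_HH_of_properSupport A G hG
      (Groth.Agent.Lib.Helper2.isProperOver_of_subset _ hZ hcl hsub) p
  sub i _ h := vanOff_sub Z i h
  sum r G h := vanOff_sum Z r G h

variable [QuasiCompact (X ↘ Spec (CommRingCat.of A))] (I : Ideal A)

theorem s4478 (F : X.Modules) (hF : Coh.IsCoh F)
    (hs : ClSub.IsProperOver (X ↘ Spec (CommRingCat.of A)) (CohB1.support F)) (p : ℕ) :
    Nonempty (AdicCompletion I (Coh.HH X F p) ≃+ Formal.HHlim I F p) := by
  haveI : IsLocallyNoetherian X :=
    LocallyOfFiniteType.isLocallyNoetherian (X ↘ Spec (CommRingCat.of A))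
  haveI : CompactSpace X :=
    QuasiCompact.compactSpace_of_compactSpace (X ↘ Spec (CommRingCat.of A))
  exact FFPS.s0059 (good_vanOff A _ hs) I F p hF (vanOff_support F)

theorem s4460 [IsAdicComplete I A] (F : X.Modules) (hF : Coh.IsCoh F)
    (hs : ClSub.IsProperOver (X ↘ Spec (CommRingCat.of A)) (CohB1.support F)) (p : ℕ) :
    Function.Bijective (Formal.toHHlim I F p) := by
  haveI : IsLocallyNoetherian X :=
    LocallyOfFiniteType.isLocallyNoetherian (X ↘ Spec (CommRingCat.of A))
  haveI : CompactSpace X :=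
    QuasiCompact.compactSpace_of_compactSpace (X ↘ Spec (CommRingCat.of A))
  exact FFPS.s0003 (good_vanOff A _ hs) I F p hF (vanOff_support F)

end Fin

end Groth.Agent.Lib.Helper1.FFSupp
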