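import Mathlib
import Groth.Prelude.Def_CohB1
import Groth.Agent.Lib.Helper1.FFSupp
import Groth.Agent.Lib.Helper1.PuncTors
import Groth.Agent.Lib.Helper3.QCProps
import Groth.Agent.Lib.Helper3.QCPush
set_option autoImplicit false
set_option linter.style.haveILetI false
universe u
open CategoryTheory CategoryTheory.Limits AlgebraicGeometry Opposite
namespace Groth.Agent.Lib.Helper1.SplitSupp

open Groth.Agent.Lib.Helper1.FFSupp Groth.Agent.Lib.Helper3 Scheme.Modules

variable {X : Scheme.{u}}

/-- the unit `M → j_* j^* M` is injective on sections over opens contained in `W`. -/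
theorem unit_app_injective (W : X.Opens) (M : X.Modules) (U : X.Opens) (hU : U ≤ W) :
    Function.Injective
      (Scheme.Modules.Hom.app ((restrictAdjunction W.ι).unit.app M) U) := by
  have h1 := (restrictAdjunction W.ι).left_triangle_components M
  have h2' : ∀ O : (W : Scheme.{u}).Opens, Function.Injective
      (Scheme.Modules.Hom.app ((restrictFunctor W.ι).map
        ((restrictAdjunction W.ι).unit.app M)) O).hom := by
    intro O a b hab
    have h3 := congrArg (fun φ => (Scheme.Modules.Hom.app φ O).hom a) h1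
    have h4 := congrArg (fun φ => (Scheme.Modules.Hom.app φ O).hom b) h1
    simp only [Scheme.Modules.Hom.comp_app] at h3 h4
    have h5 : (Scheme.Modules.Hom.app ((restrictAdjunction W.ι).counit.app
        ((restrictFunctor W.ι).obj M)) O).hom
          ((Scheme.Modules.Hom.app ((restrictFunctor W.ι).map
            ((restrictAdjunction W.ι).unit.app M)) O).hom a) =
        (Scheme.Modules.Hom.app ((restrictAdjunction W.ι).counit.app
          ((restrictFunctor W.ι).obj M)) O).hom
          ((Scheme.Modules.Hom.app ((restrictFunctor W.ι).map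
            ((restrictAdjunction W.ι).unit.app M)) O).hom b) := by rw [hab]
    exact (h3.symm.trans h5).trans h4
  have h2 : ∀ O : (W : Scheme.{u}).Opens, Function.Injective
      (Scheme.Modules.Hom.app ((restrictAdjunction W.ι).unit.app M) (W.ι ''ᵁ O)) :=
    fun O => h2' O
  have h6 : ∀ (O₁ O₂ : X.Opens), O₁ = O₂ → Function.Injective
      (Scheme.Modules.Hom.app ((restrictAdjunction W.ι).unit.app M) O₁) → Function.Injective
      (Scheme.Modules.Hom.app ((restrictAdjunction W.ι).unit.app M) O₂) := by
    rintro _ _ rfl hs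
    exact hs
  exact h6 _ _ (Groth.Agent.Lib.Helper1.PuncTors.ι_image_preimage W U hU) (h2 (W.ι ⁻¹ᵁ U))

theorem isZero_of_sections {N : X.Modules} (h : ∀ O : X.Opens, Subsingleton Γ(N, O)) :
    IsZero N := by
  rw [IsZero.iff_id_eq_zero]
  ext O x
  haveI := h O
  exact Subsingleton.elim _ _

theorem main (X : Scheme.{u}) [IsNoetherian X] (M : X.Modules) (hM : Coh.IsCoh M)
    (Z Z' : Set X) (hZ : IsClosed Z) (hZ' : IsClosed Z') (h : CohB1.support M = Z ∪ Z') :
    ∃ S : ShortComplex X.Modules, S.ShortExact ∧ Nonempty (S.X₂ ≅ M) ∧ Coh.IsCoh S.X₁ ∧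
      Coh.IsCoh S.X₃ ∧ CohB1.support S.X₁ ⊆ Z' ∧ CohB1.support S.X₃ ⊆ Z := by
  haveI : M.IsQuasicoherent := hM.1
  haveI : M.IsFiniteType := hM.2
  let W : X.Opens := ⟨Z'ᶜ, hZ'.isOpen_compl⟩
  let V : X.Opens := ⟨Zᶜ, hZ.isOpen_compl⟩
  let P : X.Modules := (pushforward W.ι).obj ((restrictFunctor W.ι).obj M)
  let η : M ⟶ P := (restrictAdjunction W.ι).unit.app M
  haveI : ((restrictFunctor W.ι).obj M).IsQuasicoherent :=
    Scheme.Modules.isQuasicoherent_restrictFunctor W.ι M
  haveI : P.IsQuasicoherent := QCSec.isQuasicoherent_pushforward W.ι _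
  haveI hK : (kernel η).IsQuasicoherent := QCProps.isQuasicoherent_kernel η
  haveI hKf : (kernel η).IsFiniteType := QCProps.isFiniteType_of_mono (kernel.ι η)
  haveI hC : (cokernel (kernel.ι η)).IsQuasicoherent :=
    QCProps.isQuasicoherent_cokernel (kernel.ι η)
  haveI hCf : (cokernel (kernel.ι η)).IsFiniteType :=
    QCProps.isFiniteType_of_epi (cokernel.π (kernel.ι η))
  refine ⟨ShortComplex.mk (kernel.ι η) (cokernel.π (kernel.ι η)) (cokernel.condition _), ?_,
    ⟨Iso.refl _⟩, ⟨hK, hKf⟩, ⟨hC, hCf⟩, ?_, ?_⟩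
  · exact ShortComplex.ShortExact.mk' (ShortComplex.exact_cokernel _) inferInstance inferInstance
  · apply support_subset_of_vanOff Z' hZ'
    intro U hU
    have hUW : U ≤ W := fun x hx hxZ' => (Set.disjoint_left.mp hU) hx hxZ'
    have hcond : ∀ c : Γ(kernel η, U), (Scheme.Modules.Hom.app η U).hom
        ((Scheme.Modules.Hom.app (kernel.ι η) U).hom c) = 0 := by
      intro c
      have h0 := congrArg (fun φ => (Scheme.Modules.Hom.app φ U).hom c) (kernel.condition η)
      exact h0
    refine ⟨fun a b => ?_⟩
    apply QCExact.injective_sections (kernel.ι η) U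
    apply unit_app_injective W M U hUW
    exact (hcond a).trans (hcond b).symm
  · apply support_subset_of_vanOff Z hZ
    intro U hU
    have hUV : U ≤ V := fun x hx hxZ => (Set.disjoint_left.mp hU) hx hxZ
    -- `P` restricted to `V` vanishes
    have hzP : IsZero ((restrictFunctor V.ι).obj P) := by
      apply isZero_of_sections
      intro O
      have hdisj : Disjoint ((W.ι ''ᵁ (W.ι ⁻¹ᵁ (V.ι ''ᵁ O)) : X.Opens) : Set X)
          (CohB1.support M) := by
        rw [h, Set.disjoint_left]
        rintro x hx (hxZ | hxZ')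
        · have hx1 : x ∈ V.ι ''ᵁ O := by
            rw [Scheme.Hom.image_preimage_eq_opensRange_inf] at hx
            exact hx.2
          obtain ⟨y, _, rfl⟩ := hx1
          exact y.2 hxZ
        · rw [Scheme.Hom.image_preimage_eq_opensRange_inf, Scheme.Opens.opensRange_ι] at hx
          exact hx.1 hxZ'
      exact vanOff_support M _ hdisj
    let R := restrictFunctor (X := (V : Scheme.{u})) V.ι
    have hex : (ShortComplex.mk (kernel.ι η) η (kernel.condition η)).Exact :=
      ShortComplex.exact_kernel η
    have hex' := hex.map R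
    haveI hepi : Epi (R.map (kernel.ι η)) := hex'.epi_f (hzP.eq_of_tgt _ _)
    have h0 : R.map (kernel.ι η) ≫ R.map (cokernel.π (kernel.ι η)) = 0 := by
      rw [← Functor.map_comp, cokernel.condition, Functor.map_zero]
    have h1 : R.map (cokernel.π (kernel.ι η)) = 0 := by
      rw [← cancel_epi (R.map (kernel.ι η)), h0, comp_zero]
    haveI : Epi (R.map (cokernel.π (kernel.ι η))) := inferInstance
    have hz : IsZero (R.obj (cokernel (kernel.ι η))) := by
      rw [IsZero.iff_id_eq_zero, ← cancel_epi (R.map (cokernel.π (kernel.ι η))), h1, zero_comp,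
        zero_comp]
    exact ⟨fun a b =>
      (Groth.Agent.Lib.Helper1.PuncTors.sections_eq_zero_of_isZero_restrict _ V hz U hUV a).trans
      (Groth.Agent.Lib.Helper1.PuncTors.sections_eq_zero_of_isZero_restrict _ V hz U hUV b).symm⟩

end Groth.Agent.Lib.Helper1.SplitSupp
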