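import Groth.Agent.Lib.Helper1.MaxAnn
import Groth.Agent.Lib.Helper11.GRed
import Groth.Agent.Lib.Helper1.SplitSupp

/-!
# The scheme-theoretic support of a module with maximal annihilator is integral
-/

set_option autoImplicit false
set_option linter.style.haveILetI false
universe u
open CategoryTheory CategoryTheory.Limits AlgebraicGeometry Opposite

namespace Groth.Agent.Lib.Helper1.MaxAnnInt

open Groth.Agent.Lib.Helper3 Scheme.Modules
open Groth.Agent.Lib.Helper1.CycExt Groth.Agent.Lib.Helper1.CohSubWF Groth.Agent.Lib.Helper1.MaxAnn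
open Groth.Agent.Lib.Helper17.ClImmUnit

variable {X : Scheme.{u}}

theorem isRadical_annData [IsNoetherian X] (G : X.Modules) [G.IsQuasicoherent] [G.IsFiniteType]
    (hG : IsMaxAnn G) (U : X.affineOpens) : ((annData G).ideal U).IsRadical := by
  show (Module.annihilator Γ(X, U.1) Γ(G, U.1)).IsRadical
  have key : ∀ a b : Γ(X, U.1), a * b ∈ Module.annihilator Γ(X, U.1) Γ(G, U.1) →
      a ∈ Module.annihilator Γ(X, U.1) Γ(G, U.1) ∨ b ∈ Module.annihilator Γ(X, U.1) Γ(G, U.1) := by
    intro a b hab
    by_cases ha : a ∈ Module.annihilator Γ(X, U.1) Γ(G, U.1)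
    · exact Or.inl ha
    · right
      rw [Module.mem_annihilator] at ha
      push Not at ha
      obtain ⟨m, hm⟩ := ha
      refine Module.mem_annihilator.mpr (hG.ann_section U.1 U.2 (a • m) hm b ?_)
      rw [smul_smul, mul_comm]
      exact Module.mem_annihilator.mp hab m
  intro a ha
  obtain ⟨n, hn⟩ := ha
  induction n with
  | zero =>
    rw [pow_zero] at hn
    exact (Ideal.eq_top_of_isUnit_mem _ hn isUnit_one) ▸ Submodule.mem_top
  | succ n ih =>
    rw [pow_succ] at hn
    rcases key _ _ hn with h | h
    · exact ih h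
    · exact h

theorem isReduced_subscheme_annData [IsNoetherian X] (G : X.Modules) [G.IsQuasicoherent]
    [G.IsFiniteType] (hG : IsMaxAnn G) : IsReduced (annData G).subscheme :=
  Groth.Agent.Lib.Helper11.GRed.isReduced_subscheme_of_isRadical _ (isRadical_annData G hG)

theorem support_eq_of_iso {M N : X.Modules} (e : M ≅ N) : CohB1.support M = CohB1.support N := by
  ext x
  let e' := (TopCat.Presheaf.stalkFunctor AddCommGrpCat.{u} x).mapIso
    ((Scheme.Modules.toPresheaf X).mapIso e)
  have h1 : Function.Injective e'.hom := (ConcreteCategory.bijective_of_isIso e'.hom).1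
  have h2 : Function.Injective e'.inv := (ConcreteCategory.bijective_of_isIso e'.inv).1
  constructor
  · intro h hN
    exact h (@Function.Injective.subsingleton _ _ _ h1 hN)
  · intro h hM
    exact h (@Function.Injective.subsingleton _ _ _ h2 hM)

theorem isClosed_support (G : X.Modules) [G.IsQuasicoherent] [G.IsFiniteType] :
    IsClosed (CohB1.support G) := by
  rw [← support_annData G]
  exact (annData G).support.isClosed

theorem support_nonempty (G : X.Modules) (hz : ¬ IsZero G) : (CohB1.support G).Nonempty := by
  by_contra hne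
  rw [Set.not_nonempty_iff_eq_empty] at hne
  apply hz
  apply Groth.Agent.Lib.Helper1.SplitSupp.isZero_of_sections
  intro O
  apply Groth.Agent.Lib.Helper1.FFSupp.vanOff_support G O
  rw [hne]
  exact Set.disjoint_empty _

theorem support_le_of_isMaxAnn [IsNoetherian X] (G : X.Modules) [G.IsQuasicoherent] [G.IsFiniteType]
    (hG : IsMaxAnn G) (G' : X.Modules) (ι' : G' ⟶ G) [Mono ι'] [G'.IsQuasicoherent]
    (hz : ¬ IsZero G') : CohB1.support G ⊆ CohB1.support G' := by
  haveI : G'.IsFiniteType := QCProps.isFiniteType_of_mono ι'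
  rw [← support_annData G, ← support_annData G']
  have hle : annData G' ≤ annData G := by
    rw [Scheme.IdealSheafData.le_def]
    intro U a ha
    exact Module.mem_annihilator.mpr
      (hG G' ι' inferInstance inferInstance hz U.1 U.2 a (Module.mem_annihilator.mp ha))
  exact Scheme.IdealSheafData.support_antitone hle

theorem isIrreducible_support [IsNoetherian X] (G : X.Modules) [G.IsQuasicoherent] [G.IsFiniteType]
    (hG : IsMaxAnn G) (hz : ¬ IsZero G) : IsIrreducible (CohB1.support G) := by
  refine ⟨support_nonempty G hz, ?_⟩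
  rw [isPreirreducible_iff_isClosed_union_isClosed]
  intro z₁ z₂ h₁ h₂ hsub
  have hcl := isClosed_support G
  have hunion : CohB1.support G = (z₁ ∩ CohB1.support G) ∪ (z₂ ∩ CohB1.support G) := by
    rw [← Set.union_inter_distrib_right]
    exact (Set.inter_eq_right.mpr hsub).symm
  obtain ⟨S, hS, ⟨e⟩, hc1, hc3, hs1, hs3⟩ := Groth.Agent.Lib.Helper1.SplitSupp.main X G
    ⟨inferInstance, inferInstance⟩ _ _ (h₁.inter hcl) (h₂.inter hcl) hunion
  haveI := hS.mono_f
  haveI := hS.epi_g
  by_cases hz1 : IsZero S.X₁
  · left
    haveI : Mono S.g := hS.exact.mono_g (hz1.eq_of_src _ _)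
    haveI : IsIso S.g := isIso_of_mono_of_epi S.g
    rw [← support_eq_of_iso e, support_eq_of_iso (asIso S.g)]
    exact hs3.trans Set.inter_subset_left
  · right
    haveI : S.X₁.IsQuasicoherent := hc1.1
    have h := support_le_of_isMaxAnn G hG S.X₁ (S.f ≫ e.hom) hz1
    exact (h.trans hs1).trans Set.inter_subset_left

theorem isIntegral_subscheme_annData [IsNoetherian X] (G : X.Modules) [G.IsQuasicoherent]
    [G.IsFiniteType] (hG : IsMaxAnn G) (hz : ¬ IsZero G) : IsIntegral (annData G).subscheme := by
  haveI := isReduced_subscheme_annData G hG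
  haveI : IrreducibleSpace (annData G).subscheme := by
    have h := isIrreducible_support G hG hz
    rw [← support_annData G] at h
    exact Subtype.irreducibleSpace h
  exact isIntegral_of_irreducibleSpace_of_isReduced _

end Groth.Agent.Lib.Helper1.MaxAnnInt
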