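import Mathlib
import Groth.Agent.Lib.Helper1.Dev12Main
import Groth.Agent.Lib.Helper25.LocGenExt
import Groth.Agent.Lib.Helper3.QCPush
import Groth.Agent.Lib.Helper3.QCOpen

/-!
# Coherence of direct images from coherence on integral closed subschemes
-/

set_option autoImplicit false
set_option linter.style.haveILetI false
universe u
open CategoryTheory CategoryTheory.Limits AlgebraicGeometry Opposite TopologicalSpace

namespace Groth.Agent.Lib.Helper1.PushCoh

open Groth.Agent.Lib.Helper3 Groth.Agent.Lib.Helper17 Groth.Agent.Lib.Helper17.DevBasic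

variable {X Y : Scheme.{u}}

/-- an extension of coherent modules is coherent. -/
theorem isCoh_of_shortExact (S : ShortComplex Y.Modules) (hS : S.ShortExact)
    (h1 : Coh.IsCoh S.X₁) (h3 : Coh.IsCoh S.X₃) : Coh.IsCoh S.X₂ := by
  haveI := h1.1
  haveI := h1.2
  haveI := h3.1
  haveI := h3.2
  exact ⟨QCExact.isQuasicoherent_of_shortExact S hS,
    Groth.Agent.Lib.Helper25.LocGenExt.isFiniteType_of_shortExact S hS⟩

section

variable [IsNoetherian X] [IsNoetherian Y] (f : X ⟶ Y)

theorem isQC_push (F : X.Modules) (hF : Coh.IsCoh F) :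
    ((Scheme.Modules.pushforward f).obj F).IsQuasicoherent := by
  haveI := hF.1
  exact QCSec.isQuasicoherent_pushforward f F

/-- (a1): kernels of epimorphisms. -/
theorem push_left (S : ShortComplex X.Modules) (hS : S.ShortExact) (h1 : Coh.IsCoh S.X₁)
    (h2 : Coh.IsCoh ((Scheme.Modules.pushforward f).obj S.X₂)) :
    Coh.IsCoh ((Scheme.Modules.pushforward f).obj S.X₁) := by
  haveI := hS.mono_f
  haveI : Mono ((Scheme.Modules.pushforward f).map S.f) := inferInstance
  exact isCoh_of_mono ((Scheme.Modules.pushforward f).map S.f) (isQC_push f _ h1) h2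

/-- (a2): extensions. -/
theorem push_mid (S : ShortComplex X.Modules) (hS : S.ShortExact) (h2 : Coh.IsCoh S.X₂)
    (p1 : Coh.IsCoh ((Scheme.Modules.pushforward f).obj S.X₁))
    (p3 : Coh.IsCoh ((Scheme.Modules.pushforward f).obj S.X₃)) :
    Coh.IsCoh ((Scheme.Modules.pushforward f).obj S.X₂) := by
  haveI := hS.mono_f
  set T := S.map (Scheme.Modules.pushforward f) with hT
  have hTex : T.Exact := hS.exact.map_of_mono_of_preservesKernel (Scheme.Modules.pushforward f)
    inferInstance inferInstance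
  haveI : Mono T.f := by
    show Mono ((Scheme.Modules.pushforward f).map S.f)
    infer_instance
  haveI q2 : T.X₂.IsQuasicoherent := isQC_push f _ h2
  haveI := p1.1
  haveI := p3.1
  -- the kernel of `T.g` is `f_* X₁`
  let e : T.X₁ ≅ kernel T.g :=
    IsLimit.conePointUniqueUpToIso hTex.fIsKernel (limit.isLimit _)
  have hK : Coh.IsCoh (kernel T.g) := isCoh_of_iso e p1
  haveI := hK.1
  -- the coimage of `T.g` is a submodule of `f_* X₃`
  let m : cokernel (kernel.ι T.g) ⟶ T.X₃ := Abelian.factorThruCoimage T.g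
  haveI : Mono m := inferInstanceAs (Mono (Abelian.factorThruCoimage T.g))
  haveI : (cokernel (kernel.ι T.g)).IsQuasicoherent := QCProps.isQuasicoherent_cokernel _
  have hI : Coh.IsCoh (cokernel (kernel.ι T.g)) := isCoh_of_mono m inferInstance p3
  exact isCoh_of_shortExact _ (DevKey.shortExact_of_mono (kernel.ι T.g)) hK hI

/-- (b): roots of powers. -/
theorem push_root (F : X.Modules) (d : ℕ) (hd : 1 ≤ d) (hF : Coh.IsCoh F)
    (h : Coh.IsCoh ((Scheme.Modules.pushforward f).obj (∐ fun _ : Fin d => F))) :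
    Coh.IsCoh ((Scheme.Modules.pushforward f).obj F) := by
  let i : F ⟶ ∐ fun _ : Fin d => F := Sigma.ι (fun _ : Fin d => F) ⟨0, by omega⟩
  let r : (∐ fun _ : Fin d => F) ⟶ F := Sigma.desc (fun _ => 𝟙 F)
  have hir : i ≫ r = 𝟙 F := Sigma.ι_desc _ _
  haveI : IsSplitEpi ((Scheme.Modules.pushforward f).map r) :=
    ⟨⟨⟨(Scheme.Modules.pushforward f).map i, by
      rw [← Functor.map_comp, hir, CategoryTheory.Functor.map_id]⟩⟩⟩
  exact isCoh_of_epi ((Scheme.Modules.pushforward f).map r) h (isQC_push f F hF)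

theorem isZero_of_isEmpty (hX : IsEmpty X) (F : X.Modules) : IsZero F := by
  apply isZero_of_sections
  intro O
  exact QCOpen.subsingleton_sections_of_stalks F O (fun x _ => (hX.false x).elim)

theorem key10866
    (hgen : ∀ (Z : Scheme.{u}) (i : Z ⟶ X) [IsClosedImmersion i] [IsIntegral Z],
      ∃ H : Z.Modules, Coh.IsCoh H ∧ Nontrivial (H.presheaf.stalk (genericPoint Z)) ∧
        Coh.IsCoh ((Scheme.Modules.pushforward (i ≫ f)).obj H))
    (F : X.Modules) (hF : Coh.IsCoh F) : Coh.IsCoh ((Scheme.Modules.pushforward f).obj F) := by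
  by_cases hne : Nonempty X
  swap
  · have hz : IsZero F := isZero_of_isEmpty (not_nonempty_iff.mp hne) F
    exact isCoh_of_isZero ((Scheme.Modules.pushforward f).map_isZero hz)
  let K : ObjectProperty X.Modules := fun G => Coh.IsCoh ((Scheme.Modules.pushforward f).obj G)
  haveI : K.IsClosedUnderIsomorphisms :=
    ⟨fun e h => isCoh_of_iso ((Scheme.Modules.pushforward f).mapIso e) h⟩
  refine Dev12.key10865 X K ?_ ?_ ?_ F hF
  · intro S hS h1 h2 _
    exact ⟨fun p2 _ => push_left f S hS h1 p2, fun p1 p3 => push_mid f S hS h2 p1 p3⟩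
  · intro F d hd hF h
    exact push_root f F d hd hF h
  · intro Z i _ _
    obtain ⟨H, hH, hnt, hc⟩ := hgen Z i
    refine ⟨H, hH, hnt, ?_⟩
    exact isCoh_of_iso ((Scheme.Modules.pushforwardComp i f).app H).symm hc

end

end Groth.Agent.Lib.Helper1.PushCoh
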