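import Groth.Agent.Lib.Helper1.NefPull
import Groth.Agent.Lib.Helper1.AmpleConn
import Groth.Agent.Lib.Helper23.DegCompC
import Groth.Agent.Lib.Helper23.SmoothCurve
import Groth.Agent.Lib.Helper12.QFDim

/-!
# The curve test for nefness: from regular curves to all proper one-dimensional schemes
-/

set_option autoImplicit false
set_option linter.style.haveILetI false
universe u
open CategoryTheory CategoryTheory.Limits AlgebraicGeometry TopologicalSpace Opposite
open Scheme.Modules

namespace Groth.Agent.Lib.Helper1.CurveTest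

open Groth.Agent.Lib.Helper1.NoCurveAmple Groth.Agent.Lib.Helper1.NefPull

/-- the normalization of an integral proper curve: a regular integral proper curve with a finite
dominant morphism -/
theorem exists_regular_cover (k : Type u) [Field k] (W : Scheme.{u})
    [W.Over (Spec (CommRingCat.of k))] [IsProper (W ↘ Spec (CommRingCat.of k))] [IsIntegral W]
    (hW : topologicalKrullDim W = 1) :
    ∃ (W' : Scheme.{u}) (ν : W' ⟶ W) (_ : IsFinite ν) (_ : IsIntegral W'),
      topologicalKrullDim W' = 1 ∧ (∀ x : W', IsRegularLocalRing (W'.presheaf.stalk x)) ∧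
      ν.base (genericPoint W') = genericPoint W := by
  obtain ⟨W', ν, hfin, hint, hsurj, hnorm⟩ :=
    Groth.Agent.Lib.Helper1.AmpleConn.exists_normal_cover k W (W ↘ Spec (CommRingCat.of k))
  haveI := hfin
  haveI := hint
  haveI := hsurj
  have hle : topologicalKrullDim W' ≤ 1 := by
    have h1 := Groth.Agent.Lib.Helper12.QFDim.dim_le_of_quasiFinite ν (Set.univ : Set W)
      isClosed_univ (Set.subset_univ _)
    have h3 : topologicalKrullDim ↥(Set.univ : Set W) = topologicalKrullDim W :=
      IsHomeomorph.topologicalKrullDim_eq _ (Homeomorph.Set.univ W).isHomeomorph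
    rw [h3, hW] at h1
    exact h1
  have hge : 1 ≤ topologicalKrullDim W' := by
    have h1 := Groth.Agent.Lib.Helper12.QFDim.dim_range_le_of_isClosedMap ν ν.isClosedMap
    have h2 : Set.range ν.base = Set.univ := Set.range_eq_univ.mpr ν.surjective
    rw [h2] at h1
    have h3 : topologicalKrullDim ↥(Set.univ : Set W) = topologicalKrullDim W :=
      IsHomeomorph.topologicalKrullDim_eq _ (Homeomorph.Set.univ W).isHomeomorph
    rw [h3, hW] at h1
    exact h1
  refine ⟨W', ν, hfin, hint, le_antisymm hle hge, ?_, ?_⟩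
  · intro w
    haveI : IsLocallyNoetherian W' :=
      LocallyOfFiniteType.isLocallyNoetherian (ν ≫ (W ↘ Spec (CommRingCat.of k)))
    haveI := (hnorm w).2
    haveI := Groth.Agent.Lib.Helper23.SmoothCurve.isPrincipalIdealRing_stalk hle w
    infer_instance
  · have h1 : IsGenericPoint (ν.base (genericPoint W')) (closure (ν.base '' Set.univ)) :=
      (genericPoint_spec W').image ν.base.hom.continuous
    rw [Set.image_univ, Set.range_eq_univ.mpr ν.surjective, closure_univ] at h1
    exact h1.eq (genericPoint_spec W)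

variable (k : Type u) [Field k] (X : Scheme.{u}) [X.Over (Spec (CommRingCat.of k))]
  (E : X.Modules)
  (hnef : ∀ (C : Scheme.{u}) [C.Over (Spec (CommRingCat.of k))]
    [IsProper (C ↘ (Spec (CommRingCat.of k)))] [IsIntegral C],
    topologicalKrullDim C = 1 → (∀ x : C, IsRegularLocalRing (C.presheaf.stalk x)) →
    ∀ (f : C ⟶ X), f ≫ (X ↘ (Spec (CommRingCat.of k))) = C ↘ (Spec (CommRingCat.of k)) →
    ∀ (M : C.Modules), PicF.IsInvertible M →
    ∀ (q : (Scheme.Modules.pullback f).obj E ⟶ M), Epi q → 0 ≤ Curv2.deg k C M 1)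

include hnef in
/-- the curve test on an integral (not necessarily regular) proper curve -/
theorem deg_nonneg_of_isIntegral (W : Scheme.{u}) [W.Over (Spec (CommRingCat.of k))]
    [IsProper (W ↘ Spec (CommRingCat.of k))] [IsIntegral W]
    (hW : topologicalKrullDim W = 1)
    (g : W ⟶ X) (hg : g ≫ (X ↘ (Spec (CommRingCat.of k))) = W ↘ (Spec (CommRingCat.of k)))
    (M : W.Modules) (hM : PicF.IsInvertible M)
    (q : (Scheme.Modules.pullback g).obj E ⟶ M) [Epi q] : 0 ≤ Curv2.deg k W M 1 := by
  obtain ⟨W', ν, hfin, hint, hdim', hreg, hξ⟩ := exists_regular_cover k W hW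
  haveI := hfin
  haveI := hint
  letI : W'.Over (Spec (CommRingCat.of k)) := ⟨ν ≫ (W ↘ Spec (CommRingCat.of k))⟩
  haveI : IsProper (W' ↘ Spec (CommRingCat.of k)) := by
    show IsProper (ν ≫ (W ↘ Spec (CommRingCat.of k)))
    infer_instance
  have hν : ν ≫ (W ↘ Spec (CommRingCat.of k)) = W' ↘ Spec (CommRingCat.of k) := rfl
  have hf' : (ν ≫ g) ≫ (X ↘ (Spec (CommRingCat.of k))) = W' ↘ (Spec (CommRingCat.of k)) := by
    rw [Category.assoc, hg]
    exact hν
  have hM' := Groth.Agent.Lib.Helper3.PbBasic.isInvertible_pullback ν hM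
  haveI : (Scheme.Modules.pullback ν).IsLeftAdjoint :=
    ⟨_, ⟨Scheme.Modules.pullbackPushforwardAdjunction ν⟩⟩
  let q' : (Scheme.Modules.pullback (ν ≫ g)).obj E ⟶ (Scheme.Modules.pullback ν).obj M :=
    ((Scheme.Modules.pullbackComp ν g).app E).inv ≫ (Scheme.Modules.pullback ν).map q
  haveI : Epi q' := epi_comp _ _
  have h1 := hnef W' hdim' hreg (ν ≫ g) hf' _ hM' q' inferInstance
  have hdp := Groth.Agent.Lib.Helper7.DegPull.deg_pullback k hdim'.le hW ν hν hξ 1 M
    (Groth.Agent.Lib.Helper23.Curve.isFinLocFreeOfRank_one_of_isInvertible hM)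
  haveI : CompactSpace W :=
    QuasiCompact.compactSpace_of_compactSpace (W ↘ Spec (CommRingCat.of k))
  obtain ⟨N, hN⟩ := Groth.Agent.Lib.Helper11.ResDeg.exists_bound ν
  have hfinr := (hN (genericPoint W')).1
  have hpos : 0 < ν.residueDegree (genericPoint W') := by
    unfold Scheme.Hom.residueDegree
    letI := (ν.residueFieldMap (genericPoint W')).hom.toAlgebra
    haveI : Module.Finite (W.residueField (ν (genericPoint W')))
      (W'.residueField (genericPoint W')) := hfinr
    exact Module.finrank_pos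
  rw [hdp] at h1
  by_contra hneg
  push Not at hneg
  have hdpos : (0 : ℤ) < (ν.residueDegree (genericPoint W') : ℤ) := by exact_mod_cast hpos
  have h2 := mul_neg_of_pos_of_neg hdpos hneg
  linarith

include hnef in
/-- the degree on an integral closed curve of a proper one-dimensional scheme -/
theorem deg_restrict_nonneg (C : Scheme.{u}) [C.Over (Spec (CommRingCat.of k))]
    [IsProper (C ↘ Spec (CommRingCat.of k))]
    (f : C ⟶ X) (hf : f ≫ (X ↘ (Spec (CommRingCat.of k))) = C ↘ (Spec (CommRingCat.of k)))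
    (M : C.Modules) (hM : PicF.IsInvertible M)
    (q : (Scheme.Modules.pullback f).obj E ⟶ M) [Epi q]
    (J : C.IdealSheafData) (hint : IsIntegral J.subscheme)
    (hdimJ : topologicalKrullDim (J.support : Set C) = 1) :
    0 ≤ @Curv2.deg k _ J.subscheme ⟨J.subschemeι ≫ (C ↘ Spec (CommRingCat.of k))⟩
      ((Scheme.Modules.pullback J.subschemeι).obj M) 1 := by
  haveI := hint
  letI : J.subscheme.Over (Spec (CommRingCat.of k)) :=
    ⟨J.subschemeι ≫ (C ↘ Spec (CommRingCat.of k))⟩
  haveI : IsProper (J.subscheme ↘ Spec (CommRingCat.of k)) := by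
    show IsProper (J.subschemeι ≫ (C ↘ Spec (CommRingCat.of k)))
    infer_instance
  have hW : topologicalKrullDim J.subscheme = 1 := by rw [dim_subscheme_eq, hdimJ]
  have hg : (J.subschemeι ≫ f) ≫ (X ↘ (Spec (CommRingCat.of k))) =
      J.subscheme ↘ (Spec (CommRingCat.of k)) := by
    rw [Category.assoc, hf]; rfl
  haveI : (Scheme.Modules.pullback J.subschemeι).IsLeftAdjoint :=
    ⟨_, ⟨Scheme.Modules.pullbackPushforwardAdjunction J.subschemeι⟩⟩
  let q' : (Scheme.Modules.pullback (J.subschemeι ≫ f)).obj E ⟶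
      (Scheme.Modules.pullback J.subschemeι).obj M :=
    ((Scheme.Modules.pullbackComp J.subschemeι f).app E).inv ≫
      (Scheme.Modules.pullback J.subschemeι).map q
  haveI : Epi q' := epi_comp _ _
  exact deg_nonneg_of_isIntegral k X E hnef J.subscheme hW (J.subschemeι ≫ f) hg _
    (Groth.Agent.Lib.Helper3.PbBasic.isInvertible_pullback J.subschemeι hM) q'

include hnef in
/-- **S17284**: the curve test for all proper one-dimensional schemes -/
theorem main (C : Scheme.{u}) [C.Over (Spec (CommRingCat.of k))]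
    [IsProper (C ↘ Spec (CommRingCat.of k))] (hdim : topologicalKrullDim C = 1)
    (f : C ⟶ X) (hf : f ≫ (X ↘ (Spec (CommRingCat.of k))) = C ↘ (Spec (CommRingCat.of k)))
    (M : C.Modules) (hM : PicF.IsInvertible M)
    (q : (Scheme.Modules.pullback f).obj E ⟶ M) [Epi q] : 0 ≤ Curv2.deg k C M 1 := by
  haveI : IsNoetherian C := Groth.Agent.Lib.Helper23.Curve.isNoetherian_of_isProper k C
  have hdimC : topologicalKrullDim C ≤ ((1 : ℕ) : WithBot ℕ∞) := by
    rw [hdim, Nat.cast_one]
  have key := Groth.Agent.Lib.Helper23.DegComp.psi_eq_finsum_components k C hdimC M 1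
    (Groth.Agent.Lib.Helper23.Curve.isFinLocFreeOfRank_one_of_isInvertible hM)
    (Coh.structureModule C) (Groth.Agent.Lib.Helper23.T2.isCoh_structureModule C)
  have hpsi : Groth.Agent.Lib.Helper23.DegComp.psi k C M 1 (Coh.structureModule C) =
      Curv2.deg k C M 1 := by
    unfold Groth.Agent.Lib.Helper23.DegComp.psi Curv2.deg
    rw [Groth.Agent.Lib.Helper23.FBC.euler_eq_of_iso' k
      (Groth.Agent.Lib.Helper3.InvMonoidal.braid M (Coh.structureModule C) ≪≫
        Groth.Agent.Lib.Helper3.InvMonoidal.unitorL M)]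
  rw [← hpsi, key]
  apply finsum_nonneg
  intro Z
  split_ifs with hZ
  · apply mul_nonneg (Int.natCast_nonneg _)
    have hJ : (C.irreducibleComponentIdeal Z.1 Z.2).radical =
        Scheme.IdealSheafData.vanishingIdeal (C.irreducibleComponentIdeal Z.1 Z.2).support :=
      Scheme.IdealSheafData.vanishingIdeal_support.symm
    have hsupp : (((C.irreducibleComponentIdeal Z.1 Z.2).radical).support : Set C) = Z.1 := by
      rw [hJ, Scheme.IdealSheafData.coe_support_vanishingIdeal]
      rfl
    have hint : IsIntegral ((C.irreducibleComponentIdeal Z.1 Z.2).radical).subscheme := by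
      rw [hJ]
      exact Groth.Agent.Lib.Helper17.DevInt.isIntegral_sub _ Z.2.1
    refine deg_restrict_nonneg k X E hnef C f hf M hM q _ hint ?_
    rw [hsupp]
    rw [hZ, Nat.cast_one]
  · exact le_refl _

end Groth.Agent.Lib.Helper1.CurveTest
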