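import Groth.Agent.Lib.Helper1.CurveTest

/-!
# The curve test for nefness descends along surjective morphisms
-/

set_option autoImplicit false
set_option linter.style.haveILetI false
universe u
open CategoryTheory CategoryTheory.Limits AlgebraicGeometry TopologicalSpace Opposite
open Scheme.Modules

namespace Groth.Agent.Lib.Helper1.CurveTest2

open Groth.Agent.Lib.Helper1.NoCurveAmple Groth.Agent.Lib.Helper1.NefPull
  Groth.Agent.Lib.Helper1.CurveTest

/-- nonnegativity of the degree descends along a dominant morphism of integral proper curves -/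
theorem deg_nonneg_of_pullback (k : Type u) [Field k] {W C : Scheme.{u}}
    [W.Over (Spec (CommRingCat.of k))] [C.Over (Spec (CommRingCat.of k))]
    [IsProper (W ↘ Spec (CommRingCat.of k))] [IsProper (C ↘ Spec (CommRingCat.of k))]
    [IsIntegral W] [IsIntegral C]
    (hW : topologicalKrullDim W ≤ 1) (hC : topologicalKrullDim C = 1)
    (h : W ⟶ C) (hh : h ≫ (C ↘ Spec (CommRingCat.of k)) = W ↘ Spec (CommRingCat.of k))
    (hξ : h.base (genericPoint W) = genericPoint C)
    (M : C.Modules) (hM : PicF.IsInvertible M)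
    (h0 : 0 ≤ Curv2.deg k W ((Scheme.Modules.pullback h).obj M) 1) :
    0 ≤ Curv2.deg k C M 1 := by
  have hdp := Groth.Agent.Lib.Helper7.DegPull.deg_pullback k hW hC h hh hξ 1 M
    (Groth.Agent.Lib.Helper23.Curve.isFinLocFreeOfRank_one_of_isInvertible hM)
  haveI : IsFinite h := Groth.Agent.Lib.Helper7.DegPull.isFinite_of_generic k hW hC h hh hξ
  haveI : CompactSpace C :=
    QuasiCompact.compactSpace_of_compactSpace (C ↘ Spec (CommRingCat.of k))
  obtain ⟨N, hN⟩ := Groth.Agent.Lib.Helper11.ResDeg.exists_bound h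
  have hfinr := (hN (genericPoint W)).1
  have hpos : 0 < h.residueDegree (genericPoint W) := by
    unfold Scheme.Hom.residueDegree
    letI := (h.residueFieldMap (genericPoint W)).hom.toAlgebra
    haveI : Module.Finite (C.residueField (h (genericPoint W)))
      (W.residueField (genericPoint W)) := hfinr
    exact Module.finrank_pos
  rw [hdp] at h0
  by_contra hneg
  push Not at hneg
  have hdpos : (0 : ℤ) < (h.residueDegree (genericPoint W) : ℤ) := by exact_mod_cast hpos
  have h2 := mul_neg_of_pos_of_neg hdpos hneg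
  linarith

variable (k : Type u) [Field k] (X Y : Scheme.{u})
  [X.Over (Spec (CommRingCat.of k))] [IsProper (X ↘ (Spec (CommRingCat.of k)))]
  [Y.Over (Spec (CommRingCat.of k))] [IsProper (Y ↘ (Spec (CommRingCat.of k)))]
  (f : Y ⟶ X) (hf : f ≫ (X ↘ (Spec (CommRingCat.of k))) = Y ↘ (Spec (CommRingCat.of k)))
  [Surjective f] (E : X.Modules)
  (hnef : ∀ (C : Scheme.{u}) [C.Over (Spec (CommRingCat.of k))]
    [IsProper (C ↘ (Spec (CommRingCat.of k)))] [IsIntegral C],
    topologicalKrullDim C = 1 → (∀ x : C, IsRegularLocalRing (C.presheaf.stalk x)) →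
    ∀ (g : C ⟶ Y), g ≫ (Y ↘ (Spec (CommRingCat.of k))) = C ↘ (Spec (CommRingCat.of k)) →
    ∀ (M : C.Modules), PicF.IsInvertible M →
    ∀ (q : (Scheme.Modules.pullback g).obj ((Scheme.Modules.pullback f).obj E) ⟶ M), Epi q →
      0 ≤ Curv2.deg k C M 1)

include hf hnef in
/-- **S17283** (for integral proper curves, not necessarily regular) -/
theorem main (C : Scheme.{u}) [C.Over (Spec (CommRingCat.of k))]
    [IsProper (C ↘ (Spec (CommRingCat.of k)))] [IsIntegral C]
    (hdim : topologicalKrullDim C = 1)
    (g : C ⟶ X) (hg : g ≫ (X ↘ (Spec (CommRingCat.of k))) = C ↘ (Spec (CommRingCat.of k)))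
    (M : C.Modules) (hM : PicF.IsInvertible M)
    (q : (Scheme.Modules.pullback g).obj E ⟶ M) [Epi q] : 0 ≤ Curv2.deg k C M 1 := by
  haveI : IsProper (f ≫ (X ↘ (Spec (CommRingCat.of k)))) := by rw [hf]; infer_instance
  haveI : IsProper f := IsProper.of_comp f (X ↘ (Spec (CommRingCat.of k)))
  let p1 : pullback g f ⟶ C := pullback.fst g f
  let p2 : pullback g f ⟶ Y := pullback.snd g f
  haveI : IsProper p1 := MorphismProperty.pullback_fst (P := @IsProper) g f inferInstance
  haveI : Surjective p1 := MorphismProperty.pullback_fst (P := @Surjective) g f inferInstance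
  -- the ideal `⊥` of `C`
  haveI hiso : IsIso (⊥ : C.IdealSheafData).subschemeι := inferInstance
  haveI : Nonempty ↥(⊥ : C.IdealSheafData).subscheme :=
    ⟨(inv (⊥ : C.IdealSheafData).subschemeι).base (genericPoint C)⟩
  haveI : IsIntegral (⊥ : C.IdealSheafData).subscheme :=
    isIntegral_of_isOpenImmersion (⊥ : C.IdealSheafData).subschemeι
  have hsupp : (((⊥ : C.IdealSheafData).support : Closeds C) : Set C) = Set.univ := by
    rw [← Scheme.IdealSheafData.range_subschemeι]
    exact Set.range_eq_univ.mpr
      (ConcreteCategory.bijective_of_isIso (⊥ : C.IdealSheafData).subschemeι.base).2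
  have hdimbot : topologicalKrullDim (((⊥ : C.IdealSheafData).support : Closeds C) : Set C) = 1 := by
    rw [hsupp]
    have h3 : topologicalKrullDim ↥(Set.univ : Set C) = topologicalKrullDim C :=
      IsHomeomorph.topologicalKrullDim_eq _ (Homeomorph.Set.univ C).isHomeomorph
    rw [h3, hdim]
  obtain ⟨C'', hint'', hdim'', himg⟩ := Groth.Agent.Lib.Helper6.CurveLift.main k
    (C ↘ (Spec (CommRingCat.of k))) p1 p1.isClosedMap (⊥ : C.IdealSheafData) hdimbot
  haveI := hint''
  let W := C''.subscheme
  let h : W ⟶ C := C''.subschemeι ≫ p1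
  let g' : W ⟶ Y := C''.subschemeι ≫ p2
  letI : W.Over (Spec (CommRingCat.of k)) := ⟨h ≫ (C ↘ (Spec (CommRingCat.of k)))⟩
  haveI : IsProper (W ↘ Spec (CommRingCat.of k)) := by
    show IsProper ((C''.subschemeι ≫ p1) ≫ (C ↘ (Spec (CommRingCat.of k))))
    infer_instance
  have hh : h ≫ (C ↘ Spec (CommRingCat.of k)) = W ↘ Spec (CommRingCat.of k) := rfl
  have hcomm : g' ≫ f = h ≫ g := by
    show (C''.subschemeι ≫ p2) ≫ f = (C''.subschemeι ≫ p1) ≫ g
    rw [Category.assoc, Category.assoc, pullback.condition]
  have hg' : g' ≫ (Y ↘ (Spec (CommRingCat.of k))) = W ↘ (Spec (CommRingCat.of k)) := by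
    rw [← hf, ← Category.assoc, hcomm, Category.assoc, hg]
    exact hh
  have hdimW : topologicalKrullDim W = 1 := by
    show topologicalKrullDim C''.subscheme = 1
    rw [dim_subscheme_eq, hdim'']
  have hrange : Set.range h.base = Set.univ := by
    rw [← hsupp, ← himg]
    show Set.range (C''.subschemeι ≫ p1).base = _
    rw [Scheme.Hom.comp_base, TopCat.coe_comp, Set.range_comp, C''.range_subschemeι]
  have hξ : h.base (genericPoint W) = genericPoint C := by
    have h1 : IsGenericPoint (h.base (genericPoint W)) (closure (h.base '' Set.univ)) :=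
      (genericPoint_spec W).image h.base.hom.continuous
    rw [Set.image_univ, hrange, closure_univ] at h1
    exact h1.eq (genericPoint_spec C)
  haveI : (Scheme.Modules.pullback h).IsLeftAdjoint :=
    ⟨_, ⟨Scheme.Modules.pullbackPushforwardAdjunction h⟩⟩
  let e : (Scheme.Modules.pullback g').obj ((Scheme.Modules.pullback f).obj E) ≅
      (Scheme.Modules.pullback h).obj ((Scheme.Modules.pullback g).obj E) :=
    (Scheme.Modules.pullbackComp g' f).app E ≪≫
      (Scheme.Modules.pullbackCongr hcomm).app E ≪≫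
      ((Scheme.Modules.pullbackComp h g).app E).symm
  let qW : (Scheme.Modules.pullback g').obj ((Scheme.Modules.pullback f).obj E) ⟶
      (Scheme.Modules.pullback h).obj M := e.hom ≫ (Scheme.Modules.pullback h).map q
  haveI : Epi qW := epi_comp _ _
  have h0 := deg_nonneg_of_isIntegral k Y ((Scheme.Modules.pullback f).obj E) hnef W hdimW g' hg'
    _ (Groth.Agent.Lib.Helper3.PbBasic.isInvertible_pullback h hM) qW
  exact deg_nonneg_of_pullback k hdimW.le hdim h hh hξ M hM h0

end Groth.Agent.Lib.Helper1.CurveTest2
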