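import Mathlib
import Groth.Prelude.Def_CohB1
import Groth.Agent.Lib.Helper1.PuncTors
import Groth.Agent.Lib.Helper3.QCProps
import Groth.Agent.Lib.Helper3.QCPush
import Groth.Agent.Lib.Helper3.QCExact
import Groth.Agent.Lib.Helper5.UnitSections
import Groth.Agent.Lib.Helper3.ModBasic

/-!
# The cyclic subsheaf generated by a section over an open, extended to the whole scheme
-/

set_option autoImplicit false
set_option linter.style.haveILetI false
universe u
open CategoryTheory CategoryTheory.Limits AlgebraicGeometry Opposite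

namespace Groth.Agent.Lib.Helper1.CycExt

open Groth.Agent.Lib.Helper3 Scheme.Modules

variable {X : Scheme.{u}}

/-- the morphism `O ⟶ N` attached to a global section. -/
noncomputable def secHom (N : X.Modules) (t : Γ(N, ⊤)) : Coh.structureModule X ⟶ N :=
  ((Groth.Agent.Lib.Helper5.bijective_evTop N).surjective t).choose

theorem secHom_spec (N : X.Modules) (t : Γ(N, ⊤)) :
    (secHom N t).app ⊤ (1 : Γ(X, ⊤)) = t :=
  ((Groth.Agent.Lib.Helper5.bijective_evTop N).surjective t).choose_spec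

variable (W : X.Opens) (G : X.Modules)

/-- the map `G ⟶ j_* (G|_W / O_W t)`. -/
noncomputable def η (t : Γ((restrictFunctor W.ι).obj G, ⊤)) :
    G ⟶ (pushforward W.ι).obj (cokernel (secHom _ t)) :=
  (restrictAdjunction W.ι).unit.app G ≫ (pushforward W.ι).map (cokernel.π (secHom _ t))

/-- the extension to `X` of the cyclic subsheaf of `G|_W` generated by `t`. -/
noncomputable def cyc (t : Γ((restrictFunctor W.ι).obj G, ⊤)) : X.Modules := kernel (η W G t)

noncomputable def cycι (t : Γ((restrictFunctor W.ι).obj G, ⊤)) : cyc W G t ⟶ G := kernel.ι _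

instance (t : Γ((restrictFunctor W.ι).obj G, ⊤)) : Mono (cycι W G t) := equalizer.ι_mono

theorem isQuasicoherent_cyc [QuasiCompact W.ι] [G.IsQuasicoherent]
    (t : Γ((restrictFunctor W.ι).obj G, ⊤)) : (cyc W G t).IsQuasicoherent := by
  haveI : ((restrictFunctor W.ι).obj G).IsQuasicoherent :=
    Scheme.Modules.isQuasicoherent_restrictFunctor W.ι G
  haveI : (Coh.structureModule (W : Scheme.{u})).IsQuasicoherent := inferInstance
  haveI : (cokernel (secHom _ t)).IsQuasicoherent := QCProps.isQuasicoherent_cokernel _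
  haveI : ((pushforward W.ι).obj (cokernel (secHom _ t))).IsQuasicoherent :=
    QCSec.isQuasicoherent_pushforward W.ι _
  exact QCProps.isQuasicoherent_kernel (η W G t)

section Sections

variable {Y : Scheme.{u}}
theorem coker_exact_affine {A B : Y.Modules} (φ : A ⟶ B) [A.IsQuasicoherent] [B.IsQuasicoherent]
    {V : Y.Opens} (hV : IsAffineOpen V) (y : Γ(B, V)) (hy : (cokernel.π φ).app V y = 0) :
    ∃ a : Γ(A, V), φ.app V a = y := by
  haveI : (cokernel φ).IsQuasicoherent := QCProps.isQuasicoherent_cokernel φ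
  haveI : (Abelian.image φ).IsQuasicoherent := QCProps.isQuasicoherent_kernel (cokernel.π φ)
  have hex : (ShortComplex.mk (Abelian.image.ι φ) (cokernel.π φ) (kernel.condition _)).Exact :=
    ShortComplex.exact_kernel _
  haveI : Mono (ShortComplex.mk (Abelian.image.ι φ) (cokernel.π φ) (kernel.condition _)).f :=
    equalizer.ι_mono
  obtain ⟨z, hz⟩ := QCExact.exact_sections _ hex V y hy
  have hepi : Epi (Abelian.factorThruImage φ) := inferInstance
  obtain ⟨a, ha⟩ := (QCExact.epi_iff_surjective_on_affines (Abelian.factorThruImage φ)).mp hepi V hV z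
  refine ⟨a, ?_⟩
  have h1 : φ = Abelian.factorThruImage φ ≫ Abelian.image.ι φ := (Abelian.image.fac φ).symm
  rw [h1]
  show (Abelian.image.ι φ).app V ((Abelian.factorThruImage φ).app V a) = y
  rw [ha]
  exact hz


theorem eta_app_top (t : Γ((restrictFunctor W.ι).obj G, ⊤)) :
    (η W G t).app (W.ι ''ᵁ ⊤) t = 0 := by
  have h0 : (cokernel.π (secHom _ t)).app ⊤ t = 0 := by
    have h1 : (secHom _ t ≫ cokernel.π (secHom _ t)).app ⊤ (1 : Γ((W : Scheme.{u}), ⊤)) = 0 := by
      rw [cokernel.condition]; rfl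
    have h2 := secHom_spec _ t
    have h4 : (cokernel.π (secHom _ t)).app ⊤ ((secHom _ t).app ⊤ (1 : Γ((W : Scheme.{u}), ⊤))) = 0 := h1
    rwa [h2] at h4
  have h3 : (η W G t).app (W.ι ''ᵁ ⊤) t =
      (cokernel.π (secHom _ t)).app (W.ι ⁻¹ᵁ (W.ι ''ᵁ ⊤))
        (((restrictFunctor W.ι).obj G).presheaf.map (homOfLE le_top).op t) := rfl
  rw [h3, ModBasic.app_res, h0]
  exact map_zero _

/-- a global section of `G|_W`, seen as a section of `G`. -/
def asSec (t : Γ((restrictFunctor W.ι).obj G, ⊤)) : Γ(G, W.ι ''ᵁ ⊤) := t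

theorem exists_cyc_section (t : Γ((restrictFunctor W.ι).obj G, ⊤)) :
    ∃ s : Γ(cyc W G t, W.ι ''ᵁ ⊤), (cycι W G t).app (W.ι ''ᵁ ⊤) s = asSec W G t := by
  have hex : (ShortComplex.mk (cycι W G t) (η W G t) (kernel.condition _)).Exact :=
    ShortComplex.exact_kernel _
  exact QCExact.exact_sections _ hex (W.ι ''ᵁ ⊤) t (eta_app_top W G t)

theorem res_injective_of_le {Y : Scheme.{u}} (N : Y.Modules) {A B : Y.Opens} (h : A ≤ B) (h' : B ≤ A) :
    Function.Injective (N.presheaf.map (homOfLE h).op) := by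
  intro a b hab
  have h1 := congrArg (N.presheaf.map (homOfLE h').op) hab
  rw [ModBasic.map_map_apply, ModBasic.map_map_apply] at h1
  have h2 : ∀ c : Γ(N, B), N.presheaf.map (homOfLE (h'.trans h)).op c = c := by
    intro c
    have : (homOfLE (h'.trans h)).op = 𝟙 (op B) := rfl
    rw [this, N.presheaf.map_id]
    rfl
  rwa [h2, h2] at h1

theorem cyc_section_eq_smul (hW : IsAffineOpen W) [G.IsQuasicoherent]
    (t : Γ((restrictFunctor W.ι).obj G, ⊤))
    (x : Γ(cyc W G t, W.ι ''ᵁ ⊤)) :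
    ∃ a : Γ(X, W.ι ''ᵁ ⊤), (cycι W G t).app (W.ι ''ᵁ ⊤) x = a • asSec W G t := by
  haveI : ((restrictFunctor W.ι).obj G).IsQuasicoherent :=
    Scheme.Modules.isQuasicoherent_restrictFunctor W.ι G
  haveI : IsAffine (W : Scheme.{u}) := hW
  set y : Γ((restrictFunctor W.ι).obj G, ⊤) := (cycι W G t).app (W.ι ''ᵁ ⊤) x with hy
  have h1 : (η W G t).app (W.ι ''ᵁ ⊤) y = 0 := by
    have h0 := congrArg (fun φ => (Scheme.Modules.Hom.app φ (W.ι ''ᵁ ⊤)).hom x)
      (kernel.condition (η W G t))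
    exact h0
  have h3 : (η W G t).app (W.ι ''ᵁ ⊤) y =
      (cokernel.π (secHom _ t)).app (W.ι ⁻¹ᵁ (W.ι ''ᵁ ⊤))
        (((restrictFunctor W.ι).obj G).presheaf.map (homOfLE le_top).op y) := rfl
  rw [h3, ModBasic.app_res] at h1
  have h4 : (cokernel.π (secHom _ t)).app ⊤ y = 0 := by
    apply res_injective_of_le _ (le_top : W.ι ⁻¹ᵁ (W.ι ''ᵁ ⊤) ≤ ⊤)
      (le_of_eq (W.ι.preimage_image_eq ⊤).symm)
    rw [h1]
    exact (map_zero _).symm
  obtain ⟨(a' : Γ((W : Scheme.{u}), ⊤)), ha'⟩ :=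
    coker_exact_affine (secHom _ t) (isAffineOpen_top _) y h4
  refine ⟨(W.ι.appIso ⊤).inv a', ?_⟩
  have h5 : (secHom _ t).app ⊤ a' = a' •
      ((restrictFunctor W.ι).obj G).presheaf.map (homOfLE (le_top : (⊤ : (W : Scheme.{u}).Opens) ≤ ⊤)).op
        ((secHom _ t).app ⊤ (1 : Γ((W : Scheme.{u}), ⊤))) :=
    ModBasic.unit_hom_app_apply (secHom _ t) ⊤ a'
  rw [secHom_spec] at h5
  have h6 : ((restrictFunctor W.ι).obj G).presheaf.map
      (homOfLE (le_top : (⊤ : (W : Scheme.{u}).Opens) ≤ ⊤)).op t = t := by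
    have : (homOfLE (le_top : (⊤ : (W : Scheme.{u}).Opens) ≤ ⊤)).op = 𝟙 (op ⊤) := rfl
    rw [this, ((restrictFunctor W.ι).obj G).presheaf.map_id]
    rfl
  rw [h6] at h5
  exact (ha'.symm.trans h5)

/-- **cyclic subsheaves and maximal annihilators** -/
theorem ann_le_of_max (G : X.Modules) [G.IsQuasicoherent] (U : X.Opens) (hU : IsAffineOpen U)
    [QuasiCompact U.ι]
    (hmax : ∀ (G' : X.Modules) (ι' : G' ⟶ G), Mono ι' → G'.IsQuasicoherent → ¬ IsZero G' →
      ∀ a : Γ(X, U), (∀ s : Γ(G', U), a • s = 0) → ∀ s : Γ(G, U), a • s = 0)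
    (m : Γ(G, U)) (hm : m ≠ 0) (a : Γ(X, U)) (ha : a • m = 0) : ∀ s : Γ(G, U), a • s = 0 := by
  have hle : U.ι ''ᵁ ⊤ ≤ U := le_of_eq U.ι_image_top
  have hge : U ≤ U.ι ''ᵁ ⊤ := le_of_eq U.ι_image_top.symm
  let t : Γ((restrictFunctor U.ι).obj G, ⊤) := QCSec.res G hle m
  have ht : asSec U G t = QCSec.res G hle m := rfl
  have ht0 : asSec U G t ≠ 0 := by
    rw [ht]
    intro h0
    apply hm
    apply res_injective_of_le G hle hge
    exact h0.trans (map_zero _).symm
  refine hmax (cyc U G t) (cycι U G t) inferInstance (isQuasicoherent_cyc U G t) ?_ a ?_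
  · intro hz
    obtain ⟨s, hs⟩ := exists_cyc_section U G t
    apply ht0
    rw [← hs]
    have : s = 0 := by
      have h1 := congrArg (fun φ => (Scheme.Modules.Hom.app φ (U.ι ''ᵁ ⊤)).hom s)
        ((IsZero.iff_id_eq_zero _).mp hz)
      exact h1
    rw [this]
    exact map_zero _
  · intro s
    refine QCExact.injective_sections (cycι U G t) U (?_ : _ = _)
    refine Eq.trans ?_ (map_zero _).symm
    rw [Scheme.Modules.Hom.app_smul]
    apply res_injective_of_le G hle hge
    have h1 : G.presheaf.map (homOfLE hle).op (a • (cycι U G t).app U s) =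
        QCSec.rres X hle a • (cycι U G t).app (U.ι ''ᵁ ⊤) (QCSec.res (cyc U G t) hle s) := by
      rw [ModBasic.app_res]
      exact QCSec.res_smul G hle a _
    rw [h1]
    obtain ⟨b, hb⟩ := cyc_section_eq_smul U G hU t (QCSec.res (cyc U G t) hle s)
    rw [hb, ht, smul_comm, ← QCSec.res_smul, ha, QCSec.res_zero, smul_zero]
    exact (map_zero _).symm

end Sections

end Groth.Agent.Lib.Helper1.CycExt
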