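import Mathlib
import Groth.Agent.Lib.Helper3.SubschemeStalk

/-!
# Closed subscheme with prescribed codimension-one cycle: local algebra of germs
-/

set_option autoImplicit false
universe u
open CategoryTheory AlgebraicGeometry TopologicalSpace IsLocalRing

namespace Groth.Agent.Lib.Helper1.CycSub

variable {X : Scheme.{u}}

theorem exists_germ_mul_eq {U : X.Opens} (hU : IsAffineOpen U) (x : X) (hx : x ∈ U)
    (ξ : X.presheaf.stalk x) :
    ∃ s t : Γ(X, U), x ∈ X.basicOpen t ∧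
      ξ * (X.presheaf.germ U x hx).hom t = (X.presheaf.germ U x hx).hom s := by
  let _ : Algebra Γ(X, U) (X.presheaf.stalk x) :=
    TopCat.Presheaf.algebra_section_stalk X.presheaf (U := U) ⟨x, hx⟩
  have hloc : IsLocalization.AtPrime (X.presheaf.stalk x) (hU.primeIdealOf ⟨x, hx⟩).asIdeal :=
    hU.isLocalization_stalk ⟨x, hx⟩
  obtain ⟨⟨a, s⟩, has⟩ := IsLocalization.surj (hU.primeIdealOf ⟨x, hx⟩).asIdeal.primeCompl ξ
  exact ⟨a, s.1, (Helper3.mem_basicOpen_iff_notMem_primeIdealOf hU x hx s.1).mpr s.2, has⟩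

theorem germ_mem_map_iff {U : X.Opens} (hU : IsAffineOpen U) (x : X) (hx : x ∈ U)
    (I : Ideal Γ(X, U)) (a : Γ(X, U)) :
    (X.presheaf.germ U x hx).hom a ∈ I.map (X.presheaf.germ U x hx).hom ↔
      ∃ t : Γ(X, U), x ∈ X.basicOpen t ∧ t * a ∈ I := by
  let _ : Algebra Γ(X, U) (X.presheaf.stalk x) :=
    TopCat.Presheaf.algebra_section_stalk X.presheaf (U := U) ⟨x, hx⟩
  have hloc : IsLocalization.AtPrime (X.presheaf.stalk x) (hU.primeIdealOf ⟨x, hx⟩).asIdeal :=
    hU.isLocalization_stalk ⟨x, hx⟩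
  set P := (hU.primeIdealOf ⟨x, hx⟩).asIdeal with hP
  constructor
  · intro h
    have h' : algebraMap Γ(X, U) (X.presheaf.stalk x) a ∈
        I.map (algebraMap Γ(X, U) (X.presheaf.stalk x)) := h
    rw [IsLocalization.mem_map_algebraMap_iff P.primeCompl] at h'
    obtain ⟨⟨i, m⟩, him⟩ := h'
    rw [← map_mul, IsLocalization.eq_iff_exists P.primeCompl] at him
    obtain ⟨c, hc⟩ := him
    refine ⟨c.1 * m.1, (Helper3.mem_basicOpen_iff_notMem_primeIdealOf hU x hx _).mpr
      (P.primeCompl.mul_mem c.2 m.2), ?_⟩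
    have : c.1 * m.1 * a = c.1 * i.1 := by
      rw [← hc]; ring
    rw [this]
    exact I.mul_mem_left _ i.2
  · rintro ⟨t, ht, hta⟩
    have hu : IsUnit ((X.presheaf.germ U x hx).hom t) := (Scheme.mem_basicOpen X t x hx).mp ht
    have h1 : (X.presheaf.germ U x hx).hom (t * a) ∈ I.map (X.presheaf.germ U x hx).hom :=
      Ideal.mem_map_of_mem _ hta
    rw [map_mul] at h1
    exact (Ideal.unit_mul_mem_iff_mem _ hu).mp h1

/-- separate a point from a non-generization by a basic open -/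
theorem exists_basicOpen_sep {U : X.Opens} (hU : IsAffineOpen U) (x z : X) (hx : x ∈ U)
    (hzx : ¬ z ⤳ x) : ∃ f : Γ(X, U), x ∈ X.basicOpen f ∧ z ∉ X.basicOpen f := by
  rw [specializes_iff_forall_open] at hzx
  push_neg at hzx
  obtain ⟨V, hVo, hxV, hzV⟩ := hzx
  obtain ⟨f, hfV, hxf⟩ := hU.exists_basicOpen_le (V := ⟨V, hVo⟩) ⟨x, hxV⟩ hx
  exact ⟨f, hxf, fun h => hzV (hfV h)⟩

theorem germ_stalkSpecializes_apply' {U : X.Opens} {x z : X} (h : z ⤳ x) (hx : x ∈ U)
    (s : Γ(X, U)) :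
    (X.presheaf.stalkSpecializes h).hom ((X.presheaf.germ U x hx).hom s) =
      (X.presheaf.germ U z (h.mem_open U.2 hx)).hom s :=
  ConcreteCategory.congr_hom (TopCat.Presheaf.germ_stalkSpecializes X.presheaf hx h) s

/-- two points with DVR local rings are not comparable under specialization. -/
theorem eq_of_specializes_of_dvr {z z' : X} (h : z ⤳ z')
    [IsDomain (X.presheaf.stalk z)] [IsDiscreteValuationRing (X.presheaf.stalk z)]
    [IsDomain (X.presheaf.stalk z')] [IsDiscreteValuationRing (X.presheaf.stalk z')] :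
    z = z' := by
  by_contra hne
  obtain ⟨_, ⟨U, hU : IsAffineOpen U, rfl⟩, hz'U, -⟩ :=
    X.isBasis_affineOpens.exists_subset_of_mem_open (Set.mem_univ z') isOpen_univ
  have hzU : z ∈ U := h.mem_open U.2 hz'U
  have hnot : ¬ z' ⤳ z := fun h' => hne (h.antisymm h').eq
  obtain ⟨f, hzf, hz'f⟩ := exists_basicOpen_sep hU z z' hzU hnot
  obtain ⟨π, hπ⟩ := IsDiscreteValuationRing.exists_irreducible (X.presheaf.stalk z')
  have hφ : ∀ a : Γ(X, U), (X.presheaf.stalkSpecializes h).hom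
      ((X.presheaf.germ U z' hz'U).hom a) = (X.presheaf.germ U z hzU).hom a :=
    fun a => germ_stalkSpecializes_apply' h hz'U a
  have h1 : IsUnit ((X.presheaf.stalkSpecializes h).hom π) := by
    have hfu : IsUnit ((X.presheaf.germ U z hzU).hom f) := (Scheme.mem_basicOpen X f z hzU).mp hzf
    have hfn : ¬ IsUnit ((X.presheaf.germ U z' hz'U).hom f) :=
      fun hu => hz'f ((Scheme.mem_basicOpen X f z' hz'U).mpr hu)
    have hf0 : (X.presheaf.germ U z' hz'U).hom f ≠ 0 := by
      intro h0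
      rw [← hφ, h0, map_zero] at hfu
      exact not_isUnit_zero hfu
    obtain ⟨n, u, hu⟩ := IsDiscreteValuationRing.eq_unit_mul_pow_irreducible hf0 hπ
    have hn : n ≠ 0 := by
      rintro rfl
      apply hfn
      rw [hu, pow_zero, mul_one]
      exact u.isUnit
    rw [← hφ, hu, map_mul, map_pow] at hfu
    exact (isUnit_pow_iff hn).mp (isUnit_of_mul_isUnit_right hfu)
  obtain ⟨ϖ, hϖ⟩ := IsDiscreteValuationRing.exists_irreducible (X.presheaf.stalk z)
  obtain ⟨s, t, htz, hst⟩ := exists_germ_mul_eq hU z hzU ϖ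
  have htu : IsUnit ((X.presheaf.germ U z hzU).hom t) := (Scheme.mem_basicOpen X t z hzU).mp htz
  have hs0 : (X.presheaf.germ U z' hz'U).hom s ≠ 0 := by
    intro h0
    have h2 : (X.presheaf.germ U z hzU).hom s = 0 := by rw [← hφ, h0, map_zero]
    rw [h2] at hst
    exact hϖ.ne_zero ((htu.mul_left_eq_zero).mp hst)
  obtain ⟨n, u, hu⟩ := IsDiscreteValuationRing.eq_unit_mul_pow_irreducible hs0 hπ
  have h3 : IsUnit ((X.presheaf.germ U z hzU).hom s) := by
    rw [← hφ, hu, map_mul, map_pow]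
    exact (u.isUnit.map _).mul (h1.pow n)
  rw [← hst] at h3
  exact hϖ.not_isUnit (isUnit_of_mul_isUnit_left h3)

end Groth.Agent.Lib.Helper1.CycSub
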