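import Mathlib
import Groth.Agent.Lib.Helper1.CycSub1

/-!
# The ideal sheaf of sections whose germs at the cycle points lie in prescribed powers
-/

set_option autoImplicit false
universe u
open CategoryTheory AlgebraicGeometry TopologicalSpace IsLocalRing

namespace Groth.Agent.Lib.Helper1.CycSub

variable {X : Scheme.{u}}

/-- the stalk ideal -/
noncomputable def Jx (W : X → ℤ) (x : X) : Ideal (X.presheaf.stalk x) :=
  ⨅ z : {z : X // z ⤳ x ∧ W z ≠ 0},
    Ideal.comap (X.presheaf.stalkSpecializes z.2.1).hom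
      (maximalIdeal (X.presheaf.stalk z.1) ^ (W z.1).toNat)

theorem mem_Jx {W : X → ℤ} {x : X} {ξ : X.presheaf.stalk x} :
    ξ ∈ Jx W x ↔ ∀ (z : X) (h : z ⤳ x), W z ≠ 0 →
      (X.presheaf.stalkSpecializes h).hom ξ ∈
        maximalIdeal (X.presheaf.stalk z) ^ (W z).toNat := by
  constructor
  · intro h z hz hW
    exact Ideal.mem_iInf.mp h ⟨z, hz, hW⟩
  · intro h
    rw [Jx, Ideal.mem_iInf]
    rintro ⟨z, hz, hW⟩
    exact h z hz hW

/-- the ideal of sections over an open -/
noncomputable def idl (W : X → ℤ) (U : X.Opens) : Ideal Γ(X, U) :=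
  ⨅ z : {z : X // z ∈ U ∧ W z ≠ 0},
    Ideal.comap (X.presheaf.germ U z.1 z.2.1).hom
      (maximalIdeal (X.presheaf.stalk z.1) ^ (W z.1).toNat)

theorem mem_idl {W : X → ℤ} {U : X.Opens} {s : Γ(X, U)} :
    s ∈ idl W U ↔ ∀ (z : X) (hz : z ∈ U), W z ≠ 0 →
      (X.presheaf.germ U z hz).hom s ∈ maximalIdeal (X.presheaf.stalk z) ^ (W z).toNat := by
  constructor
  · intro h z hz hW
    exact Ideal.mem_iInf.mp h ⟨z, hz, hW⟩
  · intro h
    rw [idl, Ideal.mem_iInf]
    rintro ⟨z, hz, hW⟩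
    exact h z hz hW

theorem germ_prod_mem (W : X → ℤ) (U : X.Opens) (T : Finset X) (f : X → Γ(X, U))
    (z : X) (hzT : z ∈ T) (hz : z ∈ U)
    (hf : (X.presheaf.germ U z hz).hom (f z) ∈ maximalIdeal (X.presheaf.stalk z)) :
    (X.presheaf.germ U z hz).hom (∏ y ∈ T, f y ^ (W y).toNat) ∈
      maximalIdeal (X.presheaf.stalk z) ^ (W z).toNat := by
  classical
  rw [← Finset.mul_prod_erase T _ hzT, map_mul, map_pow]
  exact Ideal.mul_mem_right _ _ (Ideal.pow_mem_pow hf _)

theorem germ_prod_isUnit (W : X → ℤ) (U : X.Opens) (T : Finset X) (f : X → Γ(X, U))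
    (x : X) (hx : x ∈ U)
    (hf : ∀ y ∈ T, IsUnit ((X.presheaf.germ U x hx).hom (f y))) :
    IsUnit ((X.presheaf.germ U x hx).hom (∏ y ∈ T, f y ^ (W y).toNat)) := by
  rw [map_prod]
  refine (IsUnit.submonoid _).prod_mem fun y hy => ?_
  rw [map_pow]
  exact (hf y hy).pow _

theorem not_mem_basicOpen_iff {U : X.Opens} (z : X) (hz : z ∈ U) (f : Γ(X, U)) :
    z ∉ X.basicOpen f ↔ (X.presheaf.germ U z hz).hom f ∈ maximalIdeal (X.presheaf.stalk z) := by
  rw [Scheme.mem_basicOpen X f z hz, mem_maximalIdeal, mem_nonunits_iff]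

/-- the localisation of the section ideal at a point is the stalk ideal -/
theorem map_idl_germ (W : X → ℤ) (hfin : {x | W x ≠ 0}.Finite) {U : X.Opens}
    (hU : IsAffineOpen U) (x : X) (hx : x ∈ U) :
    (idl W U).map (X.presheaf.germ U x hx).hom = Jx W x := by
  classical
  apply le_antisymm
  · rw [Ideal.map_le_iff_le_comap]
    intro s hs
    rw [Ideal.mem_comap, mem_Jx]
    intro z hz hW
    rw [germ_stalkSpecializes_apply' hz hx s]
    exact mem_idl.mp hs z _ hW
  · intro ξ hξ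
    rw [mem_Jx] at hξ
    obtain ⟨s, t, htx, hst⟩ := exists_germ_mul_eq hU x hx ξ
    have htu : IsUnit ((X.presheaf.germ U x hx).hom t) := (Scheme.mem_basicOpen X t x hx).mp htx
    have hex : ∀ z : X, ∃ f : Γ(X, U), ¬ z ⤳ x → (x ∈ X.basicOpen f ∧ z ∉ X.basicOpen f) := by
      intro z
      by_cases hzx : z ⤳ x
      · exact ⟨1, fun h => absurd hzx h⟩
      · obtain ⟨f, hf⟩ := exists_basicOpen_sep hU x z hx hzx
        exact ⟨f, fun _ => hf⟩
    choose f hf using hex
    set T : Finset X := hfin.toFinset.filter (fun z => ¬ z ⤳ x) with hT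
    set g : Γ(X, U) := ∏ y ∈ T, f y ^ (W y).toNat with hg
    have hgu : IsUnit ((X.presheaf.germ U x hx).hom g) := by
      refine germ_prod_isUnit W U T f x hx fun y hy => ?_
      have hyx : ¬ y ⤳ x := (Finset.mem_filter.mp hy).2
      exact (Scheme.mem_basicOpen X (f y) x hx).mp (hf y hyx).1
    have hgs : g * s ∈ idl W U := by
      rw [mem_idl]
      intro z hz hW
      rw [map_mul]
      by_cases hzx : z ⤳ x
      · refine Ideal.mul_mem_left _ _ ?_
        have h1 := hξ z hzx hW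
        have h2 : (X.presheaf.stalkSpecializes hzx).hom
            (ξ * (X.presheaf.germ U x hx).hom t) ∈
            maximalIdeal (X.presheaf.stalk z) ^ (W z).toNat := by
          rw [map_mul]
          exact Ideal.mul_mem_right _ _ h1
        rw [hst, germ_stalkSpecializes_apply' hzx hx s] at h2
        exact h2
      · refine Ideal.mul_mem_right _ _ ?_
        have hzT : z ∈ T := Finset.mem_filter.mpr ⟨hfin.mem_toFinset.mpr hW, hzx⟩
        exact germ_prod_mem W U T f z hzT hz ((not_mem_basicOpen_iff z hz _).mp (hf z hzx).2)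
    have h3 : (X.presheaf.germ U x hx).hom (g * s) ∈ (idl W U).map (X.presheaf.germ U x hx).hom :=
      Ideal.mem_map_of_mem _ hgs
    rw [map_mul, ← hst, ← mul_assoc, mul_comm _ ξ, mul_assoc] at h3
    exact (Ideal.mul_unit_mem_iff_mem _ (hgu.mul htu)).mp h3

end Groth.Agent.Lib.Helper1.CycSub
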