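import Mathlib
import Groth.Agent.Lib.Helper1.CycSub2

/-!
# The ideal sheaf datum with prescribed germs at the cycle points
-/

set_option autoImplicit false
universe u
open CategoryTheory AlgebraicGeometry TopologicalSpace IsLocalRing

namespace Groth.Agent.Lib.Helper1.CycSub

variable {X : Scheme.{u}}

theorem map_idl_basicOpen (W : X → ℤ) (hfin : {x | W x ≠ 0}.Finite) (U : X.affineOpens)
    (f : Γ(X, U)) :
    (idl W U.1).map (X.presheaf.map (homOfLE <| X.basicOpen_le f).op).hom =
      idl W (X.basicOpen f) := by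
  classical
  apply le_antisymm
  · rw [Ideal.map_le_iff_le_comap]
    intro s hs
    rw [Ideal.mem_comap, mem_idl]
    intro z hz hW
    have h1 := TopCat.Presheaf.germ_res_apply X.presheaf (homOfLE <| X.basicOpen_le f) z hz s
    change (X.presheaf.germ (X.basicOpen f) z hz).hom
      ((X.presheaf.map (homOfLE <| X.basicOpen_le f).op).hom s) ∈ _
    rw [h1]
    exact mem_idl.mp hs z _ hW
  · intro t ht
    rw [mem_idl] at ht
    haveI hloc : IsLocalization.Away f Γ(X, X.basicOpen f) := U.2.isLocalization_basicOpen f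
    obtain ⟨n, a, hta⟩ := IsLocalization.Away.surj f t
    have hres : ∀ b : Γ(X, U), algebraMap Γ(X, U) Γ(X, X.basicOpen f) b =
        (X.presheaf.map (homOfLE <| X.basicOpen_le f).op).hom b := fun _ => rfl
    have hfu : IsUnit (algebraMap Γ(X, U) Γ(X, X.basicOpen f) f) :=
      IsLocalization.Away.algebraMap_isUnit f
    set T : Finset X := hfin.toFinset.filter (fun z => z ∉ X.basicOpen f) with hT
    set g : Γ(X, U) := ∏ y ∈ T, (fun _ => f) y ^ (W y).toNat with hg
    have hga : g * a ∈ idl W U.1 := by
      rw [mem_idl]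
      intro z hz hW
      rw [map_mul]
      by_cases hzf : z ∈ X.basicOpen f
      · refine Ideal.mul_mem_left _ _ ?_
        have h1 := TopCat.Presheaf.germ_res_apply X.presheaf (homOfLE <| X.basicOpen_le f) z hzf a
        have h2 : (X.presheaf.germ (X.basicOpen f) z hzf).hom
            (t * algebraMap Γ(X, U) Γ(X, X.basicOpen f) f ^ n) ∈
            maximalIdeal (X.presheaf.stalk z) ^ (W z).toNat := by
          rw [map_mul]
          exact Ideal.mul_mem_right _ _ (ht z hzf hW)
        rw [hta, hres] at h2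
        rw [← h1]
        exact h2
      · refine Ideal.mul_mem_right _ _ ?_
        have hzT : z ∈ T := Finset.mem_filter.mpr ⟨hfin.mem_toFinset.mpr hW, hzf⟩
        exact germ_prod_mem W U.1 T (fun _ => f) z hzT hz ((not_mem_basicOpen_iff z hz _).mp hzf)
    have hgu : IsUnit (algebraMap Γ(X, U) Γ(X, X.basicOpen f) g) := by
      rw [hg, map_prod]
      refine (IsUnit.submonoid _).prod_mem fun y _ => ?_
      rw [map_pow]
      exact hfu.pow _
    have h3 : algebraMap Γ(X, U) Γ(X, X.basicOpen f) (g * a) ∈
        (idl W U.1).map (X.presheaf.map (homOfLE <| X.basicOpen_le f).op).hom :=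
      Ideal.mem_map_of_mem _ hga
    rw [map_mul, ← hta, ← mul_assoc, mul_comm _ t, mul_assoc] at h3
    exact (Ideal.mul_unit_mem_iff_mem _ (hgu.mul (hfu.pow n))).mp h3

/-- the ideal sheaf datum -/
noncomputable def theI (W : X → ℤ) (hfin : {x | W x ≠ 0}.Finite) : X.IdealSheafData where
  ideal U := idl W U.1
  map_ideal_basicOpen U f := map_idl_basicOpen W hfin U f

@[simp] theorem theI_ideal (W : X → ℤ) (hfin : {x | W x ≠ 0}.Finite) (U : X.affineOpens) :
    (theI W hfin).ideal U = idl W U.1 := rfl

/-- the kernel of the stalk map of the subscheme is the stalk ideal -/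
theorem ker_stalkMap_theI (W : X → ℤ) (hfin : {x | W x ≠ 0}.Finite)
    (ζ : (theI W hfin).subscheme) :
    RingHom.ker ((theI W hfin).subschemeι.stalkMap ζ).hom = Jx W ((theI W hfin).subschemeι ζ) := by
  obtain ⟨_, ⟨U, hU : IsAffineOpen U, rfl⟩, hxU, -⟩ :=
    X.isBasis_affineOpens.exists_subset_of_mem_open
      (Set.mem_univ ((theI W hfin).subschemeι ζ)) isOpen_univ
  rw [Helper3.ker_stalkMap_subschemeι (theI W hfin) ⟨U, hU⟩ ζ hxU]
  exact map_idl_germ W hfin hU _ hxU

end Groth.Agent.Lib.Helper1.CycSub
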