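import Mathlib
import Groth.Agent.Lib.Helper1.CycSub3

/-!
# Existence: the subscheme cut out by `theI` has the required cycle and no embedded points
-/

set_option autoImplicit false
universe u
open CategoryTheory AlgebraicGeometry TopologicalSpace IsLocalRing

namespace Groth.Agent.Lib.Helper1.CycSub

theorem length_eq_of_surjective_ker {R S : Type*} [CommRing R] [CommRing S] (φ : R →+* S)
    (hφ : Function.Surjective φ) :
    Module.length S S = Module.length R (R ⧸ RingHom.ker φ) := by
  letI := φ.toAlgebra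
  have h1 : Module.length R S = Module.length S S :=
    Module.length_eq_of_surjective (S := R) (R := S) (M := S) hφ
  rw [← h1]
  have hk : LinearMap.ker (Algebra.linearMap R S) = RingHom.ker φ := by
    ext a
    rw [LinearMap.mem_ker, RingHom.mem_ker]
    rfl
  have e1 : (R ⧸ LinearMap.ker (Algebra.linearMap R S)) ≃ₗ[R] S :=
    LinearMap.quotKerEquivOfSurjective (Algebra.linearMap R S) hφ
  have e2 : (R ⧸ RingHom.ker φ) ≃ₗ[R] (R ⧸ LinearMap.ker (Algebra.linearMap R S)) :=
    Submodule.quotEquivOfEq _ _ hk.symm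
  exact (LinearEquiv.length_eq (e2.trans e1)).symm

theorem dvr_ideal_eq_pow_of_length {R : Type*} [CommRing R] [IsDomain R]
    [IsDiscreteValuationRing R] (J : Ideal R) (n : ℕ)
    (h : Module.length R (R ⧸ J) = n) : J = maximalIdeal R ^ n := by
  rw [Module.length_quotient] at h
  have h1 : Order.coheight ((IsDiscreteValuationRing.idealOrderIsoENat R) J) = n := by
    rw [Order.coheight_orderIso]
    exact h
  obtain ⟨k, hk⟩ := OrderDual.toDual.surjective ((IsDiscreteValuationRing.idealOrderIsoENat R) J)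
  rw [← hk, Order.coheight_toDual, Order.height_enat] at h1
  have h2 : J = (IsDiscreteValuationRing.idealOrderIsoENat R).symm (OrderDual.toDual (n : ℕ∞)) := by
    rw [← h1, hk, OrderIso.symm_apply_apply]
  rw [h2]
  exact IsDiscreteValuationRing.idealOrderIsoENat_symm_apply_coe R n

variable {X : Scheme.{u}}

section Exist

variable (W : X → ℤ) (hfin : {x | W x ≠ 0}.Finite)

theorem exists_specializes_of_mem (ζ : (theI W hfin).subscheme) :
    ∃ z, z ⤳ (theI W hfin).subschemeι ζ ∧ W z ≠ 0 := by
  by_contra h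
  push Not at h
  have h1 : Jx W ((theI W hfin).subschemeι ζ) = ⊤ := by
    rw [Ideal.eq_top_iff_one, mem_Jx]
    intro z hz hW
    exact absurd (h z hz) hW
  rw [← ker_stalkMap_theI, Ideal.eq_top_iff_one, RingHom.mem_ker, map_one] at h1
  exact one_ne_zero h1

theorem exists_point_of_W_ne (hpos : ∀ x, 0 ≤ W x) (z : X) (hW : W z ≠ 0) :
    ∃ ζ : (theI W hfin).subscheme, (theI W hfin).subschemeι ζ = z := by
  have hz : z ∈ (theI W hfin).support := by
    obtain ⟨_, ⟨U, hU : IsAffineOpen U, rfl⟩, hzU, -⟩ :=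
      X.isBasis_affineOpens.exists_subset_of_mem_open (Set.mem_univ z) isOpen_univ
    rw [Scheme.IdealSheafData.mem_support_iff_of_mem (U := ⟨U, hU⟩) hzU, Scheme.mem_zeroLocus_iff]
    intro f hf
    rw [not_mem_basicOpen_iff z hzU]
    have h1 := mem_idl.mp hf z hzU hW
    have hn : (W z).toNat ≠ 0 := by
      have := hpos z
      omega
    exact Ideal.pow_le_self hn h1
  have h2 := (theI W hfin).range_subschemeι
  have h3 : z ∈ Set.range (theI W hfin).subschemeι := by
    rw [h2]
    exact hz
  exact h3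

variable (hreg : ∀ x, W x ≠ 0 → ∃ _ : IsDomain ↑(X.presheaf.stalk x),
  IsDiscreteValuationRing ↑(X.presheaf.stalk x))

include hreg in
theorem eq_of_specializes_of_W_ne {z z' : X} (h : z ⤳ z') (hW : W z ≠ 0) (hW' : W z' ≠ 0) :
    z = z' := by
  obtain ⟨hd, hdvr⟩ := hreg z hW
  obtain ⟨hd', hdvr'⟩ := hreg z' hW'
  exact eq_of_specializes_of_dvr h

include hreg in
/-- a point of the subscheme lying over a cycle point is a maximal point -/
theorem maximal_of_W_ne (ζ : (theI W hfin).subscheme)
    (hW : W ((theI W hfin).subschemeι ζ) ≠ 0) :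
    ∀ ζ' : (theI W hfin).subscheme, ζ' ⤳ ζ → ζ' = ζ := by
  intro ζ' hζ
  have h1 : (theI W hfin).subschemeι ζ' ⤳ (theI W hfin).subschemeι ζ :=
    hζ.map (theI W hfin).subschemeι.continuous
  obtain ⟨z, hz, hWz⟩ := exists_specializes_of_mem W hfin ζ'
  have h2 : z = (theI W hfin).subschemeι ζ :=
    eq_of_specializes_of_W_ne W hreg (hz.trans h1) hWz hW
  rw [h2] at hz
  have h3 : (theI W hfin).subschemeι ζ' = (theI W hfin).subschemeι ζ := (h1.antisymm hz).eq
  exact (theI W hfin).subschemeι.isEmbedding.injective h3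

include hreg in
/-- at a cycle point, the stalk ideal is the prescribed power of the maximal ideal -/
theorem Jx_eq_pow (z : X) (hW : W z ≠ 0) :
    Jx W z = maximalIdeal (X.presheaf.stalk z) ^ (W z).toNat := by
  ext ξ
  rw [mem_Jx]
  constructor
  · intro h
    have h1 := h z (specializes_refl z) hW
    rw [TopCat.Presheaf.stalkSpecializes_refl] at h1
    exact h1
  · intro h z' hz' hW'
    obtain rfl : z' = z := eq_of_specializes_of_W_ne W hreg hz' hW' hW
    have : X.presheaf.stalkSpecializes hz' = 𝟙 _ := TopCat.Presheaf.stalkSpecializes_refl _ _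
    rw [this]
    exact h

include hreg in
theorem length_stalk_of_W_ne (ζ : (theI W hfin).subscheme)
    (hW : W ((theI W hfin).subschemeι ζ) ≠ 0) :
    Module.length ↑((theI W hfin).subscheme.presheaf.stalk ζ)
      ↑((theI W hfin).subscheme.presheaf.stalk ζ) =
      ((W ((theI W hfin).subschemeι ζ)).toNat : ℕ∞) := by
  obtain ⟨hd, hdvr⟩ := hreg _ hW
  rw [length_eq_of_surjective_ker _ ((theI W hfin).subschemeι.stalkMap_surjective ζ),
    ker_stalkMap_theI, Jx_eq_pow W hreg _ hW]
  exact IsDiscreteValuationRing.length_quotient_pow_maximalIdeal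
    (X.presheaf.stalk ((theI W hfin).subschemeι ζ)) _

omit hreg in
/-- no embedded points: a point whose maximal ideal is associated lies over a cycle point -/
theorem W_ne_of_isAssociatedPrime (ζ : (theI W hfin).subscheme)
    (hass : IsAssociatedPrime (maximalIdeal ↑((theI W hfin).subscheme.presheaf.stalk ζ))
      ↑((theI W hfin).subscheme.presheaf.stalk ζ)) :
    W ((theI W hfin).subschemeι ζ) ≠ 0 := by
  set ι := (theI W hfin).subschemeι with hι
  set x := ι ζ with hx
  obtain ⟨-, v, hv⟩ := hass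
  obtain ⟨ξ, rfl⟩ := (theI W hfin).subschemeι.stalkMap_surjective ζ v
  -- ξ ∉ J_x
  have hξ : ξ ∉ Jx W x := by
    intro h
    rw [← ker_stalkMap_theI, RingHom.mem_ker] at h
    have h1 : (1 : ↑((theI W hfin).subscheme.presheaf.stalk ζ)) ∈
        maximalIdeal ↑((theI W hfin).subscheme.presheaf.stalk ζ) := by
      rw [hv]
      refine Ideal.le_radical ?_
      rw [Submodule.mem_colon_singleton, h]
      simp
    exact (Ideal.ne_top_iff_one _).mp (IsLocalRing.maximalIdeal.isMaximal _).ne_top h1
  rw [mem_Jx] at hξ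
  push Not at hξ
  obtain ⟨z, hz, hWz, hzξ⟩ := hξ
  by_contra hWx
  have hzx : ¬ x ⤳ z := by
    intro h'
    have : z = x := (hz.antisymm h').eq
    rw [this] at hWz
    exact hWz hWx
  obtain ⟨_, ⟨U, hU : IsAffineOpen U, rfl⟩, hxU, -⟩ :=
    X.isBasis_affineOpens.exists_subset_of_mem_open (Set.mem_univ x) isOpen_univ
  have hzU : z ∈ U := hz.mem_open U.2 hxU
  obtain ⟨f, hzf, hxf⟩ := exists_basicOpen_sep hU z x hzU hzx
  -- germ_x f is a non-unit, so its image is in the maximal ideal of the subscheme stalk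
  have h1 : (X.presheaf.germ U x hxU).hom f ∈ maximalIdeal (X.presheaf.stalk x) :=
    (not_mem_basicOpen_iff x hxU f).mp hxf
  have h2 : (ι.stalkMap ζ).hom ((X.presheaf.germ U x hxU).hom f) ∈
      maximalIdeal ↑((theI W hfin).subscheme.presheaf.stalk ζ) := by
    rw [mem_maximalIdeal, mem_nonunits_iff] at h1 ⊢
    intro hu
    exact h1 (isUnit_of_map_unit (ι.stalkMap ζ).hom _ hu)
  rw [hv, Ideal.mem_radical_iff] at h2
  obtain ⟨n, hn⟩ := h2
  rw [Submodule.mem_colon_singleton, Submodule.mem_bot, smul_eq_mul, ← map_pow, ← map_mul,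
    ← RingHom.mem_ker, ker_stalkMap_theI, mem_Jx] at hn
  have h3 := hn z hz hWz
  rw [map_mul, map_pow, germ_stalkSpecializes_apply' hz hxU f] at h3
  have hu : IsUnit ((X.presheaf.germ U z hzU).hom f) := (Scheme.mem_basicOpen X f z hzU).mp hzf
  exact hzξ ((Ideal.unit_mul_mem_iff_mem _ (hu.pow n)).mp h3)

end Exist

end Groth.Agent.Lib.Helper1.CycSub
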