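import Mathlib
import Groth.Agent.Lib.Helper1.CycSub4

/-!
# Uniqueness of the closed subscheme with prescribed codimension-one cycle
-/

set_option autoImplicit false
universe u
open CategoryTheory AlgebraicGeometry TopologicalSpace IsLocalRing

namespace Groth.Agent.Lib.Helper1.CycSub

variable {X : Scheme.{u}}

/-- a prime of the form `(𝓘(U) : u)` gives a point of the subscheme whose maximal ideal is
associated. -/
theorem isAssociatedPrime_of_colon (𝓘 : X.IdealSheafData) (U : X.affineOpens) (ζ : 𝓘.subscheme)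
    (hζU : 𝓘.subschemeι ζ ∈ U.1) (u : Γ(X, U))
    (hP : ∀ a : Γ(X, U), 𝓘.subschemeι ζ ∉ X.basicOpen a ↔ a * u ∈ 𝓘.ideal U) :
    IsAssociatedPrime (maximalIdeal ↑(𝓘.subscheme.presheaf.stalk ζ))
      ↑(𝓘.subscheme.presheaf.stalk ζ) := by
  set x := 𝓘.subschemeι ζ with hx
  have hker := Helper3.ker_stalkMap_subschemeι 𝓘 U ζ hζU
  have hsurj := 𝓘.subschemeι.stalkMap_surjective ζ
  set φ := (𝓘.subschemeι.stalkMap ζ).hom with hφ
  set g := (X.presheaf.germ U.1 x hζU).hom with hg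
  have hzero : ∀ a : Γ(X, U), a ∈ 𝓘.ideal U → φ (g a) = 0 := by
    intro a ha
    rw [← RingHom.mem_ker, hker]
    exact Ideal.mem_map_of_mem _ ha
  refine ⟨(IsLocalRing.maximalIdeal.isMaximal _).isPrime, φ (g u), ?_⟩
  ext w
  rw [Ideal.mem_radical_iff]
  constructor
  · intro hw
    obtain ⟨η, rfl⟩ := hsurj w
    have hη : ¬ IsUnit η := by
      intro hu
      rw [mem_maximalIdeal, mem_nonunits_iff] at hw
      exact hw (hu.map φ)
    obtain ⟨a, t, htx, hat⟩ := exists_germ_mul_eq U.2 x hζU η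
    change η * g t = g a at hat
    have htu : IsUnit (g t) := (Scheme.mem_basicOpen X t x hζU).mp htx
    have hax : x ∉ X.basicOpen a := by
      intro h
      have hau : IsUnit (g a) := (Scheme.mem_basicOpen X a x hζU).mp h
      rw [← hat] at hau
      exact hη (isUnit_of_mul_isUnit_left hau)
    have h1 : φ (g (a * u)) = 0 := hzero _ ((hP a).mp hax)
    refine ⟨1, ?_⟩
    rw [pow_one, Submodule.mem_colon_singleton, Submodule.mem_bot, smul_eq_mul]
    rw [map_mul, ← hat, map_mul, map_mul] at h1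
    have h2 : φ (g t) * (φ η * φ (g u)) = 0 := by
      rw [← h1]; ring
    exact ((htu.map φ).mul_right_eq_zero).mp h2
  · rintro ⟨n, hn⟩
    rw [Submodule.mem_colon_singleton, Submodule.mem_bot, smul_eq_mul] at hn
    by_contra hw
    rw [mem_maximalIdeal, mem_nonunits_iff, not_not] at hw
    have h1 : φ (g u) = 0 := ((hw.pow n).mul_right_eq_zero).mp hn
    rw [← RingHom.mem_ker, hker, germ_mem_map_iff U.2 x hζU] at h1
    obtain ⟨t, htx, htu⟩ := h1
    exact ((hP t).mpr htu) htx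

/-- the ideal of a closed subscheme with no embedded points and the prescribed cycle -/
theorem ideal_eq_of_props [IsLocallyNoetherian X] (W : X → ℤ)
    (hreg : ∀ x, W x ≠ 0 → ∃ _ : IsDomain ↑(X.presheaf.stalk x),
      IsDiscreteValuationRing ↑(X.presheaf.stalk x))
    (𝓘 : X.IdealSheafData)
    (h1 : ∀ z : ↥𝓘.subscheme,
      IsAssociatedPrime (IsLocalRing.maximalIdeal ↑(𝓘.subscheme.presheaf.stalk z))
        ↑(𝓘.subscheme.presheaf.stalk z) → ∀ z' : ↥𝓘.subscheme, z' ⤳ z → z' = z)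
    (h2 : ∀ z : ↥𝓘.subscheme, (∀ z' : ↥𝓘.subscheme, z' ⤳ z → z' = z) →
      Module.length ↑(𝓘.subscheme.presheaf.stalk z) ↑(𝓘.subscheme.presheaf.stalk z) =
        ((W (𝓘.subschemeι.base z)).toNat : ℕ∞))
    (h3 : ∀ x : X, W x ≠ 0 → ∃ z : ↥𝓘.subscheme, 𝓘.subschemeι.base z = x ∧
      ∀ z' : ↥𝓘.subscheme, z' ⤳ z → z' = z)
    (U : X.affineOpens) : 𝓘.ideal U = idl W U.1 := by
  -- at a maximal point, `W ≠ 0` and the kernel of the stalk map is the prescribed power
  have key : ∀ ζ : 𝓘.subscheme, (∀ z' : ↥𝓘.subscheme, z' ⤳ ζ → z' = ζ) →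
      W (𝓘.subschemeι ζ) ≠ 0 ∧ RingHom.ker (𝓘.subschemeι.stalkMap ζ).hom =
        maximalIdeal (X.presheaf.stalk (𝓘.subschemeι ζ)) ^ (W (𝓘.subschemeι ζ)).toNat := by
    intro ζ hmax
    have hlen := h2 ζ hmax
    change _ = ((W (𝓘.subschemeι ζ)).toNat : ℕ∞) at hlen
    have hW : W (𝓘.subschemeι ζ) ≠ 0 := by
      intro h0
      rw [h0] at hlen
      simp only [Int.toNat_zero, Nat.cast_zero] at hlen
      rw [Module.length_eq_zero_iff] at hlen
      exact not_subsingleton _ hlen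
    refine ⟨hW, ?_⟩
    obtain ⟨hd, hdvr⟩ := hreg _ hW
    rw [length_eq_of_surjective_ker _ (𝓘.subschemeι.stalkMap_surjective ζ)] at hlen
    exact dvr_ideal_eq_pow_of_length _ _ hlen
  apply le_antisymm
  · intro s hs
    rw [mem_idl]
    intro z hz hW
    obtain ⟨ζ, hζ, hmax⟩ := h3 z hW
    change 𝓘.subschemeι ζ = z at hζ
    subst hζ
    obtain ⟨-, hk⟩ := key ζ hmax
    rw [← hk, Helper3.ker_stalkMap_subschemeι 𝓘 U ζ hz]
    exact Ideal.mem_map_of_mem _ hs
  · intro s hs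
    by_contra hsI
    haveI : IsNoetherianRing Γ(X, U) := IsLocallyNoetherian.component_noetherian U
    have hs0 : Ideal.Quotient.mk (𝓘.ideal U) s ≠ 0 := by
      rwa [Ne, Ideal.Quotient.eq_zero_iff_mem]
    obtain ⟨P, hPass, hle⟩ := exists_le_isAssociatedPrime_of_isNoetherianRing Γ(X, U) _ hs0
    rw [isAssociatedPrime_iff] at hPass
    obtain ⟨hPprime, ubar, hPeq⟩ := hPass
    obtain ⟨u, rfl⟩ := Ideal.Quotient.mk_surjective ubar
    have hPmem : ∀ a : Γ(X, U), a ∈ P ↔ a * u ∈ 𝓘.ideal U := by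
      intro a
      rw [hPeq, Submodule.mem_colon_singleton, Submodule.mem_bot, ← Ideal.Quotient.eq_zero_iff_mem,
        map_mul]
      rfl
    obtain ⟨x, hx⟩ : ∃ x, x = U.2.fromSpec ⟨P, hPprime⟩ := ⟨_, rfl⟩
    have hxU : x ∈ U.1 := by
      have : x ∈ Set.range U.2.fromSpec := ⟨_, hx.symm⟩
      rwa [U.2.range_fromSpec] at this
    have hprime : U.2.primeIdealOf ⟨x, hxU⟩ = ⟨P, hPprime⟩ := by
      apply U.2.fromSpec.isOpenEmbedding.injective
      rw [U.2.fromSpec_primeIdealOf ⟨x, hxU⟩]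
      exact hx
    have hD : ∀ a : Γ(X, U), x ∈ X.basicOpen a ↔ a ∉ P := by
      intro a
      rw [Helper3.mem_basicOpen_iff_notMem_primeIdealOf U.2 x hxU a, hprime]
    have hsupp : x ∈ 𝓘.support := by
      rw [Helper3.mem_support_iff_le_primeIdealOf 𝓘 U x hxU, hprime]
      intro a ha
      exact (hPmem a).mpr (Ideal.mul_mem_right _ _ ha)
    obtain ⟨ζ, hζ⟩ : x ∈ Set.range 𝓘.subschemeι := by
      rw [𝓘.range_subschemeι]
      exact hsupp
    subst hζ
    have hass := isAssociatedPrime_of_colon 𝓘 U ζ hxU u (fun a => by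
      rw [← hPmem a, hD a, not_not])
    have hmax := h1 ζ hass
    obtain ⟨hW, hk⟩ := key ζ hmax
    have h4 := mem_idl.mp hs _ hxU hW
    rw [← hk, Helper3.ker_stalkMap_subschemeι 𝓘 U ζ hxU, germ_mem_map_iff U.2 _ hxU] at h4
    obtain ⟨t, htx, hts⟩ := h4
    have htP : t ∈ P := by
      apply hle
      rw [Submodule.mem_colon_singleton, Submodule.mem_bot]
      have h5 : Ideal.Quotient.mk (𝓘.ideal U) (t * s) = 0 := Ideal.Quotient.eq_zero_iff_mem.mpr hts
      rw [map_mul] at h5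
      exact h5
    exact (hD t).mp htx htP

end Groth.Agent.Lib.Helper1.CycSub
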