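import Mathlib
import Groth.Agent.Lib.Helper6.FiberStalk

open CategoryTheory AlgebraicGeometry
universe u
namespace Groth.Agent.Lib.Helper1.FibreRed
open Groth.Agent.Lib.Helper6

variable {X Y : Scheme.{u}} (f : X ⟶ Y)

/-- The maximal ideal of the local ring of the base point dies in the local ring of a reduced
fibre. -/
lemma stalkMap_fiberι_eq_zero (y : Y) [IsReduced (f.fiber y)] (x' : f.fiber y)
    (a : Y.presheaf.stalk (f.base ((f.fiberι y).base x')))
    (ha : a ∈ IsLocalRing.maximalIdeal (Y.presheaf.stalk (f.base ((f.fiberι y).base x')))) :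
    ((f.fiberι y).stalkMap x').hom ((f.stalkMap ((f.fiberι y).base x')).hom a) = 0 := by
  have hcomp : (f.fiberι y ≫ f).stalkMap x' = f.stalkMap _ ≫ (f.fiberι y).stalkMap x' :=
    Scheme.Hom.stalkMap_comp _ _ _
  obtain ⟨U, hU, s, rfl⟩ := Y.presheaf.germ_exist (x := f.base ((f.fiberι y).base x')) a
  have hpt : ∀ x'' : f.fiber y, f.base ((f.fiberι y).base x'') = y := by
    intro x''
    have : (f.fiberι y).base x'' ∈ Set.range (f.fiberι y) := ⟨x'', rfl⟩
    rw [Scheme.Hom.range_fiberι] at this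
    exact this
  have hns : f.base ((f.fiberι y).base x') ∉ Y.basicOpen s := by
    intro hmem
    rw [Scheme.mem_basicOpen _ _ _ hU] at hmem
    exact ha hmem
  have hbot : (f.fiber y).basicOpen ((f.fiberι y ≫ f).app U s) = ⊥ := by
    rw [← Scheme.preimage_basicOpen]
    ext x''
    simp only [TopologicalSpace.Opens.coe_bot, Set.mem_empty_iff_false, iff_false]
    intro hx''
    apply hns
    rw [hpt x']
    have h2 : (f.fiberι y ≫ f).base x'' ∈ Y.basicOpen s := hx''
    have h3 : (f.fiberι y ≫ f).base x'' = y := hpt x''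
    rwa [h3] at h2
  rw [basicOpen_eq_bot_iff] at hbot
  have h4 := Scheme.Hom.germ_stalkMap_apply (f.fiberι y ≫ f) U x' hU s
  rw [hbot, map_zero] at h4
  rw [← h4, hcomp]
  rfl

/-- Transported version of `stalkMap_fiberι_eq_zero`. -/
lemma stalkMap_fiberι_eq_zero_of_mem (y : Y) [IsReduced (f.fiber y)] (x' : f.fiber y)
    (x₀ : X) (h : (f.fiberι y).base x' = x₀) (s : X.presheaf.stalk ((f.fiberι y).base x'))
    (hs : (X.presheaf.stalkCongr (.of_eq h)).hom s ∈
      (IsLocalRing.maximalIdeal (Y.presheaf.stalk (f.base x₀))).map (f.stalkMap x₀).hom) :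
    ((f.fiberι y).stalkMap x').hom s = 0 := by
  subst h
  have hid : (X.presheaf.stalkCongr (Inseparable.of_eq (rfl : (f.fiberι y).base x' = _))).hom s
      = s := by
    simp [TopCat.Presheaf.stalkCongr_hom]
  rw [hid] at hs
  refine Submodule.span_induction ?_ ?_ ?_ ?_ hs
  · rintro _ ⟨a, ha, rfl⟩
    exact stalkMap_fiberι_eq_zero f y x' a ha
  · simp
  · intro p q _ _ hp hq; rw [map_add, hp, hq, add_zero]
  · intro a p _ hp; rw [smul_eq_mul, map_mul, hp, mul_zero]

/-- kernel of `stalkClosedPointTo` of `specQuotToX`. -/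
lemma mem_fiberIdeal_of_stalkClosedPointTo_eq_zero (x : X)
    (j : Spec (fiberQuotRing f x) ⟶ X) (hj : j = specQuotToX f x)
    (s : X.presheaf.stalk (j.base (IsLocalRing.closedPoint (fiberQuotRing f x))))
    (hs : (Scheme.stalkClosedPointTo j).hom s = 0) :
    ∃ h : j.base (IsLocalRing.closedPoint (fiberQuotRing f x)) = x,
      (X.presheaf.stalkCongr (.of_eq h)).hom s ∈ fiberIdeal f x := by
  subst hj
  have h : (⟨(specQuotToX f x).base (IsLocalRing.closedPoint (fiberQuotRing f x)),
        Scheme.stalkClosedPointTo (specQuotToX f x), inferInstance⟩ :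
      Σ x', { g : X.presheaf.stalk x' ⟶ fiberQuotRing f x // IsLocalHom g.hom }) =
      ⟨x, fiberQuot f x, inferInstance⟩ :=
    (SpecToEquivOfLocalRing X (fiberQuotRing f x)).right_inv ⟨x, fiberQuot f x, inferInstance⟩
  obtain ⟨h₁, h₂⟩ := SpecToEquivOfLocalRing_eq_iff.mp h
  dsimp only at h₁ h₂
  refine ⟨h₁, ?_⟩
  rw [h₂] at hs
  exact Ideal.Quotient.eq_zero_iff_mem.1 hs

theorem fiberStalkToQuot'_injective (x : X) [IsReduced (f.fiber (f.base x))] :
    Function.Injective (fiberStalkToQuot' f x).hom := by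
  rw [injective_iff_map_eq_zero]
  intro t ht
  obtain ⟨s, rfl⟩ := (f.fiberι (f.base x)).stalkMap_surjective _ t
  have hcomp : Scheme.stalkClosedPointTo (specToFiber f x ≫ f.fiberι (f.base x)) =
      (f.fiberι (f.base x)).stalkMap _ ≫ fiberStalkToQuot' f x :=
    Scheme.stalkClosedPointTo_comp _ _
  have hs : (Scheme.stalkClosedPointTo (specToFiber f x ≫ f.fiberι (f.base x))).hom s = 0 := by
    rw [hcomp]; exact ht
  obtain ⟨h, hmem⟩ := mem_fiberIdeal_of_stalkClosedPointTo_eq_zero f x _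
    (specToFiber_fiberι f x) s hs
  exact stalkMap_fiberι_eq_zero_of_mem f (f.base x) _ x h s hmem

theorem isReduced_fiberQuot (x : X) [IsReduced (f.fiber (f.base x))] :
    _root_.IsReduced (X.presheaf.stalk x ⧸ fiberIdeal f x) := by
  constructor
  intro q hq
  obtain ⟨t, rfl⟩ := fiberStalkToQuot'_surjective f x q
  obtain ⟨n, hn⟩ := hq
  rw [← map_pow] at hn
  have h0 : t ^ n = 0 := fiberStalkToQuot'_injective f x (by rw [hn, map_zero])
  have hnil : IsNilpotent t := ⟨n, h0⟩
  have : t = 0 := hnil.eq_zero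
  rw [this, map_zero]

end Groth.Agent.Lib.Helper1.FibreRed
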