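import Mathlib
import Groth.Agent.Lib.Helper1.FibreRed

/-!
# Schemes over a discrete valuation ring with reduced special fibre
-/

set_option autoImplicit false
open CategoryTheory CategoryTheory.Limits AlgebraicGeometry
universe u

namespace Groth.Agent.Lib.Helper1.DVRFib
open Groth.Agent.Lib.Helper6 Groth.Agent.Lib.Helper1

section alg

/-- A Noetherian local ring `B` with a nonzerodivisor `β` in the maximal ideal such that `B/β` is
reduced is itself reduced. -/
theorem isReduced_of_quotient {B : Type*} [CommRing B] [IsNoetherianRing B] [IsLocalRing B] (β : B)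
    (hβ : β ∈ IsLocalRing.maximalIdeal B) (hreg : IsSMulRegular B β)
    (hred : IsReduced (B ⧸ Ideal.span {β})) : IsReduced B := by
  constructor
  intro a ha
  have key : ∀ k : ℕ, ∃ c : B, a = β ^ k * c ∧ IsNilpotent c := by
    intro k
    induction k with
    | zero => exact ⟨a, by simp, ha⟩
    | succ k ih =>
      obtain ⟨c, hc, hcn⟩ := ih
      have h1 : Ideal.Quotient.mk (Ideal.span {β}) c = 0 := by
        have : IsNilpotent (Ideal.Quotient.mk (Ideal.span {β}) c) := hcn.map _
        exact this.eq_zero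
      rw [Ideal.Quotient.eq_zero_iff_mem, Ideal.mem_span_singleton] at h1
      obtain ⟨d, rfl⟩ := h1
      refine ⟨d, by rw [hc]; ring, ?_⟩
      obtain ⟨n, hn⟩ := hcn
      refine ⟨n, ?_⟩
      rw [mul_pow] at hn
      have hregn : IsSMulRegular B (β ^ n) := hreg.pow n
      apply hregn
      simpa [smul_eq_mul] using hn
  have hmem : a ∈ ⨅ i, (Ideal.span {β}) ^ i := by
    rw [Ideal.mem_iInf]
    intro k
    obtain ⟨c, hc, -⟩ := key k
    rw [hc, Ideal.span_singleton_pow]
    exact Ideal.mul_mem_right _ _ (Ideal.mem_span_singleton_self _)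
  rw [Ideal.iInf_pow_eq_bot_of_isLocalRing] at hmem
  · simpa using hmem
  · intro h
    rw [Ideal.span_singleton_eq_top] at h
    exact (IsLocalRing.mem_maximalIdeal _).mp hβ h

/-- The fraction field of a DVR is the localization away from a uniformizer. -/
theorem isLocalization_away_of_dvr (R K : Type*) [CommRing R] [IsDomain R]
    [IsDiscreteValuationRing R] [Field K] [Algebra R K] [IsFractionRing R K] (π : R)
    (hπ : Irreducible π) : IsLocalization.Away π K := by
  have hinj := IsFractionRing.injective R K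
  rw [IsLocalization.Away, isLocalization_iff]
  refine ⟨?_, ?_, ?_⟩
  · rintro ⟨y, n, rfl⟩
    apply IsUnit.mk0
    rw [map_pow]
    exact pow_ne_zero _ ((map_ne_zero_iff _ hinj).mpr hπ.ne_zero)
  · intro z
    obtain ⟨a, b, hb, rfl⟩ := IsFractionRing.div_surjective (A := R) z
    have hb0 : b ≠ 0 := nonZeroDivisors.ne_zero hb
    obtain ⟨n, v, hv⟩ := IsDiscreteValuationRing.eq_unit_mul_pow_irreducible hb0 hπ
    refine ⟨(a * ((v⁻¹ : Rˣ) : R), ⟨π ^ n, n, rfl⟩), ?_⟩
    have hbK : algebraMap R K b ≠ 0 := (map_ne_zero_iff _ hinj).mpr hb0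
    show algebraMap R K a / algebraMap R K b * algebraMap R K (π ^ n) =
      algebraMap R K (a * ((v⁻¹ : Rˣ) : R))
    rw [div_mul_eq_mul_div, div_eq_iff hbK, ← map_mul, ← map_mul, hv]
    congr 1
    have : ((v⁻¹ : Rˣ) : R) * (v : R) = 1 := by simp
    calc a * π ^ n = a * (((v⁻¹ : Rˣ) : R) * (v : R)) * π ^ n := by rw [this, mul_one]
      _ = a * ((v⁻¹ : Rˣ) : R) * ((v : R) * π ^ n) := by ring
  · intro x y h
    exact ⟨1, by rw [hinj h]⟩

end alg

section generize

/-- Reducedness of local rings is stable under generization. -/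
theorem isReduced_stalk_of_specializes {X : Scheme.{u}} {x x₀ : X} (h : x ⤳ x₀)
    (hred : _root_.IsReduced (X.presheaf.stalk x₀)) : _root_.IsReduced (X.presheaf.stalk x) := by
  obtain ⟨_, ⟨U, hU, rfl⟩, hx₀U, -⟩ :=
    X.isBasis_affineOpens.exists_subset_of_mem_open (Set.mem_univ x₀) isOpen_univ
  have hx : x ∈ U := h.mem_open U.isOpen hx₀U
  letI := X.presheaf.algebra_section_stalk ⟨x, hx⟩
  letI := X.presheaf.algebra_section_stalk ⟨x₀, hx₀U⟩
  have loc := hU.isLocalization_stalk ⟨x, hx⟩
  have loc₀ := hU.isLocalization_stalk ⟨x₀, hx₀U⟩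
  constructor
  intro a ha
  obtain ⟨⟨b, t⟩, hbt⟩ := IsLocalization.surj (hU.primeIdealOf ⟨x, hx⟩).asIdeal.primeCompl a
  obtain ⟨n, hn⟩ := ha
  have h1 : algebraMap Γ(X, U) (X.presheaf.stalk x) (b ^ n) = 0 := by
    rw [map_pow, ← hbt, mul_pow, hn, zero_mul]
  obtain ⟨c, hc⟩ := (IsLocalization.map_eq_zero_iff
    (hU.primeIdealOf ⟨x, hx⟩).asIdeal.primeCompl (X.presheaf.stalk x) (b ^ n)).mp h1
  have h2 : IsNilpotent ((c : Γ(X, U)) * b) := by
    refine ⟨n + 1, ?_⟩
    have : ((c : Γ(X, U)) * b) ^ (n + 1) = ((c : Γ(X, U)) ^ n * b) * ((c : Γ(X, U)) * b ^ n) := by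
      ring
    rw [this, hc, mul_zero]
  have h3 : algebraMap Γ(X, U) (X.presheaf.stalk x₀) ((c : Γ(X, U)) * b) = 0 :=
    (h2.map _).eq_zero
  obtain ⟨d, hd⟩ := (IsLocalization.map_eq_zero_iff
    (hU.primeIdealOf ⟨x₀, hx₀U⟩).asIdeal.primeCompl (X.presheaf.stalk x₀) _).mp h3
  have hdx₀ : IsUnit (algebraMap Γ(X, U) (X.presheaf.stalk x₀) d) :=
    IsLocalization.map_units _ d
  have hdx : IsUnit (algebraMap Γ(X, U) (X.presheaf.stalk x) d) := by
    have hmem₀ : x₀ ∈ X.basicOpen (d : Γ(X, U)) :=
      (Scheme.mem_basicOpen X _ x₀ hx₀U).mpr hdx₀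
    have hmem : x ∈ X.basicOpen (d : Γ(X, U)) := h.mem_open (X.basicOpen _).isOpen hmem₀
    exact (Scheme.mem_basicOpen X _ x hx).mp hmem
  have hcx : IsUnit (algebraMap Γ(X, U) (X.presheaf.stalk x) c) := IsLocalization.map_units _ c
  have htx : IsUnit (algebraMap Γ(X, U) (X.presheaf.stalk x) t) := IsLocalization.map_units _ t
  have h4 : algebraMap Γ(X, U) (X.presheaf.stalk x) b = 0 := by
    have := congrArg (algebraMap Γ(X, U) (X.presheaf.stalk x)) hd
    rw [map_mul, map_mul, map_zero] at this
    exact hcx.mul_right_eq_zero.mp (hdx.mul_right_eq_zero.mp this)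
  exact htx.mul_left_eq_zero.mp (hbt.trans h4)

end generize

section main

variable {R : Type u} [CommRing R] [IsDomain R] [IsDiscreteValuationRing R] {X : Scheme.{u}}
  (f : X ⟶ Spec (CommRingCat.of R))

/-- For a closed map to the spectrum of a local ring, every point specializes into the closed
fibre. -/
theorem exists_specialization [UniversallyClosed f] (x : X) :
    ∃ x₀ : X, x ⤳ x₀ ∧ f.base x₀ = IsLocalRing.closedPoint R := by
  have hcl : IsClosed (f.base '' closure {x}) := f.isClosedMap _ isClosed_closure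
  have hne : (f.base '' closure {x}).Nonempty := ⟨f.base x, x, subset_closure rfl, rfl⟩
  have hmem : IsLocalRing.closedPoint R ∈ f.base '' closure {x} := by
    by_contra hnot
    let V : TopologicalSpace.Opens (PrimeSpectrum R) := ⟨(f.base '' closure {x})ᶜ, hcl.isOpen_compl⟩
    have hV : IsLocalRing.closedPoint R ∈ V := hnot
    rw [IsLocalRing.closedPoint_mem_iff] at hV
    obtain ⟨y, hy⟩ := hne
    have : y ∈ V := by rw [hV]; trivial
    exact this hy
  obtain ⟨x₀, hx₀, hfx₀⟩ := hmem
  exact ⟨x₀, specializes_iff_mem_closure.mpr hx₀, hfx₀⟩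

/-- Local rings at points of a reduced special fibre of a flat family over a DVR are reduced. -/
theorem isReduced_stalk_of_closedPoint [LocallyOfFiniteType f] [Flat f]
    (hred : IsReduced (f.fiber (IsLocalRing.closedPoint R))) (x : X)
    (hx : f.base x = IsLocalRing.closedPoint R) : _root_.IsReduced (X.presheaf.stalk x) := by
  haveI : IsReduced (f.fiber (f.base x)) := by rw [hx]; exact hred
  have hq := FibreRed.isReduced_fiberQuot f x
  haveI : IsLocallyNoetherian X := LocallyOfFiniteType.isLocallyNoetherian f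
  obtain ⟨π, hπ⟩ := IsDiscreteValuationRing.exists_irreducible R
  -- the local ring of the base
  let y : Spec (CommRingCat.of R) := f.base x
  let e := Spec.stalkIso (CommRingCat.of R) y
  let ε : Localization.AtPrime y.asIdeal ≃+* (Spec (CommRingCat.of R)).presheaf.stalk y :=
    e.symm.commRingCatIsoToRingEquiv
  let ϖ : (Spec (CommRingCat.of R)).presheaf.stalk y :=
    ε (algebraMap R (Localization.AtPrime y.asIdeal) π)
  have hyI : y.asIdeal = IsLocalRing.maximalIdeal R := by
    show (f.base x).asIdeal = _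
    rw [hx]; rfl
  have hmax : IsLocalRing.maximalIdeal ((Spec (CommRingCat.of R)).presheaf.stalk y) =
      Ideal.span {ϖ} := by
    have h1 : IsLocalRing.maximalIdeal ((Spec (CommRingCat.of R)).presheaf.stalk y) =
        Ideal.map ε (IsLocalRing.maximalIdeal (Localization.AtPrime y.asIdeal)) := by
      rw [← Ideal.comap_symm]
      ext a
      simp only [IsLocalRing.mem_maximalIdeal, mem_nonunits_iff, Ideal.mem_comap]
      rw [isUnit_map_iff]
    have hyπ : y.asIdeal = Ideal.span {π} := hyI.trans hπ.maximalIdeal_eq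
    have h2 : Ideal.map (algebraMap R (Localization.AtPrime y.asIdeal)) y.asIdeal =
        Ideal.span {algebraMap R (Localization.AtPrime y.asIdeal) π} := by
      refine (congrArg (Ideal.map (algebraMap R (Localization.AtPrime y.asIdeal))) hyπ).trans ?_
      rw [Ideal.map_span, Set.image_singleton]
    rw [h1, ← Localization.AtPrime.map_eq_maximalIdeal, h2, Ideal.map_span, Set.image_singleton]
  -- regularity
  have hreg0 : IsSMulRegular R π := (IsRegular.of_ne_zero hπ.ne_zero).left.isSMulRegular
  have hreg1 : IsSMulRegular (Localization.AtPrime y.asIdeal)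
      (algebraMap R (Localization.AtPrime y.asIdeal) π) := hreg0.of_flat
  have hreg2 : IsSMulRegular ((Spec (CommRingCat.of R)).presheaf.stalk y) ϖ := by
    intro a b hab
    have := congrArg ε.symm hab
    simp only [smul_eq_mul, map_mul, ϖ, RingEquiv.symm_apply_apply] at this
    exact ε.symm.injective (hreg1 this)
  algebraize [(f.stalkMap x).hom]
  have hflat : Module.Flat ((Spec (CommRingCat.of R)).presheaf.stalk (f.base x))
      (X.presheaf.stalk x) := by
    have := Flat.stalkMap f x
    rwa [RingHom.Flat] at this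
  have hreg3 : IsSMulRegular (X.presheaf.stalk x) ((f.stalkMap x).hom ϖ) :=
    IsSMulRegular.of_flat (S := X.presheaf.stalk x) hreg2
  have hfib : fiberIdeal f x = Ideal.span {(f.stalkMap x).hom ϖ} := by
    rw [fiberIdeal, hmax, Ideal.map_span, Set.image_singleton]
  rw [hfib] at hq
  refine isReduced_of_quotient ((f.stalkMap x).hom ϖ) ?_ hreg3 hq
  apply fiberIdeal_le_maximalIdeal f x
  rw [hfib]
  exact Ideal.mem_span_singleton_self _

/-- The generic point of the spectrum of a DVR is open. -/
theorem isOpenImmersion_generic :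
    IsOpenImmersion ((Spec (CommRingCat.of R)).fromSpecResidueField
      (⟨⊥, Ideal.isPrime_bot⟩ : PrimeSpectrum R)) := by
  obtain ⟨π, hπ⟩ := IsDiscreteValuationRing.exists_irreducible R
  have hloc : IsLocalization.Away π (⊥ : Ideal R).ResidueField :=
    isLocalization_away_of_dvr R _ π hπ
  have h1 : IsOpenImmersion (Spec.map (CommRingCat.ofHom
      (algebraMap R (⊥ : Ideal R).ResidueField))) := IsOpenImmersion.of_isLocalization π
  rw [← Scheme.Spec.map_residueFieldIso_inv_eq_fromSpecResidueField]
  exact inferInstanceAs (IsOpenImmersion (Spec.map _ ≫ Spec.map (CommRingCat.ofHom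
      (algebraMap R (⊥ : Ideal R).ResidueField))))

theorem isReduced_total_and_generic [IsProper f] [Flat f]
    (hred : IsReduced (f.fiber (IsLocalRing.closedPoint R))) :
    IsReduced X ∧ IsReduced (f.fiber (⟨⊥, Ideal.isPrime_bot⟩ : PrimeSpectrum R)) := by
  have hX : IsReduced X := by
    have : ∀ x : X, _root_.IsReduced (X.presheaf.stalk x) := by
      intro x
      obtain ⟨x₀, hsp, hx₀⟩ := exists_specialization f x
      exact isReduced_stalk_of_specializes hsp (isReduced_stalk_of_closedPoint f hred x₀ hx₀)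
    exact isReduced_of_isReduced_stalk X
  refine ⟨hX, ?_⟩
  have : IsOpenImmersion (f.fiberι (⟨⊥, Ideal.isPrime_bot⟩ : PrimeSpectrum R)) := by
    unfold Scheme.Hom.fiberι
    exact MorphismProperty.pullback_fst (P := @IsOpenImmersion) _ _
      (isOpenImmersion_generic (R := R))
  exact isReduced_of_isOpenImmersion (f.fiberι (⟨⊥, Ideal.isPrime_bot⟩ : PrimeSpectrum R))

end main

end Groth.Agent.Lib.Helper1.DVRFib
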