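import Mathlib
import Groth.Agent.Lib.Helper1.DVRFib

/-!
# Flat schemes over a DVR with reduced special fibre: connectedness of the generic fibre
-/

set_option autoImplicit false
open CategoryTheory CategoryTheory.Limits AlgebraicGeometry TopologicalSpace
universe u

namespace Groth.Agent.Lib.Helper1.DVRConn
open Groth.Agent.Lib.Helper6 Groth.Agent.Lib.Helper1

section alg

/-- Lifting idempotents from `C[1/p]` to `C` when `p` is regular and `C/p` is "reduced". -/
theorem exists_lift_idempotent {C S : Type*} [CommRing C] [CommRing S] [Algebra C S] (p : C)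
    [IsLocalization.Away p S] (hreg : IsSMulRegular C p)
    (hsq : ∀ c : C, c * c ∈ Ideal.span {p} → c ∈ Ideal.span {p})
    (e : S) (he : IsIdempotentElem e) : ∃ c : C, algebraMap C S c = e := by
  have hinj : Function.Injective (algebraMap C S) := by
    intro a b hab
    obtain ⟨⟨_, k, rfl⟩, hk⟩ := IsLocalization.exists_of_eq (M := Submonoid.powers p) hab
    exact (hreg.pow k) hk
  have hunit : IsUnit (algebraMap C S p) :=
    IsLocalization.map_units S (⟨p, Submonoid.mem_powers p⟩ : Submonoid.powers p)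
  have key : ∀ (n : ℕ) (c : C), e * algebraMap C S (p ^ n) = algebraMap C S c →
      ∃ c' : C, algebraMap C S c' = e := by
    intro n
    induction n with
    | zero =>
      intro c hc
      exact ⟨c, by rw [← hc, pow_zero, map_one, mul_one]⟩
    | succ n ih =>
      intro c hc
      have h1 : algebraMap C S (c * c) = algebraMap C S (c * p ^ (n + 1)) := by
        rw [map_mul, map_mul, ← hc]
        have : e * algebraMap C S (p ^ (n + 1)) * (e * algebraMap C S (p ^ (n + 1))) =
            (e * e) * algebraMap C S (p ^ (n + 1)) * algebraMap C S (p ^ (n + 1)) := by ring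
        rw [this, he.eq]
      have h2 : c * c = c * p ^ (n + 1) := hinj h1
      have h3 : c ∈ Ideal.span {p} := by
        apply hsq
        rw [h2, pow_succ, ← mul_assoc]
        exact Ideal.mul_mem_left _ _ (Ideal.mem_span_singleton_self p)
      obtain ⟨c', rfl⟩ := Ideal.mem_span_singleton'.mp h3
      apply ih c'
      have h4 : e * algebraMap C S (p ^ n) * algebraMap C S p = algebraMap C S c' * algebraMap C S p := by
        rw [← map_mul (algebraMap C S) c' p, ← hc, pow_succ, map_mul, mul_assoc]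
      exact hunit.mul_left_injective h4
  obtain ⟨⟨c, ⟨_, n, rfl⟩⟩, hc⟩ := IsLocalization.surj (Submonoid.powers p) e
  exact key n c hc

end alg

variable {R : Type u} [CommRing R] [IsDomain R] [IsDiscreteValuationRing R] {X : Scheme.{u}}
  (f : X ⟶ Spec (CommRingCat.of R))

theorem not_mem_iff_eq_bot {π : R} (hπ : Irreducible π) (y : PrimeSpectrum R) :
    π ∉ y.asIdeal ↔ y = ⟨⊥, Ideal.isPrime_bot⟩ := by
  constructor
  · intro h
    by_contra hne
    have hne' : y.asIdeal ≠ ⊥ := fun h0 => hne (PrimeSpectrum.ext h0)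
    have hmax : y.asIdeal.IsMaximal := y.isPrime.isMaximal hne'
    have : y.asIdeal = IsLocalRing.maximalIdeal R := IsLocalRing.eq_maximalIdeal hmax
    rw [this, hπ.maximalIdeal_eq] at h
    exact h (Ideal.mem_span_singleton_self π)
  · rintro rfl
    show π ∉ (⊥ : Ideal R)
    rw [Ideal.mem_bot]; exact hπ.ne_zero

theorem eq_closedPoint_of_ne (y : PrimeSpectrum R)
    (h : y ≠ ⟨⊥, Ideal.isPrime_bot⟩) : y = IsLocalRing.closedPoint R := by
  have hne' : y.asIdeal ≠ ⊥ := fun h0 => h (PrimeSpectrum.ext h0)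
  have hmax : y.asIdeal.IsMaximal := y.isPrime.isMaximal hne'
  exact PrimeSpectrum.ext (IsLocalRing.eq_maximalIdeal hmax)

/-- The image of `π` in the sections over `V`. -/
noncomputable def piV (π : R) (V : X.Opens) : Γ(X, V) :=
  (X.presheaf.map (homOfLE (le_top : V ≤ f ⁻¹ᵁ ⊤)).op).hom
    ((f.app ⊤).hom ((Scheme.ΓSpecIso (CommRingCat.of R)).inv.hom π))

theorem piV_eq_appLE (π : R) (V : X.Opens) :
    piV f π V = (f.appLE ⊤ V le_top).hom ((Scheme.ΓSpecIso (CommRingCat.of R)).inv.hom π) := rfl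

theorem mem_basicOpen_piV {π : R} (hπ : Irreducible π) (V : X.Opens) (z : X) :
    z ∈ X.basicOpen (piV f π V) ↔
      z ∈ V ∧ f.base z = (⟨⊥, Ideal.isPrime_bot⟩ : PrimeSpectrum R) := by
  have h1 : X.basicOpen (piV f π V) = V ⊓ f ⁻¹ᵁ (PrimeSpectrum.basicOpen π) := by
    rw [piV, Scheme.basicOpen_res]
    congr 1
    rw [← basicOpen_eq_of_affine (R := CommRingCat.of R) π]
    exact (Scheme.preimage_basicOpen f _).symm
  rw [h1]
  constructor
  · rintro ⟨hzV, hz⟩
    exact ⟨hzV, (not_mem_iff_eq_bot hπ _).mp hz⟩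
  · rintro ⟨hzV, hz⟩
    exact ⟨hzV, (not_mem_iff_eq_bot hπ _).mpr hz⟩

theorem isSMulRegular_piV [Flat f] {π : R} (hπ : π ≠ 0) {V : X.Opens} (hV : IsAffineOpen V) :
    IsSMulRegular Γ(X, V) (piV f π V) := by
  have hfl := Scheme.Hom.flat_appLE f (isAffineOpen_top _) hV le_top
  let e : Γ(Spec (CommRingCat.of R), ⊤) ≃+* R :=
    (Scheme.ΓSpecIso (CommRingCat.of R)).commRingCatIsoToRingEquiv
  have hs : IsSMulRegular Γ(Spec (CommRingCat.of R), ⊤)
      ((Scheme.ΓSpecIso (CommRingCat.of R)).inv.hom π) := by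
    intro a b hab
    apply e.injective
    have := congrArg e hab
    simp only [smul_eq_mul, map_mul] at this
    have he : e ((Scheme.ΓSpecIso (CommRingCat.of R)).inv.hom π) = π :=
      e.apply_symm_apply π
    rw [he] at this
    exact mul_left_cancel₀ hπ this
  algebraize [(f.appLE ⊤ V le_top).hom]
  rw [piV_eq_appLE]
  exact IsSMulRegular.of_flat (S := Γ(X, V)) hs

theorem germ_piV (π : R) (V : X.Opens) (z : X) (hz : z ∈ V) :
    X.presheaf.germ V z hz (piV f π V) =
      (f.stalkMap z).hom ((Spec (CommRingCat.of R)).presheaf.germ ⊤ (f.base z) trivial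
        ((Scheme.ΓSpecIso (CommRingCat.of R)).inv.hom π)) := by
  rw [piV]
  have h1 := X.presheaf.germ_res_apply (homOfLE (le_top : V ≤ f ⁻¹ᵁ ⊤)) z hz
    ((f.app ⊤).hom ((Scheme.ΓSpecIso (CommRingCat.of R)).inv.hom π))
  have h2 := Scheme.Hom.germ_stalkMap_apply f ⊤ z trivial
    ((Scheme.ΓSpecIso (CommRingCat.of R)).inv.hom π)
  exact h1.trans h2.symm

theorem germ_top_eq (y : PrimeSpectrum R) (π : R) :
    (Spec (CommRingCat.of R)).presheaf.germ ⊤ y trivial
        ((Scheme.ΓSpecIso (CommRingCat.of R)).inv.hom π) =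
      (Spec.stalkIso (CommRingCat.of R) y).inv.hom
        (algebraMap R (Localization.AtPrime y.asIdeal) π) := by
  have := Spec.algebraMap_stalkIso_inv (R := CommRingCat.of R) y
  exact (ConcreteCategory.congr_hom this π).symm

theorem fiberIdeal_eq_span {π : R} (hπ : Irreducible π) (z : X)
    (hz : f.base z = IsLocalRing.closedPoint R) :
    fiberIdeal f z = Ideal.span {(f.stalkMap z).hom
      ((Spec (CommRingCat.of R)).presheaf.germ ⊤ (f.base z) trivial
        ((Scheme.ΓSpecIso (CommRingCat.of R)).inv.hom π))} := by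
  let y : Spec (CommRingCat.of R) := f.base z
  let e := Spec.stalkIso (CommRingCat.of R) y
  let ε : Localization.AtPrime y.asIdeal ≃+* (Spec (CommRingCat.of R)).presheaf.stalk y :=
    e.symm.commRingCatIsoToRingEquiv
  have hyI : y.asIdeal = IsLocalRing.maximalIdeal R := by
    show (f.base z).asIdeal = _
    rw [hz]; rfl
  have hmax : IsLocalRing.maximalIdeal ((Spec (CommRingCat.of R)).presheaf.stalk y) =
      Ideal.span {ε (algebraMap R (Localization.AtPrime y.asIdeal) π)} := by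
    have h1 : IsLocalRing.maximalIdeal ((Spec (CommRingCat.of R)).presheaf.stalk y) =
        Ideal.map ε (IsLocalRing.maximalIdeal (Localization.AtPrime y.asIdeal)) := by
      rw [← Ideal.comap_symm]
      ext a
      simp only [IsLocalRing.mem_maximalIdeal, mem_nonunits_iff, Ideal.mem_comap]
      rw [isUnit_map_iff]
    have hyπ : y.asIdeal = Ideal.span {π} := hyI.trans hπ.maximalIdeal_eq
    have h2 : Ideal.map (algebraMap R (Localization.AtPrime y.asIdeal)) y.asIdeal =
        Ideal.span {algebraMap R (Localization.AtPrime y.asIdeal) π} := by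
      refine (congrArg (Ideal.map (algebraMap R (Localization.AtPrime y.asIdeal))) hyπ).trans ?_
      rw [Ideal.map_span, Set.image_singleton]
    rw [h1, ← Localization.AtPrime.map_eq_maximalIdeal, h2, Ideal.map_span, Set.image_singleton]
  rw [fiberIdeal, germ_top_eq]
  show Ideal.map (f.stalkMap z).hom
    (IsLocalRing.maximalIdeal ((Spec (CommRingCat.of R)).presheaf.stalk y)) = _
  rw [hmax, Ideal.map_span, Set.image_singleton]
  rfl

/-- The key "reducedness modulo `π`" property on an affine open. -/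
theorem sq_mem_span [Flat f] {π : R} (hπ : Irreducible π)
    (hred : IsReduced (f.fiber (IsLocalRing.closedPoint R)))
    {V : X.Opens} (hV : IsAffineOpen V) (c : Γ(X, V))
    (hc : c * c ∈ Ideal.span {piV f π V}) : c ∈ Ideal.span {piV f π V} := by
  rw [hV.mem_ideal_iff]
  intro z hzV
  rw [Ideal.map_span, Set.image_singleton]
  have hc' : X.presheaf.germ V z hzV c * X.presheaf.germ V z hzV c ∈
      Ideal.span {X.presheaf.germ V z hzV (piV f π V)} := by
    have := Ideal.mem_map_of_mem (X.presheaf.germ V z hzV).hom hc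
    rwa [Ideal.map_span, Set.image_singleton, map_mul] at this
  by_cases hη : f.base z = (⟨⊥, Ideal.isPrime_bot⟩ : PrimeSpectrum R)
  · have hzb : z ∈ X.basicOpen (piV f π V) := (mem_basicOpen_piV f hπ V z).mpr ⟨hzV, hη⟩
    have hu : IsUnit (X.presheaf.germ V z hzV (piV f π V)) :=
      (Scheme.mem_basicOpen X _ z hzV).mp hzb
    rw [Ideal.span_singleton_eq_top.mpr hu]
    trivial
  · have hz : f.base z = IsLocalRing.closedPoint R := eq_closedPoint_of_ne _ hη
    haveI : IsReduced (f.fiber (f.base z)) := by rw [hz]; exact hred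
    have hq := FibreRed.isReduced_fiberQuot f z
    have hfib := fiberIdeal_eq_span f hπ z hz
    rw [germ_piV] at hc' ⊢
    rw [← hfib] at hc' ⊢
    have h0 : (Ideal.Quotient.mk (fiberIdeal f z)) (X.presheaf.germ V z hzV c) ^ 2 = 0 := by
      rw [pow_two, ← map_mul, Ideal.Quotient.eq_zero_iff_mem]
      exact hc'
    have h1 := pow_eq_zero_iff (two_ne_zero) |>.mp h0
    exact Ideal.Quotient.eq_zero_iff_mem.mp h1

/-- Density of the generic fibre. -/
theorem dense_generic [Flat f] {π : R} (hπ : Irreducible π) (x : X) (N : X.Opens) (hx : x ∈ N) :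
    ∃ z ∈ N, f.base z = (⟨⊥, Ideal.isPrime_bot⟩ : PrimeSpectrum R) := by
  obtain ⟨_, ⟨V, hV, rfl⟩, hxV, hVN⟩ :=
    X.isBasis_affineOpens.exists_subset_of_mem_open hx N.isOpen
  by_contra hno
  push_neg at hno
  have hloc := hV.isLocalization_basicOpen (piV f π V)
  have h01 : algebraMap Γ(X, V) Γ(X, X.basicOpen (piV f π V)) 1 =
      algebraMap Γ(X, V) Γ(X, X.basicOpen (piV f π V)) 0 := by
    apply TopCat.Presheaf.section_ext X.sheaf
    intro z hz
    obtain ⟨hzV, hzη⟩ := (mem_basicOpen_piV f hπ V z).mp hz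
    exact (hno z (hVN hzV) hzη).elim
  obtain ⟨⟨_, n, rfl⟩, hc⟩ := IsLocalization.exists_of_eq (M := Submonoid.powers (piV f π V)) h01
  have hreg := (isSMulRegular_piV f hπ.ne_zero hV).pow n
  have h10 : (1 : Γ(X, V)) = 0 := hreg hc
  have h2 : X.basicOpen (1 : Γ(X, V)) = X.basicOpen (0 : Γ(X, V)) := by rw [h10]
  rw [Scheme.basicOpen_one, Scheme.basicOpen_zero] at h2
  have : x ∈ (⊥ : X.Opens) := h2 ▸ hxV
  exact this

/-- Local separation. -/
theorem local_sep [Flat f] {π : R} (hπ : Irreducible π)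
    (hred : IsReduced (f.fiber (IsLocalRing.closedPoint R))) (u v : X.Opens)
    (hcov : ∀ z, f.base z = (⟨⊥, Ideal.isPrime_bot⟩ : PrimeSpectrum R) → z ∈ u ∨ z ∈ v)
    (hdisj : ∀ z, f.base z = (⟨⊥, Ideal.isPrime_bot⟩ : PrimeSpectrum R) → z ∈ u → z ∈ v → False)
    (x : X) :
    ∃ N : X.Opens, x ∈ N ∧
      ((∀ z ∈ N, f.base z = (⟨⊥, Ideal.isPrime_bot⟩ : PrimeSpectrum R) → z ∉ v) ∨
        (∀ z ∈ N, f.base z = (⟨⊥, Ideal.isPrime_bot⟩ : PrimeSpectrum R) → z ∉ u)) := by
  by_cases hη : f.base x = (⟨⊥, Ideal.isPrime_bot⟩ : PrimeSpectrum R)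
  · rcases hcov x hη with h | h
    · exact ⟨u, h, Or.inl fun z hz hzη hzv => hdisj z hzη hz hzv⟩
    · exact ⟨v, h, Or.inr fun z hz hzη hzu => hdisj z hzη hzu hz⟩
  obtain ⟨_, ⟨V, hV, rfl⟩, hxV, -⟩ :=
    X.isBasis_affineOpens.exists_subset_of_mem_open (Set.mem_univ x) isOpen_univ
  set p := piV f π V with hp
  have hD : IsAffineOpen (X.basicOpen p) := hV.basicOpen p
  have hDmem : ∀ z, z ∈ X.basicOpen p ↔
      z ∈ V ∧ f.base z = (⟨⊥, Ideal.isPrime_bot⟩ : PrimeSpectrum R) :=
    fun z => mem_basicOpen_piV f hπ V z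
  -- the clopen subset of `Spec Γ(X, D)`
  have hfs : ∀ q, hD.fromSpec.base q ∈ X.basicOpen p := fun q => by
    have : hD.fromSpec.base q ∈ Set.range hD.fromSpec.base := ⟨q, rfl⟩
    rw [hD.range_fromSpec] at this
    exact this
  have hclopen : IsClopen (hD.fromSpec.base ⁻¹' (u : Set X)) := by
    refine ⟨?_, u.isOpen.preimage hD.fromSpec.continuous⟩
    have : (hD.fromSpec.base ⁻¹' (u : Set X))ᶜ = hD.fromSpec.base ⁻¹' (v : Set X) := by
      ext q
      simp only [Set.mem_compl_iff, Set.mem_preimage, SetLike.mem_coe]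
      have hq := ((hDmem _).mp (hfs q)).2
      constructor
      · intro hnu
        rcases hcov _ hq with h | h
        · exact (hnu h).elim
        · exact h
      · intro hv hu'
        exact hdisj _ hq hu' hv
    rw [← isOpen_compl_iff, this]
    exact v.isOpen.preimage hD.fromSpec.continuous
  obtain ⟨e, he, hebo⟩ := PrimeSpectrum.exists_idempotent_basicOpen_eq_of_isClopen hclopen
  have hbo_u : ∀ z, z ∈ X.basicOpen e → z ∈ u := by
    intro z hz
    rw [← hD.fromSpec_image_basicOpen] at hz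
    obtain ⟨q, hq, rfl⟩ := hz
    have : q ∈ hD.fromSpec.base ⁻¹' (u : Set X) := by rw [hebo]; exact hq
    exact this
  have hu_bo : ∀ z, z ∈ X.basicOpen p → z ∈ u → z ∈ X.basicOpen e := by
    intro z hzD hzu
    have : z ∈ Set.range hD.fromSpec.base := by rw [hD.range_fromSpec]; exact hzD
    obtain ⟨q, rfl⟩ := this
    rw [← hD.fromSpec_image_basicOpen]
    refine ⟨q, ?_, rfl⟩
    have : q ∈ hD.fromSpec.base ⁻¹' (u : Set X) := hzu
    rw [hebo] at this
    exact this
  -- lift the idempotent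
  have hloc := hV.isLocalization_basicOpen p
  obtain ⟨c, hc⟩ := exists_lift_idempotent p (isSMulRegular_piV f hπ.ne_zero hV)
    (fun c hc => sq_mem_span f hπ hred hV c hc) e he
  have hgerm : ∀ z (hzD : z ∈ X.basicOpen p),
      X.presheaf.germ (X.basicOpen p) z hzD e = X.presheaf.germ V z (X.basicOpen_le p hzD) c := by
    intro z hzD
    rw [← hc]
    exact X.presheaf.germ_res_apply (homOfLE (X.basicOpen_le p)) z hzD c
  have hx12 : x ∈ X.basicOpen c ∨ x ∈ X.basicOpen (1 - c) := by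
    rw [Scheme.mem_basicOpen X _ x hxV, Scheme.mem_basicOpen X _ x hxV, map_sub, map_one]
    exact IsLocalRing.isUnit_or_isUnit_one_sub_self _
  rcases hx12 with hx1 | hx2
  · refine ⟨X.basicOpen c, hx1, Or.inl ?_⟩
    intro z hz hzη hzv
    have hzV : z ∈ V := X.basicOpen_le c hz
    have hzD : z ∈ X.basicOpen p := (hDmem z).mpr ⟨hzV, hzη⟩
    have h1 : IsUnit (X.presheaf.germ V z hzV c) := (Scheme.mem_basicOpen X _ z hzV).mp hz
    have h2 : z ∈ X.basicOpen e := by
      rw [Scheme.mem_basicOpen X _ z hzD, hgerm z hzD]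
      exact h1
    exact hdisj z hzη (hbo_u z h2) hzv
  · refine ⟨X.basicOpen (1 - c), hx2, Or.inr ?_⟩
    intro z hz hzη hzu
    have hzV : z ∈ V := X.basicOpen_le _ hz
    have hzD : z ∈ X.basicOpen p := (hDmem z).mpr ⟨hzV, hzη⟩
    have h1 : IsUnit (X.presheaf.germ V z hzV (1 - c)) := (Scheme.mem_basicOpen X _ z hzV).mp hz
    have h2 : z ∈ X.basicOpen e := hu_bo z hzD hzu
    rw [Scheme.mem_basicOpen X _ z hzD, hgerm z hzD] at h2
    -- germ c is a unit idempotent, hence 1
    have hidem : X.presheaf.germ V z hzV c * X.presheaf.germ V z hzV c =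
        X.presheaf.germ V z hzV c := by
      rw [← hgerm z hzD, ← map_mul, he.eq]
    have hone : X.presheaf.germ V z hzV c = 1 := by
      have := h2.mul_left_cancel (a := X.presheaf.germ V z hzV c) (b := X.presheaf.germ V z hzV c)
        (c := 1) (by rw [hidem, mul_one])
      exact this
    rw [map_sub, map_one, hone, sub_self] at h1
    exact not_isUnit_zero h1

theorem connectedSpace_generic [Flat f] [ConnectedSpace X]
    (hred : IsReduced (f.fiber (IsLocalRing.closedPoint R))) :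
    ConnectedSpace ↑(f.fiber (⟨⊥, Ideal.isPrime_bot⟩ : PrimeSpectrum R)) := by
  obtain ⟨π, hπ⟩ := IsDiscreteValuationRing.exists_irreducible R
  have hι : IsOpenImmersion (f.fiberι (⟨⊥, Ideal.isPrime_bot⟩ : PrimeSpectrum R)) := by
    unfold Scheme.Hom.fiberι
    exact MorphismProperty.pullback_fst (P := @IsOpenImmersion) _ _
      (DVRFib.isOpenImmersion_generic (R := R))
  have hrange : Set.range (f.fiberι (⟨⊥, Ideal.isPrime_bot⟩ : PrimeSpectrum R)).base =
      f.base ⁻¹' {(⟨⊥, Ideal.isPrime_bot⟩ : PrimeSpectrum R)} :=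
    Scheme.Hom.range_fiberι f _
  have hdense := dense_generic f hπ
  have hsep := local_sep f hπ hred
  have hW : _root_.IsPreconnected (f.base ⁻¹' {(⟨⊥, Ideal.isPrime_bot⟩ : PrimeSpectrum R)}) := by
    intro u v hu hv hcov hnu hnv
    obtain ⟨a, haW, hau⟩ := hnu
    obtain ⟨b, hbW, hbv⟩ := hnv
    by_contra hempty
    let u' : X.Opens := ⟨u, hu⟩
    let v' : X.Opens := ⟨v, hv⟩
    have hcov' : ∀ z, f.base z = (⟨⊥, Ideal.isPrime_bot⟩ : PrimeSpectrum R) → z ∈ u' ∨ z ∈ v' :=
      fun z hz => hcov hz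
    have hdisj' : ∀ z, f.base z = (⟨⊥, Ideal.isPrime_bot⟩ : PrimeSpectrum R) →
        z ∈ u' → z ∈ v' → False := fun z hz h1 h2 => hempty ⟨z, hz, h1, h2⟩
    let A₁ : Set X := {x | ∃ N : X.Opens, x ∈ N ∧
      ∀ z ∈ N, f.base z = (⟨⊥, Ideal.isPrime_bot⟩ : PrimeSpectrum R) → z ∉ v'}
    let A₂ : Set X := {x | ∃ N : X.Opens, x ∈ N ∧
      ∀ z ∈ N, f.base z = (⟨⊥, Ideal.isPrime_bot⟩ : PrimeSpectrum R) → z ∉ u'}
    have hA₁ : IsOpen A₁ := by
      rw [isOpen_iff_forall_mem_open]
      rintro x ⟨N, hxN, hN⟩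
      exact ⟨N, fun y hy => ⟨N, hy, hN⟩, N.isOpen, hxN⟩
    have hA₂ : IsOpen A₂ := by
      rw [isOpen_iff_forall_mem_open]
      rintro x ⟨N, hxN, hN⟩
      exact ⟨N, fun y hy => ⟨N, hy, hN⟩, N.isOpen, hxN⟩
    have hcovA : Set.univ ⊆ A₁ ∪ A₂ := by
      intro x _
      obtain ⟨N, hxN, h | h⟩ := hsep u' v' hcov' hdisj' x
      · exact Or.inl ⟨N, hxN, h⟩
      · exact Or.inr ⟨N, hxN, h⟩
    have ha₁ : a ∈ A₁ := ⟨u', hau, fun z hz hzη hzv => hdisj' z hzη hz hzv⟩
    have hb₂ : b ∈ A₂ := ⟨v', hbv, fun z hz hzη hzu => hdisj' z hzη hzu hz⟩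
    obtain ⟨x, -, ⟨N₁, hx₁, h₁⟩, ⟨N₂, hx₂, h₂⟩⟩ :=
      isPreconnected_univ A₁ A₂ hA₁ hA₂ hcovA ⟨a, trivial, ha₁⟩ ⟨b, trivial, hb₂⟩
    obtain ⟨z, hzN, hzη⟩ := hdense x (N₁ ⊓ N₂) ⟨hx₁, hx₂⟩
    rcases hcov' z hzη with h | h
    · exact h₂ z hzN.2 hzη h
    · exact h₁ z hzN.1 hzη h
  obtain ⟨x₀⟩ := (inferInstance : Nonempty X)
  obtain ⟨z, -, hz⟩ := hdense x₀ ⊤ trivial
  have hzr : z ∈ Set.range (f.fiberι (⟨⊥, Ideal.isPrime_bot⟩ : PrimeSpectrum R)).base := by
    rw [hrange]; exact hz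
  obtain ⟨z', -⟩ := hzr
  have hpre : PreconnectedSpace ↑(f.fiber (⟨⊥, Ideal.isPrime_bot⟩ : PrimeSpectrum R)) := by
    rw [← hrange, ← Set.image_univ] at hW
    exact ⟨((f.fiberι (⟨⊥, Ideal.isPrime_bot⟩ :
      PrimeSpectrum R)).isOpenEmbedding.isInducing.isPreconnected_image).mp hW⟩
  exact { toPreconnectedSpace := hpre, toNonempty := ⟨z'⟩ }

end Groth.Agent.Lib.Helper1.DVRConn
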