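import Mathlib
import Groth.Agent.Lib.Helper1.DVRConn

/-!
# Flatness over a DVR from a reduced special fibre and a dense generic fibre
-/

set_option autoImplicit false
set_option linter.style.haveILetI false
open CategoryTheory CategoryTheory.Limits AlgebraicGeometry TopologicalSpace
universe u

namespace Groth.Agent.Lib.Helper1.DVRFlat
open Groth.Agent.Lib.Helper6 Groth.Agent.Lib.Helper1 Groth.Agent.Lib.Helper1.DVRConn

section alg

/-- `p` is a nonzerodivisor if `A` is Noetherian, `p`-power torsion is nilpotent and nilpotents are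
multiples of `p`. -/
theorem isSMulRegular_of_nilpotent {A : Type*} [CommRing A] [IsNoetherianRing A] (p : A)
    (h2 : ∀ (k : ℕ) (a : A), p ^ k * a = 0 → IsNilpotent a)
    (h3 : ∀ a : A, IsNilpotent a → a ∈ Ideal.span {p}) : IsSMulRegular A p := by
  let T : Ideal A :=
    { carrier := {a | ∃ k : ℕ, p ^ k * a = 0}
      add_mem' := by
        rintro a b ⟨k, hk⟩ ⟨l, hl⟩
        refine ⟨k + l, ?_⟩
        have : p ^ (k + l) * (a + b) = p ^ l * (p ^ k * a) + p ^ k * (p ^ l * b) := by ring
        rw [this, hk, hl]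
        simp
      zero_mem' := ⟨0, by simp⟩
      smul_mem' := by
        rintro c a ⟨k, hk⟩
        refine ⟨k, ?_⟩
        rw [smul_eq_mul, mul_left_comm, hk, mul_zero] }
  have hTmem : ∀ a, a ∈ T ↔ ∃ k : ℕ, p ^ k * a = 0 := fun a => Iff.rfl
  have hle : T ≤ Ideal.span {p} • T := by
    intro t ht
    obtain ⟨k, hk⟩ := (hTmem t).1 ht
    obtain ⟨b, rfl⟩ := Ideal.mem_span_singleton'.1 (h3 t (h2 k t hk))
    rw [mul_comm]
    refine Submodule.smul_mem_smul (Ideal.mem_span_singleton_self p) ?_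
    refine (hTmem b).2 ⟨k + 1, ?_⟩
    rw [pow_succ, mul_assoc, mul_comm p b]
    exact hk
  obtain ⟨r, hr1, hr⟩ := Submodule.exists_sub_one_mem_and_smul_eq_zero_of_fg_of_le_smul
    (Ideal.span {p}) T (IsNoetherian.noetherian T) hle
  obtain ⟨c, hc⟩ := Ideal.mem_span_singleton'.1 hr1
  have hT0 : ∀ t ∈ T, t = 0 := by
    intro t ht
    obtain ⟨k, hk⟩ := (hTmem t).1 ht
    have h1 : t = (-(c * p)) * t := by
      have := hr t ht
      rw [smul_eq_mul] at this
      have hr' : r = 1 + c * p := by rw [hc]; ring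
      rw [hr'] at this
      linear_combination this
    have h2 : ∀ n : ℕ, t = (-(c * p)) ^ n * t := by
      intro n
      induction n with
      | zero => simp
      | succ n ih =>
        rw [pow_succ, mul_assoc, ← h1]
        exact ih
    rw [h2 k, neg_pow, mul_pow, mul_assoc, mul_assoc, hk, mul_zero, mul_zero]
  intro a b hab
  have : a - b ∈ T := (hTmem _).2 ⟨1, by
    rw [pow_one, mul_sub]
    exact sub_eq_zero.2 hab⟩
  exact sub_eq_zero.1 (hT0 _ this)

end alg

variable {R : Type u} [CommRing R] [IsDomain R] [IsDiscreteValuationRing R] {X : Scheme.{u}}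
  (f : X ⟶ Spec (CommRingCat.of R))

/-- nilpotent sections over an affine open are multiples of `π` when the special fibre is reduced -/
theorem mem_span_of_isNilpotent {π : R} (hπ : Irreducible π)
    (hred : IsReduced (f.fiber (IsLocalRing.closedPoint R)))
    {V : X.Opens} (hV : IsAffineOpen V) (c : Γ(X, V)) (hc : IsNilpotent c) :
    c ∈ Ideal.span {piV f π V} := by
  rw [hV.mem_ideal_iff]
  intro z hzV
  rw [Ideal.map_span, Set.image_singleton]
  have hc' : IsNilpotent (X.presheaf.germ V z hzV c) := hc.map (X.presheaf.germ V z hzV).hom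
  by_cases hη : f.base z = (⟨⊥, Ideal.isPrime_bot⟩ : PrimeSpectrum R)
  · have hzb : z ∈ X.basicOpen (piV f π V) := (mem_basicOpen_piV f hπ V z).mpr ⟨hzV, hη⟩
    have hu : IsUnit (X.presheaf.germ V z hzV (piV f π V)) :=
      (Scheme.mem_basicOpen X _ z hzV).mp hzb
    rw [Ideal.span_singleton_eq_top.mpr hu]
    trivial
  · have hz : f.base z = IsLocalRing.closedPoint R := eq_closedPoint_of_ne _ hη
    haveI : IsReduced (f.fiber (f.base z)) := by rw [hz]; exact hred
    have hq := FibreRed.isReduced_fiberQuot f z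
    have hfib := fiberIdeal_eq_span f hπ z hz
    rw [germ_piV, ← hfib]
    have h0 : IsNilpotent ((Ideal.Quotient.mk (fiberIdeal f z)) (X.presheaf.germ V z hzV c)) :=
      hc'.map _
    exact Ideal.Quotient.eq_zero_iff_mem.mp h0.eq_zero

/-- `π`-power torsion sections over an affine open are nilpotent when the generic fibre is dense -/
theorem isNilpotent_of_pow_mul_eq_zero {π : R} (hπ : Irreducible π)
    (hdense : Dense (f.base ⁻¹' {genericPoint (Spec (CommRingCat.of R))}))
    {V : X.Opens} (hV : IsAffineOpen V) (k : ℕ) (a : Γ(X, V)) (h : piV f π V ^ k * a = 0) :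
    IsNilpotent a := by
  rw [Scheme.isNilpotent_iff_basicOpen_eq_bot_of_isCompact hV.isCompact]
  by_contra hne
  obtain ⟨z₀, hz₀⟩ : (X.basicOpen a : Set X).Nonempty := by
    rw [Set.nonempty_iff_ne_empty]
    intro h0
    exact hne (TopologicalSpace.Opens.ext h0)
  obtain ⟨z, hz1, hz2⟩ := hdense.inter_open_nonempty _ (X.basicOpen a).2 ⟨z₀, hz₀⟩
  have hzV : z ∈ V := X.basicOpen_le a hz1
  have hz3 : f.base z = (⟨⊥, Ideal.isPrime_bot⟩ : PrimeSpectrum R) := by
    have : f.base z = genericPoint (Spec (CommRingCat.of R)) := hz2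
    rw [this, genericPoint_eq_bot_of_affine]
    rfl
  have hzp : z ∈ X.basicOpen (piV f π V) := (mem_basicOpen_piV f hπ V z).mpr ⟨hzV, hz3⟩
  have hu1 : IsUnit (X.presheaf.germ V z hzV (piV f π V)) :=
    (Scheme.mem_basicOpen X _ z hzV).mp hzp
  have hu2 : IsUnit (X.presheaf.germ V z hzV a) := (Scheme.mem_basicOpen X _ z hzV).mp hz1
  have hu3 : IsUnit (X.presheaf.germ V z hzV (piV f π V ^ k * a)) := by
    rw [map_mul, map_pow]
    exact (hu1.pow k).mul hu2
  rw [h, map_zero] at hu3
  exact not_isUnit_zero hu3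

theorem flat_of_reduced_of_dense [IsLocallyNoetherian X]
    (hred : IsReduced (f.fiber (IsLocalRing.closedPoint R)))
    (hdense : Dense (f.base ⁻¹' {genericPoint (Spec (CommRingCat.of R))})) : Flat f := by
  obtain ⟨π, hπ⟩ := IsDiscreteValuationRing.exists_irreducible R
  haveI := HasRingHomProperty.HasAffineProperty (P := @Flat) (Q := RingHom.Flat)
  rw [HasAffineProperty.iff_of_isAffine (P := @Flat) (Q := sourceAffineLocally RingHom.Flat)]
  intro V
  haveI : IsNoetherianRing Γ(X, V.1) := IsLocallyNoetherian.component_noetherian V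
  have hreg : IsSMulRegular Γ(X, V.1) (piV f π V.1) :=
    isSMulRegular_of_nilpotent _ (isNilpotent_of_pow_mul_eq_zero f hπ hdense V.2)
      (mem_span_of_isNilpotent f hπ hred V.2)
  let ψ : R →+* Γ(X, V.1) :=
    (f.appLE ⊤ V.1 le_top).hom.comp (Scheme.ΓSpecIso (CommRingCat.of R)).inv.hom
  have hψπ : ψ π = piV f π V.1 := rfl
  have hψ : ψ.Flat := by
    letI := ψ.toAlgebra
    change Module.Flat R Γ(X, V.1)
    rw [Module.Flat.flat_iff_torsion_eq_bot_of_isBezout]
    rw [Submodule.eq_bot_iff]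
    intro a ha
    rw [Submodule.mem_torsion_iff] at ha
    obtain ⟨⟨r, hr⟩, hra⟩ := ha
    have hr0 : r ≠ 0 := nonZeroDivisors.ne_zero hr
    obtain ⟨k, u, rfl⟩ := IsDiscreteValuationRing.eq_unit_mul_pow_irreducible hr0 hπ
    have h1 : ψ (u : R) * (piV f π V.1 ^ k * a) = 0 := by
      have : ((u : R) * π ^ k) • a = 0 := hra
      rw [Algebra.smul_def, RingHom.algebraMap_toAlgebra, map_mul, map_pow, hψπ, mul_assoc] at this
      exact this
    have hu : IsUnit (ψ (u : R)) := u.isUnit.map ψ
    have h2 : piV f π V.1 ^ k * a = 0 := (hu.mul_right_eq_zero).1 h1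
    have h3 : piV f π V.1 ^ k • a = piV f π V.1 ^ k • (0 : Γ(X, V.1)) := by
      rw [smul_eq_mul, smul_eq_mul, h2, mul_zero]
    exact (hreg.pow k) h3
  have hcomp : (f.appLE ⊤ V.1 le_top).hom =
      ψ.comp (Scheme.ΓSpecIso (CommRingCat.of R)).hom.hom := by
    ext x
    change _ = (f.appLE ⊤ V.1 le_top).hom ((Scheme.ΓSpecIso (CommRingCat.of R)).inv.hom
      ((Scheme.ΓSpecIso (CommRingCat.of R)).hom.hom x))
    congr 1
    rw [← CommRingCat.comp_apply, Iso.hom_inv_id]; rfl
  rw [hcomp]
  refine RingHom.Flat.comp ?_ hψ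
  exact RingHom.Flat.of_bijective
    (ConcreteCategory.bijective_of_isIso (Scheme.ΓSpecIso (CommRingCat.of R)).hom)

end Groth.Agent.Lib.Helper1.DVRFlat
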