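import Mathlib

open TensorProduct CategoryTheory Limits AlgebraicGeometry

namespace Groth.Agent.Lib.Helper1.NilSurj

/-- Nakayama for a nilpotent ideal: if `⊤ ≤ N ⊔ J • ⊤` with `J` nilpotent then `N = ⊤`. -/
lemma eq_top_of_top_le_sup_smul_of_isNilpotent {B M : Type*} [CommRing B] [AddCommGroup M]
    [Module B M] (N : Submodule B M) (J : Ideal B) (hJ : IsNilpotent J)
    (h : (⊤ : Submodule B M) ≤ N ⊔ J • ⊤) : N = ⊤ := by
  obtain ⟨n, hn⟩ := hJ
  have key : ∀ k : ℕ, (⊤ : Submodule B M) ≤ N ⊔ (J ^ k) • ⊤ := by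
    intro k
    induction k with
    | zero => simp
    | succ k ih =>
      calc (⊤ : Submodule B M) ≤ N ⊔ J • ⊤ := h
        _ ≤ N ⊔ J • (N ⊔ (J ^ k) • ⊤) := sup_le_sup_left (Submodule.smul_mono le_rfl ih) _
        _ = N ⊔ (J • N ⊔ J • (J ^ k) • ⊤) := by rw [Submodule.smul_sup]
        _ ≤ N ⊔ (J ^ (k + 1)) • ⊤ := by
          refine sup_le le_sup_left (sup_le (le_sup_of_le_left Submodule.smul_le_right) ?_)
          rw [← Submodule.mul_smul, ← pow_succ']
          exact le_sup_right
  have := key n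
  rw [hn] at this
  simpa using this

/-- If `φ : B → A` is of finite type, `J` is a nil ideal of `B` and `A = φ(B) + JA`, then `φ`
is surjective. -/
theorem surjective_of_finiteType_of_nil {B A : Type*} [CommRing B] [CommRing A] (φ : B →+* A)
    (hφ : φ.FiniteType) (J : Ideal B) (hJ : J ≤ nilradical B)
    (h : ∀ a : A, ∃ b : B, a - φ b ∈ J.map φ) : Function.Surjective φ := by
  classical
  algebraize [φ]
  obtain ⟨s, hs⟩ := (Algebra.FiniteType.out : (⊤ : Subalgebra B A).FG)
  choose b hb using h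
  have h1 : ∀ a : A, ∃ T' : Finset B, (T' : Set B) ⊆ J ∧
      a - φ (b a) ∈ Ideal.span (φ '' (T' : Set B)) := by
    intro a
    obtain ⟨T, hT, haT⟩ := Submodule.mem_span_finite_of_mem_span (hb a)
    obtain ⟨T', hT', rfl⟩ := Finset.subset_set_image_iff.mp hT
    exact ⟨T', hT', by simpa using haT⟩
  choose T' hT' hT'' using h1
  let J₀ : Ideal B := Ideal.span (s.biUnion T' : Finset B)
  have hJ₀fg : J₀.FG := ⟨_, rfl⟩
  have hJ₀J : J₀ ≤ J := by
    rw [Ideal.span_le]
    intro x hx
    simp only [Finset.coe_biUnion, Set.mem_iUnion] at hx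
    obtain ⟨a, _, hxa⟩ := hx
    exact hT' a hxa
  have hJ₀nil : IsNilpotent J₀ :=
    (Ideal.FG.isNilpotent_iff_le_nilradical hJ₀fg).mpr (hJ₀J.trans hJ)
  have hs' : ∀ a ∈ s, a - φ (b a) ∈ J₀.map φ := by
    intro a ha
    refine (Ideal.span_le.mpr ?_) (hT'' a)
    rintro _ ⟨x, hx, rfl⟩
    apply Ideal.mem_map_of_mem
    apply Ideal.subset_span
    simp only [Finset.coe_biUnion, Set.mem_iUnion]
    exact ⟨a, ha, hx⟩
  -- the subalgebra of elements congruent to an element of the image modulo `J₀ A`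
  let T : Subalgebra B A :=
    { carrier := {x | ∃ b, x - φ b ∈ J₀.map φ}
      mul_mem' := by
        rintro x y ⟨b₁, h₁⟩ ⟨b₂, h₂⟩
        refine ⟨b₁ * b₂, ?_⟩
        have : x * y - φ (b₁ * b₂) = (x - φ b₁) * y + φ b₁ * (y - φ b₂) := by
          rw [map_mul]; ring
        rw [this]
        exact Ideal.add_mem _ (Ideal.mul_mem_right _ _ h₁) (Ideal.mul_mem_left _ _ h₂)
      add_mem' := by
        rintro x y ⟨b₁, h₁⟩ ⟨b₂, h₂⟩
        refine ⟨b₁ + b₂, ?_⟩
        have : x + y - φ (b₁ + b₂) = (x - φ b₁) + (y - φ b₂) := by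
          rw [map_add]; ring
        rw [this]
        exact Ideal.add_mem _ h₁ h₂
      algebraMap_mem' := fun r ↦ ⟨r, by simp [RingHom.algebraMap_toAlgebra]⟩ }
  have hT : T = ⊤ := by
    rw [eq_top_iff, ← hs, Algebra.adjoin_le_iff]
    intro a ha
    exact ⟨b a, hs' a ha⟩
  have hall : ∀ a : A, ∃ b, a - φ b ∈ J₀.map φ := fun a ↦ by
    have : a ∈ T := hT ▸ Algebra.mem_top
    exact this
  have hN : LinearMap.range (Algebra.linearMap B A) = ⊤ := by
    apply eq_top_of_top_le_sup_smul_of_isNilpotent _ J₀ hJ₀nil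
    intro a _
    obtain ⟨b, hb⟩ := hall a
    have : a = φ b + (a - φ b) := by ring
    rw [this]
    refine Submodule.add_mem_sup ⟨b, rfl⟩ ?_
    rw [Ideal.smul_top_eq_map]
    exact hb
  intro a
  have : a ∈ LinearMap.range (Algebra.linearMap B A) := hN ▸ Submodule.mem_top
  obtain ⟨b, hb⟩ := this
  exact ⟨b, hb⟩


universe u

lemma exists_sub_mem_map_of_isPushout {B A B' P : CommRingCat.{u}} {φ : B ⟶ A} {ψ : B ⟶ B'}
    {π : A ⟶ P} {γ : B' ⟶ P} (h : IsPushout φ ψ π γ) (hψ : Function.Surjective ψ)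
    (hγ : Function.Surjective γ) (a : A) :
    ∃ b : B, a - φ b ∈ (RingHom.ker ψ.hom).map φ.hom := by
  set J := RingHom.ker ψ.hom with hJ
  let q : A →+* A ⧸ J.map φ.hom := Ideal.Quotient.mk _
  have hle : RingHom.ker ψ.hom ≤ RingHom.ker (q.comp φ.hom) := by
    intro b hb
    rw [RingHom.mem_ker, RingHom.comp_apply, Ideal.Quotient.eq_zero_iff_mem]
    exact Ideal.mem_map_of_mem _ hb
  let ρ : B' →+* A ⧸ J.map φ.hom := RingHom.liftOfSurjective ψ.hom hψ ⟨q.comp φ.hom, hle⟩
  have hρ : ρ.comp ψ.hom = q.comp φ.hom :=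
    RingHom.liftOfRightInverse_comp _ _ _ _
  let d : P ⟶ CommRingCat.of (A ⧸ J.map φ.hom) :=
    h.desc (CommRingCat.ofHom q) (CommRingCat.ofHom ρ) (by
      ext x
      exact (RingHom.congr_fun hρ x).symm)
  have hd : π ≫ d = CommRingCat.ofHom q := h.inl_desc _ _ _
  obtain ⟨b', hb'⟩ := hγ (π a)
  obtain ⟨b, rfl⟩ := hψ b'
  refine ⟨b, ?_⟩
  have h1 : π (a - φ b) = 0 := by
    rw [map_sub, ← hb', sub_eq_zero]
    have := congrArg (fun f ↦ f.hom b) h.w
    simpa using this.symm
  have h2 : q (a - φ b) = d (π (a - φ b)) := by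
    have := congrArg (fun f ↦ f.hom (a - φ b)) hd
    simpa using this.symm
  rw [h1, map_zero, Ideal.Quotient.eq_zero_iff_mem] at h2
  exact h2


/-- sections killed by a surjective morphism are nilpotent -/
lemma isNilpotent_of_appTop_eq_zero {S S' : Scheme.{u}} [CompactSpace S] (i : S' ⟶ S)
    (hi : Function.Surjective i) (b : Γ(S, ⊤)) (hb : i.appTop b = 0) : IsNilpotent b := by
  rw [Scheme.isNilpotent_iff_basicOpen_eq_bot]
  have h1 : i ⁻¹ᵁ (S.basicOpen b) = ⊥ := by
    rw [Scheme.preimage_basicOpen_top, hb, Scheme.basicOpen_zero]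
  ext x
  simp only [TopologicalSpace.Opens.coe_bot, Set.mem_empty_iff_false, iff_false]
  intro hx
  obtain ⟨y, rfl⟩ := hi x
  have : y ∈ i ⁻¹ᵁ (S.basicOpen b) := hx
  rw [h1] at this
  exact this

lemma isClosedImmersion_of_isAffine {X S S' : Scheme.{u}} [IsAffine S] (f : X ⟶ S) (i : S' ⟶ S)
    [IsClosedImmersion i] (hi : Function.Surjective i) [LocallyOfFiniteType f] [IsAffineHom f]
    [IsClosedImmersion (pullback.snd f i)] : IsClosedImmersion f := by
  have : IsAffine X := isAffine_of_isAffineHom f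
  have : IsAffine S' := isAffine_of_isAffineHom i
  refine IsClosedImmersion.of_surjective_of_isAffine f ?_
  have hpo := isPushout_appTop_of_isPullback (IsPullback.of_hasPullback f i)
  have hψ : Function.Surjective i.appTop := (IsClosedImmersion.isAffine_surjective_of_isAffine i).2
  have hγ : Function.Surjective (pullback.snd f i).appTop :=
    (IsClosedImmersion.isAffine_surjective_of_isAffine _).2
  have hft : f.appTop.hom.FiniteType :=
    (HasRingHomProperty.iff_of_isAffine (P := @LocallyOfFiniteType)).mp ‹_›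
  refine surjective_of_finiteType_of_nil f.appTop.hom hft (RingHom.ker i.appTop.hom) ?_
    (fun a ↦ exists_sub_mem_map_of_isPushout hpo hψ hγ a)
  intro b hb
  exact isNilpotent_of_appTop_eq_zero i hi b hb


/-- Base change of `pullback.snd f i` along any `g : T ⟶ S'`, in the form `pullback.snd f h`
with `h = g ≫ i`. -/
lemma isClosedImmersion_pullback_snd_of_eq {X S S' T : Scheme.{u}} (f : X ⟶ S) (i : S' ⟶ S)
    [IsClosedImmersion (pullback.snd f i)] (g : T ⟶ S') (h : T ⟶ S) (hh : h = g ≫ i) :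
    IsClosedImmersion (pullback.snd f h) := by
  subst hh
  rw [← pullbackLeftPullbackSndIso_inv_snd_snd f i g]
  infer_instance

lemma isClosedEmbedding_of_pullback {X S S' : Scheme.{u}} (f : X ⟶ S) (i : S' ⟶ S)
    [IsClosedImmersion i] [Surjective i] [IsClosedImmersion (pullback.snd f i)] :
    Topology.IsClosedEmbedding f := by
  have h1 : IsClosedImmersion (pullback.fst f i ≫ f) := by
    rw [pullback.condition]; infer_instance
  have h2 : Topology.IsClosedEmbedding (pullback.fst f i ≫ f) :=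
    Scheme.Hom.isClosedEmbedding _
  have hs : Function.Surjective (pullback.fst f i) := (pullback.fst f i).surjective
  refine Topology.IsClosedEmbedding.of_continuous_injective_isClosedMap f.continuous ?_ ?_
  · intro x y hxy
    obtain ⟨a, rfl⟩ := hs x
    obtain ⟨b, rfl⟩ := hs y
    have : (pullback.fst f i ≫ f) a = (pullback.fst f i ≫ f) b := by
      simpa using hxy
    rw [h2.injective this]
  · intro C hC
    have : f '' C = (pullback.fst f i ≫ f) '' ((pullback.fst f i) ⁻¹' C) := by
      ext y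
      constructor
      · rintro ⟨x, hx, rfl⟩
        obtain ⟨a, rfl⟩ := hs x
        exact ⟨a, hx, by simp⟩
      · rintro ⟨a, ha, rfl⟩
        exact ⟨pullback.fst f i a, ha, by simp⟩
    rw [this]
    exact h2.isClosedMap _ (hC.preimage (pullback.fst f i).continuous)

theorem isClosedImmersion_of_pullback {X S S' : Scheme.{u}} (f : X ⟶ S) (i : S' ⟶ S)
    [IsClosedImmersion i] (hi : Function.Surjective i) [LocallyOfFiniteType f]
    [IsClosedImmersion (pullback.snd f i)] : IsClosedImmersion f := by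
  have : Surjective i := ⟨hi⟩
  have hce := isClosedEmbedding_of_pullback f i
  have : IsAffineHom f := isAffineHom_of_isInducing f hce.isInducing hce.isClosed_range
  rw [IsZariskiLocalAtTarget.iff_of_openCover (P := @IsClosedImmersion) S.affineCover]
  intro k
  let j := S.affineCover.f k
  have h3 : IsClosedImmersion (pullback.snd (pullback.snd f j) (pullback.snd i j)) := by
    rw [← pullbackLeftPullbackSndIso_hom_snd f j (pullback.snd i j)]
    have := isClosedImmersion_pullback_snd_of_eq f i (pullback.fst i j) (pullback.snd i j ≫ j)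
      pullback.condition.symm
    infer_instance
  have h4 : Surjective (pullback.snd i j) := inferInstance
  exact isClosedImmersion_of_isAffine (pullback.snd f j) (pullback.snd i j) h4.surj

end Groth.Agent.Lib.Helper1.NilSurj
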