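import Mathlib
import Groth.Agent.Lib.Helper1.NilSurj

/-!
# Cartesian squares over a thickening, restricted to affine opens

* `isPushout_appLE`: a cartesian square of schemes restricted to affine opens gives a pushout
  square of rings.
* algebra: in a pushout square along a surjection with nilpotent kernel, finite type / finite /
  formally unramified ascend.
-/

open CategoryTheory Limits AlgebraicGeometry TensorProduct

universe u
namespace Groth.Agent.Lib.Helper1.ThickSq

open Groth.Agent.Lib.Helper1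

set_option linter.style.haveILetI false
set_option backward.isDefEq.respectTransparency.types false in
/-- A cartesian square of schemes restricted to affine opens gives a pushout square of rings. -/
lemma isPushout_appLE {X X' Y Y' : Scheme.{u}} {iX : X ⟶ X'} {iY : Y ⟶ Y'} {f : X ⟶ Y}
    {f' : X' ⟶ Y'} (hc : IsPullback iX f f' iY) [IsAffineHom iY]
    {U : Y'.Opens} (hU : IsAffineOpen U) {V : X'.Opens} (hV : IsAffineOpen V)
    (e : V ≤ f' ⁻¹ᵁ U) (e' : iX ⁻¹ᵁ V ≤ f ⁻¹ᵁ (iY ⁻¹ᵁ U)) :
    IsPushout (f'.appLE U V e) (iY.app U) (iX.app V) (f.appLE (iY ⁻¹ᵁ U) (iX ⁻¹ᵁ V) e') := by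
  have hUY : iX ⁻¹ᵁ V = iX ⁻¹ᵁ V ⊓ f ⁻¹ᵁ (iY ⁻¹ᵁ U) := (inf_eq_left.mpr e').symm
  have H := Scheme.Hom.isPullback_resLE hc (US := U) (UT := iY ⁻¹ᵁ U) (UX := V) le_rfl e hUY
  haveI : IsAffine U.toScheme := hU
  haveI : IsAffine V.toScheme := hV
  haveI : IsAffine (iY ⁻¹ᵁ U).toScheme := hU.preimage iY
  have H2 := isPushout_appTop_of_isPullback H
  refine H2.of_iso U.topIso V.topIso (iY ⁻¹ᵁ U).topIso (iX ⁻¹ᵁ V).topIso ?_ ?_ ?_ ?_
  · rw [Scheme.Hom.appTop, Scheme.Hom.resLE_app_top]
    simp only [Category.assoc, Iso.inv_hom_id, Category.comp_id]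
  · rw [Scheme.Hom.appTop, Scheme.Hom.resLE_app_top, Scheme.Hom.app_eq_appLE]
    simp only [Category.assoc, Iso.inv_hom_id, Category.comp_id]
  · rw [Scheme.Hom.appTop, Scheme.Hom.resLE_app_top, Scheme.Hom.app_eq_appLE]
    simp only [Category.assoc, Iso.inv_hom_id, Category.comp_id]
  · rw [Scheme.Hom.appTop, Scheme.Hom.resLE_app_top]
    simp only [Category.assoc, Iso.inv_hom_id, Category.comp_id]


/-- Nakayama for extended nilpotent ideals: if `ker π = J B'` with `J` nilpotent and the
`A'`-submodule `N ⊆ B'` surjects onto `π(B')`, then `N = B'`. -/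
lemma eq_top_of_ker_eq_map {A' B' B : Type*} [CommRing A'] [CommRing B'] [CommRing B]
    [Algebra A' B'] (π : B' →+* B) (J : Ideal A') (hJ : IsNilpotent J)
    (hker : RingHom.ker π = J.map (algebraMap A' B')) (N : Submodule A' B')
    (hN : ∀ b : B', ∃ n ∈ N, π n = π b) : N = ⊤ := by
  apply NilSurj.eq_top_of_top_le_sup_smul_of_isNilpotent N J hJ
  intro b _
  obtain ⟨n, hn, hnb⟩ := hN b
  have : b = n + (b - n) := by ring
  rw [this]
  refine Submodule.add_mem_sup hn ?_
  rw [Ideal.smul_top_eq_map, Submodule.restrictScalars_mem, ← hker, RingHom.mem_ker, map_sub,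
    hnb, sub_self]

/-- `φ : A' → B'`, `π : B' → B` surjective with `ker π = J B'` for a nilpotent ideal `J` of `A'`,
and `π ∘ φ` of finite type: then `φ` is of finite type. -/
theorem finiteType_of_ker_eq_map {A' B' B : Type*} [CommRing A'] [CommRing B'] [CommRing B]
    (φ : A' →+* B') (π : B' →+* B) (hπ : Function.Surjective π) (J : Ideal A')
    (hJ : IsNilpotent J) (hker : RingHom.ker π = J.map φ)
    (h : (π.comp φ).FiniteType) : φ.FiniteType := by
  classical
  algebraize [φ, π.comp φ]
  obtain ⟨t, ht⟩ := (Algebra.FiniteType.out : (⊤ : Subalgebra A' B).FG)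
  choose l hl using hπ
  let T : Finset B' := t.image l
  let C : Subalgebra A' B' := Algebra.adjoin A' (T : Set B')
  suffices hC : C = ⊤ from ⟨⟨T, hC⟩⟩
  let πA : B' →ₐ[A'] B := { π with commutes' := fun a ↦ rfl }
  have hmap : C.map πA = ⊤ := by
    rw [eq_top_iff, ← ht, AlgHom.map_adjoin]
    apply Algebra.adjoin_mono
    intro x hx
    refine ⟨l x, ?_, hl x⟩
    simp only [T, Finset.coe_image, Set.mem_image]
    exact ⟨x, hx, rfl⟩
  have hN : Subalgebra.toSubmodule C = ⊤ := by
    apply eq_top_of_ker_eq_map π J hJ hker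
    intro b
    have hb : π b ∈ C.map πA := by rw [hmap]; trivial
    obtain ⟨c, hc, hcb⟩ := hb
    exact ⟨c, hc, hcb⟩
  rw [eq_top_iff]
  intro b _
  have : b ∈ Subalgebra.toSubmodule C := by rw [hN]; trivial
  exact this

/-- Same for finite ring homs. -/
theorem finite_of_ker_eq_map {A' B' B : Type*} [CommRing A'] [CommRing B'] [CommRing B]
    (φ : A' →+* B') (π : B' →+* B) (hπ : Function.Surjective π) (J : Ideal A')
    (hJ : IsNilpotent J) (hker : RingHom.ker π = J.map φ)
    (h : (π.comp φ).Finite) : φ.Finite := by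
  classical
  algebraize [φ, π.comp φ]
  obtain ⟨t, ht⟩ := (Module.Finite.fg_top : (⊤ : Submodule A' B).FG)
  choose l hl using hπ
  let T : Finset B' := t.image l
  suffices hC : Submodule.span A' (T : Set B') = ⊤ from ⟨⟨T, hC⟩⟩
  let πA' : B' →ₐ[A'] B := { π with commutes' := fun a ↦ rfl }
  let πA : B' →ₗ[A'] B := πA'.toLinearMap
  have hmap : (Submodule.span A' (T : Set B')).map πA = ⊤ := by
    rw [eq_top_iff, ← ht, Submodule.map_span]
    apply Submodule.span_mono
    intro x hx
    refine ⟨l x, ?_, hl x⟩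
    simp only [T, Finset.coe_image, Set.mem_image]
    exact ⟨x, hx, rfl⟩
  apply eq_top_of_ker_eq_map π J hJ hker
  intro b
  have hb : π b ∈ (Submodule.span A' (T : Set B')).map πA := by rw [hmap]; trivial
  obtain ⟨c, hc, hcb⟩ := hb
  exact ⟨c, hc, hcb⟩


lemma smul_top_eq_top_of_subsingleton_tensor {R S M : Type*} [CommRing R] [CommRing S]
    [Algebra R S] [AddCommGroup M] [Module R M] (hs : Function.Surjective (algebraMap R S))
    [Subsingleton (S ⊗[R] M)] :
    (RingHom.ker (algebraMap R S)) • (⊤ : Submodule R M) = ⊤ := by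
  have hs' : Function.Surjective (Algebra.ofId R S) := hs
  have hI : RingHom.ker (Algebra.ofId R S) = RingHom.ker (algebraMap R S) := rfl
  rw [← hI]
  set I := RingHom.ker (Algebra.ofId R S)
  let e : (R ⧸ I) ≃ₗ[R] S := (Ideal.quotientKerAlgEquivOfSurjective hs').toLinearEquiv
  have h1 : Subsingleton ((R ⧸ I) ⊗[R] M) :=
    (TensorProduct.congr e (LinearEquiv.refl R M)).injective.subsingleton
  have h2 : Subsingleton (M ⧸ I • (⊤ : Submodule R M)) :=
    (TensorProduct.quotTensorEquivQuotSMul M I).symm.injective.subsingleton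
  exact Submodule.Quotient.subsingleton_iff.mp h2



variable {A' B' A B : CommRingCat.{u}} {φ : A' ⟶ B'} {ψ : A' ⟶ A} {π : B' ⟶ B} {γ : A ⟶ B}


variable {A' B' A B : CommRingCat.{u}} {φ : A' ⟶ B'} {ψ : A' ⟶ A} {π : B' ⟶ B} {γ : A ⟶ B}

/-- In a pushout square of rings along a surjection `ψ`, the kernel of the opposite map is the
extension of `ker ψ`. -/
lemma ker_eq_map_of_isPushout (h : IsPushout φ ψ π γ) (hψ : Function.Surjective ψ) :
    RingHom.ker π.hom = (RingHom.ker ψ.hom).map φ.hom := by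
  set J := RingHom.ker ψ.hom with hJ
  apply le_antisymm
  · let q : B' →+* B' ⧸ J.map φ.hom := Ideal.Quotient.mk _
    have hle : RingHom.ker ψ.hom ≤ RingHom.ker (q.comp φ.hom) := by
      intro b hb
      rw [RingHom.mem_ker, RingHom.comp_apply, Ideal.Quotient.eq_zero_iff_mem]
      exact Ideal.mem_map_of_mem _ hb
    let ρ : A →+* B' ⧸ J.map φ.hom := RingHom.liftOfSurjective ψ.hom hψ ⟨q.comp φ.hom, hle⟩
    have hρ : ρ.comp ψ.hom = q.comp φ.hom := RingHom.liftOfRightInverse_comp _ _ _ _
    let d : B ⟶ CommRingCat.of (B' ⧸ J.map φ.hom) :=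
      h.desc (CommRingCat.ofHom q) (CommRingCat.ofHom ρ) (by
        ext x
        exact (RingHom.congr_fun hρ x).symm)
    have hd : π ≫ d = CommRingCat.ofHom q := h.inl_desc _ _ _
    intro x hx
    have h2 : q x = d (π x) := by
      have := congrArg (fun f ↦ f.hom x) hd
      simpa using this.symm
    rw [RingHom.mem_ker] at hx
    change π x = 0 at hx
    rw [hx, map_zero, Ideal.Quotient.eq_zero_iff_mem] at h2
    exact h2
  · rw [Ideal.map_le_iff_le_comap]
    intro a ha
    rw [Ideal.mem_comap, RingHom.mem_ker]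
    have := congrArg (fun f ↦ f.hom a) h.w
    simp only [CommRingCat.hom_comp, RingHom.comp_apply] at this
    rw [this]
    rw [RingHom.mem_ker] at ha
    rw [ha, map_zero]



lemma surjective_of_isPushout (h : IsPushout φ ψ π γ) (hψ : Function.Surjective ψ) :
    Function.Surjective π := by
  have : (RingHom.toMorphismProperty (fun f ↦ Function.Surjective f)).IsStableUnderCobaseChange :=
    (RingHom.isStableUnderCobaseChange_toMorphismProperty_iff).mpr
      RingHom.surjective_isStableUnderBaseChange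
  exact MorphismProperty.of_isPushout
    (P := RingHom.toMorphismProperty (fun f ↦ Function.Surjective f)) h hψ


theorem formallyUnramified_of_isPushout (h : IsPushout φ ψ π γ) (hψ : Function.Surjective ψ)
    (hnil : RingHom.ker ψ.hom ≤ nilradical A') (hφ : φ.hom.FiniteType)
    (hγ : γ.hom.FormallyUnramified) : φ.hom.FormallyUnramified := by
  algebraize [φ.hom, ψ.hom, π.hom, γ.hom, π.hom.comp φ.hom]
  have : IsScalarTower A' A B := .of_algebraMap_eq' <| congr($(h.1.1).hom)
  have hpo : Algebra.IsPushout A' B' A B := CommRingCat.isPushout_iff_isPushout.mp h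
  have hpo' : Algebra.IsPushout A' A B' B := hpo.symm
  have hsub : Subsingleton (A ⊗[A'] Ω[B'⁄A']) :=
    (KaehlerDifferential.tensorKaehlerEquivBase A' A B' B).injective.subsingleton
  have hs : Function.Surjective (algebraMap A' A) := hψ
  have h1 := smul_top_eq_top_of_subsingleton_tensor (R := A') (S := A) (M := Ω[B'⁄A']) hs
  set J := RingHom.ker (algebraMap A' A) with hJ
  have h2 : (J.map (algebraMap A' B')) • (⊤ : Submodule B' Ω[B'⁄A']) = ⊤ := by
    rw [eq_top_iff]
    intro m _
    have hm : m ∈ J • (⊤ : Submodule A' Ω[B'⁄A']) := by rw [h1]; trivial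
    refine Submodule.smul_induction_on hm ?_ ?_
    · intro r hr n _
      rw [← algebraMap_smul B' r n]
      exact Submodule.smul_mem_smul (Ideal.mem_map_of_mem _ hr) Submodule.mem_top
    · intro x y hx hy
      exact add_mem hx hy
  have h3 : J.map (algebraMap A' B') ≤ Ideal.jacobson ⊥ := by
    rw [Ideal.jacobson_bot]
    refine le_trans ?_ (nilradical_le_jacobson B')
    rw [Ideal.map_le_iff_le_comap]
    intro a ha
    have : IsNilpotent a := hnil ha
    exact this.map _
  have h4 : (⊤ : Submodule B' Ω[B'⁄A']) = ⊥ :=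
    Submodule.eq_bot_of_le_smul_of_le_jacobson_bot _ _ (Module.Finite.fg_top) h2.ge h3
  have : Subsingleton Ω[B'⁄A'] := by
    rw [← Submodule.subsingleton_iff B']
    exact subsingleton_of_bot_eq_top h4.symm
  exact ⟨this⟩


theorem finiteType_of_isPushout (h : IsPushout φ ψ π γ) (hψ : Function.Surjective ψ)
    (hnil : IsNilpotent (RingHom.ker ψ.hom)) (hγ : γ.hom.FiniteType) : φ.hom.FiniteType := by
  refine finiteType_of_ker_eq_map φ.hom π.hom (surjective_of_isPushout h hψ) _ hnil
    (ker_eq_map_of_isPushout h hψ) ?_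
  have : π.hom.comp φ.hom = γ.hom.comp ψ.hom := congr($(h.w).hom)
  rw [this]
  exact hγ.comp (RingHom.FiniteType.of_surjective _ hψ)

theorem finite_of_isPushout (h : IsPushout φ ψ π γ) (hψ : Function.Surjective ψ)
    (hnil : IsNilpotent (RingHom.ker ψ.hom)) (hγ : γ.hom.Finite) : φ.hom.Finite := by
  refine finite_of_ker_eq_map φ.hom π.hom (surjective_of_isPushout h hψ) _ hnil
    (ker_eq_map_of_isPushout h hψ) ?_
  have : π.hom.comp φ.hom = γ.hom.comp ψ.hom := congr($(h.w).hom)
  rw [this]
  exact hγ.comp (RingHom.Finite.of_surjective _ hψ)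

theorem formallyUnramified_of_isPushout_of_isNilpotent (h : IsPushout φ ψ π γ)
    (hψ : Function.Surjective ψ)
    (hnil : IsNilpotent (RingHom.ker ψ.hom))
    (hγ : γ.hom.FormallyUnramified) : φ.hom.FormallyUnramified := by
  algebraize [φ.hom, ψ.hom, π.hom, γ.hom, π.hom.comp φ.hom]
  have : IsScalarTower A' A B := .of_algebraMap_eq' <| congr($(h.1.1).hom)
  have hpo : Algebra.IsPushout A' B' A B := CommRingCat.isPushout_iff_isPushout.mp h
  have hpo' : Algebra.IsPushout A' A B' B := hpo.symm
  have hsub : Subsingleton (A ⊗[A'] Ω[B'⁄A']) :=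
    (KaehlerDifferential.tensorKaehlerEquivBase A' A B' B).injective.subsingleton
  have hs : Function.Surjective (algebraMap A' A) := hψ
  have h1 := smul_top_eq_top_of_subsingleton_tensor (R := A') (S := A) (M := Ω[B'⁄A']) hs
  have h4 : (⊥ : Submodule A' Ω[B'⁄A']) = ⊤ := by
    apply NilSurj.eq_top_of_top_le_sup_smul_of_isNilpotent ⊥ _ hnil
    rw [bot_sup_eq]
    exact h1.ge
  have : Subsingleton Ω[B'⁄A'] := by
    rw [← Submodule.subsingleton_iff A']
    exact subsingleton_of_bot_eq_top h4
  exact ⟨this⟩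


variable {X X' Y Y' : Scheme.{u}} {iX : X ⟶ X'} {iY : Y ⟶ Y'} {f : X ⟶ Y} {f' : X' ⟶ Y'}

lemma preimage_le_of_isPullback (hc : IsPullback iX f f' iY) {U : Y'.Opens} {V : X'.Opens}
    (e : V ≤ f' ⁻¹ᵁ U) : iX ⁻¹ᵁ V ≤ f ⁻¹ᵁ (iY ⁻¹ᵁ U) := by
  intro x hx
  have h1 : f' (iX x) ∈ U := e hx
  have h2 : f' (iX x) = iY (f x) := by
    rw [← Scheme.Hom.comp_apply, ← Scheme.Hom.comp_apply, hc.w]
  rw [h2] at h1
  exact h1

/-- Sections killed by a surjective morphism are nilpotent (affine-open version). -/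
lemma ker_app_le_nilradical (i : Y ⟶ Y') (hi : Function.Surjective i) (U : Y'.affineOpens) :
    RingHom.ker (i.app U.1).hom ≤ nilradical Γ(Y', U.1) := by
  intro s hs
  rw [mem_nilradical, Scheme.isNilpotent_iff_basicOpen_eq_bot_of_isCompact U.2.isCompact]
  have h1 : i ⁻¹ᵁ (Y'.basicOpen s) = ⊥ := by
    rw [Scheme.preimage_basicOpen]
    rw [RingHom.mem_ker] at hs
    change i.app U.1 s = 0 at hs
    rw [hs, Scheme.basicOpen_zero]
  ext x
  simp only [TopologicalSpace.Opens.coe_bot, Set.mem_empty_iff_false, iff_false]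
  intro hx
  obtain ⟨y, rfl⟩ := hi x
  have : y ∈ i ⁻¹ᵁ (Y'.basicOpen s) := hx
  rw [h1] at this
  exact this

lemma isNilpotent_ker_app_of_isNilpotent_ker (i : Y ⟶ Y') [QuasiCompact i]
    (h : IsNilpotent i.ker) (U : Y'.affineOpens) : IsNilpotent (RingHom.ker (i.app U.1).hom) := by
  obtain ⟨n, hn⟩ := h
  refine ⟨n, ?_⟩
  rw [← Scheme.Hom.ker_apply]
  have := congrArg (fun I ↦ I.ideal U) hn
  simpa using this

theorem locallyOfFiniteType_of_isPullback (hc : IsPullback iX f f' iY) [IsClosedImmersion iY]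
    (hnil : ∀ U : Y'.affineOpens, IsNilpotent (RingHom.ker (iY.app U.1).hom))
    [LocallyOfFiniteType f] : LocallyOfFiniteType f' := by
  haveI : IsClosedImmersion iX := MorphismProperty.of_isPullback hc.flip ‹_›
  rw [HasRingHomProperty.iff_appLE (P := @LocallyOfFiniteType)]
  intro U V e
  have e' := preimage_le_of_isPullback hc e
  have hpo := isPushout_appLE hc U.2 V.2 e e'
  refine finiteType_of_isPushout hpo (iY.app_surjective U.1 U.2) (hnil U) ?_
  exact HasRingHomProperty.appLE (P := @LocallyOfFiniteType) f inferInstance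
    ⟨_, U.2.preimage iY⟩ ⟨_, V.2.preimage iX⟩ e'

theorem formallyUnramified_of_isPullback_of_lft (hc : IsPullback iX f f' iY)
    [IsClosedImmersion iY] (hs : Function.Surjective iY)
    [LocallyOfFiniteType f'] [FormallyUnramified f] : FormallyUnramified f' := by
  haveI : IsClosedImmersion iX := MorphismProperty.of_isPullback hc.flip ‹_›
  rw [HasRingHomProperty.iff_appLE (P := @FormallyUnramified)]
  intro U V e
  have e' := preimage_le_of_isPullback hc e
  have hpo := isPushout_appLE hc U.2 V.2 e e'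
  refine formallyUnramified_of_isPushout hpo (iY.app_surjective U.1 U.2)
    (ker_app_le_nilradical iY hs U) ?_ ?_
  · exact HasRingHomProperty.appLE (P := @LocallyOfFiniteType) f' inferInstance U V e
  · exact HasRingHomProperty.appLE (P := @FormallyUnramified) f inferInstance
      ⟨_, U.2.preimage iY⟩ ⟨_, V.2.preimage iX⟩ e'


theorem formallyUnramified_of_isPullback_of_isNilpotent (hc : IsPullback iX f f' iY)
    [IsClosedImmersion iY]
    (hnil : ∀ U : Y'.affineOpens, IsNilpotent (RingHom.ker (iY.app U.1).hom))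
    [FormallyUnramified f] : FormallyUnramified f' := by
  haveI : IsClosedImmersion iX := MorphismProperty.of_isPullback hc.flip ‹_›
  rw [HasRingHomProperty.iff_appLE (P := @FormallyUnramified)]
  intro U V e
  have e' := preimage_le_of_isPullback hc e
  have hpo := isPushout_appLE hc U.2 V.2 e e'
  refine formallyUnramified_of_isPushout_of_isNilpotent hpo (iY.app_surjective U.1 U.2)
    (hnil U) ?_
  exact HasRingHomProperty.appLE (P := @FormallyUnramified) f inferInstance
    ⟨_, U.2.preimage iY⟩ ⟨_, V.2.preimage iX⟩ e'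

end Groth.Agent.Lib.Helper1.ThickSq
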