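import Mathlib
import Groth.Agent.Lib.Helper8.LocalCriterion
import Groth.Agent.Lib.Helper1.FibreFlat
import Groth.Agent.Lib.Helper1.ThickSq

/-!
# Deformations over a nilpotent thickening of the base

Setting: `S ⟶ S'` a thickening with (locally) nilpotent ideal, `X' ⟶ Y' ⟶ S'` with `X'` flat over
`S'`, and `X ⟶ Y ⟶ S` the base change.
-/

open CategoryTheory Limits AlgebraicGeometry TensorProduct

universe u
namespace Groth.Agent.Lib.Helper1.Deform

theorem flat_quotient_tensor_of_surjective {A A₀ M : Type u} [CommRing A] [CommRing A₀]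
    [Algebra A A₀] [AddCommGroup M] [Module A M]
    (hs : Function.Surjective (algebraMap A A₀)) (I : Ideal A)
    (hk : RingHom.ker (algebraMap A A₀) = I)
    (H1 : Module.Flat A₀ (A₀ ⊗[A] M)) :
    Module.Flat (A ⧸ I) ((A ⧸ I) ⊗[A] M) := by
  have hs' : Function.Surjective (Algebra.ofId A A₀) := hs
  have hk' : I = RingHom.ker (Algebra.ofId A A₀) := hk.symm
  let e : (A ⧸ I) ≃ₐ[A] A₀ :=
    (Ideal.quotientEquivAlgOfEq A hk').trans (Ideal.quotientKerAlgEquivOfSurjective hs')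
  letI : Algebra A₀ (A ⧸ I) := e.symm.toAlgHom.toRingHom.toAlgebra
  haveI : IsScalarTower A A₀ (A ⧸ I) :=
    .of_algebraMap_eq (fun x ↦ (e.symm.commutes x).symm)
  have h1 : Module.Flat (A ⧸ I) ((A ⧸ I) ⊗[A₀] (A₀ ⊗[A] M)) := inferInstance
  exact Module.Flat.of_linearEquiv
    (TensorProduct.AlgebraTensorModule.cancelBaseChange A A₀ (A ⧸ I) (A ⧸ I) M).symm

/-- Local criterion of flatness for a nilpotent ideal, with the quotient ring replaced by any
surjective image. -/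
theorem flat_of_isNilpotent_of_surjective {A A₀ M : Type u} [CommRing A] [CommRing A₀]
    [Algebra A A₀] [AddCommGroup M] [Module A M]
    (hs : Function.Surjective (algebraMap A A₀)) (I : Ideal A) (hI : IsNilpotent I)
    (hk : RingHom.ker (algebraMap A A₀) = I)
    (H1 : Module.Flat A₀ (A₀ ⊗[A] M))
    (H2 : Function.Injective (I.subtype.rTensor M)) : Module.Flat A M :=
  Groth.Agent.Lib.Helper8.flat_of_isNilpotent I hI
    (flat_quotient_tensor_of_surjective hs I hk H1) H2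

set_option linter.style.haveILetI false

/-- Fibrewise flatness over a nilpotent thickening, ring version. `A' → C' → B'`, `C = C'/JC'`,
`B = B' ⊗_{C'} C`; if `B'` is flat over `A'` and `B` is flat over `C`, then `B'` is flat over `C'`. -/
theorem flat_of_isPushout {A' C' B' C B : CommRingCat.{u}} (a : A' ⟶ C') (b : C' ⟶ B')
    (ψ : C' ⟶ C) (π : B' ⟶ B) (γ : C ⟶ B) (h : IsPushout b ψ π γ)
    (hψ : Function.Surjective ψ) (J : Ideal A') (hJ : IsNilpotent J)
    (hker : RingHom.ker ψ.hom = J.map a.hom) (hab : (a ≫ b).hom.Flat) (hγ : γ.hom.Flat) :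
    b.hom.Flat := by
  algebraize [a.hom, b.hom, ψ.hom, π.hom, γ.hom, (a ≫ b).hom, π.hom.comp b.hom]
  haveI : IsScalarTower A' C' B' := .of_algebraMap_eq' rfl
  haveI : IsScalarTower C' C B := .of_algebraMap_eq' <| congr($(h.1.1).hom)
  have hpo : Algebra.IsPushout C' B' C B := CommRingCat.isPushout_iff_isPushout.mp h
  have hpo' : Algebra.IsPushout C' C B' B := hpo.symm
  have H1 : Module.Flat C (C ⊗[C'] B') :=
    Module.Flat.of_linearEquiv (Algebra.IsPushout.equiv C' C B' B).toLinearEquiv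
  have hI : IsNilpotent (J.map (algebraMap A' C')) := by
    obtain ⟨n, hn⟩ := hJ
    refine ⟨n, ?_⟩
    rw [← Ideal.map_pow, hn, Ideal.zero_eq_bot, Ideal.map_bot, Ideal.zero_eq_bot]
  have H2 := FibreFlat.rTensor_subtype_map_injective (R := A') (S := C') (M := B') J
  exact flat_of_isNilpotent_of_surjective (A := C') (A₀ := C) (M := B') hψ
    (J.map (algebraMap A' C')) hI hker H1 H2

lemma exists_affine_triple {X' Y' S' : Scheme.{u}} (f' : X' ⟶ Y') (g' : Y' ⟶ S') (x : X') :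
    ∃ (U : S'.affineOpens) (W : Y'.affineOpens) (V : X'.affineOpens), x ∈ V.1 ∧
      V.1 ≤ f' ⁻¹ᵁ W.1 ∧ W.1 ≤ g' ⁻¹ᵁ U.1 := by
  obtain ⟨_, ⟨U, hU, rfl⟩, hxU, -⟩ := S'.isBasis_affineOpens.exists_subset_of_mem_open
    (Set.mem_univ (g' (f' x))) isOpen_univ
  obtain ⟨_, ⟨W, hW, rfl⟩, hxW, hWU⟩ := Y'.isBasis_affineOpens.exists_subset_of_mem_open
    (show f' x ∈ (g' ⁻¹ᵁ U : Set Y') from hxU) (g' ⁻¹ᵁ U).2
  obtain ⟨_, ⟨V, hV, rfl⟩, hxV, hVW⟩ := X'.isBasis_affineOpens.exists_subset_of_mem_open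
    (show x ∈ (f' ⁻¹ᵁ W : Set X') from hxW) (f' ⁻¹ᵁ W).2
  exact ⟨⟨U, hU⟩, ⟨W, hW⟩, ⟨V, hV⟩, hxV, hVW, hWU⟩

variable {X X' Y Y' S S' : Scheme.{u}} {iX : X ⟶ X'} {iY : Y ⟶ Y'} {iS : S ⟶ S'}
    {f : X ⟶ Y} {f' : X' ⟶ Y'} {g : Y ⟶ S} {g' : Y' ⟶ S'}

theorem flat_of_deform [IsClosedImmersion iS]
    (hnil : ∀ U : S'.affineOpens, IsNilpotent (RingHom.ker (iS.app U.1).hom))
    (hcX : IsPullback iX (f ≫ g) (f' ≫ g') iS) (hcY : IsPullback iY g g' iS)
    (w : iX ≫ f' = f ≫ iY) [Flat (f' ≫ g')] [Flat f] : Flat f' := by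
  have hcXY : IsPullback iX f f' iY := IsPullback.of_bot hcX w hcY
  haveI : IsClosedImmersion iY := MorphismProperty.of_isPullback hcY.flip ‹_›
  haveI : IsClosedImmersion iX := MorphismProperty.of_isPullback hcXY.flip ‹_›
  rw [HasRingHomProperty.iff_exists_appLE (P := @Flat) (Q := RingHom.Flat)
    (RingHom.Flat.stableUnderComposition.stableUnderCompositionWithLocalizationAway
      RingHom.Flat.holdsForLocalizationAway).left]
  intro x
  obtain ⟨U, W, V, hxV, e₁, e₂⟩ := exists_affine_triple f' g' x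
  refine ⟨W, V, hxV, e₁, ?_⟩
  have e₂' := ThickSq.preimage_le_of_isPullback hcY e₂
  have e₁' := ThickSq.preimage_le_of_isPullback hcXY e₁
  have poY := ThickSq.isPushout_appLE hcY U.2 W.2 e₂ e₂'
  have poXY := ThickSq.isPushout_appLE hcXY W.2 V.2 e₁ e₁'
  have hker := ThickSq.ker_eq_map_of_isPushout poY (iS.app_surjective U.1 U.2)
  refine flat_of_isPushout (g'.appLE U.1 W.1 e₂) (f'.appLE W.1 V.1 e₁) (iY.app W.1) (iX.app V.1)
    _ poXY (iY.app_surjective W.1 W.2) _ (hnil U) hker ?_ ?_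
  · rw [Scheme.Hom.appLE_comp_appLE]
    exact HasRingHomProperty.appLE (P := @Flat) (f' ≫ g') inferInstance U V _
  · exact HasRingHomProperty.appLE (P := @Flat) f inferInstance
      ⟨_, W.2.preimage iY⟩ ⟨_, V.2.preimage iX⟩ e₁'

end Groth.Agent.Lib.Helper1.Deform
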