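import Mathlib
import Groth.Agent.Lib.Helper14.LocNilp
import Groth.Agent.Lib.Helper1.Deform

/-!
# Deformations over a nilpotent thickening: finite presentation, generic local transfer
-/

open CategoryTheory Limits AlgebraicGeometry TensorProduct

universe u
namespace Groth.Agent.Lib.Helper1.Deform

set_option linter.style.haveILetI false

/-- Nakayama for a nilpotent ideal, relative form: `K ≤ K₀ ⊔ J • K` with `J • K₀ ≤ K₀`-stable
submodules gives `K ≤ K₀`. -/
lemma le_of_le_sup_smul_of_isNilpotent {R M : Type*} [CommRing R] [AddCommGroup M] [Module R M]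
    (K K₀ : Submodule R M) (J : Ideal R) (hJ : IsNilpotent J) (h : K ≤ K₀ ⊔ J • K) : K ≤ K₀ := by
  obtain ⟨n, hn⟩ := hJ
  have key : ∀ k : ℕ, K ≤ K₀ ⊔ (J ^ k) • K := by
    intro k
    induction k with
    | zero => simp
    | succ k ih =>
      calc K ≤ K₀ ⊔ J • K := h
        _ ≤ K₀ ⊔ J • (K₀ ⊔ (J ^ k) • K) := sup_le_sup_left (Submodule.smul_mono le_rfl ih) _
        _ = K₀ ⊔ (J • K₀ ⊔ J • (J ^ k) • K) := by rw [Submodule.smul_sup]
        _ ≤ K₀ ⊔ (J ^ (k + 1)) • K := by
          refine sup_le le_sup_left (sup_le (le_sup_of_le_left Submodule.smul_le_right) ?_)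
          rw [← Submodule.mul_smul, ← pow_succ']
          exact le_sup_right
  have := key n
  rw [hn] at this
  simpa using this

theorem finitePresentation_of_nilpotent {A' C' B' C B : Type u} [CommRing A'] [CommRing C']
    [CommRing B'] [CommRing C] [CommRing B] [Algebra A' C'] [Algebra C' B'] [Algebra A' B']
    [IsScalarTower A' C' B'] [Algebra C' C] [Algebra C B] [Algebra B' B] [Algebra C' B]
    [IsScalarTower C' C B] [IsScalarTower C' B' B]
    (hψ : Function.Surjective (algebraMap C' C)) (hπ : Function.Surjective (algebraMap B' B))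
    (J : Ideal A') (hJ : IsNilpotent J)
    (hkerψ : RingHom.ker (algebraMap C' C) = J.map (algebraMap A' C'))
    (hkerπ : RingHom.ker (algebraMap B' B) = J.map (algebraMap A' B'))
    [Module.Flat A' B'] [Algebra.FiniteType C' B'] [Algebra.FinitePresentation C B] :
    Algebra.FinitePresentation C' B' := by
  classical
  obtain ⟨n, φ, hφ⟩ := Algebra.FiniteType.iff_quotient_mvPolynomial''.mp
    (inferInstance : Algebra.FiniteType C' B')
  let P := MvPolynomial (Fin n) C'
  let Pbar := MvPolynomial (Fin n) C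
  let ρ : P →+* Pbar := MvPolynomial.map (algebraMap C' C)
  have hρ : Function.Surjective ρ := MvPolynomial.map_surjective _ hψ
  let φbar : Pbar →ₐ[C] B := MvPolynomial.aeval (fun i ↦ algebraMap B' B (φ (MvPolynomial.X i)))
  have hcomm : ∀ p : P, φbar (ρ p) = algebraMap B' B (φ p) := by
    intro p
    change MvPolynomial.aeval _ (MvPolynomial.map (algebraMap C' C) p) = _
    rw [MvPolynomial.aeval_map_algebraMap]
    have : (MvPolynomial.aeval (fun i ↦ algebraMap B' B (φ (MvPolynomial.X i))) :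
        P →ₐ[C'] B) = ((IsScalarTower.toAlgHom C' B' B).comp φ) := by
      apply MvPolynomial.algHom_ext
      intro i
      simp
    rw [this]
    rfl
  have hφbar : Function.Surjective φbar := by
    intro b
    obtain ⟨b', rfl⟩ := hπ b
    obtain ⟨p, rfl⟩ := hφ b'
    exact ⟨ρ p, hcomm p⟩
  set K : Ideal P := RingHom.ker φ.toRingHom with hK
  set Kbar : Ideal Pbar := RingHom.ker φbar.toRingHom with hKbar
  have hKbarfg : Kbar.FG := Algebra.FinitePresentation.ker_fG_of_surjective φbar hφbar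
  -- the kernel of `ρ` is `J P`
  have hkerρ : RingHom.ker ρ = J.map (algebraMap A' P) := by
    change RingHom.ker (MvPolynomial.map (algebraMap C' C)) = _
    rw [MvPolynomial.ker_map, hkerψ, Ideal.map_map]
    rfl
  -- `Kbar` is the image of `K`
  have hmapK : K.map ρ ≤ Kbar := by
    rw [Ideal.map_le_iff_le_comap]
    intro x hx
    change φbar (ρ x) = 0
    rw [hcomm]
    have : φ x = 0 := hx
    rw [this, map_zero]
  have hlift : ∀ x ∈ K, ∀ K₀ : Ideal P, K₀ ≤ K → Kbar ≤ K₀.map ρ →
      ∃ y ∈ K₀, x - y ∈ RingHom.ker ρ ⊓ K := by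
    intro x hx K₀ hK₀ hle
    have h1 : ρ x ∈ K₀.map ρ := hle (hmapK (Ideal.mem_map_of_mem _ hx))
    obtain ⟨y, hy, hyx⟩ := (Ideal.mem_map_iff_of_surjective ρ hρ).mp h1
    refine ⟨y, hy, ?_, K.sub_mem hx (hK₀ hy)⟩
    change x - y ∈ RingHom.ker ρ
    rw [RingHom.mem_ker, map_sub, hyx, sub_self]
  have hKbar' : Kbar = K.map ρ := by
    refine le_antisymm ?_ hmapK
    intro xbar hxbar
    obtain ⟨x, rfl⟩ := hρ xbar
    have h1 : φ x ∈ RingHom.ker (algebraMap B' B) := by
      rw [RingHom.mem_ker, ← hcomm]; exact hxbar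
    have hcompφ : (φ : P →+* B').comp (algebraMap A' P) = algebraMap A' B' :=
      (φ.restrictScalars A').comp_algebraMap
    rw [hkerπ, ← hcompφ, ← Ideal.map_map] at h1
    obtain ⟨y, hy, hyx⟩ := (Ideal.mem_map_iff_of_surjective (φ : P →+* B') hφ).mp h1
    have hxy : x - y ∈ K := by
      change φ (x - y) = 0
      rw [map_sub, sub_eq_zero]
      exact hyx.symm
    have hρy : ρ y = 0 := by
      rw [← hkerρ] at hy
      exact hy
    have : ρ x = ρ (x - y) := by rw [map_sub, hρy, sub_zero]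
    rw [this]
    exact Ideal.mem_map_of_mem _ hxy
  -- finitely many elements of `K` generating `Kbar`
  obtain ⟨T', hT'K, hT'⟩ : ∃ T' : Finset P, (T' : Set P) ⊆ K ∧
      Kbar ≤ (Ideal.span (T' : Set P)).map ρ := by
    rw [hKbar', Ideal.map] at hKbarfg
    obtain ⟨T, hT, hspan⟩ := (Submodule.fg_span_iff_fg_span_finset_subset _).mp hKbarfg
    obtain ⟨T', hT', rfl⟩ := Finset.subset_set_image_iff.mp hT
    refine ⟨T', hT', ?_⟩
    rw [hKbar', Ideal.map_span]
    change Ideal.map ρ K ≤ Submodule.span Pbar (ρ '' T')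
    rw [Ideal.map, ← Finset.coe_image]
    exact hspan.le
  set K₀ : Ideal P := Ideal.span (T' : Set P) with hK₀
  have hK₀K : K₀ ≤ K := Ideal.span_le.mpr hT'K
  -- `K ≤ K₀ + J K`
  let f : P →ₗ[A'] B' := (φ.restrictScalars A').toLinearMap
  have hf : Function.Surjective f := hφ
  have hflat := Groth.Agent.Lib.Helper14.smul_top_inf_ker_le_smul_ker_of_flat f hf J
  have hkerf : LinearMap.ker f = K.restrictScalars A' := by
    ext x
    rfl
  have hstep : K.restrictScalars A' ≤ K₀.restrictScalars A' ⊔ J • K.restrictScalars A' := by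
    intro x hx
    obtain ⟨y, hy, hxy⟩ := hlift x hx K₀ hK₀K hT'
    have h2 : x - y ∈ J • (⊤ : Submodule A' P) ⊓ LinearMap.ker f := by
      refine ⟨?_, ?_⟩
      · rw [Ideal.smul_top_eq_map]
        change x - y ∈ Ideal.map (algebraMap A' P) J
        rw [← hkerρ]
        exact hxy.1
      · rw [hkerf]; exact hxy.2
    have h3 := hflat h2
    rw [hkerf] at h3
    have : x = y + (x - y) := by ring
    rw [this]
    exact Submodule.add_mem_sup hy h3
  have hfin : K ≤ K₀ :=
    le_of_le_sup_smul_of_isNilpotent (K.restrictScalars A') (K₀.restrictScalars A') J hJ hstep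
  have hKfg : K.FG := by
    rw [le_antisymm hfin hK₀K]
    exact ⟨T', rfl⟩
  exact Algebra.FinitePresentation.of_surjective hφ hKfg

theorem finitePresentation_of_isPushout {A' C' B' C B : CommRingCat.{u}} (a : A' ⟶ C')
    (b : C' ⟶ B') (ψ : C' ⟶ C) (π : B' ⟶ B) (γ : C ⟶ B) (h : IsPushout b ψ π γ)
    (hψ : Function.Surjective ψ) (J : Ideal A') (hJ : IsNilpotent J)
    (hker : RingHom.ker ψ.hom = J.map a.hom) (hab : (a ≫ b).hom.Flat)
    (hγ : γ.hom.FinitePresentation) : b.hom.FinitePresentation := by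
  have hπ := ThickSq.surjective_of_isPushout h hψ
  have hkerπ : RingHom.ker π.hom = J.map (a ≫ b).hom := by
    rw [ThickSq.ker_eq_map_of_isPushout h hψ, hker, Ideal.map_map]
    rfl
  have hIψ : IsNilpotent (RingHom.ker ψ.hom) := by
    rw [hker]
    obtain ⟨n, hn⟩ := hJ
    refine ⟨n, ?_⟩
    rw [← Ideal.map_pow, hn, Ideal.zero_eq_bot, Ideal.map_bot, Ideal.zero_eq_bot]
  have hft : b.hom.FiniteType :=
    ThickSq.finiteType_of_isPushout h hψ hIψ (RingHom.FiniteType.of_finitePresentation hγ)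
  algebraize [a.hom, b.hom, ψ.hom, π.hom, γ.hom, (a ≫ b).hom, π.hom.comp b.hom]
  haveI : IsScalarTower A' C' B' := .of_algebraMap_eq' rfl
  haveI : IsScalarTower C' C B := .of_algebraMap_eq' <| congr($(h.1.1).hom)
  exact finitePresentation_of_nilpotent (A' := A') (C' := C') (B' := B') (C := C) (B := B)
    hψ hπ J hJ hker hkerπ

variable {X X' Y Y' S S' : Scheme.{u}} {iX : X ⟶ X'} {iY : Y ⟶ Y'} {iS : S ⟶ S'}
    {f : X ⟶ Y} {f' : X' ⟶ Y'} {g : Y ⟶ S} {g' : Y' ⟶ S'}

/-- Generic affine-local transfer along a deformation. -/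
theorem of_deform_local {P : MorphismProperty Scheme.{u}}
    {Q : ∀ {R S : Type u} [CommRing R] [CommRing S], (R →+* S) → Prop}
    [HasRingHomProperty P Q]
    (hQ : RingHom.StableUnderCompositionWithLocalizationAwaySource Q)
    (halg : ∀ {A' C' B' C B : CommRingCat.{u}} (a : A' ⟶ C') (b : C' ⟶ B') (ψ : C' ⟶ C)
      (π : B' ⟶ B) (γ : C ⟶ B), IsPushout b ψ π γ → Function.Surjective ψ →
      ∀ J : Ideal A', IsNilpotent J → RingHom.ker ψ.hom = J.map a.hom → (a ≫ b).hom.Flat →
      Q γ.hom → Q b.hom)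
    [IsClosedImmersion iS]
    (hnil : ∀ U : S'.affineOpens, IsNilpotent (RingHom.ker (iS.app U.1).hom))
    (hcX : IsPullback iX (f ≫ g) (f' ≫ g') iS) (hcY : IsPullback iY g g' iS)
    (w : iX ≫ f' = f ≫ iY) [Flat (f' ≫ g')] (hf : P f) : P f' := by
  have hcXY : IsPullback iX f f' iY := IsPullback.of_bot hcX w hcY
  haveI : IsClosedImmersion iY := MorphismProperty.of_isPullback hcY.flip ‹_›
  haveI : IsClosedImmersion iX := MorphismProperty.of_isPullback hcXY.flip ‹_›
  rw [HasRingHomProperty.iff_exists_appLE (P := P) (Q := Q) hQ]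
  intro x
  obtain ⟨U, W, V, hxV, e₁, e₂⟩ := exists_affine_triple f' g' x
  refine ⟨W, V, hxV, e₁, ?_⟩
  have e₂' := ThickSq.preimage_le_of_isPullback hcY e₂
  have e₁' := ThickSq.preimage_le_of_isPullback hcXY e₁
  have poY := ThickSq.isPushout_appLE hcY U.2 W.2 e₂ e₂'
  have poXY := ThickSq.isPushout_appLE hcXY W.2 V.2 e₁ e₁'
  have hker := ThickSq.ker_eq_map_of_isPushout poY (iS.app_surjective U.1 U.2)
  refine halg (g'.appLE U.1 W.1 e₂) (f'.appLE W.1 V.1 e₁) (iY.app W.1) (iX.app V.1)
    _ poXY (iY.app_surjective W.1 W.2) _ (hnil U) hker ?_ ?_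
  · rw [Scheme.Hom.appLE_comp_appLE]
    exact HasRingHomProperty.appLE (P := @Flat) (f' ≫ g') inferInstance U V _
  · exact HasRingHomProperty.appLE (P := P) f hf
      ⟨_, W.2.preimage iY⟩ ⟨_, V.2.preimage iX⟩ e₁'

theorem locallyOfFinitePresentation_of_deform [IsClosedImmersion iS]
    (hnil : ∀ U : S'.affineOpens, IsNilpotent (RingHom.ker (iS.app U.1).hom))
    (hcX : IsPullback iX (f ≫ g) (f' ≫ g') iS) (hcY : IsPullback iY g g' iS)
    (w : iX ≫ f' = f ≫ iY) [Flat (f' ≫ g')] [LocallyOfFinitePresentation f] :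
    LocallyOfFinitePresentation f' :=
  of_deform_local (P := @LocallyOfFinitePresentation) (Q := RingHom.FinitePresentation)
    (RingHom.finitePresentation_stableUnderComposition.stableUnderCompositionWithLocalizationAway
      RingHom.finitePresentation_holdsForLocalizationAway).left
    finitePresentation_of_isPushout hnil hcX hcY w inferInstance

end Groth.Agent.Lib.Helper1.Deform
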