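import Mathlib
import Groth.Prelude.Def_MoreMor

open CategoryTheory Limits AlgebraicGeometry MorphismProperty

namespace Groth.Agent.Lib.Helper1.Thickening

universe u

variable {X X' S S' : Scheme.{u}}

lemma isHomeomorph {iX : X ⟶ X'} (hX : MoreMor.IsThickening iX) : IsHomeomorph iX := by
  obtain ⟨h1, h2⟩ := hX
  rw [isHomeomorph_iff_isEmbedding_surjective]
  exact ⟨iX.isClosedEmbedding.isEmbedding, iX.surjective⟩

/-- A thickening is universally open (every base change is a homeomorphism). -/
lemma universallyOpen {iX : X ⟶ X'} (hX : MoreMor.IsThickening iX) : UniversallyOpen iX := by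
  obtain ⟨h1, h2⟩ := hX
  rw [UniversallyOpen.eq]
  intro Y Y' i₁ i₂ g H
  have hc : IsClosedImmersion g := MorphismProperty.of_isPullback H.flip h1
  have hs : Surjective g := MorphismProperty.of_isPullback H.flip h2
  exact (isHomeomorph ⟨hc, hs⟩).isOpenMap

set_option backward.isDefEq.respectTransparency.types false in
lemma universallyInjective_of_comp_surjective {X Y Z : Scheme.{u}} (f : X ⟶ Y) (g : Y ⟶ Z)
    [UniversallyInjective (f ≫ g)] [Surjective f] : UniversallyInjective g := by
  rw [universallyInjective_eq]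
  intro X' Y' i₁ i₂ f' H
  have h1 : UniversallyInjective (pullback.fst i₁ f ≫ f') :=
    MorphismProperty.of_isPullback ((IsPullback.of_hasPullback i₁ f).paste_horiz H).flip
      (inferInstanceAs (UniversallyInjective (f ≫ g)))
  have h2 : Function.Injective (pullback.fst i₁ f ≫ f') := Scheme.Hom.injective _
  have h3 : Function.Surjective (pullback.fst i₁ f) := (pullback.fst i₁ f).surjective
  intro a b hab
  obtain ⟨a', rfl⟩ := h3 a
  obtain ⟨b', rfl⟩ := h3 b
  have : (pullback.fst i₁ f ≫ f') a' = (pullback.fst i₁ f ≫ f') b' := by simpa using hab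
  rw [h2 this]

set_option backward.isDefEq.respectTransparency.types false in
lemma universallyOpen_of_comp_surjective {X Y Z : Scheme.{u}} (f : X ⟶ Y) (g : Y ⟶ Z)
    [UniversallyOpen (f ≫ g)] [Surjective f] : UniversallyOpen g := by
  rw [UniversallyOpen.eq]
  intro X' Y' i₁ i₂ f' H
  have h1 : UniversallyOpen (pullback.fst i₁ f ≫ f') :=
    MorphismProperty.of_isPullback ((IsPullback.of_hasPullback i₁ f).paste_horiz H).flip
      (inferInstanceAs (UniversallyOpen (f ≫ g)))
  have h2 : IsOpenMap (pullback.fst i₁ f ≫ f') := Scheme.Hom.isOpenMap _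
  have h3 : Function.Surjective (pullback.fst i₁ f) := (pullback.fst i₁ f).surjective
  intro U hU
  have : f' '' U = (pullback.fst i₁ f ≫ f') '' ((pullback.fst i₁ f) ⁻¹' U) := by
    ext y
    constructor
    · rintro ⟨x, hx, rfl⟩
      obtain ⟨a, rfl⟩ := h3 x
      exact ⟨a, hx, by simp⟩
    · rintro ⟨a, ha, rfl⟩
      exact ⟨pullback.fst i₁ f a, ha, by simp⟩
  rw [this]
  exact h2 _ (hU.preimage (pullback.fst i₁ f).continuous)

lemma quasiCompact_of_comp_surjective {X Y Z : Scheme.{u}} (f : X ⟶ Y) (g : Y ⟶ Z)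
    [QuasiCompact (f ≫ g)] [Surjective f] : QuasiCompact g := by
  constructor
  intro U hU hUc
  have h1 : IsCompact ((f ≫ g) ⁻¹' U) := QuasiCompact.isCompact_preimage _ hU hUc
  have : g ⁻¹' U = f '' ((f ≫ g) ⁻¹' U) := by
    ext y
    constructor
    · intro hy
      obtain ⟨x, rfl⟩ := f.surjective y
      exact ⟨x, by simpa using hy, rfl⟩
    · rintro ⟨x, hx, rfl⟩
      simpa using hx
  rw [this]
  exact h1.image f.continuous


/-- General two-sided transfer of a morphism property along a morphism of thickenings. -/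
theorem iff_of_property (P : MorphismProperty Scheme.{u}) [P.IsStableUnderComposition]
    [P.IsStableUnderBaseChange]
    (hcl : ∀ {A B : Scheme.{u}} (i : A ⟶ B), MoreMor.IsThickening i → P i)
    (hpre : ∀ {A B C : Scheme.{u}} (i : A ⟶ B) (g : B ⟶ C), MoreMor.IsThickening i →
      P (i ≫ g) → P g)
    (iX : X ⟶ X') (iS : S ⟶ S') (f : X ⟶ S) (f' : X' ⟶ S')
    (hX : MoreMor.IsThickening iX) (hS : MoreMor.IsThickening iS) (w : iX ≫ f' = f ≫ iS) :
    P f ↔ P f' := by
  constructor
  · intro hf
    apply hpre iX f' hX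
    rw [w]
    exact P.comp_mem _ _ hf (hcl iS hS)
  · intro hf'
    have : Mono iS := by
      have := hS.1
      infer_instance
    apply MorphismProperty.of_postcomp (W := P) (W' := .monomorphisms Scheme) f iS this
    rw [← w]
    exact P.comp_mem _ _ (hcl iX hX) hf'

theorem quasiCompact_iff (iX : X ⟶ X') (iS : S ⟶ S') (f : X ⟶ S) (f' : X' ⟶ S')
    (hX : MoreMor.IsThickening iX) (hS : MoreMor.IsThickening iS) (w : iX ≫ f' = f ≫ iS) :
    QuasiCompact f ↔ QuasiCompact f' := by
  refine iff_of_property @QuasiCompact ?_ ?_ iX iS f f' hX hS w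
  · intro A B i hi
    have := hi.1
    infer_instance
  · intro A B C i g hi h
    have := hi.2
    exact quasiCompact_of_comp_surjective i g

theorem universallyClosed_iff (iX : X ⟶ X') (iS : S ⟶ S') (f : X ⟶ S) (f' : X' ⟶ S')
    (hX : MoreMor.IsThickening iX) (hS : MoreMor.IsThickening iS) (w : iX ≫ f' = f ≫ iS) :
    UniversallyClosed f ↔ UniversallyClosed f' := by
  refine iff_of_property @UniversallyClosed ?_ ?_ iX iS f f' hX hS w
  · intro A B i hi
    have := hi.1
    infer_instance
  · intro A B C i g hi h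
    have := hi.2
    exact UniversallyClosed.of_comp_surjective i g

theorem universallyInjective_iff (iX : X ⟶ X') (iS : S ⟶ S') (f : X ⟶ S) (f' : X' ⟶ S')
    (hX : MoreMor.IsThickening iX) (hS : MoreMor.IsThickening iS) (w : iX ≫ f' = f ≫ iS) :
    UniversallyInjective f ↔ UniversallyInjective f' := by
  refine iff_of_property @UniversallyInjective ?_ ?_ iX iS f f' hX hS w
  · intro A B i hi
    have := hi.1
    infer_instance
  · intro A B C i g hi h
    have := hi.2
    exact universallyInjective_of_comp_surjective i g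

theorem universallyOpen_iff (iX : X ⟶ X') (iS : S ⟶ S') (f : X ⟶ S) (f' : X' ⟶ S')
    (hX : MoreMor.IsThickening iX) (hS : MoreMor.IsThickening iS) (w : iX ≫ f' = f ≫ iS) :
    UniversallyOpen f ↔ UniversallyOpen f' := by
  refine iff_of_property @UniversallyOpen ?_ ?_ iX iS f f' hX hS w
  · intro A B i hi
    exact universallyOpen hi
  · intro A B C i g hi h
    have := hi.2
    exact universallyOpen_of_comp_surjective i g


set_option backward.isDefEq.respectTransparency.types false in
lemma quasiSeparated_of_comp_thickening {A B C : Scheme.{u}} (i : A ⟶ B) (g : B ⟶ C)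
    (hi : MoreMor.IsThickening i) (h : QuasiSeparated (i ≫ g)) : QuasiSeparated g := by
  rw [HasAffineProperty.eq_targetAffineLocally (P := @QuasiSeparated)
    (Q := fun X _ _ _ ↦ QuasiSeparatedSpace X)] at h ⊢
  intro U
  have h1 : QuasiSeparatedSpace ↥((i ≫ g) ⁻¹ᵁ U.1) := h U
  change QuasiSeparatedSpace ↥(g ⁻¹ᵁ U.1)
  let e : A ≃ₜ B := (isHomeomorph hi).homeomorph
  let e' : ↥((i ≫ g) ⁻¹ᵁ U.1) ≃ₜ ↥(g ⁻¹ᵁ U.1) :=
    e.subtype (fun x ↦ by
      change (i ≫ g) x ∈ U.1 ↔ g (i x) ∈ U.1
      simp)
  exact (quasiSeparatedSpace_congr e').mp h1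

theorem quasiSeparated_iff (iX : X ⟶ X') (iS : S ⟶ S') (f : X ⟶ S) (f' : X' ⟶ S')
    (hX : MoreMor.IsThickening iX) (hS : MoreMor.IsThickening iS) (w : iX ≫ f' = f ≫ iS) :
    QuasiSeparated f ↔ QuasiSeparated f' := by
  refine iff_of_property @QuasiSeparated ?_ ?_ iX iS f f' hX hS w
  · intro A B i hi
    have := hi.1
    infer_instance
  · intro A B C i g hi h
    exact quasiSeparated_of_comp_thickening i g hi h

lemma locallyQuasiFinite_of_comp_thickening {A B C : Scheme.{u}} (i : A ⟶ B) (g : B ⟶ C)
    (hi : MoreMor.IsThickening i) [LocallyOfFiniteType g] (h : LocallyQuasiFinite (i ≫ g)) :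
    LocallyQuasiFinite g := by
  have := hi.1
  rw [locallyQuasiFinite_iff_isDiscrete_preimage_singleton] at h ⊢
  intro c
  let e : A ≃ₜ B := (isHomeomorph hi).homeomorph
  have h1 := (h c).preimage (f := e.symm) e.symm.continuous.continuousOn e.symm.injective
  convert h1 using 1
  ext b
  obtain ⟨a, rfl⟩ := e.surjective b
  simp only [Set.mem_preimage, Set.mem_singleton_iff, Homeomorph.symm_apply_apply]
  change g (i a) = c ↔ (i ≫ g) a = c
  simp

theorem locallyQuasiFinite_iff (iX : X ⟶ X') (iS : S ⟶ S') (f : X ⟶ S) (f' : X' ⟶ S')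
    (hS : MoreMor.IsThickening iS) (hc : IsPullback iX f f' iS)
    [LocallyOfFiniteType f] [LocallyOfFiniteType f'] :
    LocallyQuasiFinite f ↔ LocallyQuasiFinite f' := by
  have hX : MoreMor.IsThickening iX :=
    ⟨MorphismProperty.of_isPullback hc.flip hS.1, MorphismProperty.of_isPullback hc.flip hS.2⟩
  have := hX.1
  have := hS.1
  constructor
  · intro hf
    apply locallyQuasiFinite_of_comp_thickening iX f' hX
    rw [hc.w]
    infer_instance
  · intro hf'
    have : LocallyQuasiFinite (f ≫ iS) := by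
      rw [← hc.w]; infer_instance
    exact LocallyQuasiFinite.of_comp f iS

end Groth.Agent.Lib.Helper1.Thickening
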