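import Mathlib
import Groth.Agent.Lib.Helper1.Deform2
import Groth.Agent.Lib.Helper1.Thickening

/-!
# Deformations over a nilpotent thickening: monomorphisms, open immersions, isomorphisms
-/

open CategoryTheory Limits AlgebraicGeometry TensorProduct

universe u
namespace Groth.Agent.Lib.Helper1.Deform

set_option linter.style.haveILetI false

/-- Monomorphisms ascend along a cartesian square over a thickening (for morphisms locally of
finite type). -/
theorem mono_of_isPullback_of_lft {X X' Y Y' : Scheme.{u}} {iX : X ⟶ X'} {iY : Y ⟶ Y'}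
    {f : X ⟶ Y} {f' : X' ⟶ Y'} (hY : MoreMor.IsThickening iY) (hc : IsPullback iX f f' iY)
    [LocallyOfFiniteType f'] [Mono f] : Mono f' := by
  haveI := hY.1
  have hX : MoreMor.IsThickening iX :=
    ⟨MorphismProperty.of_isPullback hc.flip hY.1, MorphismProperty.of_isPullback hc.flip hY.2⟩
  haveI : IsIso (pullback.diagonal f) := (pullback.isIso_diagonal_iff f).mpr inferInstance
  haveI : FormallyUnramified f := inferInstance
  haveI : FormallyUnramified f' :=
    ThickSq.formallyUnramified_of_isPullback_of_lft hc hY.2.surj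
  haveI : IsOpenImmersion (pullback.diagonal f') := inferInstance
  haveI : UniversallyInjective f' :=
    (Thickening.universallyInjective_iff iX iY f f' hX hY hc.w).mp inferInstance
  haveI : Surjective (pullback.diagonal f') := (UniversallyInjective.iff_diagonal f').mp ‹_›
  haveI : IsIso (pullback.diagonal f') :=
    (isIso_iff_isOpenImmersion_and_surjective _).mpr ⟨‹_›, ‹_›⟩
  exact (pullback.isIso_diagonal_iff f').mp inferInstance

variable {X X' Y Y' S S' : Scheme.{u}} {iX : X ⟶ X'} {iY : Y ⟶ Y'} {iS : S ⟶ S'}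
    {f : X ⟶ Y} {f' : X' ⟶ Y'} {g : Y ⟶ S} {g' : Y' ⟶ S'}

theorem isOpenImmersion_of_deform (hS : MoreMor.IsThickening iS)
    (hnil : ∀ U : S'.affineOpens, IsNilpotent (RingHom.ker (iS.app U.1).hom))
    (hcX : IsPullback iX (f ≫ g) (f' ≫ g') iS) (hcY : IsPullback iY g g' iS)
    (w : iX ≫ f' = f ≫ iY) [Flat (f' ≫ g')] [IsOpenImmersion f] : IsOpenImmersion f' := by
  haveI := hS.1
  have hcXY : IsPullback iX f f' iY := IsPullback.of_bot hcX w hcY
  have hY : MoreMor.IsThickening iY :=
    ⟨MorphismProperty.of_isPullback hcY.flip hS.1, MorphismProperty.of_isPullback hcY.flip hS.2⟩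
  haveI : Flat f' := flat_of_deform hnil hcX hcY w
  haveI : LocallyOfFinitePresentation f' := locallyOfFinitePresentation_of_deform hnil hcX hcY w
  haveI : Mono f' := mono_of_isPullback_of_lft hY hcXY
  exact IsOpenImmersion.of_flat_of_mono f'

theorem isIso_of_deform (hS : MoreMor.IsThickening iS)
    (hnil : ∀ U : S'.affineOpens, IsNilpotent (RingHom.ker (iS.app U.1).hom))
    (hcX : IsPullback iX (f ≫ g) (f' ≫ g') iS) (hcY : IsPullback iY g g' iS)
    (w : iX ≫ f' = f ≫ iY) [Flat (f' ≫ g')] [IsIso f] : IsIso f' := by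
  haveI := hS.1
  have hY : MoreMor.IsThickening iY :=
    ⟨MorphismProperty.of_isPullback hcY.flip hS.1, MorphismProperty.of_isPullback hcY.flip hS.2⟩
  haveI := hY.2
  haveI : IsOpenImmersion f' := isOpenImmersion_of_deform hS hnil hcX hcY w
  rw [isIso_iff_isOpenImmersion_and_surjective]
  refine ⟨inferInstance, ⟨fun y' ↦ ?_⟩⟩
  obtain ⟨y, rfl⟩ := iY.surjective y'
  obtain ⟨x, rfl⟩ := f.surjective y
  refine ⟨iX x, ?_⟩
  rw [← Scheme.Hom.comp_apply, ← Scheme.Hom.comp_apply, w]

end Groth.Agent.Lib.Helper1.Deform
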