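import Mathlib
import Groth.Agent.Lib.Helper1.Deform3

/-!
# Deformations over a nilpotent thickening: étale and smooth morphisms
-/

open CategoryTheory Limits AlgebraicGeometry TensorProduct

universe u
namespace Groth.Agent.Lib.Helper1.Deform

set_option linter.style.haveILetI false

lemma isIso_residueFieldMap_of_isClosedImmersion {Y Y' : Scheme.{u}} (i : Y ⟶ Y')
    [IsClosedImmersion i] (y : Y) : IsIso (i.residueFieldMap y) := by
  rw [ConcreteCategory.isIso_iff_bijective]
  refine ⟨(i.residueFieldMap y).hom.injective, ?_⟩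
  intro b
  obtain ⟨c, rfl⟩ := IsLocalRing.residue_surjective (R := Y.presheaf.stalk y) b
  obtain ⟨a, rfl⟩ := i.stalkMap_surjective y c
  refine ⟨Y'.residue (i y) a, ?_⟩
  have h1 := Scheme.residue_residueFieldMap i y
  exact congr($(h1).hom a)

/-- fibres of `f'` are smooth if those of its base change along a closed immersion are. -/
lemma smooth_fiberToSpecResidueField_of_isPullback {X X' Y Y' : Scheme.{u}} {iX : X ⟶ X'}
    {iY : Y ⟶ Y'} {f : X ⟶ Y} {f' : X' ⟶ Y'} (hc : IsPullback iX f f' iY)
    [IsClosedImmersion iY] (y : Y) [Smooth (f.fiberToSpecResidueField y)] :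
    Smooth (f'.fiberToSpecResidueField (iY y)) := by
  obtain ⟨m, H⟩ : ∃ m : f.fiber y ⟶ f'.fiber (iY y), IsPullback m
      (f.fiberToSpecResidueField y) (f'.fiberToSpecResidueField (iY y))
      (Spec.map (iY.residueFieldMap y)) :=
    ⟨_, isPullback_fiberToSpecResidueField_of_isPullback hc y⟩
  haveI := isIso_residueFieldMap_of_isClosedImmersion iY y
  haveI : IsIso (Spec.map (iY.residueFieldMap y)) := inferInstance
  haveI : IsIso m := H.isIso_fst_of_isIso
  have hw : f'.fiberToSpecResidueField (iY y) =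
      inv m ≫ f.fiberToSpecResidueField y ≫ Spec.map (iY.residueFieldMap y) := by
    rw [IsIso.eq_inv_comp]; exact H.w
  rw [hw]
  infer_instance


variable {X X' Y Y' S S' : Scheme.{u}} {iX : X ⟶ X'} {iY : Y ⟶ Y'} {iS : S ⟶ S'}
    {f : X ⟶ Y} {f' : X' ⟶ Y'} {g : Y ⟶ S} {g' : Y' ⟶ S'}

theorem etale_of_deform (hS : MoreMor.IsThickening iS)
    (hnil : ∀ U : S'.affineOpens, IsNilpotent (RingHom.ker (iS.app U.1).hom))
    (hcX : IsPullback iX (f ≫ g) (f' ≫ g') iS) (hcY : IsPullback iY g g' iS)
    (w : iX ≫ f' = f ≫ iY) [Flat (f' ≫ g')] [Etale f] : Etale f' := by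
  haveI := hS.1
  have hcXY : IsPullback iX f f' iY := IsPullback.of_bot hcX w hcY
  have hY : MoreMor.IsThickening iY :=
    ⟨MorphismProperty.of_isPullback hcY.flip hS.1, MorphismProperty.of_isPullback hcY.flip hS.2⟩
  haveI := hY.1
  obtain ⟨h1, h2, h3⟩ := Etale.iff_flat_and_formallyUnramified.mp (inferInstance : Etale f)
  haveI : Flat f' := flat_of_deform hnil hcX hcY w
  haveI : LocallyOfFinitePresentation f' := locallyOfFinitePresentation_of_deform hnil hcX hcY w
  haveI : FormallyUnramified f' :=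
    ThickSq.formallyUnramified_of_isPullback_of_lft hcXY hY.2.surj
  exact Etale.of_formallyUnramified_of_flat f'

theorem smooth_of_deform (hS : MoreMor.IsThickening iS)
    (hnil : ∀ U : S'.affineOpens, IsNilpotent (RingHom.ker (iS.app U.1).hom))
    (hcX : IsPullback iX (f ≫ g) (f' ≫ g') iS) (hcY : IsPullback iY g g' iS)
    (w : iX ≫ f' = f ≫ iY) [Flat (f' ≫ g')] [Smooth f] : Smooth f' := by
  haveI := hS.1
  have hcXY : IsPullback iX f f' iY := IsPullback.of_bot hcX w hcY
  have hY : MoreMor.IsThickening iY :=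
    ⟨MorphismProperty.of_isPullback hcY.flip hS.1, MorphismProperty.of_isPullback hcY.flip hS.2⟩
  haveI := hY.1
  haveI := hY.2
  haveI : Flat f' := flat_of_deform hnil hcX hcY w
  haveI : LocallyOfFinitePresentation f' := locallyOfFinitePresentation_of_deform hnil hcX hcY w
  apply Smooth.of_smooth_fiberToSpecResidueField
  intro y'
  obtain ⟨y, rfl⟩ := iY.surjective y'
  haveI : Smooth (f.fiberToSpecResidueField y) := by
    delta Scheme.Hom.fiberToSpecResidueField
    exact MorphismProperty.pullback_snd _ _ inferInstance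
  exact smooth_fiberToSpecResidueField_of_isPullback hcXY y

end Groth.Agent.Lib.Helper1.Deform
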