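import Mathlib
import Groth.Agent.Lib.Helper1.ThickSq
import Groth.Agent.Lib.Helper1.Thickening

open CategoryTheory Limits AlgebraicGeometry

universe u
namespace Groth.Agent.Lib.Helper1.ThickFin

set_option linter.style.haveILetI false

lemma isSeparated_of_comp_thickening {A B C : Scheme.{u}} (i : A ⟶ B) (g : B ⟶ C)
    [IsClosedImmersion i] [Surjective i] [IsSeparated (i ≫ g)] : IsSeparated g := by
  let m := pullback.map (i ≫ g) (i ≫ g) g g i i (𝟙 C) ((Category.comp_id _).trans rfl)
    ((Category.comp_id _).trans rfl)
  haveI : MorphismProperty.IsStableUnderComposition @IsClosedImmersion :=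
    ⟨fun f g hf hg ↦ inferInstanceAs (IsClosedImmersion (f ≫ g))⟩
  haveI hm : IsClosedImmersion m :=
    MorphismProperty.pullbackMap (P := @IsClosedImmersion) ‹_› ‹_› rfl rfl
  have heq : i ≫ pullback.diagonal g = pullback.diagonal (i ≫ g) ≫ m := by
    apply pullback.hom_ext
    · simp only [Category.assoc, pullback.diagonal_fst, Category.comp_id, m, pullback.lift_fst,
        pullback.diagonal_fst_assoc]
    · simp only [Category.assoc, pullback.diagonal_snd, Category.comp_id, m, pullback.lift_snd,
        pullback.diagonal_snd_assoc]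
  haveI : IsClosedImmersion (i ≫ pullback.diagonal g) := by
    rw [heq]; infer_instance
  haveI : UniversallyClosed (pullback.diagonal g) :=
    UniversallyClosed.of_comp_surjective i (pullback.diagonal g)
  have hcl : IsClosed (Set.range (pullback.diagonal g)) :=
    (pullback.diagonal g).isClosedMap.isClosed_range
  haveI : IsClosedImmersion (pullback.diagonal g) := IsClosedImmersion.of_isPreimmersion _ hcl
  exact ⟨inferInstance⟩


/-- Finite morphisms ascend along cartesian squares over a thickening with (locally) nilpotent
ideal. -/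
theorem isFinite_of_isPullback {X X' Y Y' : Scheme.{u}} {iX : X ⟶ X'} {iY : Y ⟶ Y'}
    {f : X ⟶ Y} {f' : X' ⟶ Y'} (hY : MoreMor.IsThickening iY) (hc : IsPullback iX f f' iY)
    (hnil : ∀ U : Y'.affineOpens, IsNilpotent (RingHom.ker (iY.app U.1).hom))
    [IsFinite f] : IsFinite f' := by
  haveI := hY.1
  haveI := hY.2
  have hX : MoreMor.IsThickening iX :=
    ⟨MorphismProperty.of_isPullback hc.flip hY.1, MorphismProperty.of_isPullback hc.flip hY.2⟩
  haveI := hX.1
  haveI := hX.2
  haveI : LocallyOfFiniteType f' := ThickSq.locallyOfFiniteType_of_isPullback hc hnil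
  haveI : IsFinite (iX ≫ f') := by rw [hc.w]; infer_instance
  haveI : IsSeparated f' := isSeparated_of_comp_thickening iX f'
  haveI : UniversallyClosed f' := UniversallyClosed.of_comp_surjective iX f'
  haveI : IsProper f' := {}
  haveI : LocallyQuasiFinite f' :=
    Thickening.locallyQuasiFinite_of_comp_thickening iX f' hX inferInstance
  exact IsFinite.of_isProper_of_locallyQuasiFinite f'

end Groth.Agent.Lib.Helper1.ThickFin
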