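import Mathlib
import Groth.Agent.Lib.Helper1.Deform4
import Groth.Agent.Lib.Helper1.ThickFin

/-!
# Deformations over a nilpotent thickening: finite morphisms, finite locally free of degree `d`
-/

open CategoryTheory Limits AlgebraicGeometry TensorProduct

universe u
namespace Groth.Agent.Lib.Helper1.Deform

set_option linter.style.haveILetI false

variable {X X' Y Y' S S' : Scheme.{u}} {iX : X ⟶ X'} {iY : Y ⟶ Y'} {iS : S ⟶ S'}
    {f : X ⟶ Y} {f' : X' ⟶ Y'} {g : Y ⟶ S} {g' : Y' ⟶ S'}

theorem locallyOfFiniteType_of_deform [IsClosedImmersion iS]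
    (hnil : ∀ U : S'.affineOpens, IsNilpotent (RingHom.ker (iS.app U.1).hom))
    (hcX : IsPullback iX (f ≫ g) (f' ≫ g') iS) (hcY : IsPullback iY g g' iS)
    (w : iX ≫ f' = f ≫ iY) [Flat (f' ≫ g')] [LocallyOfFiniteType f] :
    LocallyOfFiniteType f' :=
  of_deform_local (P := @LocallyOfFiniteType) (Q := RingHom.FiniteType)
    (RingHom.finiteType_stableUnderComposition.stableUnderCompositionWithLocalizationAway
      RingHom.finiteType_holdsForLocalizationAway).left
    (fun a b ψ π γ h hψ J hJ hker hab hγ ↦ by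
      refine ThickSq.finiteType_of_isPushout h hψ ?_ hγ
      rw [hker]
      obtain ⟨n, hn⟩ := hJ
      refine ⟨n, ?_⟩
      rw [← Ideal.map_pow, hn, Ideal.zero_eq_bot, Ideal.map_bot, Ideal.zero_eq_bot])
    hnil hcX hcY w inferInstance

theorem isFinite_of_deform (hS : MoreMor.IsThickening iS)
    (hnil : ∀ U : S'.affineOpens, IsNilpotent (RingHom.ker (iS.app U.1).hom))
    (hcX : IsPullback iX (f ≫ g) (f' ≫ g') iS) (hcY : IsPullback iY g g' iS)
    (w : iX ≫ f' = f ≫ iY) [Flat (f' ≫ g')] [IsFinite f] : IsFinite f' := by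
  haveI := hS.1
  have hcXY : IsPullback iX f f' iY := IsPullback.of_bot hcX w hcY
  have hY : MoreMor.IsThickening iY :=
    ⟨MorphismProperty.of_isPullback hcY.flip hS.1, MorphismProperty.of_isPullback hcY.flip hS.2⟩
  haveI := hY.1
  haveI := hY.2
  have hX : MoreMor.IsThickening iX :=
    ⟨MorphismProperty.of_isPullback hcXY.flip hY.1, MorphismProperty.of_isPullback hcXY.flip hY.2⟩
  haveI := hX.1
  haveI := hX.2
  haveI : LocallyOfFiniteType f' := locallyOfFiniteType_of_deform hnil hcX hcY w
  haveI : IsFinite (iX ≫ f') := by rw [w]; infer_instance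
  haveI : IsSeparated f' := ThickFin.isSeparated_of_comp_thickening iX f'
  haveI : UniversallyClosed f' := UniversallyClosed.of_comp_surjective iX f'
  haveI : IsProper f' := {}
  haveI : LocallyQuasiFinite f' :=
    Thickening.locallyQuasiFinite_of_comp_thickening iX f' hX inferInstance
  exact IsFinite.of_isProper_of_locallyQuasiFinite f'

end Groth.Agent.Lib.Helper1.Deform
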