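import Mathlib
import Groth.Agent.Lib.Helper1.IdealMulSec
import Groth.Agent.Lib.Helper1.ARees
import Groth.Agent.Lib.Helper17.DevSplit
import Groth.Agent.Lib.Helper17.SuppKill
import Groth.Agent.Lib.Helper3.QCExtend

/-!
# Deligne's formula: extending homomorphisms from the complement of `V(I)` to `I^n G`
-/

set_option autoImplicit false
set_option linter.style.haveILetI false
universe u
open CategoryTheory CategoryTheory.Limits AlgebraicGeometry Opposite TopologicalSpace

namespace Groth.Agent.Lib.Helper1.Deligne

open Groth.Agent.Lib.Helper3 Groth.Agent.Lib.Helper17 Groth.Agent.Lib.Helper17.DevBasic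
  Groth.Agent.Lib.Helper17.StalkExact Groth.Agent.Lib.Helper27 Groth.Agent.Lib.Helper17.DevTF
  AlgebraicGeometry.Scheme.Modules

variable {X : Scheme.{u}}

/-- if `J` kills `G/G₁` then `J·G ⊆ G₁`. -/
theorem lift_of_killed (J : X.IdealSheafData) {G₁ G : X.Modules} [G.IsQuasicoherent]
    (k : G₁ ⟶ G) [Mono k] (hk : ClSub.KilledByIdeal J (cokernel k)) :
    ∃ ι : (Dual3.idealMul J).obj G ⟶ G₁, ι ≫ k = Dual3.idealMulι J G := by
  have h0 : Dual3.idealMulι J G ≫ cokernel.π k = 0 := by
    apply Dev9522.eq_zero_of_app_affine
    intro U s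
    show (cokernel.π k).app U.1 ((Dual3.idealMulι J G).app U.1 s) = 0
    refine Dev9522.app_eq_zero_of_mem_smul (cokernel.π k) U.1 (J.ideal U) (fun r hr g => ?_) _
      (Dev9522.idealMulι_app_mem J G U s)
    rw [Scheme.Modules.Hom.app_smul]
    exact (killed_iff _ _).mp hk U r hr _
  exact ⟨Abelian.monoLift k _ h0, Abelian.monoLift_comp k _ h0⟩

/-- off `V(I)`, the inclusion `I·F → F` is an isomorphism. -/
theorem isIso_restrict_idealMulι (I : X.IdealSheafData) (F : X.Modules) [F.IsQuasicoherent]
    (U : X.Opens) (hU : Disjoint (U : Set X) (I.support : Set X)) :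
    IsIso ((restrictFunctor U.ι).map (Dual3.idealMulι I F)) := by
  haveI : Mono (Dual3.idealMulι I F) := inferInstanceAs (Mono (kernel.ι _))
  apply QCExtend.isIso_restrict_map_of_surjective _ U
  intro O hO hOU t
  have hsupp : CohB1.support (DevStep.quot I F) ⊆ (I.support : Set X) :=
    SuppKill.support_subset_of_kill (DevStep.quot I F) I
      ((killed_iff _ _).mp (DevStep.killed_quot I F))
  haveI : Subsingleton Γ(DevStep.quot I F, O) :=
    QCOpen.subsingleton_sections_of_stalks (DevStep.quot I F) O
      (fun x hx => not_not.mp (fun hxs => (Set.disjoint_left.mp hU) (hOU hx) (hsupp hxs)))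
  have hS : (ShortComplex.mk (kernel.ι (DevStep.proj I F)) (DevStep.proj I F)
      (kernel.condition _)).ShortExact :=
    ShortComplex.ShortExact.mk' (ShortComplex.exact_kernel _) (by dsimp; infer_instance)
      (by dsimp; infer_instance)
  obtain ⟨s, hs⟩ := ((ModSections.sections_left_exact _ hS O).2 t).mp (Subsingleton.elim _ _)
  exact ⟨s, hs⟩

/-- the restriction of the extension `extHom φ` is `φ`. -/
theorem restrict_extHom {V : X.Opens} {A B : X.Modules}
    (φ : (restrictFunctor V.ι).obj A ⟶ (restrictFunctor V.ι).obj B) (hB : TorsFree V B) :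
    (restrictFunctor V.ι).map (extHom φ hB) = (restrictFunctor V.ι).map (extι φ) ≫ φ := by
  have h1 := congrArg (fun f => (restrictFunctor V.ι).map f) (extHom_comp φ hB)
  simp only [Functor.map_comp] at h1
  have h2 := congrArg (fun f => f ≫ (restrictAdjunction V.ι).counit.app
    ((restrictFunctor V.ι).obj B)) h1
  simp only [Category.assoc] at h2
  have t1 := (restrictAdjunction V.ι).left_triangle_components B
  have t2 := (restrictAdjunction V.ι).left_triangle_components A
  have t3 := (restrictAdjunction V.ι).counit.naturality φ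
  simp only [Functor.comp_map, Functor.id_map] at t3
  rw [t1, Category.comp_id, t3, reassoc_of% t2] at h2
  exact h2

end Groth.Agent.Lib.Helper1.Deligne
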