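import Mathlib
import Groth.Agent.Lib.Helper1.Deligne1

/-!
# Deligne's formula: the coherent case
-/

set_option autoImplicit false
set_option linter.style.haveILetI false
universe u
open CategoryTheory CategoryTheory.Limits AlgebraicGeometry Opposite TopologicalSpace

namespace Groth.Agent.Lib.Helper1.Deligne

open Groth.Agent.Lib.Helper3 Groth.Agent.Lib.Helper17 Groth.Agent.Lib.Helper17.DevBasic
  Groth.Agent.Lib.Helper17.StalkExact Groth.Agent.Lib.Helper27 Groth.Agent.Lib.Helper17.DevTF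
  AlgebraicGeometry.Scheme.Modules

variable {X : Scheme.{u}} [IsNoetherian X]

/-- for `c` large, `I^c F` has no sections supported on `V(I)`. -/
theorem torsFree_idealMul_pow (I : X.IdealSheafData) (V : X.Opens)
    (hV : (V : Set X) = (I.support : Set X)ᶜ) (F : X.Modules) (hF : Coh.IsCoh F) :
    ∃ c : ℕ, TorsFree V ((Dual3.idealMul (I ^ c)).obj F) := by
  haveI := hF.1
  obtain ⟨c, hc⟩ := ARees.exists_pow_mono F V hF
  refine ⟨c, ?_⟩
  haveI hcm : Mono (ARees.cmp F V c) := hc c le_rfl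
  have hle : I ≤ ARees.JV V := by
    apply Scheme.IdealSheafData.le_support_iff_le_vanishingIdeal.mp
    intro x hx
    have hx' : x ∈ (V : Set X)ᶜ := hx
    rw [hV, compl_compl] at hx'
    exact hx'
  have hle' : I ^ c ≤ ARees.JV V ^ c := fun W => Ideal.pow_right_mono (hle W) c
  obtain ⟨ι, hι⟩ := IdealMulSec.exists_le hle' F
  haveI : Mono (Dual3.idealMulι (I ^ c) F) := inferInstanceAs (Mono (kernel.ι _))
  haveI : Mono (ι ≫ Dual3.idealMulι (ARees.JV V ^ c) F) := by rw [hι]; infer_instance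
  haveI : Mono ι := mono_of_mono ι (Dual3.idealMulι (ARees.JV V ^ c) F)
  haveI h1 : Mono (Dual3.idealMulι (I ^ c) F ≫ cokernel.π (kernel.ι (un V F))) := by
    have : Dual3.idealMulι (I ^ c) F ≫ cokernel.π (kernel.ι (un V F)) = ι ≫ ARees.cmp F V c := by
      show _ = ι ≫ (Dual3.idealMulι (ARees.JV V ^ c) F ≫ cokernel.π (kernel.ι (un V F)))
      rw [← Category.assoc, hι]
    rw [this]
    exact @mono_comp _ _ _ _ _ ι ‹Mono ι› (ARees.cmp F V c) hcm
  have hnat : un V ((Dual3.idealMul (I ^ c)).obj F) ≫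
      (pushforward V.ι).map ((restrictFunctor V.ι).map (Dual3.idealMulι (I ^ c) F)) =
      Dual3.idealMulι (I ^ c) F ≫ un V F :=
    ((restrictAdjunction V.ι).unit.naturality (Dual3.idealMulι (I ^ c) F)).symm
  have hfac : un V F = cokernel.π (kernel.ι (un V F)) ≫ Abelian.factorThruCoimage (un V F) :=
    (Abelian.coimage.fac (un V F)).symm
  haveI : Mono (un V ((Dual3.idealMul (I ^ c)).obj F) ≫
      (pushforward V.ι).map ((restrictFunctor V.ι).map (Dual3.idealMulι (I ^ c) F))) := by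
    rw [hnat, hfac, ← Category.assoc]
    exact mono_comp _ _
  exact mono_of_mono _ ((pushforward V.ι).map ((restrictFunctor V.ι).map (Dual3.idealMulι (I ^ c) F)))

theorem key_coh (F G : X.Modules) (hF : Coh.IsCoh F) (hG : Coh.IsCoh G) (I : X.IdealSheafData)
    (U : X.Opens) (hU : (U : Set X) = (I.support : Set X)ᶜ)
    (φ : (restrictFunctor U.ι).obj G ⟶ (restrictFunctor U.ι).obj F) :
    ∃ (n : ℕ) (ψ : (Dual3.idealMul (I ^ n)).obj G ⟶ F),
      (restrictFunctor U.ι).map ψ = (restrictFunctor U.ι).map (Dual3.idealMulι (I ^ n) G) ≫ φ := by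
  haveI := hF.1
  haveI := hG.1
  obtain ⟨c, hB⟩ := torsFree_idealMul_pow I U hU F hF
  have hBcoh : Coh.IsCoh ((Dual3.idealMul (I ^ c)).obj F) :=
    isCoh_kernel (DevStep.proj (I ^ c) F) hF inferInstance
  haveI := hBcoh.1
  have hdisj : Disjoint (U : Set X) ((I ^ c).support : Set X) := by
    rw [Set.disjoint_left]
    intro x hxU hxs
    have h1 : x ∈ (I.support : Set X) := Dev9522.support_pow_le I c hxs
    rw [hU] at hxU
    exact hxU h1
  haveI hiso : IsIso ((restrictFunctor U.ι).map (Dual3.idealMulι (I ^ c) F)) :=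
    isIso_restrict_idealMulι (I ^ c) F U hdisj
  obtain ⟨φB, hφB⟩ : ∃ φB : (restrictFunctor U.ι).obj G ⟶
      (restrictFunctor U.ι).obj ((Dual3.idealMul (I ^ c)).obj F),
      φB ≫ (restrictFunctor U.ι).map (Dual3.idealMulι (I ^ c) F) = φ :=
    ⟨φ ≫ inv ((restrictFunctor U.ι).map (Dual3.idealMulι (I ^ c) F)), by
      rw [Category.assoc, IsIso.inv_hom_id, Category.comp_id]⟩
  haveI hG₁q : (extObj φB).IsQuasicoherent := isQuasicoherent_extObj φB hG.1 hBcoh.1
  haveI : Mono (extι φB) := inferInstanceAs (Mono (kernel.ι _))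
  have hCcoh : Coh.IsCoh (cokernel (extι φB)) := isCoh_cokernel (extι φB) hG₁q hG
  have hCs : CohB1.support (cokernel (extι φB)) ⊆ (I.support : Set X) := by
    intro x hx
    by_contra hxI
    have hxU : x ∈ U := by
      have : x ∈ (U : Set X) := by rw [hU]; exact hxI
      exact this
    apply hx
    suffices hz : ∀ k : (cokernel (extι φB)).presheaf.stalk x, k = 0 from
      ⟨fun k k' => by rw [hz k, hz k']⟩
    intro k
    obtain ⟨g, rfl⟩ := stalkLin_surjective (cokernel.π (extι φB)) x k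
    obtain ⟨W, hxW, t, rfl⟩ := TopCat.Presheaf.exists_germ_eq G.presheaf g
    have hWU : W ⊓ U ≤ W := inf_le_left
    rw [← TopCat.Presheaf.germ_res_apply G.presheaf (homOfLE hWU) x ⟨hxW, hxU⟩ t]
    obtain ⟨t₁, ht₁⟩ := (extι_app_bijective φB (W ⊓ U) inf_le_right).2
      (G.presheaf.map (homOfLE hWU).op t)
    rw [← ht₁, stalkLin_apply, QS.stalkMap_germ]
    have h0 : (cokernel.π (extι φB)).app (W ⊓ U) ((extι φB).app (W ⊓ U) t₁) = 0 :=
      congrArg (fun f => (Scheme.Modules.Hom.app f (W ⊓ U)).hom t₁) (cokernel.condition (extι φB))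
    rw [h0, map_zero]
  obtain ⟨a, ha⟩ := DevNilp.exists_pow_killed (cokernel (extι φB)) hCcoh I.support hCs
  have hle : I ^ a ≤ Scheme.IdealSheafData.vanishingIdeal I.support ^ a := by
    intro W
    exact Ideal.pow_right_mono
      ((Scheme.IdealSheafData.le_support_iff_le_vanishingIdeal.mp le_rfl) W) a
  have ha' : ClSub.KilledByIdeal (I ^ a) (cokernel (extι φB)) := DevNilp.killed_mono hle ha
  obtain ⟨ιa, hιa⟩ := lift_of_killed (I ^ a) (extι φB) ha'
  refine ⟨a, ιa ≫ extHom φB hB ≫ Dual3.idealMulι (I ^ c) F, ?_⟩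
  rw [Functor.map_comp, Functor.map_comp, restrict_extHom φB hB, ← hιa, Functor.map_comp]
  simp only [Category.assoc, hφB]

end Groth.Agent.Lib.Helper1.Deligne
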