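import Mathlib
import Groth.Agent.Lib.Helper1.Deligne2

/-!
# Deligne's formula: quasi-coherent target
-/

set_option autoImplicit false
set_option linter.style.haveILetI false
universe u
open CategoryTheory CategoryTheory.Limits AlgebraicGeometry Opposite TopologicalSpace

namespace Groth.Agent.Lib.Helper1.Deligne

open Groth.Agent.Lib.Helper3 Groth.Agent.Lib.Helper17 Groth.Agent.Lib.Helper17.DevBasic
  AlgebraicGeometry.Scheme.Modules

theorem key9515 (X : Scheme.{u}) [IsNoetherian X] (F G : X.Modules)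
    (hF : Coh.IsQCoh F) (hG : Coh.IsCoh G) (I : X.IdealSheafData)
    (U : X.Opens) (hU : (U : Set X) = (I.support : Set X)ᶜ)
    (φ : (Scheme.Modules.restrictFunctor U.ι).obj G ⟶
      (Scheme.Modules.restrictFunctor U.ι).obj F) :
    ∃ (n : ℕ) (ψ : (Dual3.idealMul (I ^ n)).obj G ⟶ F),
      (Scheme.Modules.restrictFunctor U.ι).map ψ =
        (Scheme.Modules.restrictFunctor U.ι).map (Dual3.idealMulι (I ^ n) G) ≫ φ := by
  haveI : F.IsQuasicoherent := hF
  haveI := hG.1
  haveI := hG.2
  haveI hGq' : ((restrictFunctor U.ι).obj G).IsQuasicoherent :=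
    Scheme.Modules.isQuasicoherent_restrictFunctor U.ι G
  haveI hFq' : ((restrictFunctor U.ι).obj F).IsQuasicoherent :=
    Scheme.Modules.isQuasicoherent_restrictFunctor U.ι F
  haveI hGf' : ((restrictFunctor U.ι).obj G).IsFiniteType := QCProps.isFiniteType_restrict U.ι G
  haveI : (cokernel φ).IsQuasicoherent := QCProps.isQuasicoherent_cokernel φ
  haveI hImq : (Abelian.image φ).IsQuasicoherent := QCProps.isQuasicoherent_kernel (cokernel.π φ)
  have hImf : (Abelian.image φ).IsFiniteType :=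
    QCProps.isFiniteType_of_epi (Abelian.factorThruImage φ)
  have hUc : IsCompact (U : Set X) := NoetherianSpace.isCompact _
  obtain ⟨F₀, i, e, hi, hF₀q, hF₀f, he⟩ :=
    QCExtend.exists_finiteType_extension U hUc F (Abelian.image φ) hImf (Abelian.image.ι φ)
  haveI := hi
  have hF₀ : Coh.IsCoh F₀ := ⟨hF₀q, hF₀f⟩
  obtain ⟨n, ψ₀, hψ₀⟩ := key_coh F₀ G hF₀ hG I U hU (Abelian.factorThruImage φ ≫ e.inv)
  refine ⟨n, ψ₀ ≫ i, ?_⟩
  rw [Functor.map_comp, hψ₀, Category.assoc, Category.assoc, ← he, Iso.inv_hom_id_assoc,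
    Abelian.image.fac]

end Groth.Agent.Lib.Helper1.Deligne
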