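import Mathlib
import Groth.Agent.Lib.Helper1.DerSpec

set_option linter.style.haveILetI false
set_option autoImplicit false
universe u
open CategoryTheory AlgebraicGeometry TopologicalSpace Opposite

namespace Groth.Agent.Lib.Helper1.DerSpec2

open Groth.Agent.Lib.Helper1.DerAff Groth.Agent.Lib.Helper1.DerSpec

variable (A B : Type u) [CommRing A] [CommRing B] [Algebra A B]
    (L : Type u) [AddCommGroup L] [Module B L] [Module A L] [IsScalarTower A B L]

/-- abbreviation -/
noncomputable abbrev φ : CommRingCat.of A ⟶ CommRingCat.of B := CommRingCat.ofHom (algebraMap A B)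

/-- abbreviation -/
noncomputable abbrev N : ModuleCat.{u} (CommRingCat.of B) := ModuleCat.of (CommRingCat.of B) L

theorem toTop_bijective : Function.Bijective (toTop (N B L)) := by
  have : IsIso (tilde.toOpen (R := CommRingCat.of B) (N B L) ⊤) :=
    tilde.isIso_toOpen_top (R := CommRingCat.of B) (M := N B L)
  exact (ConcreteCategory.isIso_iff_bijective (tilde.toOpen (R := CommRingCat.of B) (N B L) ⊤)).mp this

theorem isoTop_hom_apply (l : L) : (tilde.isoTop (N B L)).hom l = toTop (N B L) l := rfl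

theorem part2 (δ : Derivation A B L) :
    ∃! D : OmegaSh.Der (Spec.map (φ A B)) (tilde (N B L)),
      ∀ t : B, D.app ⊤ ((Scheme.ΓSpecIso (CommRingCat.of B)).inv t) =
        (tilde.isoTop (N B L)).hom (δ t) := by
  let δ' : Γ(Spec (CommRingCat.of B), ⊤) →+ Γ(tilde (N B L), ⊤) :=
    AddMonoidHom.mk' (fun s => toTop (N B L) (δ ((Scheme.ΓSpecIso (CommRingCat.of B)).hom s)))
      (by intro a b; rw [map_add, map_add, map_add])
  have hδ' : ∀ a b, δ' (a * b) = a • δ' b + b • δ' a := by
    intro a b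
    change toTop (N B L) (δ ((Scheme.ΓSpecIso (CommRingCat.of B)).hom (a * b))) =
      a • toTop (N B L) (δ ((Scheme.ΓSpecIso (CommRingCat.of B)).hom b)) +
        b • toTop (N B L) (δ ((Scheme.ΓSpecIso (CommRingCat.of B)).hom a))
    rw [map_mul, Derivation.leibniz, map_add]
    have h1 := toTop_smul (N B L) ((Scheme.ΓSpecIso (CommRingCat.of B)).hom a)
      (δ ((Scheme.ΓSpecIso (CommRingCat.of B)).hom b))
    have h2 := toTop_smul (N B L) ((Scheme.ΓSpecIso (CommRingCat.of B)).hom b)
      (δ ((Scheme.ΓSpecIso (CommRingCat.of B)).hom a))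
    have e : ∀ x, (Scheme.ΓSpecIso (CommRingCat.of B)).inv
        ((Scheme.ΓSpecIso (CommRingCat.of B)).hom x) = x := fun x =>
      congr($((Scheme.ΓSpecIso (CommRingCat.of B)).hom_inv_id) x)
    rw [e] at h1 h2
    exact congrArg₂ (· + ·) h1 h2
  have hδ0 : ∀ c : Γ(Spec (CommRingCat.of A), ⊤), δ' ((Spec.map (φ A B)).appTop c) = 0 := by
    intro c
    change toTop (N B L) (δ ((Scheme.ΓSpecIso (CommRingCat.of B)).hom
      ((Spec.map (φ A B)).appTop c))) = 0
    have : (Scheme.ΓSpecIso (CommRingCat.of B)).hom ((Spec.map (φ A B)).appTop c) =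
        algebraMap A B ((Scheme.ΓSpecIso (CommRingCat.of A)).hom c) :=
      congr($(Scheme.ΓSpecIso_naturality (φ A B)) c)
    rw [this, Derivation.map_algebraMap, map_zero]
  refine ⟨derOfGlobal (tilde (N B L)) (Spec.map (φ A B)) δ' hδ' hδ0, ?_, ?_⟩
  · intro t
    rw [derOfGlobal_app_top]
    change toTop (N B L) (δ ((Scheme.ΓSpecIso (CommRingCat.of B)).hom
      ((Scheme.ΓSpecIso (CommRingCat.of B)).inv t))) = _
    have : (Scheme.ΓSpecIso (CommRingCat.of B)).hom ((Scheme.ΓSpecIso (CommRingCat.of B)).inv t) = t :=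
      congr($((Scheme.ΓSpecIso (CommRingCat.of B)).inv_hom_id) t)
    rw [this]
    rfl
  · intro D' hD'
    apply der_ext_of_app_top
    ext s
    rw [derOfGlobal_app_top]
    have e : (Scheme.ΓSpecIso (CommRingCat.of B)).inv
        ((Scheme.ΓSpecIso (CommRingCat.of B)).hom s) = s :=
      congr($((Scheme.ΓSpecIso (CommRingCat.of B)).hom_inv_id) s)
    have := hD' ((Scheme.ΓSpecIso (CommRingCat.of B)).hom s)
    rw [e] at this
    exact this

theorem part1 (D : OmegaSh.Der (Spec.map (φ A B)) (tilde (N B L))) :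
    ∃ δ : Derivation A B L, ∀ t : B, D.app ⊤ ((Scheme.ΓSpecIso (CommRingCat.of B)).inv t) =
        (tilde.isoTop (N B L)).hom (δ t) := by
  let e := Equiv.ofBijective _ (toTop_bijective B L)
  let g : B → L := fun t => e.symm (D.app ⊤ ((Scheme.ΓSpecIso (CommRingCat.of B)).inv t))
  have hg : ∀ t, toTop (N B L) (g t) = D.app ⊤ ((Scheme.ΓSpecIso (CommRingCat.of B)).inv t) :=
    fun t => e.apply_symm_apply _
  have hinj := (toTop_bijective B L).1
  have g_add : ∀ t t', g (t + t') = g t + g t' := by
    intro t t'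
    apply hinj
    rw [map_add, hg, hg, hg, map_add, map_add]
  have g_mul : ∀ t t', g (t * t') = t • g t' + t' • g t := by
    intro t t'
    apply hinj
    rw [map_add, hg]
    have h1 := toTop_smul (N B L) t (g t')
    have h2 := toTop_smul (N B L) t' (g t)
    rw [hg] at h1 h2
    have h3 := D.d_mul (X := op ⊤) ((Scheme.ΓSpecIso (CommRingCat.of B)).inv t)
      ((Scheme.ΓSpecIso (CommRingCat.of B)).inv t')
    rw [map_mul]
    exact h3.trans (congrArg₂ (· + ·) h1.symm h2.symm)
  have g_alg : ∀ a : A, g (algebraMap A B a) = 0 := by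
    intro a
    apply hinj
    rw [hg, map_zero]
    have h1 : (Scheme.ΓSpecIso (CommRingCat.of B)).inv (algebraMap A B a) =
        (Spec.map (φ A B)).appTop ((Scheme.ΓSpecIso (CommRingCat.of A)).inv a) :=
      congr($(Scheme.ΓSpecIso_inv_naturality (φ A B)) a)
    rw [h1]
    exact D.d_app (X := op ⊤) ((Scheme.ΓSpecIso (CommRingCat.of A)).inv a)
  let lin : B →ₗ[A] L :=
    { toFun := g
      map_add' := g_add
      map_smul' := by
        intro a t
        rw [Algebra.smul_def, g_mul, g_alg, smul_zero, add_zero, RingHom.id_apply,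
          algebraMap_smul] }
  refine ⟨Derivation.mk' lin g_mul, fun t => ?_⟩
  exact (hg t).symm

end Groth.Agent.Lib.Helper1.DerSpec2
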