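-- Helper library (helper1): fpqc descent for properties of the form `affineAnd Q`.
import Groth.Agent.S0082

set_option autoImplicit false
universe u

namespace Groth.Agent.Lib.Helper1

open CategoryTheory CategoryTheory.Limits AlgebraicGeometry MorphismProperty

/-- The fpqc class of morphisms. -/
abbrev fpqc : MorphismProperty Scheme.{u} := @Surjective ⊓ @Flat ⊓ @QuasiCompact

theorem localIso_inf_surjective_le :
    (@IsLocalIso ⊓ @Surjective : MorphismProperty Scheme.{u}) ≤
      (@Surjective ⊓ @Flat : MorphismProperty Scheme.{u}) := by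
  rw [inf_comm]
  exact inf_le_inf le_rfl (IsLocalIso.le_of_isZariskiLocalAtSource _)

/-- Variant of `HasAffineProperty.descendsAlong_of_affineAnd` for the fpqc class, using fpqc
descent of affine morphisms (S0082). -/
theorem descendsAlong_fpqc_of_affineAnd (P : MorphismProperty Scheme.{u})
    (Q : ∀ {R S : Type u} [CommRing R] [CommRing S], (R →+* S) → Prop)
    [P.IsStableUnderBaseChange]
    (hP : HasAffineProperty P (affineAnd Q))
    (hQ : RingHom.RespectsIso Q) (hQQ' : RingHom.CodescendsAlong Q RingHom.FaithfullyFlat) :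
    P.DescendsAlong (fpqc.{u}) := by
  have hAff := Groth.Agent.S0082.result.{u}
  apply IsZariskiLocalAtTarget.descendsAlong_inf_quasiCompact _ _ localIso_inf_surjective_le
  introv h hf
  have : IsAffine Y := by
    convert! isAffine_of_isAffineHom g
    exact MorphismProperty.of_pullback_fst_of_descendsAlong (P := @IsAffineHom)
      (Q := @Surjective ⊓ @Flat ⊓ @QuasiCompact) (f := Spec.map φ) ⟨h, inferInstance⟩ <|
      AlgebraicGeometry.HasAffineProperty.affineAnd_le_isAffineHom P inferInstance _ hf
  wlog hY : ∃ S, Y = Spec S generalizing Y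
  · rw [← P.cancel_left_of_respectsIso Y.isoSpec.inv]
    have heq : pullback.fst (Spec.map φ) (Y.isoSpec.inv ≫ g) =
        pullback.map _ _ _ _ (𝟙 _) (Y.isoSpec.inv) (𝟙 _) (by simp) (by simp) ≫
          pullback.fst (Spec.map φ) g := (pullback.lift_fst _ _ _).symm
    refine this _ ?_ inferInstance ⟨_, rfl⟩
    rwa [heq, P.cancel_left_of_respectsIso]
  obtain ⟨Y, rfl⟩ := hY
  refine of_pullback_fst_Spec_of_codescendsAlong (P := P) (P' := @Surjective ⊓ @Flat)
    (Q' := RingHom.FaithfullyFlat) hQQ' ?_ ?_ h hf
  · intro _ _ f hf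
    rwa [← flat_and_surjective_SpecMap_iff, and_comm]
  · simp [HasAffineProperty.SpecMap_iff_of_affineAnd hP hQ]

end Groth.Agent.Lib.Helper1
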