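import Mathlib
import Groth.Agent.Lib.Helper1.Dev9522

/-!
# S9522: dévissage with extensions and roots, irreducible support
-/

set_option autoImplicit false
set_option linter.style.haveILetI false
universe u
open CategoryTheory CategoryTheory.Limits AlgebraicGeometry Opposite TopologicalSpace

namespace Groth.Agent.Lib.Helper1.Dev9522

open Groth.Agent.Lib.Helper3 Groth.Agent.Lib.Helper17 Groth.Agent.Lib.Helper17.DevBasic
  Groth.Agent.Lib.Helper1.Dev12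

theorem key9522 (X : Scheme.{u}) [IsNoetherian X]
    (Z₀ : Set X) (hZ₀ : IsClosed Z₀) (hirr : IsIrreducible Z₀) (ξ : X) (hξ : ξ ∈ Z₀ ∧ closure {ξ} = Z₀)
    (P : X.Modules → Prop) (hP : ∀ M N : X.Modules, Nonempty (M ≅ N) → P M → P N)
    (h₀ : ∀ M : X.Modules, IsZero M → P M)
    (h₁ : ∀ S : ShortComplex X.Modules, S.ShortExact → Coh.IsCoh S.X₁ → Coh.IsCoh S.X₂ → Coh.IsCoh S.X₃ →
      P S.X₁ → P S.X₃ → P S.X₂)
    (h₂ : ∀ (F : X.Modules) (r : ℕ), Coh.IsCoh F → 1 ≤ r → P (∐ fun _ : Fin r => F) → P F)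
    (h₃ : ∀ (Z : Scheme.{u}) (i : Z ⟶ X), IsClosedImmersion i → IsIntegral Z →
      Set.range ⇑i ⊆ Z₀ → Set.range ⇑i ≠ Z₀ →
      ∀ (I : Z.Modules) (ι : I ⟶ Coh.structureModule Z), Mono ι → Coh.IsQCoh I → P ((Coh.push i).obj I))
    (h₄ : ∃ G : X.Modules, Coh.IsCoh G ∧ CohB1.support G = Z₀ ∧
      (∀ a ∈ IsLocalRing.maximalIdeal (X.presheaf.stalk ξ), ∀ m : ↑(G.presheaf.stalk ξ), a • m = 0) ∧
      ∀ J : X.IdealSheafData, ξ ∉ (J.support : Set X) →
        ∃ (G' : X.Modules) (ι' : G' ⟶ (Dual3.idealMul J).obj G), Mono ι' ∧ Coh.IsQCoh G' ∧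
          IsIso ((TopCat.Presheaf.stalkFunctor _ ξ).map (ι' ≫ Dual3.idealMulι J G).mapPresheaf) ∧ P G')
    (F : X.Modules) (hF : Coh.IsCoh F) (hsupp : CohB1.support F ⊆ Z₀) : P F := by
  obtain ⟨G, hG, hGs, hGm, hG4⟩ := h₄
  refine DevEngine.engine X P hP Z₀ h₀
    (fun S hS h1 h2 h3 _ p1 p3 => h₁ S hS h1 h2 h3 p1 p3) ?_ F hF hsupp
  intro Z hZ hirrZ hZZ₀ IH F hF hFs _
  obtain ⟨y, hy⟩ := QuasiSober.sober hirrZ hZ
  set Zc : Closeds X := ⟨Z, hZ⟩ with hZc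
  have hy' : closure {y} = (Zc : Set X) := hy
  have hy'' : closure {y} = Z := hy
  have hyZ : y ∈ Z := hy'' ▸ subset_closure (Set.mem_singleton y)
  have hgenZ : ∀ x ∈ Z, y ⤳ x := fun x hx => specializes_iff_mem_closure.mpr (hy''.symm ▸ hx)
  have IH' : ∀ F' : X.Modules, Coh.IsCoh F' → CohB1.support F' ⊆ Z → y ∉ CohB1.support F' →
      P F' := fun F' hF' hs hn => IH F' hF' hs (fun h => hn (h ▸ hyZ))
  set J := Scheme.IdealSheafData.vanishingIdeal Zc with hJ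
  have hA : Coh.IsCoh (DevTest.A J) := DevTest.isCoh_A _
  have hAs : CohB1.support (DevTest.A J) ⊆ Z := by
    rw [DevTest.support_A, hJ, Scheme.IdealSheafData.coe_support_vanishingIdeal]
    rfl
  have hAl := DevTest.length_stalk_A Zc y hy'
  refine DevKeyExt.keyExt P Z₀ (fun S hS h1 h2 h3 _ p1 p3 => h₁ S hS h1 h2 h3 p1 p3) Z hZZ₀ y hgenZ
    IH' (DevTest.A J) hA hAs hAl (fun K hK k hk hyK => tfy_A Zc y hy' K k hk hK hyK) ?_ F hF hFs
  intro G' hG'q ι hι hyG'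
  by_cases hZeq : Z = Z₀
  · -- the top stratum
    have hyξ : y = ξ := by
      have h1 : closure ({y} : Set X) = closure {ξ} := by rw [hy'', hξ.2, hZeq]
      exact (inseparable_iff_closure_eq.mpr h1).eq
    subst hyξ
    refine sub_of_test P hP h₁ h₂ Zc y hy' IH' G hG ?_ ?_ hGm hG4 G' hG'q ι hι hyG'
    · rw [hGs, ← hZeq]
      rfl
    · rw [hGs]
      exact hξ.1
  · -- lower strata
    obtain ⟨I, ιI, hmono, hqc, ⟨e⟩⟩ := DevTest.exists_ideal_of_mono J hG'q ι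
    haveI := DevInt.isIntegral_sub Zc hirrZ
    have hr : Set.range ⇑(DevInt.subι Zc) = Z := DevInt.range_subι Zc
    have := h₃ (DevInt.sub Zc) (DevInt.subι Zc) inferInstance inferInstance
      (by rw [hr]; exact hZZ₀) (by rw [hr]; exact hZeq) I ιI hmono hqc
    exact hP _ _ ⟨e.symm⟩ this

end Groth.Agent.Lib.Helper1.Dev9522
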