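import Mathlib

/-! `Spec` of an injective integral ring map with unique primes above is an epimorphism of schemes;
application to `B[ε] → B[α,β]/(α²,β²)`, `ε ↦ αβ` (helper1). -/
set_option autoImplicit false
open CategoryTheory AlgebraicGeometry
universe u

namespace Groth.Agent.Lib.Helper1.DualEpi

/-- A ring map which is injective, integral and has exactly one prime above each prime in the image
of `Spec` induces an epimorphism of schemes. -/
theorem epi_Spec_map {R S : Type u} [CommRing R] [CommRing S] [Algebra R S]
    [Algebra.IsIntegral R S] [FaithfulSMul R S]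
    (huniq : ∀ (q q' : Ideal S) [q.IsPrime] [q'.IsPrime],
      q'.comap (algebraMap R S) = q.comap (algebraMap R S) → q' = q) :
    Epi (Spec.map (CommRingCat.ofHom (algebraMap R S))) := by
  apply CategoryTheory.Functor.epi_of_epi_map (Scheme.forgetToLocallyRingedSpace)
  apply CategoryTheory.Functor.epi_of_epi_map (LocallyRingedSpace.forgetToSheafedSpace)
  apply SheafedSpace.epi_of_base_surjective_of_stalk_mono
  · exact Algebra.IsIntegral.comap_surjective R S
  · intro x
    change Mono ((Spec.map (CommRingCat.ofHom (algebraMap R S))).stalkMap x)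
    rw [← Scheme.localRingHom_comp_stalkIso]
    have hinj : Function.Injective (Localization.localRingHom
        (PrimeSpectrum.comap (CommRingCat.ofHom (algebraMap R S)).hom x).asIdeal x.asIdeal
        (CommRingCat.ofHom (algebraMap R S)).hom rfl) := by
      have hq : (x.asIdeal.comap (algebraMap R S)).primesOver S = {x.asIdeal} := by
        ext q'
        simp only [Ideal.primesOver, Set.mem_setOf_eq, Set.mem_singleton_iff]
        constructor
        · rintro ⟨hq', hlo⟩
          exact huniq x.asIdeal q' hlo.over.symm
        · rintro rfl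
          exact ⟨x.isPrime, ⟨rfl⟩⟩
      exact Localization.localRingHom_injective_of_primesOver_eq_singleton hq
    haveI : Mono (CommRingCat.ofHom (Localization.localRingHom
        (PrimeSpectrum.comap (CommRingCat.ofHom (algebraMap R S)).hom x).asIdeal x.asIdeal
        (CommRingCat.ofHom (algebraMap R S)).hom rfl)) :=
      ConcreteCategory.mono_of_injective _ hinj
    apply (config := { allowSynthFailures := true }) mono_comp

section dual
variable (B : Type u) [CommRing B]
  (ψ : DualNumber B →+* DualNumber (DualNumber B))

/-- the double dual numbers, as an algebra over the dual numbers via `ψ` -/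
def DD (_ψ : DualNumber B →+* DualNumber (DualNumber B)) : Type u := DualNumber (DualNumber B)

noncomputable instance : CommRing (DD B ψ) := inferInstanceAs (CommRing (DualNumber (DualNumber B)))
noncomputable instance : Algebra (DualNumber B) (DD B ψ) := ψ.toAlgebra

variable {B} {ψ}
  (hψB : ∀ b : B, ψ (algebraMap B (DualNumber B) b) = algebraMap B (DualNumber (DualNumber B)) b)
  (hψ : ψ DualNumber.eps
    = algebraMap (DualNumber B) (DualNumber (DualNumber B)) DualNumber.eps * DualNumber.eps)

lemma algebraMap_dd (b : B) : algebraMap B (DualNumber (DualNumber B)) b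
    = TrivSqZeroExt.inl (TrivSqZeroExt.inl b) := rfl

include hψB hψ in
lemma ψ_apply (x : DualNumber B) :
    ψ x = TrivSqZeroExt.inl (TrivSqZeroExt.inl x.fst) + TrivSqZeroExt.inr (TrivSqZeroExt.inr x.snd) := by
  have hx : x = algebraMap B (DualNumber B) x.fst + algebraMap B (DualNumber B) x.snd * DualNumber.eps := by
    apply TrivSqZeroExt.ext <;>
    simp [TrivSqZeroExt.algebraMap_eq_inl, DualNumber.fst_eps, DualNumber.snd_eps]
  conv_lhs => rw [hx]
  rw [map_add, map_mul, hψB, hψB, hψ]
  apply TrivSqZeroExt.ext
  · apply TrivSqZeroExt.ext <;>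
    simp [algebraMap_dd, TrivSqZeroExt.algebraMap_eq_inl, DualNumber.fst_eps, DualNumber.snd_eps]
  · apply TrivSqZeroExt.ext <;>
    simp [algebraMap_dd, TrivSqZeroExt.algebraMap_eq_inl, DualNumber.fst_eps, DualNumber.snd_eps]

include hψB hψ in
lemma ψ_injective : Function.Injective ψ := by
  rw [injective_iff_map_eq_zero]
  intro x hx
  rw [ψ_apply hψB hψ] at hx
  have h1 := congrArg (fun s => s.fst.fst) hx
  have h2 := congrArg (fun s => s.snd.snd) hx
  simp at h1 h2
  exact TrivSqZeroExt.ext h1 h2

include hψB hψ in
/-- every element differs from an element of the image of `B` by a nilpotent -/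
lemma isNilpotent_sub (s : DualNumber (DualNumber B)) :
    IsNilpotent (s - ψ (algebraMap B (DualNumber B) s.fst.fst)) := by
  rw [TrivSqZeroExt.isNilpotent_iff_isNilpotent_fst, TrivSqZeroExt.isNilpotent_iff_isNilpotent_fst]
  rw [hψB, algebraMap_dd]
  simp

include hψB hψ in
lemma isIntegral_dd : Algebra.IsIntegral (DualNumber B) (DD B ψ) := by
  constructor
  intro s
  have h := isNilpotent_sub hψB hψ (show DualNumber (DualNumber B) from s)
  obtain ⟨k, hk⟩ := h
  have hk0 : 0 < k + 1 := Nat.succ_pos k
  have h1 : IsIntegral (DualNumber B)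
      ((show DD B ψ from s) - algebraMap (DualNumber B) (DD B ψ)
        (algebraMap B (DualNumber B) (show DualNumber (DualNumber B) from s).fst.fst)) := by
    apply IsIntegral.of_pow hk0
    have : ((show DD B ψ from s) - algebraMap (DualNumber B) (DD B ψ)
        (algebraMap B (DualNumber B) (show DualNumber (DualNumber B) from s).fst.fst)) ^ (k + 1)
        = 0 := by
      rw [pow_succ]
      have hk' : ((show DD B ψ from s) - algebraMap (DualNumber B) (DD B ψ)
        (algebraMap B (DualNumber B) (show DualNumber (DualNumber B) from s).fst.fst)) ^ k = 0 := hk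
      rw [hk', zero_mul]
    rw [this]
    exact isIntegral_zero
  have h2 := h1.add (isIntegral_algebraMap (R := DualNumber B) (A := DD B ψ)
    (x := algebraMap B (DualNumber B) (show DualNumber (DualNumber B) from s).fst.fst))
  rwa [sub_add_cancel] at h2

include hψB hψ in
lemma faithfulSMul_dd : FaithfulSMul (DualNumber B) (DD B ψ) :=
  (faithfulSMul_iff_algebraMap_injective _ _).2 (ψ_injective hψB hψ)

include hψB hψ in
lemma mem_prime_iff (q : Ideal (DD B ψ)) [q.IsPrime] (s : DD B ψ) :
    s ∈ q ↔ algebraMap B (DualNumber B) (show DualNumber (DualNumber B) from s).fst.fst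
      ∈ q.comap (algebraMap (DualNumber B) (DD B ψ)) := by
  have hn : (s - algebraMap (DualNumber B) (DD B ψ)
      (algebraMap B (DualNumber B) (show DualNumber (DualNumber B) from s).fst.fst)) ∈ q := by
    obtain ⟨k, hk⟩ := isNilpotent_sub hψB hψ (show DualNumber (DualNumber B) from s)
    apply Ideal.IsPrime.mem_of_pow_mem inferInstance k
    have hk' : (s - algebraMap (DualNumber B) (DD B ψ)
      (algebraMap B (DualNumber B) (show DualNumber (DualNumber B) from s).fst.fst)) ^ k = 0 := hk
    rw [hk']
    exact q.zero_mem
  rw [Ideal.mem_comap]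
  constructor
  · intro hs
    have := q.sub_mem hs hn
    rwa [sub_sub_cancel] at this
  · intro hs
    have := q.add_mem hn hs
    rwa [sub_add_cancel] at this

include hψB hψ in
theorem epi_Spec_map_ψ :
    Epi (Spec.map (CommRingCat.ofHom (R := DualNumber B) (S := DualNumber (DualNumber B)) ψ)) := by
  haveI := isIntegral_dd hψB hψ
  haveI := faithfulSMul_dd hψB hψ
  have := epi_Spec_map (R := DualNumber B) (S := DD B ψ) (by
    intro q q' _ _ h
    ext s
    rw [mem_prime_iff hψB hψ q', mem_prime_iff hψB hψ q, h])
  exact this

end dual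

end Groth.Agent.Lib.Helper1.DualEpi
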