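import Mathlib
import Groth.Prelude.Def_CAlgX

/-!
# Local rings of a finitely presented algebra are essentially of finite presentation over the
local ring of the base
-/
set_option autoImplicit false
universe u
open TensorProduct

namespace Groth.Agent.Lib.Helper1.EssFPStalk

attribute [local instance] Algebra.TensorProduct.rightAlgebra in
theorem isEssFinitePresentation_atPrime {A B : Type u} [CommRing A] [CommRing B] [Algebra A B]
    [Algebra.FinitePresentation A B] (p : Ideal A) (q : Ideal B) [p.IsPrime] [q.IsPrime]
    (hpq : q.comap (algebraMap A B) = p)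
    (R S : Type u) [CommRing R] [CommRing S] [Algebra A R] [Algebra B S]
    [IsLocalization.AtPrime R p] [IsLocalization.AtPrime S q]
    [Algebra R S] [Algebra A S] [IsScalarTower A R S] [IsScalarTower A B S] :
    CAlgX.IsEssFinitePresentation R S := by
  let g : R ⊗[A] B →ₐ[R] S :=
    Algebra.TensorProduct.lift (Algebra.ofId R S) (IsScalarTower.toAlgHom A B S)
      (fun _ _ => Commute.all _ _)
  letI alg : Algebra (R ⊗[A] B) S := g.toRingHom.toAlgebra
  haveI t1 : IsScalarTower R (R ⊗[A] B) S := IsScalarTower.of_algebraMap_eq' (by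
    ext r
    change algebraMap R S r = g (algebraMap R (R ⊗[A] B) r)
    rw [AlgHom.commutes])
  haveI t2 : IsScalarTower B (R ⊗[A] B) S := IsScalarTower.of_algebraMap_eq' (by
    ext b
    change algebraMap B S b = g ((1 : R) ⊗ₜ[A] b)
    rw [Algebra.TensorProduct.lift_tmul, map_one, one_mul]
    rfl)
  haveI : IsLocalization (Algebra.algebraMapSubmonoid B p.primeCompl) (R ⊗[A] B) :=
    IsLocalization.tensorRight (S := B) R p.primeCompl
  have hle : Algebra.algebraMapSubmonoid B p.primeCompl ≤ q.primeCompl := by
    rintro _ ⟨a, ha, rfl⟩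
    intro hq
    apply ha
    rw [← hpq]
    exact hq
  haveI := IsLocalization.isLocalization_of_submonoid_le (R ⊗[A] B) S
    (Algebra.algebraMapSubmonoid B p.primeCompl) q.primeCompl hle
  exact ⟨R ⊗[A] B, inferInstance, inferInstance, alg, t1,
    q.primeCompl.map (algebraMap B (R ⊗[A] B)), inferInstance, inferInstance⟩

end Groth.Agent.Lib.Helper1.EssFPStalk
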