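import Mathlib
import Groth.Agent.Lib.Helper1.EssFPStalk
import Groth.Agent.Lib.Helper1.FlatAffine

/-!
# The stalk map of a morphism locally of finite presentation is essentially of finite presentation
-/
set_option autoImplicit false
universe u
open CategoryTheory AlgebraicGeometry Opposite TopologicalSpace

namespace Groth.Agent.Lib.Helper1.EssFPStalk

theorem isEssFinitePresentation_stalkMap {X Y : Scheme.{u}} (f : X ⟶ Y)
    [LocallyOfFinitePresentation f] (x : X) :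
    letI := (f.stalkMap x).hom.toAlgebra
    CAlgX.IsEssFinitePresentation (Y.presheaf.stalk (f x)) (X.presheaf.stalk x) := by
  obtain ⟨_, ⟨V, hV, rfl⟩, hxV, -⟩ :=
    Y.isBasis_affineOpens.exists_subset_of_mem_open (Set.mem_univ (f x)) isOpen_univ
  obtain ⟨_, ⟨U, hU, rfl⟩, hxU, hUV⟩ :=
    X.isBasis_affineOpens.exists_subset_of_mem_open hxV (V.2.preimage f.continuous)
  letI a0 : Algebra Γ(Y, V) Γ(X, U) := (f.appLE V U hUV).hom.toAlgebra
  haveI : Algebra.FinitePresentation Γ(Y, V) Γ(X, U) := f.finitePresentation_appLE hV hU hUV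
  letI a1 : Algebra Γ(Y, V) (Y.presheaf.stalk (f x)) :=
    TopCat.Presheaf.algebra_section_stalk Y.presheaf (U := V) ⟨f x, hxV⟩
  letI a2 : Algebra Γ(X, U) (X.presheaf.stalk x) :=
    TopCat.Presheaf.algebra_section_stalk X.presheaf (U := U) ⟨x, hxU⟩
  letI a3 : Algebra (Y.presheaf.stalk (f x)) (X.presheaf.stalk x) := (f.stalkMap x).hom.toAlgebra
  letI a4 : Algebra Γ(Y, V) (X.presheaf.stalk x) :=
    ((algebraMap (Y.presheaf.stalk (f x)) (X.presheaf.stalk x)).comp
      (algebraMap Γ(Y, V) (Y.presheaf.stalk (f x)))).toAlgebra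
  haveI t1 : IsScalarTower Γ(Y, V) (Y.presheaf.stalk (f x)) (X.presheaf.stalk x) :=
    IsScalarTower.of_algebraMap_eq' rfl
  haveI t2 : IsScalarTower Γ(Y, V) Γ(X, U) (X.presheaf.stalk x) :=
    IsScalarTower.of_algebraMap_eq' (by
      ext a
      exact (FlatAffine.germ_appLE f hUV x hxU a).symm)
  haveI l1 := hV.isLocalization_stalk ⟨f x, hxV⟩
  haveI l2 := hU.isLocalization_stalk ⟨x, hxU⟩
  refine isEssFinitePresentation_atPrime (hV.primeIdealOf ⟨f x, hxV⟩).asIdeal
    (hU.primeIdealOf ⟨x, hxU⟩).asIdeal ?_ _ _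
  ext a
  rw [Ideal.mem_comap]
  have h1 : ∀ b : Γ(X, U), b ∈ (hU.primeIdealOf ⟨x, hxU⟩).asIdeal ↔
      ¬ IsUnit (algebraMap Γ(X, U) (X.presheaf.stalk x) b) := fun b => by
    rw [IsLocalization.AtPrime.isUnit_to_map_iff (X.presheaf.stalk x)
      (hU.primeIdealOf ⟨x, hxU⟩).asIdeal b]
    exact not_not.symm
  have h2 : ∀ b : Γ(Y, V), b ∈ (hV.primeIdealOf ⟨f x, hxV⟩).asIdeal ↔
      ¬ IsUnit (algebraMap Γ(Y, V) (Y.presheaf.stalk (f x)) b) := fun b => by
    rw [IsLocalization.AtPrime.isUnit_to_map_iff (Y.presheaf.stalk (f x))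
      (hV.primeIdealOf ⟨f x, hxV⟩).asIdeal b]
    exact not_not.symm
  rw [h1, h2, ← IsScalarTower.algebraMap_apply,
    IsScalarTower.algebraMap_apply Γ(Y, V) (Y.presheaf.stalk (f x)) (X.presheaf.stalk x)]
  exact not_congr (isUnit_map_iff (f.stalkMap x).hom _)

end Groth.Agent.Lib.Helper1.EssFPStalk
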