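import Mathlib

set_option autoImplicit false
universe u
open CategoryTheory CategoryTheory.Limits AlgebraicGeometry TopologicalSpace

namespace Groth.Agent.Lib.Helper1.EssFT

variable {X Y : Scheme.{u}} (f : X ⟶ Y)

/-- the cover property in the statements -/
def CovProp (U : Y.Opens) : Prop :=
  ∃ T : Set X.affineOpens, (⋃ V ∈ T, ((V : X.Opens) : Set ↥X)) = ((f ⁻¹ᵁ U) : Set ↥X) ∧
    ∀ V ∈ T, ∃ e : (V : X.Opens) ≤ f ⁻¹ᵁ U, (f.appLE U (V : X.Opens) e).hom.EssFiniteType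

/-- pointwise version -/
def EFTAt (U : Y.Opens) (x : X) : Prop :=
  ∃ V : X.affineOpens, x ∈ (V : X.Opens) ∧
    ∃ e : (V : X.Opens) ≤ f ⁻¹ᵁ U, (f.appLE U (V : X.Opens) e).hom.EssFiniteType

lemma covProp_iff (U : Y.Opens) : CovProp f U ↔ ∀ x ∈ f ⁻¹ᵁ U, EFTAt f U x := by
  constructor
  · rintro ⟨T, hT, h⟩ x hx
    have hx' : x ∈ ((f ⁻¹ᵁ U : X.Opens) : Set X) := hx
    rw [← hT] at hx'
    simp only [Set.mem_iUnion] at hx'
    obtain ⟨V, hV, hxV⟩ := hx'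
    exact ⟨V, hxV, h V hV⟩
  · intro h
    refine ⟨{V | ∃ e : (V : X.Opens) ≤ f ⁻¹ᵁ U, (f.appLE U (V : X.Opens) e).hom.EssFiniteType},
      ?_, fun V hV => hV⟩
    ext x
    simp only [Set.mem_iUnion, Set.mem_ofPred_eq]
    constructor
    · rintro ⟨V, ⟨e, -⟩, hxV⟩
      exact e hxV
    · intro hx
      obtain ⟨V, hxV, e, he⟩ := h x hx
      exact ⟨V, ⟨e, he⟩, hxV⟩

/-- restriction between affine opens is of finite type -/
lemma finiteType_res {V V' : X.Opens} (hV : IsAffineOpen V) (hV' : IsAffineOpen V')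
    (h : V' ≤ V) : (X.presheaf.map (homOfLE h).op).hom.FiniteType := by
  have h1 : LocallyOfFiniteType (𝟙 X) := inferInstance
  have := HasRingHomProperty.appLE (P := @LocallyOfFiniteType) (𝟙 X) h1 ⟨V, hV⟩ ⟨V', hV'⟩
    (by simpa using h)
  have h2 : (𝟙 X : X ⟶ X).appLE V V' (by simpa using h) = X.presheaf.map (homOfLE h).op := by
    simp [Scheme.Hom.appLE]
    rfl
  rw [h2] at this
  exact this

lemma essFiniteType_res {V V' : X.Opens} (hV : IsAffineOpen V) (hV' : IsAffineOpen V')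
    (h : V' ≤ V) : (X.presheaf.map (homOfLE h).op).hom.EssFiniteType :=
  (finiteType_res hV hV' h).essFiniteType

/-- L1: shrink the source -/
lemma essFiniteType_appLE_of_le {U : Y.Opens} {V V' : X.Opens} (hV : IsAffineOpen V)
    (hV' : IsAffineOpen V') (h : V' ≤ V) (e : V ≤ f ⁻¹ᵁ U)
    (H : (f.appLE U V e).hom.EssFiniteType) :
    (f.appLE U V' (h.trans e)).hom.EssFiniteType := by
  have := Scheme.Hom.appLE_map f e (homOfLE h).op
  rw [← this]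
  exact H.comp (essFiniteType_res hV hV' h)

/-- L2: shrink the target -/
lemma EFTAt.of_le {U U' : Y.Opens} (hU : U' ≤ U) {x : X} (hx : x ∈ f ⁻¹ᵁ U')
    (H : EFTAt f U x) : EFTAt f U' x := by
  obtain ⟨V, hxV, e, he⟩ := H
  obtain ⟨_, ⟨W, hW, rfl⟩, hxW, hWle⟩ :=
    X.isBasis_affineOpens.exists_subset_of_mem_open
      (show x ∈ ((V : X.Opens) ⊓ f ⁻¹ᵁ U' : X.Opens) from ⟨hxV, hx⟩)
      ((V : X.Opens) ⊓ f ⁻¹ᵁ U').isOpen
  have hWV : W ≤ (V : X.Opens) := fun y hy => (hWle hy).1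
  have hWU' : W ≤ f ⁻¹ᵁ U' := fun y hy => (hWle hy).2
  refine ⟨⟨W, hW⟩, hxW, hWU', ?_⟩
  have h1 := essFiniteType_appLE_of_le f V.2 hW hWV e he
  have h2 := Scheme.Hom.map_appLE f hWU' (homOfLE hU).op
  rw [← h2] at h1
  exact RingHom.EssFiniteType.of_comp _ h1

/-- L3: enlarge the target (both affine) -/
lemma EFTAt.of_ge {U U' : Y.Opens} (hU : IsAffineOpen U) (hU' : IsAffineOpen U')
    (hle : U' ≤ U) {x : X} (H : EFTAt f U' x) : EFTAt f U x := by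
  obtain ⟨V, hxV, e, he⟩ := H
  have e' : (V : X.Opens) ≤ f ⁻¹ᵁ U := e.trans (fun y hy => hle hy)
  refine ⟨V, hxV, e', ?_⟩
  have h2 := Scheme.Hom.map_appLE f e (homOfLE hle).op
  rw [← h2]
  exact (essFiniteType_res hU hU' hle).comp he

/-- change of affine target -/
lemma EFTAt.change {U U' : Y.Opens} (_hU : IsAffineOpen U) (hU' : IsAffineOpen U') {x : X}
    (hxU : f x ∈ U) (hxU' : f x ∈ U') (H : EFTAt f U x) : EFTAt f U' x := by
  obtain ⟨_, ⟨W, hW, rfl⟩, hxW, hWle⟩ :=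
    Y.isBasis_affineOpens.exists_subset_of_mem_open
      (show f x ∈ (U ⊓ U' : Y.Opens) from ⟨hxU, hxU'⟩) (U ⊓ U').isOpen
  have hWU : W ≤ U := fun y hy => (hWle hy).1
  have hWU' : W ≤ U' := fun y hy => (hWle hy).2
  exact (H.of_le f hWU hxW).of_ge f hU' hW hWU'

/-- an arbitrary (not nec. affine) target can also be used -/
lemma EFTAt.change' {U U' : Y.Opens} (hU' : IsAffineOpen U') {x : X}
    (hxU : f x ∈ U) (hxU' : f x ∈ U') (H : EFTAt f U x) : EFTAt f U' x := by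
  obtain ⟨_, ⟨W, hW, rfl⟩, hxW, hWle⟩ :=
    Y.isBasis_affineOpens.exists_subset_of_mem_open
      (show f x ∈ (U ⊓ U' : Y.Opens) from ⟨hxU, hxU'⟩) (U ⊓ U').isOpen
  have hWU : W ≤ U := fun y hy => (hWle hy).1
  have hWU' : W ≤ U' := fun y hy => (hWle hy).2
  exact (H.of_le f hWU hxW).of_ge f hU' hW hWU'

/-- S15258 -/
theorem local_iff :
    (∃ S : Set Y.affineOpens, (⋃ U ∈ S, ((U : Y.Opens) : Set ↥Y)) = Set.univ ∧
      ∀ U ∈ S, CovProp f (U : Y.Opens)) ↔ ∀ U : Y.affineOpens, CovProp f (U : Y.Opens) := by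
  constructor
  · rintro ⟨S, hS, h⟩ U₀
    rw [covProp_iff]
    intro x hx
    have : f x ∈ (⋃ U ∈ S, ((U : Y.Opens) : Set ↥Y)) := hS ▸ Set.mem_univ _
    simp only [Set.mem_iUnion] at this
    obtain ⟨U, hUS, hxU⟩ := this
    have h1 := (covProp_iff f _).1 (h U hUS) x hxU
    exact h1.change f U.2 U₀.2 hxU hx
  · intro h
    refine ⟨Set.univ, ?_, fun U _ => h U⟩
    ext y
    simp only [Set.mem_iUnion, Set.mem_univ, iff_true, exists_const]
    obtain ⟨_, ⟨W, hW, rfl⟩, hyW, -⟩ :=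
      Y.isBasis_affineOpens.exists_subset_of_mem_open (Set.mem_univ y) isOpen_univ
    exact ⟨⟨W, hW⟩, hyW⟩

/-- S15259 -/
theorem qc_iff :
    ((∃ S : Set Y.affineOpens, (⋃ U ∈ S, ((U : Y.Opens) : Set ↥Y)) = Set.univ ∧
      ∀ U ∈ S, CovProp f (U : Y.Opens)) ∧ QuasiCompact f) ↔
    ∀ U : Y.affineOpens, ∃ T : Set X.affineOpens, T.Finite ∧
      (⋃ V ∈ T, ((V : X.Opens) : Set ↥X)) = ((f ⁻¹ᵁ (U : Y.Opens)) : Set ↥X) ∧
        ∀ V ∈ T, ∃ e : (V : X.Opens) ≤ f ⁻¹ᵁ (U : Y.Opens),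
          (f.appLE (U : Y.Opens) (V : X.Opens) e).hom.EssFiniteType := by
  rw [local_iff]
  constructor
  · rintro ⟨h, hqc⟩ U
    obtain ⟨T, hT, hT'⟩ := h U
    have hc : IsCompact ((f ⁻¹ᵁ (U : Y.Opens) : X.Opens) : Set X) :=
      quasiCompact_iff_forall_isAffineOpen.1 hqc U U.2
    obtain ⟨T', hT'T, hfin, hcov⟩ := hc.elim_finite_subcover_image
      (b := T) (c := fun V : X.affineOpens => ((V : X.Opens) : Set X))
      (fun V _ => (V : X.Opens).isOpen) hT.ge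
    refine ⟨T', hfin, le_antisymm ?_ hcov, fun V hV => hT' V (hT'T hV)⟩
    rw [← hT]
    exact Set.biUnion_subset_biUnion_left hT'T
  · intro h
    refine ⟨fun U => ?_, ?_⟩
    · obtain ⟨T, -, hT, hT'⟩ := h U
      exact ⟨T, hT, hT'⟩
    · rw [quasiCompact_iff_forall_isAffineOpen]
      intro U hU
      obtain ⟨T, hfin, hT, -⟩ := h ⟨U, hU⟩
      rw [← hT]
      exact hfin.isCompact_biUnion (fun V _ => V.2.isCompact)

/-- S15260 -/
theorem comp {Z : Scheme.{u}} (g : Y ⟶ Z)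
    (hf : ∀ U : Y.affineOpens, CovProp f (U : Y.Opens))
    (hg : ∀ U : Z.affineOpens, CovProp g (U : Z.Opens)) (U : Z.affineOpens) :
    CovProp (f ≫ g) (U : Z.Opens) := by
  rw [covProp_iff]
  intro x hx
  have hx' : f x ∈ g ⁻¹ᵁ (U : Z.Opens) := by simpa using hx
  obtain ⟨W, hxW, eW, hW⟩ := (covProp_iff g _).1 (hg U) (f x) hx'
  obtain ⟨V, hxV, eV, hV⟩ := (covProp_iff f _).1 (hf W) x hxW
  refine ⟨V, hxV, ?_, ?_⟩
  · exact eV.trans ((Opens.map f.base).map (homOfLE eW)).le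
  · rw [← Scheme.Hom.appLE_comp_appLE f g _ _ _ eW eV]
    exact hW.comp hV

/-- S15261 -/
theorem baseChange {Y' : Scheme.{u}} (g : Y' ⟶ Y)
    (hf : ∀ U : Y.affineOpens, CovProp f (U : Y.Opens)) (U : Y'.affineOpens) :
    CovProp (pullback.snd f g) (U : Y'.Opens) := by
  rw [covProp_iff]
  intro z hz
  have hxy : f ((pullback.fst f g) z) = g ((pullback.snd f g) z) := by
    simp only [← Scheme.Hom.comp_apply, pullback.condition]
  obtain ⟨_, ⟨U₀, hU₀, rfl⟩, hyU₀, -⟩ :=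
    Y.isBasis_affineOpens.exists_subset_of_mem_open
      (Set.mem_univ (g ((pullback.snd f g) z))) isOpen_univ
  obtain ⟨_, ⟨U₁, hU₁, rfl⟩, hyU₁, hU₁le⟩ :=
    Y'.isBasis_affineOpens.exists_subset_of_mem_open
      (show (pullback.snd f g) z ∈ ((U : Y'.Opens) ⊓ g ⁻¹ᵁ U₀ : Y'.Opens) from ⟨hz, hyU₀⟩)
      ((U : Y'.Opens) ⊓ g ⁻¹ᵁ U₀).isOpen
  have hU₁U : U₁ ≤ (U : Y'.Opens) := fun y hy => (hU₁le hy).1
  have hUST : U₁ ≤ g ⁻¹ᵁ U₀ := fun y hy => (hU₁le hy).2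
  obtain ⟨V₀, hxV₀, hUSX, hV₀⟩ := (covProp_iff f _).1 (hf ⟨U₀, hU₀⟩) ((pullback.fst f g) z)
    (show f ((pullback.fst f g) z) ∈ U₀ by rw [hxy]; exact hyU₀)
  have H := IsPullback.of_hasPullback f g
  have hUY : IsAffineOpen (pullback.fst f g ⁻¹ᵁ (V₀ : X.Opens) ⊓ pullback.snd f g ⁻¹ᵁ U₁) := by
    have : IsAffine U₀ := hU₀
    have : IsAffine U₁ := hU₁
    have : IsAffine (V₀ : X.Opens) := V₀.2
    exact .of_isIso (Scheme.Hom.isPullback_resLE H hUST hUSX rfl).isoPullback.hom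
  have hpo := (isIso_pushoutSection_iff H hUST hUSX rfl).1
    (isIso_pushoutSection_of_isAffineOpen H hUST hUSX rfl hU₀ hU₁ V₀.2)
  have h := hpo.flip
  have key := RingHom.EssFiniteType.isStableUnderBaseChange.pushout_inl
    RingHom.EssFiniteType.respectsIso (g.appLE U₀ U₁ hUST) (f.appLE U₀ (V₀ : X.Opens) hUSX) hV₀
  rw [← h.inl_isoPushout_hom, CommRingCat.hom_comp,
    RingHom.EssFiniteType.respectsIso.cancel_right_isIso] at key
  have h1 : EFTAt (pullback.snd f g) U₁ z := ⟨⟨_, hUY⟩, ⟨hxV₀, hyU₁⟩, _, key⟩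
  exact h1.of_ge _ U.2 hU₁ hU₁U

end Groth.Agent.Lib.Helper1.EssFT
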