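import Mathlib
import Groth.Prelude.Def_CurvBase
import Groth.Agent.Lib.Helper12.SchemeDimFT

/-!
# Local rings of a scheme locally of finite type over a field are essentially of finite type
(helper1, sub-lemma (E) for helper22's S7892)
-/

set_option autoImplicit false

universe u

open AlgebraicGeometry CategoryTheory Opposite

namespace Groth.Agent.Lib.Helper1.EssFTStalk

open Groth.Agent.Lib.Helper12.SchemeDimFT

theorem essFiniteType_stalk (k : Type u) [Field k] (X : Scheme.{u})
    [X.Over (Spec (CommRingCat.of k))]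
    [LocallyOfFiniteType (X ↘ Spec (CommRingCat.of k))] (x : X) :
    letI := Curv2.stalkAlgebra k X x
    Algebra.EssFiniteType k (X.presheaf.stalk x) := by
  letI := Curv2.stalkAlgebra k X x
  obtain ⟨U, hU, hx⟩ := exists_affineOpen_mem X x
  letI := secAlgebra k X U
  haveI := finiteType_sec k X U hU
  letI algA : Algebra Γ(X, U) (X.presheaf.stalk x) :=
    TopCat.Presheaf.algebra_section_stalk X.presheaf ⟨x, hx⟩
  haveI := hU.isLocalization_stalk ⟨x, hx⟩
  haveI : IsScalarTower k Γ(X, U) (X.presheaf.stalk x) := by
    refine IsScalarTower.of_algebraMap_eq fun c => ?_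
    change (X.presheaf.germ ⊤ x trivial).hom (Coh.toGlobal (X ↘ Spec (CommRingCat.of k)) c) =
      (X.presheaf.germ U x hx).hom (secMap k X U c)
    simp only [secMap, RingHom.comp_apply]
    exact (TopCat.Presheaf.germ_res_apply X.presheaf (homOfLE (le_top : U ≤ ⊤)) x hx _).symm
  haveI : Algebra.EssFiniteType Γ(X, U) (X.presheaf.stalk x) :=
    Algebra.EssFiniteType.of_isLocalization _ (hU.primeIdealOf ⟨x, hx⟩).asIdeal.primeCompl
  exact Algebra.EssFiniteType.comp k Γ(X, U) _

end Groth.Agent.Lib.Helper1.EssFTStalk
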