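import Groth.Agent.Lib.Helper1.InjHullLib
import Groth.Agent.S0305

/-!
# More on injective hulls: indecomposability of hulls of `R ⧸ p`, transport along equivalences
-/

set_option autoImplicit false
universe u

namespace Groth.Agent.Lib.Helper1.InjHullLib

variable {R : Type u} [CommRing R] {Q : Type u} [AddCommGroup Q] [Module R Q]

/-- Injectivity transports along linear equivalences. -/
theorem injective_of_linearEquiv {M N : Type u} [AddCommGroup M] [Module R M] [AddCommGroup N]
    [Module R N] (e : M ≃ₗ[R] N) [hM : Module.Injective R M] : Module.Injective R N where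
  out X Y _ _ _ _ f hf g := by
    obtain ⟨l, hl⟩ := hM.out f hf (e.symm.toLinearMap ∘ₗ g)
    refine ⟨e.toLinearMap ∘ₗ l, fun x => ?_⟩
    rw [LinearMap.comp_apply, hl x]
    simp

/-- An injective essential extension of `R ∙ x`, where the annihilator of `x` is a prime `p`,
is an injective hull of `R ⧸ p`. -/
theorem exists_isInjectiveHull_of_essIn_span (x : Q) (p : Ideal R) [p.IsPrime]
    (hp : ∀ r, r ∈ p ↔ r • x = 0) (E' : Submodule R Q)
    (hE' : EssIn (Submodule.span R {x}) E') [hinj : Module.Injective R E'] :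
    ∃ φ : (R ⧸ p) →ₗ[R] E', InjHull.IsInjectiveHull φ := by
  have hx : x ∈ E' := hE'.1 (Submodule.mem_span_singleton_self x)
  let φ : (R ⧸ p) →ₗ[R] E' := p.liftQ (LinearMap.toSpanSingleton R E' ⟨x, hx⟩) (by
    intro r hr
    rw [LinearMap.mem_ker, LinearMap.toSpanSingleton_apply]
    apply Subtype.ext
    exact (hp r).1 hr)
  have hφmk : ∀ r : R, φ (Ideal.Quotient.mk p r) = r • (⟨x, hx⟩ : E') := fun r => rfl
  have hφinj : Function.Injective φ := by
    rw [injective_iff_map_eq_zero]
    intro a ha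
    obtain ⟨r, rfl⟩ := Ideal.Quotient.mk_surjective a
    rw [hφmk] at ha
    exact Ideal.Quotient.eq_zero_iff_mem.2 ((hp r).2 (congrArg Subtype.val ha))
  refine ⟨φ, ⟨(isEssentialInj_iff φ).2 ⟨hφinj, fun y hy => ?_⟩, hinj⟩⟩
  have hy0 : (y : Q) ≠ 0 := fun h => hy (Subtype.ext h)
  obtain ⟨r, hr0, hr⟩ := hE'.2 y y.2 hy0
  obtain ⟨a, ha⟩ := Submodule.mem_span_singleton.1 hr
  refine ⟨r, fun h => hr0 (congrArg Subtype.val h), ⟨Ideal.Quotient.mk p a, ?_⟩⟩
  rw [hφmk]
  apply Subtype.ext
  exact ha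

theorem indecomposable_of_essIn_span (x : Q) (p : Ideal R) [p.IsPrime]
    (hp : ∀ r, r ∈ p ↔ r • x = 0) (E' : Submodule R Q)
    (hE' : EssIn (Submodule.span R {x}) E') [hinj : Module.Injective R E'] :
    InjHull.IsIndecomposable R E' := by
  obtain ⟨φ, hφ⟩ := exists_isInjectiveHull_of_essIn_span x p hp E' hE'
  exact (Groth.Agent.S0305.result R p E' φ hφ).1

end Groth.Agent.Lib.Helper1.InjHullLib
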