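import Mathlib
import Groth.Agent.Lib.Helper4.CMHomSch
import Groth.Agent.Lib.Helper4.GorHomSch

/-!
# Etale morphisms, fields, and the Cohen–Macaulay / Gorenstein properties of stalks (helper1)

* `isField_stalk_of_etale`: stalks of a scheme etale over a field are fields.
* `cm_stalk_iff_of_etale`, `gor_stalk_iff_of_etale`: for `a : U ⟶ X` etale, `X` locally Noetherian,
  `𝒪_{U,x}` is CM (Gorenstein) iff `𝒪_{X,a x}` is.
-/

set_option autoImplicit false
set_option linter.style.haveILetI false
universe u
open CategoryTheory AlgebraicGeometry IsLocalRing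

namespace Groth.Agent.Lib.Helper1.EtCM

/-- localization at a prime of an unramified finite type algebra over a field is a field. -/
theorem isField_localization_of_unramified (K A : Type u) [Field K] [CommRing A] [Algebra K A]
    [Algebra.FiniteType K A] [Algebra.FormallyUnramified K A] (Q : Ideal A) [Q.IsPrime] :
    IsField (Localization.AtPrime Q) := by
  have := Algebra.FormallyUnramified.finite_of_free K (Localization.AtPrime Q)
  have := IsArtinianRing.of_finite K (Localization.AtPrime Q)
  have := Algebra.FormallyUnramified.isReduced_of_field K (Localization.AtPrime Q)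
  exact IsArtinianRing.isField_of_isReduced_of_isLocalRing _

/-- stalks of a scheme etale over a field are fields. -/
theorem isField_stalk_of_etale {W : Scheme.{u}} {K : Type u} [Field K]
    (q : W ⟶ Spec (CommRingCat.of K)) [Etale q] (w : W) : IsField (W.presheaf.stalk w) := by
  obtain ⟨_, ⟨U, hU : IsAffineOpen U, rfl⟩, hwU, -⟩ :=
    W.isBasis_affineOpens.exists_subset_of_mem_open (Set.mem_univ w) isOpen_univ
  have hφ : RingHom.Etale (q.appLE ⊤ U le_top).hom :=
    HasRingHomProperty.appLE @Etale q inferInstance ⟨⊤, isAffineOpen_top _⟩ ⟨U, hU⟩ _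
  let ψ : K →+* Γ(W, U) := (q.appLE ⊤ U le_top).hom.comp (Scheme.ΓSpecIso (.of K)).inv.hom
  have hψ : RingHom.Etale ψ := by
    refine RingHom.Etale.stableUnderComposition _ _ ?_ hφ
    exact RingHom.Etale.of_bijective
      (ConcreteCategory.bijective_of_isIso (Scheme.ΓSpecIso (.of K)).inv)
  algebraize [ψ]
  haveI : Algebra.Etale K Γ(W, U) := hψ.toAlgebra
  let Q := (hU.primeIdealOf ⟨w, hwU⟩).asIdeal
  have hF := isField_localization_of_unramified K Γ(W, U) Q
  letI : Algebra Γ(W, U) (W.presheaf.stalk w) := (W.presheaf.germ U w hwU).hom.toAlgebra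
  haveI : IsLocalization.AtPrime (W.presheaf.stalk w) Q := hU.isLocalization_stalk ⟨w, hwU⟩
  exact (IsLocalization.algEquiv Q.primeCompl (W.presheaf.stalk w)
    (Localization.AtPrime Q)).toMulEquiv.isField hF

/-- a field is a Cohen–Macaulay local ring. -/
theorem isCM_of_isField (R : Type u) [CommRing R] (h : IsField R) :
    LocCoh.IsCohenMacaulayLocalRing R := by
  letI := h.toField
  haveI : IsLocalRing R := inferInstance
  haveI : IsNoetherianRing R := inferInstance
  refine { supportDim_eq_depth := ?_ }
  have hm : (maximalIdeal R).height = 0 := by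
    rw [IsLocalRing.maximalIdeal_eq_bot]
    exact Ideal.height_bot
  have h1 := Groth.Agent.Lib.Helper4.FlatRing.depth_self_le_height (B := R)
  rw [hm] at h1
  have h2 : LocCoh.depth R R = 0 := le_antisymm h1 bot_le
  rw [Module.supportDim_self_eq_ringKrullDim, ← IsLocalRing.maximalIdeal_height_eq_ringKrullDim,
    hm, h2]

/-- a field is a Gorenstein local ring. -/
theorem isGor_of_isField (R : Type u) [CommRing R] (h : IsField R) :
    LocCoh.IsGorensteinLocalRing R := by
  letI := h.toField
  exact Groth.Agent.Lib.Helper4.GorFlat.gor_field R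

/-- a ring map out of a field is flat. -/
theorem flat_of_isField {R S : Type u} [CommRing R] [CommRing S] (f : R →+* S) (h : IsField R) :
    f.Flat := by
  letI := h.toField
  letI : Algebra R S := f.toAlgebra
  show Module.Flat R S
  infer_instance

variable {U X : Scheme.{u}} (a : U ⟶ X)

/-- the local ring of a fibre of an etale morphism is a field. -/
theorem isField_fiberStalk_of_etale [Etale a] (x : U) :
    IsField ((a.fiber (a x)).presheaf.stalk (a.asFiber x)) := by
  haveI : Etale (a.fiberToSpecResidueField (a x)) := by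
    unfold Scheme.Hom.fiberToSpecResidueField
    exact MorphismProperty.pullback_snd (P := @Etale) _ _ inferInstance
  exact isField_stalk_of_etale (K := X.residueField (a x)) (a.fiberToSpecResidueField (a x)) _

theorem isField_quot_of_etale [Etale a] (x : U) :
    IsField (U.presheaf.stalk x ⧸
      (maximalIdeal (X.presheaf.stalk (a x))).map (a.stalkMap x).hom) :=
  (Groth.Agent.Lib.Helper6.fiberStalkEquiv a x).symm.toMulEquiv.isField
    (isField_fiberStalk_of_etale a x)

/-- Cohen–Macaulayness of stalks ascends and descends along etale morphisms. -/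
theorem cm_stalk_iff_of_etale [Etale a] [IsLocallyNoetherian X] (x : U) :
    LocCoh.IsCohenMacaulayLocalRing (U.presheaf.stalk x) ↔
      LocCoh.IsCohenMacaulayLocalRing (X.presheaf.stalk (a x)) := by
  haveI : IsLocallyNoetherian U := LocallyOfFiniteType.isLocallyNoetherian a
  letI : Algebra (X.presheaf.stalk (a x)) (U.presheaf.stalk x) := (a.stalkMap x).hom.toAlgebra
  haveI : IsLocalHom (algebraMap (X.presheaf.stalk (a x)) (U.presheaf.stalk x)) :=
    inferInstanceAs (IsLocalHom (a.stalkMap x).hom)
  haveI : Module.Flat (X.presheaf.stalk (a x)) (U.presheaf.stalk x) := Flat.stalkMap a x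
  rw [Groth.Agent.Lib.Helper4.CMHom.cm_iff_of_flat
    ((maximalIdeal (X.presheaf.stalk (a x))).map (a.stalkMap x).hom) rfl]
  exact ⟨fun h => h.1, fun h => ⟨h, isCM_of_isField _ (isField_quot_of_etale a x)⟩⟩

/-- Gorensteinness of stalks ascends and descends along etale morphisms. -/
theorem gor_stalk_iff_of_etale [Etale a] [IsLocallyNoetherian X] (x : U) :
    LocCoh.IsGorensteinLocalRing (U.presheaf.stalk x) ↔
      LocCoh.IsGorensteinLocalRing (X.presheaf.stalk (a x)) := by
  haveI : IsLocallyNoetherian U := LocallyOfFiniteType.isLocallyNoetherian a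
  letI : Algebra (X.presheaf.stalk (a x)) (U.presheaf.stalk x) := (a.stalkMap x).hom.toAlgebra
  haveI : IsLocalHom (algebraMap (X.presheaf.stalk (a x)) (U.presheaf.stalk x)) :=
    inferInstanceAs (IsLocalHom (a.stalkMap x).hom)
  haveI : Module.Flat (X.presheaf.stalk (a x)) (U.presheaf.stalk x) := Flat.stalkMap a x
  rw [Groth.Agent.Lib.Helper4.GorHom.gor_iff_of_flat
    ((maximalIdeal (X.presheaf.stalk (a x))).map (a.stalkMap x).hom) rfl]
  exact ⟨fun h => h.1, fun h => ⟨h, isGor_of_isField _ (isField_quot_of_etale a x)⟩⟩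

variable {V : Scheme.{u}} {K : Type u} [Field K]

/-- for `h : U ⟶ V` with `V` etale over a field, "CM at x" is CM-ness of the stalk. -/
theorem isCMAt_iff_of_etale_field (h : U ⟶ V) (b : V ⟶ Spec (CommRingCat.of K)) [Etale b]
    (x : U) : MoreMor.IsCMAt h x ↔ LocCoh.IsCohenMacaulayLocalRing (U.presheaf.stalk x) := by
  have hF := isField_stalk_of_etale b (h x)
  rw [Groth.Agent.Lib.Helper4.CMHomSch.isCMAt_iff]
  have hm : (maximalIdeal (V.presheaf.stalk (h x))).map (h.stalkMap x).hom = ⊥ := by
    rw [(IsLocalRing.isField_iff_maximalIdeal_eq.mp hF), Ideal.map_bot]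
  constructor
  · rintro ⟨-, h2⟩
    haveI := h2
    exact Groth.Agent.Lib.Helper22.CMG.isCMLocalRing_of_ringEquiv
      ((Ideal.quotEquivOfEq hm).trans (RingEquiv.quotientBot _))
  · intro h2
    haveI := h2
    exact ⟨flat_of_isField _ hF, Groth.Agent.Lib.Helper22.CMG.isCMLocalRing_of_ringEquiv
      ((Ideal.quotEquivOfEq hm).trans (RingEquiv.quotientBot _)).symm⟩

/-- for `h : U ⟶ V` with `V` etale over a field, "Gorenstein at x" is Gorenstein-ness of the stalk. -/
theorem isGorensteinAt_iff_of_etale_field (h : U ⟶ V) (b : V ⟶ Spec (CommRingCat.of K)) [Etale b]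
    (x : U) : Dual3.IsGorensteinAt h x ↔ LocCoh.IsGorensteinLocalRing (U.presheaf.stalk x) := by
  have hF := isField_stalk_of_etale b (h x)
  rw [Groth.Agent.Lib.Helper4.GorHomSch.isGorensteinAt_iff]
  have hm : (maximalIdeal (V.presheaf.stalk (h x))).map (h.stalkMap x).hom = ⊥ := by
    rw [(IsLocalRing.isField_iff_maximalIdeal_eq.mp hF), Ideal.map_bot]
  constructor
  · rintro ⟨-, h2⟩
    exact Groth.Agent.Lib.Helper4.GorFlat.gor_of_ringEquiv
      ((Ideal.quotEquivOfEq hm).trans (RingEquiv.quotientBot _)) h2
  · intro h2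
    exact ⟨flat_of_isField _ hF, Groth.Agent.Lib.Helper4.GorFlat.gor_of_ringEquiv
      ((Ideal.quotEquivOfEq hm).trans (RingEquiv.quotientBot _)).symm h2⟩

end Groth.Agent.Lib.Helper1.EtCM
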