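import Mathlib

/-!
# Effaceability of `Ext` classes by epimorphisms

In an abelian category `C`, for `n ≥ 1` every class `y : Ext L M n` is killed by precomposition with
some epimorphism `p : L' ⟶ L` (`efface`).  This is proved via right calculus of fractions in the
derived category (`efface_D`).
-/

open CategoryTheory CategoryTheory.Limits HomologicalComplex

universe w w' v u

namespace Groth.Agent.Lib.Helper1.ExtEfface

section Efface

variable {C : Type u} [Category.{v} C] [Abelian C]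

/-- A quasi-isomorphism from a complex vanishing in positive degrees to a complex concentrated in
degree `0` is an epimorphism in degree `0`. -/
lemma epi_f_zero_of_quasiIso {X' : CochainComplex C ℤ} [X'.IsStrictlyLE 0] (L : C)
    (s : X' ⟶ (single C (ComplexShape.up ℤ) 0).obj L) [QuasiIso s] : Epi (s.f 0) := by
  let X := (single C (ComplexShape.up ℤ) 0).obj L
  have hd' : X'.d 0 1 = 0 := (X'.isZero_of_isStrictlyLE 0 1 (by omega)).eq_of_tgt _ _
  have hd : X.d 0 1 = 0 := (isZero_single_obj_X (ComplexShape.up ℤ) 0 L 1 (by omega)).eq_of_tgt _ _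
  have hdm : X.d (-1) 0 = 0 :=
    (isZero_single_obj_X (ComplexShape.up ℤ) 0 L (-1) (by omega)).eq_of_src _ _
  have h1 : IsIso (X'.iCycles 0) := X'.isIso_iCycles 0 1 (by simp) hd'
  have h2 : IsIso (X.iCycles 0) := X.isIso_iCycles 0 1 (by simp) hd
  have h3 : IsIso (X.homologyπ 0) := X.isIso_homologyπ (-1) 0 (by simp) hdm
  have h4 : IsIso (homologyMap s 0) := by
    have : QuasiIsoAt s 0 := inferInstance
    exact (quasiIsoAt_iff_isIso_homologyMap s 0).1 this
  have hnat : X'.homologyπ 0 ≫ homologyMap s 0 = cyclesMap s 0 ≫ X.homologyπ 0 :=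
    homologyπ_naturality s 0
  have h5 : Epi (cyclesMap s 0 ≫ X.homologyπ 0) := by
    rw [← hnat]
    infer_instance
  have h6 : Epi (cyclesMap s 0) := by
    have : cyclesMap s 0 = (cyclesMap s 0 ≫ X.homologyπ 0) ≫ inv (X.homologyπ 0) := by simp
    rw [this]
    infer_instance
  have h7 : s.f 0 = inv (X'.iCycles 0) ≫ cyclesMap s 0 ≫ X.iCycles 0 := by
    rw [cyclesMap_i, IsIso.inv_hom_id_assoc]
  rw [h7]
  infer_instance

end Efface

section Efface2

variable {C : Type u} [Category.{v} C] [Abelian C] [HasDerivedCategory.{w} C]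

open DerivedCategory in
lemma efface_D (L M : C) (n : ℤ) (hn : n ≠ 0)
    (f : Q.obj ((single C (ComplexShape.up ℤ) 0).obj L) ⟶
      (Q.obj ((single C (ComplexShape.up ℤ) 0).obj M))⟦n⟧) :
    ∃ (L' : C) (p : L' ⟶ L), Epi p ∧ Q.map ((single C (ComplexShape.up ℤ) 0).map p) ≫ f = 0 := by
  let e : Q.obj (((single C (ComplexShape.up ℤ) 0).obj M)⟦n⟧) ≅
      (Q.obj ((single C (ComplexShape.up ℤ) 0).obj M))⟦n⟧ :=
    (Q.commShiftIso n).app ((single C (ComplexShape.up ℤ) 0).obj M)
  obtain ⟨X', hX', s, hs, g, hfac⟩ := right_fac_of_isStrictlyLE (f ≫ e.inv) 0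
  have hqi : QuasiIso s := (isIso_Q_map_iff_quasiIso (φ := s)).1 hs
  have hepi : Epi (s.f 0) := epi_f_zero_of_quasiIso L s
  let p : X'.X 0 ⟶ L := s.f 0 ≫ (singleObjXSelf (ComplexShape.up ℤ) 0 L).hom
  have hp : Epi p := epi_comp _ _
  refine ⟨X'.X 0, p, hp, ?_⟩
  let ι : (single C (ComplexShape.up ℤ) 0).obj (X'.X 0) ⟶ X' :=
    mkHomFromSingle (𝟙 (X'.X 0)) (by
      intro k hk
      have hk' : (0 : ℤ) + 1 = k := hk
      exact (X'.isZero_of_isStrictlyLE 0 k (by omega)).eq_of_tgt _ _)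
  have h1 : ι ≫ s = (single C (ComplexShape.up ℤ) 0).map p := by
    apply from_single_hom_ext
    rw [comp_f, mkHomFromSingle_f, single_map_f_self]
    simp [p]
  have h2 : ι ≫ g = 0 := by
    apply from_single_hom_ext
    apply IsZero.eq_of_tgt
    exact isZero_single_obj_X (ComplexShape.up ℤ) 0 M (0 + n) (by omega)
  have h4 : Q.map ((single C (ComplexShape.up ℤ) 0).map p) ≫ (f ≫ e.inv) = 0 := by
    rw [← h1, hfac, Functor.map_comp, Category.assoc, IsIso.hom_inv_id_assoc, ← Functor.map_comp,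
      h2, Functor.map_zero]
  have h5 : Q.map ((single C (ComplexShape.up ℤ) 0).map p) ≫ f =
      (Q.map ((single C (ComplexShape.up ℤ) 0).map p) ≫ (f ≫ e.inv)) ≫ e.hom := by
    rw [Category.assoc, Category.assoc, Iso.inv_hom_id, Category.comp_id]
  rw [h5, h4, zero_comp]

end Efface2

open Abelian in
lemma efface {C : Type u} [Category.{v} C] [Abelian C] [HasExt.{w} C] {L M : C} {n : ℕ}
    (hn : 1 ≤ n) (y : Ext.{w} L M n) :
    ∃ (L' : C) (p : L' ⟶ L), Epi p ∧ (Ext.mk₀ p).comp y (zero_add n) = 0 := by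
  let := HasDerivedCategory.standard C
  obtain ⟨L', p, hp, h⟩ := efface_D L M (n : ℤ) (by omega) y.hom
  refine ⟨L', p, hp, ?_⟩
  apply Ext.ext
  rw [← Ext.singleFunctor_map_comp_hom, Ext.zero_hom]
  exact h

end Groth.Agent.Lib.Helper1.ExtEfface
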