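import Groth.Prelude.Def_FEt
import Groth.Agent.S0063
import Mathlib.AlgebraicGeometry.Morphisms.UniversallyOpen
import Mathlib.AlgebraicGeometry.Morphisms.UniversallyClosed
import Mathlib.AlgebraicGeometry.Morphisms.Etale
import Mathlib.AlgebraicGeometry.PullbackCarrier

/-!
# Equalizers of maps of finite étale covers

For `a b : Y₁ ⟶ Y₂` in `FEt.Cat Y` whose base changes along `f : X ⟶ Y` agree, the locus where
`a = b` is a clopen subset of `Y₁.left` containing the preimage of the range of `f`.
-/

set_option autoImplicit false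
universe u

open AlgebraicGeometry CategoryTheory CategoryTheory.Limits

namespace Groth.Agent.Lib.Helper1

/-- If two maps of finite étale covers agree after base change along `f`, there is a clopen subset
of the source cover, containing the preimage of the range of `f`, such that the two maps are equal
as soon as this clopen subset is everything. -/
theorem FEt.exists_clopen_of_restrict_map_eq {X Y : Scheme.{u}} (f : X ⟶ Y) {Y₁ Y₂ : FEt.Cat Y}
    (a b : Y₁ ⟶ Y₂) (hab : (FEt.restrict f).map a = (FEt.restrict f).map b) :
    ∃ U : Set Y₁.left, IsClopen U ∧ Y₁.hom.base ⁻¹' Set.range f.base ⊆ U ∧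
      (U = Set.univ → a = b) := by
  classical
  have hfin : IsFinite Y₂.hom := Y₂.prop.1
  have het : Etale Y₂.hom := Y₂.prop.2
  have hfst : pullback.fst Y₁.hom f ≫ a.left = pullback.fst Y₁.hom f ≫ b.left := by
    have h1 := congrArg (fun φ => φ.left ≫ pullback.fst Y₂.hom f) hab
    simp only [FEt.restrict, MorphismProperty.Over.pullback, MorphismProperty.Over.homMk_hom,
      Over.homMk_left] at h1
    rw [pullback.lift_fst, pullback.lift_fst] at h1
    exact h1
  let Y₁' : Over Y := Over.mk Y₁.hom
  let Y₂' : Over Y := Over.mk Y₂.hom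
  let a' : Y₁' ⟶ Y₂' := Over.homMk a.left (MorphismProperty.Over.w a)
  let b' : Y₁' ⟶ Y₂' := Over.homMk b.left (MorphismProperty.Over.w b)
  have hsep : IsSeparated Y₂'.hom := inferInstanceAs (IsSeparated Y₂.hom)
  have hdiag : IsOpenImmersion (pullback.diagonal Y₂'.hom) :=
    inferInstanceAs (IsOpenImmersion (pullback.diagonal Y₂.hom))
  have hcl : IsClosedImmersion (equalizer.ι a' b').left := inferInstance
  have hop : IsOpenImmersion (equalizer.ι a' b').left :=
    Groth.Agent.S0063.isOpenImmersion_equalizer_ι_left a' b'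
  let P' : Over Y := Over.mk (pullback.fst Y₁.hom f ≫ Y₁.hom)
  let p' : P' ⟶ Y₁' := Over.homMk (pullback.fst Y₁.hom f) rfl
  have hp : p' ≫ a' = p' ≫ b' := by ext1; exact hfst
  refine ⟨Set.range (equalizer.ι a' b').left.base,
    ⟨(Scheme.Hom.isClosedEmbedding _).isClosed_range, (Scheme.Hom.isOpenEmbedding _).isOpen_range⟩,
    ?_, fun huniv => ?_⟩
  · rw [← Scheme.Pullback.range_fst]
    rintro _ ⟨z, rfl⟩
    refine ⟨(equalizer.lift p' hp).left.base z, ?_⟩
    rw [← Scheme.Hom.comp_apply, ← Over.comp_left, equalizer.lift_ι]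
    rfl
  · have hsurj : Surjective (equalizer.ι a' b').left := ⟨Set.range_eq_univ.mp huniv⟩
    have hiso : IsIso (equalizer.ι a' b').left :=
      (isIso_iff_isOpenImmersion_and_surjective _).mpr ⟨hop, hsurj⟩
    have hleft : a.left = b.left := by
      rw [← cancel_epi (equalizer.ι a' b').left]
      exact congr($(equalizer.condition a' b').left)
    exact MorphismProperty.Over.Hom.ext hleft

end Groth.Agent.Lib.Helper1
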