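import Groth.Agent.Lib.Helper1.FFCoh

/-!
# Finite generation of the cohomology of a finitely generated coherent graded family
-/
set_option autoImplicit false
universe u
open CategoryTheory CategoryTheory.Limits AlgebraicGeometry
open Groth.Agent.Lib.Helper23.T2 Groth.Agent.Lib.Helper13.SerreCrit1 Groth.Agent.Lib.Helper3

noncomputable section

namespace Groth.Agent.Lib.Helper1.FFClaim

open FFFam FFCoh

variable (A : Type u) [CommRing A] {X : Scheme.{u}} [X.Over (Spec (CommRingCat.of A))]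

lemma HmapA_apply {M N : X.Modules} (φ : M ⟶ N) (n : ℕ) (x : Coh.HH X M n) :
    HmapA A φ n x = Hmap φ n x := rfl

lemma HmapA_comp {M N L : X.Modules} (φ : M ⟶ N) (ψ : N ⟶ L) (n : ℕ) (x : Coh.HH X M n) :
    HmapA A (φ ≫ ψ) n x = HmapA A ψ n (HmapA A φ n x) := Hmap_comp φ ψ n x

lemma HmapA_id (M : X.Modules) (n : ℕ) (x : Coh.HH X M n) : HmapA A (𝟙 M) n x = x :=
  Hmap_id M n x

lemma HmapA_sum {M N : X.Modules} {κ : Type*} (s : Finset κ) (φ : κ → (M ⟶ N)) (n : ℕ)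
    (x : Coh.HH X M n) : HmapA A (∑ k ∈ s, φ k) n x = ∑ k ∈ s, HmapA A (φ k) n x :=
  Hmap_sum s φ n x

lemma HmapA_zero {M N : X.Modules} (n : ℕ) (x : Coh.HH X M n) :
    HmapA A (0 : M ⟶ N) n x = 0 := Hmap_zero n x

variable {r : ℕ} (F : GrFam X r)

/-- decomposition of a class on the direct sum. -/
lemma decomp (n p : ℕ) (x : Coh.HH X (F.S n) p) :
    x = ∑ j, HmapA A (F.inc n j) p (HmapA A (F.pr n j) p x) := by
  have h : HmapA A (∑ j, F.pr n j ≫ F.inc n j) p x = x := by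
    rw [F.total, HmapA_id]
  rw [HmapA_sum] at h
  conv_lhs => rw [← h]
  refine Finset.sum_congr rfl fun j _ => ?_
  rw [HmapA_comp]

/-- surjectivity of `H(φ)` gives generation by the operators. -/
lemma mem_iSup_range_of_surjective (n p : ℕ) (hs : Function.Surjective (HmapA A (F.φ n) p))
    (y : Coh.HH X (F.G (n + 1)) p) : y ∈ ⨆ i, LinearMap.range (HmapA A (F.t i n) p) := by
  obtain ⟨x, rfl⟩ := hs y
  rw [decomp A F n p x, map_sum]
  refine Submodule.sum_mem _ fun j _ => ?_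
  rw [← HmapA_comp, F.inc_φ]
  exact Submodule.mem_iSup_of_mem j ⟨_, rfl⟩

lemma ker_t_kills (i : Fin r) (n p : ℕ) (x : Coh.HH X (F.ker.G n) p)
    (hx : HmapA A (F.kι n) p x = 0) : HmapA A (F.ker.t i n) p x = 0 := by
  rw [← F.kι_h, HmapA_comp, hx, map_zero]

section Step

variable [IsNoetherianRing A] [IsProper (X ↘ Spec (CommRingCat.of A))]

/-- the key step: surjectivity in degree `p + 1` for the kernel family gives surjectivity in
degree `p` for the family. -/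
lemma step [IsLocallyNoetherian X] (hF : F.IsCohFam) (d₀ : ℕ) (hd₀ : ∀ n, d₀ ≤ n → Epi (F.φ n))
    (p d₁ : ℕ) (hd₁ : ∀ n, d₁ ≤ n → Function.Surjective (HmapA A (F.ker.φ n) (p + 1))) :
    ∃ d, ∀ n, d ≤ n → Function.Surjective (HmapA A (F.φ n) p) := by
  have hKc := isCohFam_ker F hF
  haveI : ∀ n, Module.Finite A (Coh.HH X (F.ker.G n) (p + 1)) :=
    fun n => finite_HH A (F.ker.G n) (hKc n) (p + 1)
  obtain ⟨d₂, hd₂⟩ := FFGraded.graded_stable (R := A) (fun n => Coh.HH X (F.ker.G n) (p + 1))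
    (fun i n => HmapA A (F.ker.t i n) (p + 1))
    (fun i j n x => by
      change HmapA A (F.ker.t j (n + 1)) (p + 1) (HmapA A (F.ker.t i n) (p + 1) x) =
        HmapA A (F.ker.t i (n + 1)) (p + 1) (HmapA A (F.ker.t j n) (p + 1) x)
      rw [← HmapA_comp, ← HmapA_comp, F.ker.comm])
    d₁ (fun n hn y => mem_iSup_range_of_surjective A F.ker n (p + 1) (hd₁ n hn) y)
    (fun n => LinearMap.ker (HmapA A (F.kι n) (p + 1)))
    (fun i n x hx => by
      have h0 : HmapA A (F.ker.t i n) (p + 1) x = 0 := ker_t_kills A F i n (p + 1) x hx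
      change HmapA A (F.ker.t i n) (p + 1) x ∈ _
      rw [h0]
      exact Submodule.zero_mem _)
  refine ⟨max d₀ (d₂ + 1), fun n hn y => ?_⟩
  haveI := hd₀ n (by omega)
  obtain ⟨m, rfl⟩ : ∃ m, n = m + 1 := ⟨n - 1, by omega⟩
  have hSE := F.sc_shortExact (m + 1)
  have h1 : HmapA A (F.sc (m + 1)).f (p + 1) (HδA A (F.sc (m + 1)) hSE p y) = 0 :=
    ((exact_δ_f A (F.sc (m + 1)) hSE p) _).mpr ⟨y, rfl⟩
  have h2 := hd₂ m (by omega) (HδA A (F.sc (m + 1)) hSE p y) h1
  have h3 : (⨆ i, Submodule.map (HmapA A (F.ker.t i m) (p + 1))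
      (LinearMap.ker (HmapA A (F.kι m) (p + 1)))) ≤ ⊥ := by
    refine iSup_le fun i => ?_
    rintro _ ⟨x, hx, rfl⟩
    rw [Submodule.mem_bot]
    exact ker_t_kills A F i m (p + 1) x hx
  have h4 : HδA A (F.sc (m + 1)) hSE p y = 0 := (Submodule.mem_bot A).mp (h3 h2)
  exact ((exact_g_δ A (F.sc (m + 1)) hSE p) y).mp h4

end Step

theorem claim [IsNoetherianRing A] [IsProper (X ↘ Spec (CommRingCat.of A))] (N₀ : ℕ)
    (hN₀ : ∀ (M : X.Modules), Coh.IsQCoh M → ∀ p, N₀ ≤ p → Subsingleton (Coh.HH X M p)) :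
    ∀ (q p : ℕ), N₀ ≤ p + q → ∀ (F : GrFam X r), F.IsCohFam → F.IsFG →
      ∃ d, ∀ n, d ≤ n → Function.Surjective (HmapA A (F.φ n) p) := by
  haveI : IsLocallyNoetherian X :=
    LocallyOfFiniteType.isLocallyNoetherian (X ↘ Spec (CommRingCat.of A))
  haveI : CompactSpace X := QuasiCompact.compactSpace_of_compactSpace (X ↘ Spec (CommRingCat.of A))
  intro q
  induction q with
  | zero =>
    intro p hp F hF _
    refine ⟨0, fun n _ y => ?_⟩
    haveI := hN₀ (F.G (n + 1)) (hF (n + 1)).1 p (by omega)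
    exact ⟨0, Subsingleton.elim _ _⟩
  | succ q ih =>
    intro p hp F hF hFG
    obtain ⟨d₁, hd₁⟩ := ih (p + 1) (by omega) F.ker (isCohFam_ker F hF) (isFG_ker F hF hFG)
    obtain ⟨d₀, hd₀⟩ := hFG
    exact step A F hF d₀ hd₀ p d₁ hd₁

end Groth.Agent.Lib.Helper1.FFClaim
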