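import Groth.Agent.Lib.Helper1.FFIM

/-!
# The theorem on formal functions: the filtration statements
-/
set_option autoImplicit false
universe u
open CategoryTheory CategoryTheory.Limits AlgebraicGeometry Opposite
open Groth.Agent.Lib.Helper23.T2 Groth.Agent.Lib.Helper13.SerreCrit1 Groth.Agent.Lib.Helper3
open Formal

noncomputable section

namespace Groth.Agent.Lib.Helper1.FFMain

open FFFam FFCoh FFClaim FFIM

variable (A : Type u) [CommRing A] (I : Ideal A) {X : Scheme.{u}}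
  [X.Over (Spec (CommRingCat.of A))] (M : X.Modules) (p : ℕ)

lemma HδA_naturality {S S' : ShortComplex X.Modules} (hS : S.ShortExact) (hS' : S'.ShortExact)
    (φ : S ⟶ S') (n : ℕ) (x : Coh.HH X S.X₃ n) :
    HmapA A φ.τ₁ (n + 1) (HδA A S hS n x) = HδA A S' hS' n (HmapA A φ.τ₃ n x) :=
  Groth.Agent.Lib.Helper7.LerayNat.extδ_naturality (shortExact_map_toSheaf S hS)
    (shortExact_map_toSheaf S' hS') ((TT X).mapShortComplex.map φ) _ n (n + 1) rfl x

/-- the filtration of `H^p(X, M)` by the kernels of the maps to `H^p(X, M/I^n M)`. -/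
def Fil (n : ℕ) : Submodule A (Coh.HH X M p) := LinearMap.ker (HmapA A (modPowπ I n M) p)

lemma mem_Fil (n : ℕ) (x : Coh.HH X M p) :
    x ∈ Fil A I M p n ↔ HmapA A (modPowπ I n M) p x = 0 := Iff.rfl

lemma mem_Fil_iff (n : ℕ) (x : Coh.HH X M p) :
    x ∈ Fil A I M p n ↔ ∃ z, HmapA A (ιM I M n) p z = x :=
  (exact_f_g A (scM I M n) (scM_shortExact I M n) p) x

lemma smul_mem_Fil_succ (n : ℕ) (a' : A) (ha' : a' ∈ I) (x : Coh.HH X M p)
    (hx : x ∈ Fil A I M p n) : a' • x ∈ Fil A I M p (n + 1) := by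
  rw [mem_Fil_iff] at hx ⊢
  obtain ⟨z, rfl⟩ := hx
  refine ⟨HmapA A (tA I M n a' ha') p z, ?_⟩
  rw [← HmapA_comp, tA_ι, HmapA_comp, HmapA_smulMod]

lemma smul_Fil_le (n : ℕ) : I • Fil A I M p n ≤ Fil A I M p (n + 1) :=
  Submodule.smul_le.mpr (fun a' ha' x hx => smul_mem_Fil_succ A I M p n a' ha' x hx)

/-- the kernel of `H^{p+1}(I^m M) → H^{p+1}(M)`. -/
def Q (m : ℕ) : Submodule A (Coh.HH X (IM I M m) (p + 1)) :=
  LinearMap.ker (HmapA A (ιM I M m) (p + 1))

lemma mem_Q (m : ℕ) (x : Coh.HH X (IM I M m) (p + 1)) :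
    x ∈ Q A I M p m ↔ HmapA A (ιM I M m) (p + 1) x = 0 := Iff.rfl

lemma Q_killed (m : ℕ) (b : A) (hb : b ∈ I ^ m) (x : Coh.HH X (IM I M m) (p + 1))
    (hx : x ∈ Q A I M p m) : b • x = 0 := by
  have h := exact_δ_f A (scM I M m) (scM_shortExact I M m) p
  obtain ⟨w, rfl⟩ := (h x).mp hx
  have hw : b • w = 0 :=
    (HmapA_smulMod (modPow I m M) b p w).symm.trans (by
      rw [smulMod_modPow I M m b hb]; exact HmapA_zero A p w)
  have e := (HδA A (scM I M m) (scM_shortExact I M m) p).map_smul b w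
  exact e.symm.trans (by rw [hw, map_zero]; rfl)

section Gens

variable {r : ℕ} (a : Fin r → A) (ha : ∀ i, a i ∈ I)

lemma tQ (i : Fin r) (m : ℕ) (x : Coh.HH X (IM I M m) (p + 1)) (hx : x ∈ Q A I M p m) :
    HmapA A (tA I M m (a i) (ha i)) (p + 1) x ∈ Q A I M p (m + 1) := by
  rw [mem_Q] at hx ⊢
  rw [← HmapA_comp, tA_ι, HmapA_comp, hx, map_zero]

/-- the stabilisation property of `Q` from degree `d` on. -/
def QStab (d : ℕ) : Prop :=
  ∀ m, d ≤ m → ∀ z ∈ Q A I M p (m + 1),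
    z ∈ ⨆ i, Submodule.map (HmapA A (tA I M m (a i) (ha i)) (p + 1)) (Q A I M p m)

variable {A I M p a ha}

lemma Q_killed_d {d : ℕ} (hd : QStab A I M p a ha d) (b : A) (hb : b ∈ I ^ d) :
    ∀ m, d ≤ m → ∀ x ∈ Q A I M p m, b • x = 0 := by
  intro m hm
  induction m, hm using Nat.le_induction with
  | base => exact fun x hx => Q_killed A I M p d b hb x hx
  | succ m hm ih =>
    intro x hx
    refine Submodule.iSup_induction _ (motive := fun x => b • x = 0) (hd m hm x hx) ?_ ?_ ?_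
    · rintro i _ ⟨y, hy, rfl⟩
      rw [← map_smul, ih y hy, map_zero]
    · exact smul_zero b
    · intro u v hu hv
      rw [smul_add, hu, hv, add_zero]

lemma jM_Q {d : ℕ} (hd : QStab A I M p a ha d) (m : ℕ) (hm : d ≤ m) :
    ∀ (s : ℕ) (x : Coh.HH X (IM I M (m + s)) (p + 1)), x ∈ Q A I M p (m + s) →
      HmapA A (jM I M (Nat.le_add_right m s)) (p + 1) x ∈ I ^ s • Q A I M p m := by
  intro s
  induction s with
  | zero =>
    intro x hx
    rw [show jM I M (Nat.le_add_right m 0) = 𝟙 _ from jM_refl I M m, HmapA_id, pow_zero,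
      Ideal.one_eq_top, Submodule.top_smul]
    exact hx
  | succ s ih =>
    intro x hx
    refine Submodule.iSup_induction _
      (motive := fun x => HmapA A (jM I M (Nat.le_add_right m (s + 1))) (p + 1) x ∈
        I ^ (s + 1) • Q A I M p m) (hd (m + s) (by omega) x hx) ?_ ?_ ?_
    · rintro i _ ⟨y, hy, rfl⟩
      rw [← HmapA_comp, tA_jM I M (Nat.le_add_right m s) (a i) (ha i), HmapA_comp,
        HmapA_smulMod, pow_succ', Submodule.mul_smul]
      exact Submodule.smul_mem_smul (ha i) (ih y hy)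
    · rw [map_zero]; exact Submodule.zero_mem _
    · intro u v hu hv
      rw [map_add]; exact Submodule.add_mem _ hu hv

lemma jM_kills {d : ℕ} (hd : QStab A I M p a ha d) (n' k' : ℕ) (h : n' ≤ k')
    (hk : n' + 2 * d ≤ k') (x : Coh.HH X (IM I M k') (p + 1)) (hx : x ∈ Q A I M p k') :
    HmapA A (jM I M h) (p + 1) x = 0 := by
  have hm : max n' d ≤ k' := by omega
  obtain ⟨s, rfl⟩ := Nat.exists_eq_add_of_le hm
  have hs : d ≤ s := by omega
  have h1 := jM_Q hd (max n' d) (le_max_right _ _) s x hx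
  have h2 : I ^ s • Q A I M p (max n' d) ≤ ⊥ := by
    rw [Submodule.smul_le]
    intro b hb y hy
    rw [Submodule.mem_bot]
    exact Q_killed_d hd b (Ideal.pow_le_pow_right hs hb) _ (le_max_right _ _) y hy
  have h3 : HmapA A (jM I M (Nat.le_add_right (max n' d) s)) (p + 1) x = 0 :=
    (Submodule.mem_bot A).mp (h2 h1)
  rw [← jM_trans I M (le_max_left n' d) (Nat.le_add_right (max n' d) s), HmapA_comp, h3, map_zero]

end Gens

section Proper

variable [IsNoetherianRing A] [IsProper (X ↘ Spec (CommRingCat.of A))]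

include A in
lemma exists_vanishing : ∃ N₀ : ℕ, ∀ (M : X.Modules), Coh.IsQCoh M → ∀ p : ℕ, N₀ ≤ p →
    Subsingleton (Coh.HH X M p) := by
  haveI : CompactSpace X :=
    QuasiCompact.compactSpace_of_compactSpace (X ↘ Spec (CommRingCat.of A))
  haveI : QuasiSeparatedSpace X :=
    quasiSeparatedSpace_of_quasiSeparated (X ↘ Spec (CommRingCat.of A))
  exact Groth.Agent.S0016.result X

lemma exists_gens : ∃ (r : ℕ) (a : Fin r → A), Ideal.span (Set.range a) = I :=
  (Submodule.fg_iff_exists_fin_generating_family).mp (IsNoetherian.noetherian I)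

theorem Fil_stable (hM : Coh.IsCoh M) :
    ∃ d, ∀ n, d ≤ n → Fil A I M p (n + 1) = I • Fil A I M p n := by
  haveI : IsLocallyNoetherian X :=
    LocallyOfFiniteType.isLocallyNoetherian (X ↘ Spec (CommRingCat.of A))
  obtain ⟨r, a, hspan⟩ := exists_gens A I
  have ha : ∀ i, a i ∈ I := fun i => by rw [← hspan]; exact Ideal.subset_span ⟨i, rfl⟩
  obtain ⟨N₀, hN₀⟩ := exists_vanishing A (X := X)
  obtain ⟨d, hd⟩ := claim A N₀ hN₀ N₀ p (by omega) (fam I M a ha) (isCohFam_fam I M a ha hM)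
    (isFG_fam I M a ha hspan)
  refine ⟨d, fun n hn => le_antisymm ?_ (smul_Fil_le A I M p n)⟩
  intro x hx
  rw [mem_Fil_iff] at hx
  obtain ⟨y, rfl⟩ := hx
  have hy := mem_iSup_range_of_surjective A (fam I M a ha) n p (hd n hn) y
  refine Submodule.iSup_induction _
    (motive := fun y => HmapA A (ιM I M (n + 1)) p y ∈ I • Fil A I M p n) hy ?_ ?_ ?_
  · rintro i _ ⟨z, rfl⟩
    change HmapA A (ιM I M (n + 1)) p (HmapA A (tA I M n (a i) (ha i)) p z) ∈ _
    rw [← HmapA_comp, tA_ι, HmapA_comp, HmapA_smulMod]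
    exact Submodule.smul_mem_smul (ha i) ((mem_Fil_iff A I M p n _).mpr ⟨z, rfl⟩)
  · rw [map_zero]; exact Submodule.zero_mem _
  · intro u v hu hv
    rw [map_add]; exact Submodule.add_mem _ hu hv

theorem exists_QStab (hM : Coh.IsCoh M) {r : ℕ} (a : Fin r → A) (ha : ∀ i, a i ∈ I)
    (hspan : Ideal.span (Set.range a) = I) : ∃ d, QStab A I M p a ha d := by
  haveI : IsLocallyNoetherian X :=
    LocallyOfFiniteType.isLocallyNoetherian (X ↘ Spec (CommRingCat.of A))
  obtain ⟨N₀, hN₀⟩ := exists_vanishing A (X := X)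
  obtain ⟨d₁, hd₁⟩ := claim A N₀ hN₀ N₀ (p + 1) (by omega) (fam I M a ha)
    (isCohFam_fam I M a ha hM) (isFG_fam I M a ha hspan)
  haveI : ∀ n, Module.Finite A (Coh.HH X (IM I M n) (p + 1)) :=
    fun n => finite_HH A _ (isCoh_IM I M hM n) (p + 1)
  exact FFGraded.graded_stable (R := A) (fun n => Coh.HH X (IM I M n) (p + 1))
    (fun i n => HmapA A (tA I M n (a i) (ha i)) (p + 1))
    (fun i j n x => by
      change HmapA A ((fam I M a ha).t j (n + 1)) (p + 1)
          (HmapA A ((fam I M a ha).t i n) (p + 1) x) =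
        HmapA A ((fam I M a ha).t i (n + 1)) (p + 1) (HmapA A ((fam I M a ha).t j n) (p + 1) x)
      rw [← HmapA_comp, ← HmapA_comp, (fam I M a ha).comm])
    d₁ (fun n hn y => mem_iSup_range_of_surjective A (fam I M a ha) n (p + 1) (hd₁ n hn) y)
    (fun n => Q A I M p n) (fun i n x hx => tQ A I M p a ha i n x hx)

/-- the uniform Mittag-Leffler statement. -/
theorem FF3 (hM : Coh.IsCoh M) : ∃ c, ∀ (n k : ℕ) (h : n ≤ k), n + c ≤ k →
    ∀ w : Coh.HH X (modPow I (k + 1) M) p, ∃ x : Coh.HH X M p,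
      HmapA A (modPowπ I (n + 1) M) p x = HmapA A (trans I M (Nat.succ_le_succ h)) p w := by
  obtain ⟨r, a, hspan⟩ := exists_gens A I
  have ha : ∀ i, a i ∈ I := fun i => by rw [← hspan]; exact Ideal.subset_span ⟨i, rfl⟩
  obtain ⟨d, hd⟩ := exists_QStab A I M p hM a ha hspan
  refine ⟨2 * d, fun n k h hk w => ?_⟩
  have hSk := scM_shortExact I M (k + 1)
  have hSn := scM_shortExact I M (n + 1)
  have hnat := HδA_naturality A hSk hSn (scMap I M (Nat.succ_le_succ h)) p w
  have hQ : HδA A (scM I M (k + 1)) hSk p w ∈ Q A I M p (k + 1) :=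
    ((exact_δ_f A (scM I M (k + 1)) hSk p) _).mpr ⟨w, rfl⟩
  have h0 : HmapA A (jM I M (Nat.succ_le_succ h)) (p + 1) (HδA A (scM I M (k + 1)) hSk p w) = 0 :=
    jM_kills hd (n + 1) (k + 1) (Nat.succ_le_succ h) (by omega) _ hQ
  have h1 : HδA A (scM I M (n + 1)) hSn p
      (HmapA A (trans I M (Nat.succ_le_succ h)) p w) = 0 := hnat.symm.trans h0
  exact ((exact_g_δ A (scM I M (n + 1)) hSn p) _).mp h1

end Proper

end Groth.Agent.Lib.Helper1.FFMain
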