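import Groth.Agent.Lib.Helper1.FFFinal

/-!
# Formal functions for modules in a class with finite cohomology (e.g. proper support)
-/
set_option autoImplicit false
universe u
open CategoryTheory CategoryTheory.Limits AlgebraicGeometry Opposite
open Groth.Agent.Lib.Helper23.T2 Groth.Agent.Lib.Helper13.SerreCrit1 Groth.Agent.Lib.Helper3
open Formal

noncomputable section

namespace Groth.Agent.Lib.Helper1.FFPS

open FFFam FFCoh FFClaim FFIM FFMain FFFinal

variable (A : Type u) [CommRing A] {X : Scheme.{u}} [X.Over (Spec (CommRingCat.of A))]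

/-- a class of modules with finite cohomology, stable under subobjects and finite powers. -/
structure Good (PP : X.Modules → Prop) : Prop where
  fin : ∀ G : X.Modules, Coh.IsCoh G → PP G → ∀ p, Module.Finite A (Coh.HH X G p)
  sub : ∀ {K G : X.Modules} (i : K ⟶ G) [Mono i], PP G → PP K
  sum : ∀ (r : ℕ) (G : X.Modules), PP G → PP (⨁ fun _ : Fin r => G)

variable {A} {PP : X.Modules → Prop} (hPP : Good A PP)
include hPP

section Claim

variable [IsNoetherianRing A] [IsLocallyNoetherian X] {r : ℕ} (F : GrFam X r)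

lemma P_ker (hP : ∀ n, PP (F.G n)) (n : ℕ) : PP (F.ker.G n) :=
  hPP.sub (F.kι n) (hPP.sum r (F.G n) (hP n))

lemma step (hF : F.IsCohFam) (hP : ∀ n, PP (F.G n)) (d₀ : ℕ) (hd₀ : ∀ n, d₀ ≤ n → Epi (F.φ n))
    (p d₁ : ℕ) (hd₁ : ∀ n, d₁ ≤ n → Function.Surjective (HmapA A (F.ker.φ n) (p + 1))) :
    ∃ d, ∀ n, d ≤ n → Function.Surjective (HmapA A (F.φ n) p) := by
  have hKc := isCohFam_ker F hF
  haveI : ∀ n, Module.Finite A (Coh.HH X (F.ker.G n) (p + 1)) :=
    fun n => hPP.fin (F.ker.G n) (hKc n) (P_ker hPP F hP n) (p + 1)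
  obtain ⟨d₂, hd₂⟩ := FFGraded.graded_stable (R := A) (fun n => Coh.HH X (F.ker.G n) (p + 1))
    (fun i n => HmapA A (F.ker.t i n) (p + 1))
    (fun i j n x => by
      change HmapA A (F.ker.t j (n + 1)) (p + 1) (HmapA A (F.ker.t i n) (p + 1) x) =
        HmapA A (F.ker.t i (n + 1)) (p + 1) (HmapA A (F.ker.t j n) (p + 1) x)
      rw [← HmapA_comp, ← HmapA_comp, F.ker.comm])
    d₁ (fun n hn y => mem_iSup_range_of_surjective A F.ker n (p + 1) (hd₁ n hn) y)
    (fun n => LinearMap.ker (HmapA A (F.kι n) (p + 1)))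
    (fun i n x hx => by
      have h0 : HmapA A (F.ker.t i n) (p + 1) x = 0 := ker_t_kills A F i n (p + 1) x hx
      change HmapA A (F.ker.t i n) (p + 1) x ∈ _
      rw [h0]
      exact Submodule.zero_mem _)
  refine ⟨max d₀ (d₂ + 1), fun n hn y => ?_⟩
  haveI := hd₀ n (by omega)
  obtain ⟨m, rfl⟩ : ∃ m, n = m + 1 := ⟨n - 1, by omega⟩
  have hSE := F.sc_shortExact (m + 1)
  have h1 : HmapA A (F.sc (m + 1)).f (p + 1) (HδA A (F.sc (m + 1)) hSE p y) = 0 :=
    ((exact_δ_f A (F.sc (m + 1)) hSE p) _).mpr ⟨y, rfl⟩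
  have h2 := hd₂ m (by omega) (HδA A (F.sc (m + 1)) hSE p y) h1
  have h3 : (⨆ i, Submodule.map (HmapA A (F.ker.t i m) (p + 1))
      (LinearMap.ker (HmapA A (F.kι m) (p + 1)))) ≤ ⊥ := by
    refine iSup_le fun i => ?_
    rintro _ ⟨x, hx, rfl⟩
    rw [Submodule.mem_bot]
    exact ker_t_kills A F i m (p + 1) x hx
  have h4 : HδA A (F.sc (m + 1)) hSE p y = 0 := (Submodule.mem_bot A).mp (h3 h2)
  exact ((exact_g_δ A (F.sc (m + 1)) hSE p) y).mp h4

theorem claim [CompactSpace X] (N₀ : ℕ)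
    (hN₀ : ∀ (M : X.Modules), Coh.IsQCoh M → ∀ p, N₀ ≤ p → Subsingleton (Coh.HH X M p)) :
    ∀ (q p : ℕ), N₀ ≤ p + q → ∀ (F : GrFam X r), F.IsCohFam → (∀ n, PP (F.G n)) → F.IsFG →
      ∃ d, ∀ n, d ≤ n → Function.Surjective (HmapA A (F.φ n) p) := by
  intro q
  induction q with
  | zero =>
    intro p hp F hF _ _
    refine ⟨0, fun n _ y => ?_⟩
    haveI := hN₀ (F.G (n + 1)) (hF (n + 1)).1 p (by omega)
    exact ⟨0, Subsingleton.elim _ _⟩
  | succ q ih =>
    intro p hp F hF hP hFG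
    obtain ⟨d₁, hd₁⟩ := ih (p + 1) (by omega) F.ker (isCohFam_ker F hF) (P_ker hPP F hP)
      (isFG_ker F hF hFG)
    obtain ⟨d₀, hd₀⟩ := hFG
    exact step hPP F hF hP d₀ hd₀ p d₁ hd₁

end Claim

section Main

variable [IsNoetherianRing A] [IsLocallyNoetherian X] [CompactSpace X]
  (I : Ideal A) (M : X.Modules) (p : ℕ)

omit hPP in
lemma exists_vanishing : ∃ N₀ : ℕ, ∀ (M : X.Modules), Coh.IsQCoh M → ∀ p : ℕ, N₀ ≤ p →
    Subsingleton (Coh.HH X M p) :=
  Groth.Agent.S0016.result X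

lemma P_IM (hP : PP M) (n : ℕ) : PP (IM I M n) := hPP.sub (ιM I M n) hP

theorem Fil_stable (hM : Coh.IsCoh M) (hP : PP M) :
    ∃ d, ∀ n, d ≤ n → Fil A I M p (n + 1) = I • Fil A I M p n := by
  obtain ⟨r, a, hspan⟩ := exists_gens A I
  have ha : ∀ i, a i ∈ I := fun i => by rw [← hspan]; exact Ideal.subset_span ⟨i, rfl⟩
  obtain ⟨N₀, hN₀⟩ := exists_vanishing (X := X)
  obtain ⟨d, hd⟩ := claim hPP N₀ hN₀ N₀ p (by omega) (fam I M a ha) (isCohFam_fam I M a ha hM)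
    (P_IM hPP I M hP) (isFG_fam I M a ha hspan)
  refine ⟨d, fun n hn => le_antisymm ?_ (smul_Fil_le A I M p n)⟩
  intro x hx
  rw [mem_Fil_iff] at hx
  obtain ⟨y, rfl⟩ := hx
  have hy := mem_iSup_range_of_surjective A (fam I M a ha) n p (hd n hn) y
  refine Submodule.iSup_induction _
    (motive := fun y => HmapA A (ιM I M (n + 1)) p y ∈ I • Fil A I M p n) hy ?_ ?_ ?_
  · rintro i _ ⟨z, rfl⟩
    change HmapA A (ιM I M (n + 1)) p (HmapA A (tA I M n (a i) (ha i)) p z) ∈ _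
    rw [← HmapA_comp, tA_ι, HmapA_comp, HmapA_smulMod]
    exact Submodule.smul_mem_smul (ha i) ((mem_Fil_iff A I M p n _).mpr ⟨z, rfl⟩)
  · rw [map_zero]; exact Submodule.zero_mem _
  · intro u v hu hv
    rw [map_add]; exact Submodule.add_mem _ hu hv

theorem exists_QStab (hM : Coh.IsCoh M) (hP : PP M) {r : ℕ} (a : Fin r → A)
    (ha : ∀ i, a i ∈ I) (hspan : Ideal.span (Set.range a) = I) :
    ∃ d, QStab A I M p a ha d := by
  obtain ⟨N₀, hN₀⟩ := exists_vanishing (X := X)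
  obtain ⟨d₁, hd₁⟩ := claim hPP N₀ hN₀ N₀ (p + 1) (by omega) (fam I M a ha)
    (isCohFam_fam I M a ha hM) (P_IM hPP I M hP) (isFG_fam I M a ha hspan)
  haveI : ∀ n, Module.Finite A (Coh.HH X (IM I M n) (p + 1)) :=
    fun n => hPP.fin _ (isCoh_IM I M hM n) (P_IM hPP I M hP n) (p + 1)
  exact FFGraded.graded_stable (R := A) (fun n => Coh.HH X (IM I M n) (p + 1))
    (fun i n => HmapA A (tA I M n (a i) (ha i)) (p + 1))
    (fun i j n x => by
      change HmapA A ((fam I M a ha).t j (n + 1)) (p + 1)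
          (HmapA A ((fam I M a ha).t i n) (p + 1) x) =
        HmapA A ((fam I M a ha).t i (n + 1)) (p + 1) (HmapA A ((fam I M a ha).t j n) (p + 1) x)
      rw [← HmapA_comp, ← HmapA_comp, (fam I M a ha).comm])
    d₁ (fun n hn y => mem_iSup_range_of_surjective A (fam I M a ha) n (p + 1) (hd₁ n hn) y)
    (fun n => Q A I M p n) (fun i n x hx => tQ A I M p a ha i n x hx)

theorem FF3 (hM : Coh.IsCoh M) (hP : PP M) : ∃ c, ∀ (n k : ℕ) (h : n ≤ k), n + c ≤ k →
    ∀ w : Coh.HH X (modPow I (k + 1) M) p, ∃ x : Coh.HH X M p,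
      HmapA A (modPowπ I (n + 1) M) p x = HmapA A (trans I M (Nat.succ_le_succ h)) p w := by
  obtain ⟨r, a, hspan⟩ := exists_gens A I
  have ha : ∀ i, a i ∈ I := fun i => by rw [← hspan]; exact Ideal.subset_span ⟨i, rfl⟩
  obtain ⟨d, hd⟩ := exists_QStab hPP I M p hM hP a ha hspan
  refine ⟨2 * d, fun n k h hk w => ?_⟩
  have hSk := scM_shortExact I M (k + 1)
  have hSn := scM_shortExact I M (n + 1)
  have hnat := HδA_naturality A hSk hSn (scMap I M (Nat.succ_le_succ h)) p w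
  have hQ : HδA A (scM I M (k + 1)) hSk p w ∈ Q A I M p (k + 1) :=
    ((exact_δ_f A (scM I M (k + 1)) hSk p) _).mpr ⟨w, rfl⟩
  have h0 : HmapA A (jM I M (Nat.succ_le_succ h)) (p + 1) (HδA A (scM I M (k + 1)) hSk p w) = 0 :=
    jM_kills hd (n + 1) (k + 1) (Nat.succ_le_succ h) (by omega) _ hQ
  have h1 : HδA A (scM I M (n + 1)) hSn p
      (HmapA A (trans I M (Nat.succ_le_succ h)) p w) = 0 := hnat.symm.trans h0
  exact ((exact_g_δ A (scM I M (n + 1)) hSn p) _).mp h1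

lemma Fil_le (hM : Coh.IsCoh M) (hP : PP M) : ∃ d, ∀ j, Fil A I M p (d + j) ≤ I ^ j • ⊤ := by
  obtain ⟨d, hd⟩ := Fil_stable hPP I M p hM hP
  refine ⟨d, fun j => ?_⟩
  induction j with
  | zero => rw [pow_zero, Ideal.one_eq_top, Submodule.top_smul]; exact le_top
  | succ j ih =>
    rw [show d + (j + 1) = (d + j) + 1 from rfl, hd (d + j) (by omega), pow_succ',
      Submodule.mul_smul]
    exact Submodule.smul_mono le_rfl ih

theorem s0057 (hM : Coh.IsCoh M) (hP : PP M) :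
    ∃ c : ℕ, ∀ n : ℕ, c ≤ n →
      ((Formal.toHHmodPow I M p n).ker : Set (Coh.HH X M p)) ⊆
        ((I ^ (n - c) • (⊤ : Submodule A (Coh.HH X M p)) : Submodule A (Coh.HH X M p)) :
          Set (Coh.HH X M p)) := by
  obtain ⟨d, hd⟩ := Fil_le hPP I M p hM hP
  refine ⟨d, fun n hn => ?_⟩
  rw [ker_toHHmodPow A]
  have h1 : n + 1 = d + (n + 1 - d) := by omega
  rw [h1]
  refine (SetLike.coe_subset_coe.mpr (hd (n + 1 - d))).trans (SetLike.coe_subset_coe.mpr ?_)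
  exact Submodule.smul_mono_left (Ideal.pow_le_pow_right (by omega))

lemma lim_hyps (hM : Coh.IsCoh M) (hP : PP M) :
    (∀ n x, HHmodPowTrans I M p n (toHHmodPow I M p (n + 1) x) = toHHmodPow I M p n x) ∧
    (∀ y, y ∈ HHlim I M p ↔ ∀ n, HHmodPowTrans I M p n (y (n + 1)) = y n) ∧
    (∃ c : ℕ, ∀ n, c ≤ n → ∀ x, toHHmodPow I M p n x = 0 →
      x ∈ (I ^ (n - c) • ⊤ : Submodule A (Coh.HH X M p))) ∧
    (∀ y ∈ HHlim I M p, ∀ n, ∃ x, toHHmodPow I M p n x = y n) := by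
  refine ⟨fun n x => (toHHlim I M p x).2 n, fun y => Iff.rfl, ?_, ?_⟩
  · obtain ⟨c, hc⟩ := s0057 hPP I M p hM hP
    exact ⟨c, fun n hn x hx => hc n hn hx⟩
  · obtain ⟨c', hc'⟩ := FF3 hPP I M p hM hP
    intro y hy n
    obtain ⟨x, hx⟩ := hc' n (n + c') (Nat.le_add_right n c') le_rfl (y (n + c'))
    exact ⟨x, hx.trans (lim_compat A I M p y hy n (n + c') (Nat.le_add_right n c'))⟩

theorem s0059 (hM : Coh.IsCoh M) (hP : PP M) :
    Nonempty (AdicCompletion I (Coh.HH X M p) ≃+ Formal.HHlim I M p) := by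
  obtain ⟨hπτ, hL, ⟨c, ha⟩, hb⟩ := lim_hyps hPP I M p hM hP
  have hbij := FFAdic.Φ_bijective I (fun n => toHHmodPow I M p n)
    (fun n => HHmodPowTrans I M p n) (HHlim I M p) hπτ hL
    (toHHmodPow_eq_zero_of_mem A I M p) c ha hb
  exact ⟨AddEquiv.ofBijective _ hbij⟩

theorem s0003 [IsAdicComplete I A] (hM : Coh.IsCoh M) (hP : PP M) :
    Function.Bijective (Formal.toHHlim I M p) := by
  haveI : Module.Finite A (Coh.HH X M p) := hPP.fin M hM hP p
  haveI : IsAdicComplete I (Coh.HH X M p) := FFAdic.isAdicComplete_of_finite I _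
  obtain ⟨hπτ, hL, ⟨c, ha⟩, hb⟩ := lim_hyps hPP I M p hM hP
  exact FFAdic.toLim_bijective I (fun n => toHHmodPow I M p n)
    (fun n => HHmodPowTrans I M p n) (HHlim I M p) hπτ hL
    (toHHmodPow_eq_zero_of_mem A I M p) c ha hb (toHHlim I M p) (fun x n => rfl)

end Main

end Groth.Agent.Lib.Helper1.FFPS
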