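import Mathlib
set_option autoImplicit false
universe u v
open CategoryTheory CategoryTheory.Limits Opposite
namespace Groth.Agent.Lib.Helper1.SeqLimSurj

theorem shift_mono (i : ℕ) : Monotone (fun n : ℕ => i + n) := fun _ _ h => Nat.add_le_add_left h i

instance shift_final (i : ℕ) : (shift_mono i).functor.Final := by
  rw [Monotone.final_functor_iff]
  intro j
  exact ⟨j, Nat.le_add_left j i⟩

/-- Given surjections `⋯ ⟶ Xₙ₊₁ ⟶ Xₙ ⟶ ⋯ ⟶ X₀` in a concrete category whose forgetful functor
preserves sequential limits, every projection `lim Xₙ ⟶ Xᵢ` is surjective. -/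
theorem surjective_π_app {C : Type u} [Category.{v} C] {FC : C → C → Type*}
    {CC : C → Type v} [∀ X Y, FunLike (FC X Y) (CC X) (CC Y)] [ConcreteCategory.{v} C FC]
    [PreservesLimitsOfShape ℕᵒᵖ (forget C)] {F : ℕᵒᵖ ⥤ C} {c : Cone F}
    (hc : IsLimit c) (hF : ∀ n, Function.Surjective (F.map (homOfLE (Nat.le_succ n)).op)) (i : ℕ) :
    Function.Surjective (c.π.app ⟨i⟩) := by
  let S : ℕᵒᵖ ⥤ ℕᵒᵖ := (shift_mono i).functor.op
  have hc' : IsLimit (c.whisker S) := (Functor.Initial.isLimitWhiskerEquiv S c).symm hc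
  have hF' : ∀ n, Function.Surjective ((S ⋙ F).map (homOfLE (Nat.le_succ n)).op) := by
    intro n
    have : (S ⋙ F).map (homOfLE (Nat.le_succ n)).op =
        F.map (homOfLE (Nat.le_succ (i + n))).op := by
      change F.map _ = F.map _
      congr 1
    rw [this]
    exact hF (i + n)
  exact Concrete.surjective_π_app_zero_of_surjective_map hc' hF'

end Groth.Agent.Lib.Helper1.SeqLimSurj
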