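import Mathlib
import Groth.Prelude.Def_FSch5
import Groth.Agent.Lib.Helper1.SeqLimSurj
import Groth.Agent.Lib.Helper28.Thick.Affine
set_option autoImplicit false
set_option linter.style.haveILetI false
universe u
open CategoryTheory CategoryTheory.Limits AlgebraicGeometry TopologicalSpace Opposite
namespace Groth.Agent.Lib.Helper1.FSchOsh

variable (𝔛 : FSch.Sys.{u}) (h : 𝔛.IsFormal)

theorem toX_preimage_lvU (n : ℕ) (U : (𝔛.X 0).Opens) : (𝔛.toX n) ⁻¹ᵁ (𝔛.lvU h n U) = U := by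
  change (Opens.map ((𝔛.toX n).base ≫ 𝔛.gInv h n)).obj U = U
  rw [FSch.Sys.toX_base_gInv]
  rfl

theorem isAffineOpen_lvU (n : ℕ) (U : (𝔛.X 0).Opens) (hU : IsAffineOpen U) :
    IsAffineOpen (𝔛.lvU h n U) := by
  haveI := FSch.Sys.toX_isClosedImmersion 𝔛 h n
  apply Groth.Agent.Lib.Helper28.Thick.isAffineOpen_of_preimage (𝔛.toX n)
    (FSch.Sys.toX_surjective 𝔛 h n)
  rw [toX_preimage_lvU]
  exact hU

theorem levelMap_app_surjective (n : ℕ) (U : (𝔛.X 0).Opens) (hU : IsAffineOpen U) :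
    Function.Surjective ((𝔛.levelMap h n).hom.app (op U)) := by
  rw [FSch.Sys.levelMap_app]
  haveI := (h n).1
  have h1 := (𝔛.ι n).app_surjective (𝔛.lvU h (n + 1) U) (isAffineOpen_lvU 𝔛 h (n + 1) U hU)
  rw [Scheme.Hom.appLE]
  have h2 : Function.Bijective ((𝔛.X n).presheaf.map (homOfLE (𝔛.lvU_le h n U)).op) := by
    have : IsIso ((𝔛.X n).presheaf.map (homOfLE (𝔛.lvU_le h n U)).op) := by
      have hiso : IsIso (homOfLE (𝔛.lvU_le h n U)) :=
        ⟨homOfLE (𝔛.lvU_succ h n U).le, Subsingleton.elim _ _, Subsingleton.elim _ _⟩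
      infer_instance
    exact ConcreteCategory.bijective_of_isIso _
  exact h2.surjective.comp h1

theorem OshProj_app_surjective (i : ℕ) (U : (𝔛.X 0).Opens) (hU : IsAffineOpen U) :
    Function.Surjective ((𝔛.OshProj h i).hom.app (op U)) := by
  let E : Sheaf (Opens.grothendieckTopology (𝔛.X 0)) CommRingCat.{u} ⥤ CommRingCat.{u} :=
    sheafToPresheaf _ _ ⋙ (evaluation _ _).obj (op U)
  have hc : IsLimit (E.mapCone (limit.cone (𝔛.levelRing h))) :=
    isLimitOfPreserves E (limit.isLimit _)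
  have hF : ∀ n, Function.Surjective ((𝔛.levelRing h ⋙ E).map (homOfLE (Nat.le_succ n)).op) := by
    intro n
    have h1 : (𝔛.levelRing h ⋙ E).map (homOfLE (Nat.le_succ n)).op =
        (𝔛.levelMap h n).hom.app (op U) := by
      change ((𝔛.levelRing h).map _).hom.app (op U) = _
      rw [FSch.Sys.levelRing_map_succ]
    rw [h1]
    exact levelMap_app_surjective 𝔛 h n U hU
  exact Groth.Agent.Lib.Helper1.SeqLimSurj.surjective_π_app hc hF i

end Groth.Agent.Lib.Helper1.FSchOsh
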