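import Mathlib

/-! Flatness over a local ring with nilpotent maximal ideal (or modulo an `𝔪`-primary ideal) tested on
a jointly injective family of local algebras, with the flatness hypothesis only at the primes of
`B ⊗ A'` over the closed points (EGA IV 11.4/11.5-type statements). -/
set_option autoImplicit false
set_option linter.style.haveILetI false
universe u
open TensorProduct IsLocalRing

namespace Groth.Agent.Lib.Helper1.FamFlat

/-- Lemma A: a relation with coefficients not all zero in a flat module over a local ring forces a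
relation modulo the maximal ideal whose coefficients do not depend on the module. -/
theorem exists_coeff_of_relation {A' : Type u} [CommRing A'] [IsLocalRing A']
    {σ : Type*} [Fintype σ] (c : σ → A') (hc : ∃ s, c s ≠ 0) :
    ∃ a : σ → A', (∃ s, a s ∉ maximalIdeal A') ∧
      ∀ (W : Type u) [AddCommGroup W] [Module A' W] [Module.Flat A' W] (y : σ → W),
        ∑ s, c s • y s = 0 → ∑ s, a s • y s ∈ maximalIdeal A' • (⊤ : Submodule A' W) := by
  classical
  set J : Ideal A' := Ideal.span (Set.range c) with hJ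
  have hcJ : ∀ s, c s ∈ J := fun s => Ideal.subset_span ⟨s, rfl⟩
  have hJfg : (J : Submodule A' A').FG := Submodule.fg_span (Set.finite_range c)
  have hex : ∃ s₀, c s₀ ∉ maximalIdeal A' • J := by
    by_contra hcon
    push Not at hcon
    have hle : J ≤ maximalIdeal A' • J := by
      rw [hJ, Ideal.span_le]
      rintro _ ⟨s, rfl⟩
      exact hcon s
    have hbot : J = ⊥ := Submodule.eq_bot_of_le_smul_of_le_jacobson_bot (maximalIdeal A') J hJfg
      hle (IsLocalRing.maximalIdeal_le_jacobson ⊥)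
    obtain ⟨s, hs⟩ := hc
    have := hcJ s
    rw [hbot] at this
    exact hs (by simpa using this)
  obtain ⟨s₀, hs₀⟩ := hex
  letI : Field (A' ⧸ maximalIdeal A') := Ideal.Quotient.field _
  let mJ : Submodule A' J := maximalIdeal A' • ⊤
  have hv₀ : (Submodule.Quotient.mk ⟨c s₀, hcJ s₀⟩ : J ⧸ mJ) ≠ 0 := by
    rw [Ne, Submodule.Quotient.mk_eq_zero, Submodule.mem_smul_top_iff]
    exact hs₀
  obtain ⟨g, hg⟩ : ∃ g : Module.Dual (A' ⧸ maximalIdeal A') (J ⧸ mJ),
      g (Submodule.Quotient.mk ⟨c s₀, hcJ s₀⟩) ≠ 0 := by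
    by_contra h
    push Not at h
    exact hv₀ ((Module.forall_dual_apply_eq_zero_iff (A' ⧸ maximalIdeal A') _).mp h)
  -- the functional on J
  let Λ : J → A' ⧸ maximalIdeal A' := fun j => g (Submodule.Quotient.mk j)
  have hΛadd : ∀ j₁ j₂, Λ (j₁ + j₂) = Λ j₁ + Λ j₂ := fun j₁ j₂ => by
    change g (Submodule.Quotient.mk (j₁ + j₂)) = _
    rw [Submodule.Quotient.mk_add, map_add]
  have hΛsmul : ∀ (r : A') (j : J), Λ (r • j) = Ideal.Quotient.mk _ r * Λ j := fun r j => by
    change g (Submodule.Quotient.mk (r • j)) = _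
    rw [← Module.Quotient.mk_smul_mk, map_smul, smul_eq_mul]
  have hΛzero : Λ 0 = 0 := by
    change g (Submodule.Quotient.mk 0) = 0
    rw [Submodule.Quotient.mk_zero, map_zero]
  have hΛsum : ∀ (t : Finset σ) (r : σ → A'),
      Λ (∑ s ∈ t, r s • (⟨c s, hcJ s⟩ : J)) = ∑ s ∈ t, Ideal.Quotient.mk _ (r s) * Λ ⟨c s, hcJ s⟩ := by
    intro t r
    induction t using Finset.induction_on with
    | empty => simpa using hΛzero
    | insert s t hs ih => rw [Finset.sum_insert hs, Finset.sum_insert hs, hΛadd, hΛsmul, ih]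
  have hsurj := Ideal.Quotient.mk_surjective (I := maximalIdeal A')
  choose a ha using fun s => hsurj (Λ ⟨c s, hcJ s⟩)
  refine ⟨a, ⟨s₀, fun h => hg ?_⟩, ?_⟩
  · have h0 : Ideal.Quotient.mk (maximalIdeal A') (a s₀) = 0 := Ideal.Quotient.eq_zero_iff_mem.mpr h
    rw [ha] at h0
    exact h0
  · intro W _ _ _ y hy
    obtain ⟨κ, α, w, hyw, hrel⟩ := Module.Flat.isTrivialRelation_of_sum_smul_eq_zero hy
    have hmem : ∀ t, ∑ s, a s * α s t ∈ maximalIdeal A' := by
      intro t
      rw [← Ideal.Quotient.eq_zero_iff_mem, map_sum]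
      have h1 : (∑ s, α s t • (⟨c s, hcJ s⟩ : J)) = 0 := by
        apply Subtype.ext
        rw [Submodule.coe_sum]
        simp only [Submodule.coe_smul, smul_eq_mul, Submodule.coe_zero]
        rw [← hrel t]
        exact Finset.sum_congr rfl fun s _ => mul_comm _ _
      have h2 := hΛsum Finset.univ (fun s => α s t)
      rw [h1, hΛzero] at h2
      rw [h2]
      exact Finset.sum_congr rfl fun s _ => by rw [map_mul, ha, mul_comm]
    have : ∑ s, a s • y s = ∑ t, (∑ s, a s * α s t) • w t := by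
      simp_rw [hyw, Finset.smul_sum, smul_smul, Finset.sum_smul]
      exact Finset.sum_comm
    rw [this]
    exact Submodule.sum_mem _ fun t _ => Submodule.smul_mem_smul (hmem t) Submodule.mem_top

section Main

variable {A B : Type u} [CommRing A] [IsLocalRing A] [CommRing B] [IsLocalRing B]
  [IsNoetherianRing B] [Algebra A B]
  (M : Type u) [AddCommGroup M] [Module A M] [Module B M] [IsScalarTower A B M]
  [Module.Finite B M]

/-- The test hypothesis for one local `A`-algebra `A'`. -/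
def TestHyp (A' : Type u) [CommRing A'] [IsLocalRing A'] [Algebra A A'] : Prop :=
  ∀ (P : Ideal (B ⊗[A] (A' ⧸ maximalIdeal A'))) [P.IsPrime],
    (maximalIdeal B).map (algebraMap B (B ⊗[A] (A' ⧸ maximalIdeal A'))) ≤ P →
    ∃ (W : Type u) (_ : AddCommGroup W) (_ : Module A' W) (_ : Module.Flat A' W)
      (θ : M →+ W) (ρ : W →+ (Localization.AtPrime P ⊗[B] M)),
      (∀ (a : A) (z : M), θ (a • z) = algebraMap A A' a • θ z) ∧
      (∀ (a' : A') (w : W), ρ (a' • w) =
        (algebraMap (B ⊗[A] (A' ⧸ maximalIdeal A')) (Localization.AtPrime P)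
          ((1 : B) ⊗ₜ[A] (Ideal.Quotient.mk (maximalIdeal A') a'))) • ρ w) ∧
      ∀ z : M, ρ (θ z) = (1 : Localization.AtPrime P) ⊗ₜ[B] z

variable {M}

section Single

variable (A' : Type u) [CommRing A'] [IsLocalRing A'] [Algebra A A'] [IsLocalHom (algebraMap A A')]

local notation "𝔻" => B ⊗[A] (A' ⧸ maximalIdeal A')

theorem coeff_zero_of_testHyp
    (H : TestHyp (A := A) (B := B) M A')
    {σ : Type u} [Fintype σ] (x : σ → M)
    (hind : ∀ μ : σ → A, ∑ s, μ s • x s ∈ (maximalIdeal A • ⊤ : Submodule A M) →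
      ∀ s, μ s ∈ maximalIdeal A)
    (c : σ → A)
    (hq : ∑ s, c s • x s ∈ (RingHom.ker (algebraMap A A')) • (⊤ : Submodule A M)) :
    ∀ s, algebraMap A A' (c s) = 0 := by
  classical
  by_contra hne
  push Not at hne
  obtain ⟨a, ⟨s₀, hs₀⟩, ha⟩ := exists_coeff_of_relation (fun s => algebraMap A A' (c s)) hne
  letI : Field (A ⧸ maximalIdeal A) := Ideal.Quotient.field _
  have hv₀ : (Ideal.Quotient.mk (maximalIdeal A') (a s₀)) ≠ 0 := by
    rwa [Ne, Ideal.Quotient.eq_zero_iff_mem]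
  obtain ⟨g, hg⟩ : ∃ g : Module.Dual (A ⧸ maximalIdeal A) (A' ⧸ maximalIdeal A'),
      g (Ideal.Quotient.mk (maximalIdeal A') (a s₀)) ≠ 0 := by
    by_contra h
    push Not at h
    exact hv₀ ((Module.forall_dual_apply_eq_zero_iff (A ⧸ maximalIdeal A) _).mp h)
  let e : (A' ⧸ maximalIdeal A') →ₗ[A] (A ⧸ maximalIdeal A) := g.restrictScalars A
  have he : ∀ v, e v = g v := fun _ => rfl
  set mB : Ideal B := (maximalIdeal A).map (algebraMap A B) with hmB
  let ιB : (A ⧸ maximalIdeal A) →ₗ[A] (B ⧸ mB) :=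
    Submodule.liftQ (maximalIdeal A) (Algebra.linearMap A (B ⧸ mB)) (by
      intro r hr
      rw [LinearMap.mem_ker, Algebra.linearMap_apply,
        IsScalarTower.algebraMap_apply A B (B ⧸ mB), Ideal.Quotient.algebraMap_eq,
        Ideal.Quotient.eq_zero_iff_mem]
      exact Ideal.mem_map_of_mem _ hr)
  have hιB : ∀ r : A, ιB (Ideal.Quotient.mk _ r) = Ideal.Quotient.mk mB (algebraMap A B r) := by
    intro r
    change Submodule.liftQ _ _ _ (Submodule.Quotient.mk r) = _
    rw [Submodule.liftQ_apply, Algebra.linearMap_apply,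
      IsScalarTower.algebraMap_apply A B (B ⧸ mB), Ideal.Quotient.algebraMap_eq]
  let ε : 𝔻 →ₗ[B] (B ⧸ mB) := (ιB ∘ₗ e).liftBaseChange B
  let Ψ : 𝔻 ⊗[B] M →ₗ[B] (M ⧸ mB • (⊤ : Submodule B M)) :=
    (TensorProduct.quotTensorEquivQuotSMul M mB).toLinearMap ∘ₗ ε.rTensor M
  have hsurj := Ideal.Quotient.mk_surjective (I := maximalIdeal A)
  choose μ hμ using fun s => hsurj (e (Ideal.Quotient.mk _ (a s)))
  have hμ₀ : μ s₀ ∉ maximalIdeal A := by
    intro h
    apply hg
    rw [← he, ← hμ, Ideal.Quotient.eq_zero_iff_mem]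
    exact h
  apply hμ₀
  apply hind μ
  let τ : 𝔻 ⊗[B] M :=
    ∑ s, ((1 : B) ⊗ₜ[A] (Ideal.Quotient.mk (maximalIdeal A') (a s))) ⊗ₜ[B] x s
  have hΨτ : Ψ τ = Submodule.Quotient.mk (∑ s, μ s • x s) := by
    rw [map_sum, ← Submodule.mkQ_apply, map_sum]
    simp only [Submodule.mkQ_apply]
    refine Finset.sum_congr rfl fun s _ => ?_
    change (TensorProduct.quotTensorEquivQuotSMul M mB)
      (ε ((1 : B) ⊗ₜ[A] (Ideal.Quotient.mk (maximalIdeal A') (a s))) ⊗ₜ[B] x s) = _
    rw [LinearMap.liftBaseChange_tmul, one_smul, LinearMap.comp_apply, ← hμ, hιB,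
      TensorProduct.quotTensorEquivQuotSMul_mk_tmul, algebraMap_smul]
  have hKrull := Ideal.iInf_pow_smul_eq_bot_of_isLocalRing
    (M := M ⧸ mB • (⊤ : Submodule B M)) (maximalIdeal B) Ideal.IsPrime.ne_top'
  suffices hmem : ∀ j, Ψ τ ∈ maximalIdeal B ^ j • (⊤ : Submodule B (M ⧸ mB • (⊤ : Submodule B M))) by
    have h0 : Ψ τ ∈ (⨅ j, maximalIdeal B ^ j • ⊤ : Submodule B (M ⧸ mB • (⊤ : Submodule B M))) :=
      (Submodule.mem_iInf _).mpr hmem
    rw [hKrull, Submodule.mem_bot, hΨτ, Submodule.Quotient.mk_eq_zero] at h0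
    have h1 := Ideal.smul_restrictScalars (maximalIdeal A) (⊤ : Submodule B M)
    rw [Submodule.restrictScalars_top] at h1
    rw [← h1]
    exact h0
  intro j
  let N : Submodule 𝔻 (𝔻 ⊗[B] M) := (Ideal.map (algebraMap B 𝔻) (maximalIdeal B ^ j)) • ⊤
  have hΨN : ∀ t ∈ N, Ψ t ∈ maximalIdeal B ^ j • (⊤ : Submodule B (M ⧸ mB • (⊤ : Submodule B M))) := by
    let 𝔎 : Ideal 𝔻 :=
      { carrier := {d | ∀ t, Ψ (d • t) ∈
          maximalIdeal B ^ j • (⊤ : Submodule B (M ⧸ mB • (⊤ : Submodule B M)))}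
        add_mem' := fun {d₁ d₂} h1 h2 t => by
          have h3 : (d₁ + d₂) • t = d₁ • t + d₂ • t := add_smul d₁ d₂ t
          rw [h3, map_add]; exact add_mem (h1 t) (h2 t)
        zero_mem' := fun t => by
          have h3 : (0 : 𝔻) • t = 0 := zero_smul 𝔻 t
          rw [h3, map_zero]; exact zero_mem _
        smul_mem' := fun d' d hd t => by
          have h3 : (d' • d) • t = d • (d' • t) := by
            rw [smul_eq_mul, mul_comm]; exact mul_smul d d' t
          rw [h3]; exact hd _ }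
    have h𝔎 : Ideal.map (algebraMap B 𝔻) (maximalIdeal B ^ j) ≤ 𝔎 := by
      rw [Ideal.map_le_iff_le_comap]
      intro b hb t
      rw [algebraMap_smul, map_smul]
      exact Submodule.smul_mem_smul hb Submodule.mem_top
    intro t ht
    exact Submodule.smul_induction_on (p := fun t => Ψ t ∈ maximalIdeal B ^ j •
      (⊤ : Submodule B (M ⧸ mB • (⊤ : Submodule B M)))) ht (fun d hd t _ => h𝔎 hd t)
      (fun t₁ t₂ h1 h2 => by rw [map_add]; exact add_mem h1 h2)
  apply hΨN
  by_contra hτ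
  have h𝔠ne : N.colon {τ} ≠ ⊤ := by
    intro h
    have h1 : (1 : 𝔻) ∈ N.colon {τ} := h ▸ Submodule.mem_top
    rw [Submodule.mem_colon_singleton, one_smul] at h1
    exact hτ h1
  obtain ⟨P, hPmax, h𝔠P⟩ := Ideal.exists_le_maximal _ h𝔠ne
  haveI := hPmax.isPrime
  have hmapP : Ideal.map (algebraMap B 𝔻) (maximalIdeal B ^ j) ≤ P := by
    refine le_trans ?_ h𝔠P
    intro d hd
    rw [Submodule.mem_colon_singleton]
    exact Submodule.smul_mem_smul hd Submodule.mem_top
  have hmBP : (maximalIdeal B).map (algebraMap B 𝔻) ≤ P := by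
    rw [Ideal.map_pow] at hmapP
    exact Ideal.IsPrime.le_of_pow_le hmapP
  obtain ⟨W, iW1, iW2, iW3, θ, ρ, hθ, hρ, hρθ⟩ := H P hmBP
  have hθ0 : θ (∑ s, c s • x s) = 0 := by
    refine Submodule.smul_induction_on (p := fun z => θ z = 0) hq (fun r hr z _ => ?_)
      (fun z₁ z₂ h1 h2 => by rw [map_add, h1, h2, add_zero])
    rw [hθ, (RingHom.mem_ker).mp hr, zero_smul]
  have hrelW : ∑ s, algebraMap A A' (c s) • θ (x s) = 0 := by
    rw [← hθ0, map_sum]
    exact Finset.sum_congr rfl fun s _ => (hθ _ _).symm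
  have hmemW := ha W (fun s => θ (x s)) hrelW
  have hρ0 : ∀ w ∈ maximalIdeal A' • (⊤ : Submodule A' W), ρ w = 0 := by
    intro w hw
    refine Submodule.smul_induction_on (p := fun w => ρ w = 0) hw (fun r hr w _ => ?_)
      (fun w₁ w₂ h1 h2 => by rw [map_add, h1, h2, add_zero])
    rw [hρ, Ideal.Quotient.eq_zero_iff_mem.mpr hr, tmul_zero, map_zero, zero_smul]
  have hρτ := hρ0 _ hmemW
  let ℓ := AlgebraTensorModule.rTensor B M (Algebra.linearMap 𝔻 (Localization.AtPrime P))
  have hℓτ : ℓ τ = 0 := by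
    rw [← hρτ, map_sum, map_sum]
    refine Finset.sum_congr rfl fun s _ => ?_
    rw [hρ, hρθ]
    change (Algebra.linearMap 𝔻 (Localization.AtPrime P) _) ⊗ₜ[B] x s = _
    rw [Algebra.linearMap_apply, TensorProduct.smul_tmul', smul_eq_mul, mul_one]
  obtain ⟨r, hr⟩ := (IsLocalizedModule.eq_zero_iff P.primeCompl ℓ).mp hℓτ
  have hrc : (r : 𝔻) ∈ N.colon {τ} := by
    rw [Submodule.mem_colon_singleton]
    have h2 : (r : 𝔻) • τ = 0 := hr
    rw [h2]
    exact zero_mem _
  exact r.2 (h𝔠P hrc)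

end Single

omit [IsLocalRing B] [IsNoetherianRing B] [Module.Finite B M] [Algebra A B] [IsScalarTower A B M]
  [Module B M] [IsLocalRing A] in
/-- A family which is a basis modulo `𝔯` gives freeness of `M / 𝔯 M` over `A / 𝔯`. -/
theorem free_quot_of_basis_mod {S : Type u} (x : S → M) (𝔯 : Ideal A)
    (hspan : Submodule.span A (Set.range x) ⊔ 𝔯 • (⊤ : Submodule A M) = ⊤)
    (hind : ∀ c : S →₀ A, Finsupp.linearCombination A x c ∈ 𝔯 • (⊤ : Submodule A M) →
      ∀ s, c s ∈ 𝔯) :
    Module.Free (A ⧸ 𝔯) (M ⧸ 𝔯 • (⊤ : Submodule A M)) := by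
  classical
  let rM : Submodule A M := 𝔯 • ⊤
  let v : S → M ⧸ rM := fun s => Submodule.Quotient.mk (x s)
  let πS : (S →₀ A) →ₗ[A] (S →₀ A ⧸ 𝔯) :=
    Finsupp.mapRange.linearMap (Algebra.linearMap A (A ⧸ 𝔯))
  have hπS : Function.Surjective πS :=
    Finsupp.mapRange_surjective _ (map_zero _) Ideal.Quotient.mk_surjective
  have hcomm : ((Finsupp.linearCombination (A ⧸ 𝔯) v).restrictScalars A) ∘ₗ πS =
      rM.mkQ ∘ₗ Finsupp.linearCombination A x := by
    refine Finsupp.lhom_ext fun s a => ?_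
    simp only [LinearMap.comp_apply, LinearMap.restrictScalars_apply, πS,
      Finsupp.mapRange.linearMap_apply, Finsupp.mapRange_single, Finsupp.linearCombination_single,
      Algebra.linearMap_apply, Submodule.mkQ_apply, v]
    rw [Ideal.Quotient.algebraMap_eq]
    rfl
  have hli : LinearIndependent (A ⧸ 𝔯) v := by
    rw [linearIndependent_iff]
    intro l hl
    obtain ⟨c, rfl⟩ := hπS l
    have h1 : rM.mkQ (Finsupp.linearCombination A x c) = 0 := by
      rw [← LinearMap.comp_apply, ← hcomm]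
      exact hl
    rw [Submodule.mkQ_apply, Submodule.Quotient.mk_eq_zero] at h1
    ext s
    simp only [πS, Finsupp.mapRange.linearMap_apply, Finsupp.mapRange_apply, Finsupp.coe_zero,
      Pi.zero_apply, Algebra.linearMap_apply]
    rw [Ideal.Quotient.algebraMap_eq, Ideal.Quotient.eq_zero_iff_mem]
    exact hind c h1 s
  have hsp : ⊤ ≤ Submodule.span (A ⧸ 𝔯) (Set.range v) := by
    have h1 : Submodule.map rM.mkQ (Submodule.span A (Set.range x)) = ⊤ := by
      rw [Submodule.map_mkQ_eq_top, sup_comm]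
      exact hspan
    rw [Submodule.map_span, ← Set.range_comp] at h1
    have h2 := Submodule.restrictScalars_span A (A ⧸ 𝔯) Ideal.Quotient.mk_surjective (Set.range v)
    have h3 : (⇑rM.mkQ ∘ x) = v := rfl
    rw [h3] at h1
    rw [h1] at h2
    intro z _
    have : z ∈ Submodule.restrictScalars A (Submodule.span (A ⧸ 𝔯) (Set.range v)) := by
      rw [h2]; exact Submodule.mem_top
    exact this
  exact Module.Free.of_basis (Module.Basis.mk hli hsp)

omit [IsLocalRing B] [IsNoetherianRing B] [Module.Finite B M] [Algebra A B] [IsScalarTower A B M]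
  [Module B M] in
theorem span_sup_smul_eq_top {S : Type u} (x : S → M) (𝔮 : Ideal A) (n : ℕ)
    (hn : maximalIdeal A ^ n ≤ 𝔮)
    (h : Submodule.span A (Set.range x) ⊔ (maximalIdeal A • ⊤ : Submodule A M) = ⊤) :
    Submodule.span A (Set.range x) ⊔ 𝔮 • (⊤ : Submodule A M) = ⊤ := by
  set N : Submodule A M := Submodule.span A (Set.range x) ⊔ 𝔮 • (⊤ : Submodule A M) with hN
  have hstep : ∀ j : ℕ, N ⊔ maximalIdeal A ^ j • (⊤ : Submodule A M) = ⊤ := by
    intro j
    induction j with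
    | zero => rw [pow_zero, Ideal.one_eq_top, Submodule.top_smul, sup_top_eq]
    | succ j ih =>
      have h3 : (maximalIdeal A • ⊤ : Submodule A M) ≤
          N ⊔ maximalIdeal A ^ (j + 1) • (⊤ : Submodule A M) := by
        calc (maximalIdeal A • ⊤ : Submodule A M)
            = maximalIdeal A • (N ⊔ maximalIdeal A ^ j • (⊤ : Submodule A M)) := by rw [ih]
          _ = maximalIdeal A • N ⊔ maximalIdeal A • (maximalIdeal A ^ j • (⊤ : Submodule A M)) :=
            Submodule.smul_sup _ _ _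
          _ ≤ N ⊔ maximalIdeal A ^ (j + 1) • (⊤ : Submodule A M) :=
            sup_le_sup Submodule.smul_le_right (by rw [← Submodule.mul_smul, ← pow_succ'])
      have h4 : Submodule.span A (Set.range x) ≤
          N ⊔ maximalIdeal A ^ (j + 1) • (⊤ : Submodule A M) := le_sup_of_le_left le_sup_left
      exact eq_top_iff.mpr (le_of_eq_of_le h.symm (sup_le h4 h3))
  have h2 := hstep n
  exact eq_top_iff.mpr (le_of_eq_of_le h2.symm
    (sup_le le_rfl (le_sup_of_le_right (Submodule.smul_mono_left hn))))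

/-- Main theorem, basis form. -/
theorem exists_family_basis
    {ι : Type*} (A' : ι → Type u) [∀ i, CommRing (A' i)] [∀ i, IsLocalRing (A' i)]
    [∀ i, Algebra A (A' i)] [∀ i, IsLocalHom (algebraMap A (A' i))]
    (𝔮 : Ideal A) (h𝔮 : ∀ a : A, a ∈ 𝔮 ↔ ∀ i, algebraMap A (A' i) a = 0)
    (H : ∀ i, TestHyp (A := A) (B := B) M (A' i)) :
    ∃ (S : Type u) (x : S → M),
      Submodule.span A (Set.range x) ⊔ (maximalIdeal A • ⊤ : Submodule A M) = ⊤ ∧
      ∀ c : S →₀ A, Finsupp.linearCombination A x c ∈ 𝔮 • (⊤ : Submodule A M) →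
        ∀ s, c s ∈ 𝔮 := by
  classical
  letI : Field (A ⧸ maximalIdeal A) := Ideal.Quotient.field _
  let mM : Submodule A M := maximalIdeal A • ⊤
  let b := Module.Basis.ofVectorSpace (A ⧸ maximalIdeal A) (M ⧸ mM)
  choose x hx using fun s => Submodule.Quotient.mk_surjective mM (b s)
  refine ⟨_, x, ?_, ?_⟩
  · rw [sup_comm, ← Submodule.map_mkQ_eq_top, Submodule.map_span, ← Set.range_comp]
    have h0 : (⇑mM.mkQ ∘ x) = b := funext hx
    rw [h0]
    have h1 := Submodule.restrictScalars_span A (A ⧸ maximalIdeal A) Ideal.Quotient.mk_surjective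
      (Set.range b)
    rw [b.span_eq, Submodule.restrictScalars_top] at h1
    exact h1.symm
  · intro c hc s
    rw [h𝔮]
    intro i
    by_cases hs : s ∈ c.support
    · refine coeff_zero_of_testHyp (A' i) (H i) (σ := ↥c.support) (fun t => x t.1) ?_
        (fun t => c t.1) ?_ ⟨s, hs⟩
      · intro μ hμ t
        have hli := (b.linearIndependent.comp (Subtype.val : ↥c.support → _)
          Subtype.val_injective)
        rw [Fintype.linearIndependent_iff] at hli
        have h1 := hli (fun t => Ideal.Quotient.mk (maximalIdeal A) (μ t)) ?_ t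
        · exact Ideal.Quotient.eq_zero_iff_mem.mp h1
        · have h2 : mM.mkQ (∑ t, μ t • x t.1) = 0 := by
            rw [Submodule.mkQ_apply, Submodule.Quotient.mk_eq_zero]; exact hμ
          rw [map_sum] at h2
          rw [← h2]
          refine Finset.sum_congr rfl fun t _ => ?_
          rw [Function.comp_apply, ← hx, Module.Quotient.mk_smul_mk]
          rfl
      · have h1 : ∑ t : ↥c.support, c t.1 • x t.1 = Finsupp.linearCombination A x c := by
          rw [Finsupp.linearCombination_apply, Finsupp.sum,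
            ← Finset.sum_coe_sort c.support (fun s => c s • x s)]
        rw [h1]
        refine Submodule.smul_mono_left (fun a ha => ?_) hc
        exact (RingHom.mem_ker).mpr ((h𝔮 a).mp ha i)
    · rw [Finsupp.notMem_support_iff.mp hs, map_zero]


/-- Main theorem, injective family over a ring with nilpotent maximal ideal. -/
theorem flat_of_family
    {ι : Type*} (A' : ι → Type u) [∀ i, CommRing (A' i)] [∀ i, IsLocalRing (A' i)]
    [∀ i, Algebra A (A' i)] [∀ i, IsLocalHom (algebraMap A (A' i))]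
    (n : ℕ) (hn : maximalIdeal A ^ n = ⊥)
    (hinj : ∀ a : A, (∀ i, algebraMap A (A' i) a = 0) → a = 0)
    (H : ∀ i, TestHyp (A := A) (B := B) M (A' i)) : Module.Flat A M := by
  obtain ⟨S, x, hspan, hind⟩ := exists_family_basis A' ⊥
    (fun a => ⟨fun ha i => by rw [(Ideal.mem_bot).mp ha, map_zero],
      fun h => (Ideal.mem_bot).mpr (hinj a h)⟩) H
  have hsp := span_sup_smul_eq_top x ⊥ n hn.le hspan
  rw [Submodule.bot_smul, sup_bot_eq] at hsp
  have hli : LinearIndependent A x := by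
    rw [linearIndependent_iff]
    intro c hc
    ext s
    have := hind c (by rw [hc]; exact zero_mem _) s
    simpa using this
  haveI : Module.Free A M := Module.Free.of_basis (Module.Basis.mk hli hsp.ge)
  infer_instance

/-- Main theorem, general form. -/
theorem flat_quot_of_family
    {ι : Type*} (A' : ι → Type u) [∀ i, CommRing (A' i)] [∀ i, IsLocalRing (A' i)]
    [∀ i, Algebra A (A' i)] [∀ i, IsLocalHom (algebraMap A (A' i))]
    (𝔮 : Ideal A) (h𝔮 : ∀ a : A, a ∈ 𝔮 ↔ ∀ i, algebraMap A (A' i) a = 0)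
    (n : ℕ) (hn : maximalIdeal A ^ n ≤ 𝔮)
    (H : ∀ i, TestHyp (A := A) (B := B) M (A' i)) (𝔯 : Ideal A) (h𝔯 : 𝔮 ≤ 𝔯) :
    Module.Flat (A ⧸ 𝔯) ((A ⧸ 𝔯) ⊗[A] M) := by
  classical
  obtain ⟨S, x, hspan, hind⟩ := exists_family_basis A' 𝔮 h𝔮 H
  have hsp𝔮 := span_sup_smul_eq_top x 𝔮 n hn hspan
  have claim1 : ∀ w ∈ 𝔯 • (⊤ : Submodule A M), ∃ d : S →₀ A, (∀ s, d s ∈ 𝔯) ∧
      w - Finsupp.linearCombination A x d ∈ 𝔮 • (⊤ : Submodule A M) := by
    intro w hw
    refine Submodule.smul_induction_on (p := fun w => ∃ d : S →₀ A, (∀ s, d s ∈ 𝔯) ∧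
      w - Finsupp.linearCombination A x d ∈ 𝔮 • (⊤ : Submodule A M)) hw ?_ ?_
    · intro r hr z _
      have hz : z ∈ Submodule.span A (Set.range x) ⊔ 𝔮 • (⊤ : Submodule A M) := by
        rw [hsp𝔮]; exact Submodule.mem_top
      obtain ⟨y, hy, w₀, hw₀, rfl⟩ := Submodule.mem_sup.mp hz
      obtain ⟨d₀, rfl⟩ := (Finsupp.mem_span_range_iff_exists_finsupp).mp hy
      refine ⟨r • d₀, fun s => ?_, ?_⟩
      · rw [Finsupp.smul_apply, smul_eq_mul]
        exact Ideal.mul_mem_right _ _ hr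
      · rw [map_smul, Finsupp.linearCombination_apply, smul_add, add_sub_cancel_left]
        exact Submodule.smul_mem _ _ hw₀
    · rintro w₁ w₂ ⟨d₁, h1, h1'⟩ ⟨d₂, h2, h2'⟩
      refine ⟨d₁ + d₂, fun s => by rw [Finsupp.add_apply]; exact add_mem (h1 s) (h2 s), ?_⟩
      rw [map_add, add_sub_add_comm]
      exact add_mem h1' h2'
  have hind𝔯 : ∀ c : S →₀ A, Finsupp.linearCombination A x c ∈ 𝔯 • (⊤ : Submodule A M) →
      ∀ s, c s ∈ 𝔯 := by
    intro c hc s
    obtain ⟨d, hd, hd'⟩ := claim1 _ hc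
    rw [← map_sub] at hd'
    have h2 := h𝔯 (hind (c - d) hd' s)
    rw [Finsupp.sub_apply] at h2
    have h3 := add_mem h2 (hd s)
    rwa [sub_add_cancel] at h3
  have hsp𝔯 : Submodule.span A (Set.range x) ⊔ 𝔯 • (⊤ : Submodule A M) = ⊤ :=
    eq_top_iff.mpr (le_of_eq_of_le hsp𝔮.symm (sup_le_sup le_rfl (Submodule.smul_mono_left h𝔯)))
  haveI := free_quot_of_basis_mod x 𝔯 hsp𝔯 hind𝔯
  exact Module.Flat.of_linearEquiv
    ((quotTensorEquivQuotSMul M 𝔯).extendScalarsOfSurjective Ideal.Quotient.mk_surjective)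

end Main

end Groth.Agent.Lib.Helper1.FamFlat
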