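import Mathlib
import Groth.Prelude.Def_FlatMod2
import Groth.Agent.Lib.Helper1.FamFlat
import Groth.Agent.Lib.Helper17.PbStalk

set_option autoImplicit false
set_option linter.style.haveILetI false
universe u
open CategoryTheory CategoryTheory.Limits AlgebraicGeometry TensorProduct IsLocalRing

namespace Groth.Agent.Lib.Helper1.FamFlatSch

open Groth.Agent.Lib.Helper1.FamFlat

/-- transport of module stalks along an equality of points. -/
theorem exists_stalk_transport {X : Scheme.{u}} (F : X.Modules) {x₁ x : X} (h : x₁ = x) :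
    ∃ τ : F.presheaf.stalk x ≃+ F.presheaf.stalk x₁,
      ∀ (b : X.presheaf.stalk x) (z : F.presheaf.stalk x),
        τ (b • z) = (X.presheaf.stalkCongr (.of_eq h.symm)).hom b • τ z := by
  subst h
  refine ⟨AddEquiv.refl _, fun b z => ?_⟩
  simp [TopCat.Presheaf.stalkCongr]

/-- a morphism from a local scheme equal to `Spec.map φ ≫ fromSpecStalk x` has closed point `x` and
induced stalk map `φ`. -/
theorem stalkClosedPointTo_of_eq {X : Scheme.{u}} {C : CommRingCat.{u}} [IsLocalRing C]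
    (t : Spec C ⟶ X) (x : X) (φ : X.presheaf.stalk x ⟶ C) [IsLocalHom φ.hom]
    (h : t = Spec.map φ ≫ X.fromSpecStalk x) :
    ∃ h₁ : t (closedPoint C) = x,
      Scheme.stalkClosedPointTo t = (X.presheaf.stalkCongr (.of_eq h₁)).hom ≫ φ := by
  subst h
  have := (SpecToEquivOfLocalRing X C).apply_symm_apply ⟨x, φ, inferInstance⟩
  exact SpecToEquivOfLocalRing_eq_iff.mp this

/-- the commutative square of stalk maps of a commutative square of schemes, with the points
transported. -/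
theorem stalkMap_square {X' X Y Z : Scheme.{u}} (p : X' ⟶ X) (q : X' ⟶ Z) (f : X ⟶ Y) (g : Z ⟶ Y)
    (w : p ≫ f = q ≫ g) (x' : X') (x : X) (z : Z) (hx : p x' = x) (hz : q x' = z)
    (hfg : f x = g z) :
    f.stalkMap x ≫ (X.presheaf.stalkCongr (.of_eq hx)).inv ≫ p.stalkMap x' =
      (Y.presheaf.stalkCongr (.of_eq hfg)).hom ≫ g.stalkMap z ≫
        (Z.presheaf.stalkCongr (.of_eq hz)).inv ≫ q.stalkMap x' := by
  subst hx hz
  have e3 := Scheme.Hom.stalkMap_congr_hom (p ≫ f) (q ≫ g) w x'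
  rw [Scheme.Hom.stalkMap_comp, Scheme.Hom.stalkMap_comp] at e3
  simp only [TopCat.Presheaf.stalkCongr, TopCat.Presheaf.stalkSpecializes_refl, Category.id_comp]
  exact e3

/-- abstract: flatness transfers along a bijective ring hom. -/
theorem flat_compHom_of_bijective {A' A₁ R₁ W : Type*} [CommRing A'] [CommRing A₁] [CommRing R₁]
    [AddCommGroup W] [Module R₁ W] (κ : A' →+* A₁) (hκ : Function.Bijective κ) (qst : A₁ →+* R₁)
    (h : @Module.Flat A₁ W _ _ (Module.compHom W qst)) :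
    @Module.Flat A' W _ _ (Module.compHom W (qst.comp κ)) := by
  letI m₁ : Module A₁ W := Module.compHom W qst
  letI m' : Module A' W := Module.compHom W (qst.comp κ)
  letI : Algebra A' A₁ := κ.toAlgebra
  haveI : IsScalarTower A' A₁ W := ⟨fun a b w => by
    change qst (κ a * b) • w = qst (κ a) • (qst b • w)
    rw [map_mul, mul_smul]⟩
  haveI : Module.Flat A₁ W := h
  haveI : Module.Flat A' A₁ :=
    Module.Flat.of_linearEquiv (LinearEquiv.ofBijective (Algebra.linearMap A' A₁) hκ).symm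
  exact Module.Flat.trans A' A₁ W

/-- abstract: the map `ρ` out of a base-changed module. -/
theorem exists_rho {B B₁ R₁ C M M₁ W : Type*} [CommRing B] [CommRing B₁] [CommRing R₁] [CommRing C]
    [Algebra B C] [Algebra B₁ R₁] [AddCommGroup M] [Module B M] [AddCommGroup M₁] [Module B₁ M₁]
    [AddCommGroup W] [Module R₁ W] [Module B₁ W] [IsScalarTower B₁ R₁ W]
    (ρr : R₁ →+* C) (σ : B₁ →+* B)
    (hRB : ∀ b₁, ρr (algebraMap B₁ R₁ b₁) = algebraMap B C (σ b₁))
    (τ : M ≃+ M₁) (hτ : ∀ (b₁ : B₁) (z₁ : M₁), τ.symm (b₁ • z₁) = σ b₁ • τ.symm z₁)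
    (γ : M₁ →ₗ[B₁] W) (hγ : IsBaseChange R₁ γ) :
    ∃ ρ : W →+ C ⊗[B] M, (∀ (r : R₁) (w : W), ρ (r • w) = ρr r • ρ w) ∧
      ∀ z : M, ρ (γ (τ z)) = (1 : C) ⊗ₜ[B] z := by
  letI mRN : Module R₁ (C ⊗[B] M) := Module.compHom _ ρr
  letI mB₁N : Module B₁ (C ⊗[B] M) := Module.compHom _ (ρr.comp (algebraMap B₁ R₁))
  haveI stN : IsScalarTower B₁ R₁ (C ⊗[B] M) :=
    ⟨fun b₁ r n => by
      change ρr (b₁ • r) • n = ρr (algebraMap B₁ R₁ b₁) • (ρr r • n)
      rw [Algebra.smul_def, map_mul, mul_smul]⟩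
  let ε₁ : M₁ →ₗ[B₁] (C ⊗[B] M) :=
    { toFun := fun z₁ => (1 : C) ⊗ₜ[B] τ.symm z₁
      map_add' := fun a b => by rw [map_add, TensorProduct.tmul_add]
      map_smul' := fun b₁ z₁ => by
        change (1 : C) ⊗ₜ[B] τ.symm (b₁ • z₁) =
          ρr (algebraMap B₁ R₁ b₁) • ((1 : C) ⊗ₜ[B] τ.symm z₁)
        rw [hτ, hRB, TensorProduct.smul_tmul', smul_eq_mul, mul_one,
          Algebra.algebraMap_eq_smul_one, TensorProduct.smul_tmul] }
  refine ⟨(hγ.lift ε₁).toAddMonoidHom, fun r w => ?_, fun z => ?_⟩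
  · change hγ.lift ε₁ (r • w) = _
    rw [map_smul]
    rfl
  · change hγ.lift ε₁ (γ (τ z)) = _
    rw [IsBaseChange.lift_eq]
    change (1 : C) ⊗ₜ[B] τ.symm (τ z) = _
    rw [AddEquiv.symm_apply_apply]

section

variable {X Y : Scheme.{u}} (f : X ⟶ Y) (x : X)
  (A' : Type u) [CommRing A'] [IsLocalRing A']
  (ψ : Y.presheaf.stalk (f x) ⟶ CommRingCat.of A') [IsLocalHom ψ.hom]

theorem exists_point_of_local_square (C : CommRingCat.{u}) [IsLocalRing C]
    (φB : X.presheaf.stalk x ⟶ C) [IsLocalHom φB.hom]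
    (φA' : CommRingCat.of A' ⟶ C) [IsLocalHom φA'.hom]
    (hcomp : f.stalkMap x ≫ φB = ψ ≫ φA') :
    ∃ (x' : ↥(pullback f (Spec.map ψ ≫ Y.fromSpecStalk (f x))))
      (hx : pullback.fst f (Spec.map ψ ≫ Y.fromSpecStalk (f x)) x' = x)
      (hy : pullback.snd f (Spec.map ψ ≫ Y.fromSpecStalk (f x)) x' = closedPoint A')
      (ρr : (pullback f (Spec.map ψ ≫ Y.fromSpecStalk (f x))).presheaf.stalk x' ⟶ C),
      (pullback.fst f (Spec.map ψ ≫ Y.fromSpecStalk (f x))).stalkMap x' ≫ ρr =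
        (X.presheaf.stalkCongr (.of_eq hx)).hom ≫ φB ∧
      (pullback.snd f (Spec.map ψ ≫ Y.fromSpecStalk (f x))).stalkMap x' ≫ ρr =
        ((Spec (CommRingCat.of A')).presheaf.stalkCongr (.of_eq hy)).hom ≫
          (stalkClosedPointIso (CommRingCat.of A')).hom ≫ φA' := by
  let tX : Spec C ⟶ X := Spec.map φB ≫ X.fromSpecStalk x
  let tA : Spec C ⟶ Spec (CommRingCat.of A') := Spec.map φA'
  have hcompat : tX ≫ f = tA ≫ (Spec.map ψ ≫ Y.fromSpecStalk (f x)) := by
    change (Spec.map φB ≫ X.fromSpecStalk x) ≫ f = Spec.map φA' ≫ (Spec.map ψ ≫ _)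
    rw [Category.assoc, ← Scheme.SpecMap_stalkMap_fromSpecStalk, ← Category.assoc,
      ← Category.assoc, ← Spec.map_comp, ← Spec.map_comp, hcomp]
  let t : Spec C ⟶ pullback f (Spec.map ψ ≫ Y.fromSpecStalk (f x)) :=
    pullback.lift tX tA hcompat
  have ht1 : t ≫ pullback.fst _ _ = Spec.map φB ≫ X.fromSpecStalk x := pullback.lift_fst _ _ _
  have ht2 : t ≫ pullback.snd _ _ = Spec.map φA' := pullback.lift_snd _ _ _
  obtain ⟨hx, hρB⟩ := stalkClosedPointTo_of_eq (t ≫ pullback.fst _ _) x φB ht1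
  let iso := stalkClosedPointIso (CommRingCat.of A')
  let φ₂ : (Spec (CommRingCat.of A')).presheaf.stalk (closedPoint A') ⟶ C := iso.hom ≫ φA'
  haveI : IsLocalHom iso.hom.hom := isLocalHom_of_iso iso
  haveI : IsLocalHom φ₂.hom := by
    change IsLocalHom (φA'.hom.comp iso.hom.hom)
    exact RingHom.isLocalHom_comp _ _
  have ht2' : t ≫ pullback.snd _ _ =
      Spec.map φ₂ ≫ (Spec (CommRingCat.of A')).fromSpecStalk (closedPoint A') := by
    rw [ht2, ← Spec_stalkClosedPointIso, ← Spec.map_comp]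
    change Spec.map φA' = Spec.map (iso.inv ≫ iso.hom ≫ φA')
    rw [Iso.inv_hom_id_assoc]
  obtain ⟨hy, hρA⟩ := stalkClosedPointTo_of_eq (t ≫ pullback.snd _ _) (closedPoint A') φ₂ ht2'
  have hRB := (Scheme.stalkClosedPointTo_comp t (pullback.fst _ _)).symm.trans hρB
  have hRA := (Scheme.stalkClosedPointTo_comp t (pullback.snd _ _)).symm.trans hρA
  exact ⟨t (closedPoint C), hx, hy, Scheme.stalkClosedPointTo t, hRB, hRA⟩

theorem stalk_square_pullback
    (x' : ↥(pullback f (Spec.map ψ ≫ Y.fromSpecStalk (f x))))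
    (hx : pullback.fst f (Spec.map ψ ≫ Y.fromSpecStalk (f x)) x' = x)
    (hy : pullback.snd f (Spec.map ψ ≫ Y.fromSpecStalk (f x)) x' = closedPoint A') :
    f.stalkMap x ≫ (X.presheaf.stalkCongr (.of_eq hx)).inv ≫
        (pullback.fst f (Spec.map ψ ≫ Y.fromSpecStalk (f x))).stalkMap x' =
      ψ ≫ ((stalkClosedPointIso (CommRingCat.of A')).inv ≫
        ((Spec (CommRingCat.of A')).presheaf.stalkCongr (.of_eq hy)).inv) ≫
        (pullback.snd f (Spec.map ψ ≫ Y.fromSpecStalk (f x))).stalkMap x' := by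
  have hfg : f x = (Spec.map ψ ≫ Y.fromSpecStalk (f x)) (closedPoint A') := by
    rw [Scheme.Hom.comp_apply, Spec_closedPoint, Scheme.fromSpecStalk_closedPoint]
  have hSQ := stalkMap_square (pullback.fst f (Spec.map ψ ≫ Y.fromSpecStalk (f x)))
    (pullback.snd f (Spec.map ψ ≫ Y.fromSpecStalk (f x))) f (Spec.map ψ ≫ Y.fromSpecStalk (f x))
    pullback.condition x' x (closedPoint A') hx hy hfg
  obtain ⟨hgx, e4⟩ := stalkClosedPointTo_of_eq (Spec.map ψ ≫ Y.fromSpecStalk (f x)) (f x) ψ rfl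
  let iso := stalkClosedPointIso (CommRingCat.of A')
  have e5 : (Spec.map ψ ≫ Y.fromSpecStalk (f x)).stalkMap (closedPoint A') =
      ((Y.presheaf.stalkCongr (.of_eq hgx)).hom ≫ ψ) ≫ iso.inv := (Iso.eq_comp_inv iso).mpr e4
  have e6 : (Y.presheaf.stalkCongr (.of_eq hfg)).hom ≫ (Y.presheaf.stalkCongr (.of_eq hgx)).hom =
      𝟙 _ := by
    simp [TopCat.Presheaf.stalkCongr]
  have e7 : (Y.presheaf.stalkCongr (.of_eq hfg)).hom ≫
      (Spec.map ψ ≫ Y.fromSpecStalk (f x)).stalkMap (closedPoint A') = ψ ≫ iso.inv := by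
    refine (congrArg (fun m => (Y.presheaf.stalkCongr (.of_eq hfg)).hom ≫ m) e5).trans ?_
    simp only [← Category.assoc]
    refine (congrArg (fun m => (m ≫ ψ) ≫ iso.inv) e6).trans ?_
    simp only [Category.id_comp]
  refine hSQ.trans ?_
  refine (Category.assoc _ _ _).symm.trans ?_
  refine (congrArg (fun m => m ≫
    ((Spec (CommRingCat.of A')).presheaf.stalkCongr (.of_eq hy)).inv ≫
    (pullback.snd f (Spec.map ψ ≫ Y.fromSpecStalk (f x))).stalkMap x') e7).trans ?_
  simp only [Category.assoc]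
  rfl

end

section

variable {X Y Z : Scheme.{u}} (f : X ⟶ Y) (F : X.Modules) [F.IsQuasicoherent] (x : X)
  (A' : Type u) [CommRing A'] [IsLocalRing A']
  (ψ : Y.presheaf.stalk (f x) ⟶ CommRingCat.of A')

theorem testHyp_core (p : Z ⟶ X) (q : Z ⟶ Spec (CommRingCat.of A')) (x' : Z)
    (hx : p x' = x) (hy : q x' = closedPoint A')
    (hSQ : f.stalkMap x ≫ (X.presheaf.stalkCongr (.of_eq hx)).inv ≫ p.stalkMap x' =
      ψ ≫ ((stalkClosedPointIso (CommRingCat.of A')).inv ≫
        ((Spec (CommRingCat.of A')).presheaf.stalkCongr (.of_eq hy)).inv) ≫ q.stalkMap x')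
    (hfl : FlatMod.IsFlatOverAt q ((Scheme.Modules.pullback p).obj F) x')
    (C : Type u) [CommRing C] [Algebra (X.presheaf.stalk x) C] (φA' : A' →+* C)
    (ρr : Z.presheaf.stalk x' →+* C)
    (hRB : ∀ b₁, ρr ((p.stalkMap x').hom b₁) =
      algebraMap (X.presheaf.stalk x) C ((X.presheaf.stalkCongr (.of_eq hx)).hom.hom b₁))
    (hRA : ∀ a', ρr ((q.stalkMap x').hom
      (((stalkClosedPointIso (CommRingCat.of A')).inv ≫
        ((Spec (CommRingCat.of A')).presheaf.stalkCongr (.of_eq hy)).inv).hom a')) = φA' a') :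
    letI := (f.stalkMap x).hom.toAlgebra
    letI := ψ.hom.toAlgebra
    letI := FlatMod.moduleStalkOver f F x
    ∃ (W : Type u) (_ : AddCommGroup W) (_ : Module A' W) (_ : Module.Flat A' W)
      (θ : F.presheaf.stalk x →+ W) (ρ : W →+ C ⊗[X.presheaf.stalk x] F.presheaf.stalk x),
      (∀ (a : Y.presheaf.stalk (f x)) (z : F.presheaf.stalk x),
        θ (a • z) = algebraMap (Y.presheaf.stalk (f x)) A' a • θ z) ∧
      (∀ (a' : A') (w : W), ρ (a' • w) = φA' a' • ρ w) ∧
      ∀ z, ρ (θ z) = (1 : C) ⊗ₜ[X.presheaf.stalk x] z := by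
  letI aAB : Algebra (Y.presheaf.stalk (f x)) (X.presheaf.stalk x) := (f.stalkMap x).hom.toAlgebra
  letI aAA' : Algebra (Y.presheaf.stalk (f x)) A' := ψ.hom.toAlgebra
  letI mAM := FlatMod.moduleStalkOver f F x
  let σ := X.presheaf.stalkCongr (.of_eq hx)
  let κ' : CommRingCat.of A' ⟶ (Spec (CommRingCat.of A')).presheaf.stalk (q x') :=
    (stalkClosedPointIso (CommRingCat.of A')).inv ≫
        ((Spec (CommRingCat.of A')).presheaf.stalkCongr (.of_eq hy)).inv
  letI aB₁R : Algebra (X.presheaf.stalk (p x')) (Z.presheaf.stalk x') :=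
    (p.stalkMap x').hom.toAlgebra
  letI mB₁W : Module (X.presheaf.stalk (p x'))
      (((Scheme.Modules.pullback p).obj F).presheaf.stalk x') :=
    Module.compHom _ (p.stalkMap x').hom
  obtain ⟨hst, γ, hγ⟩ := Groth.Agent.Lib.Helper17.PbStalk.exists_isBaseChange_stalk p F x'
  haveI := hst
  let κq : A' →+* Z.presheaf.stalk x' := (q.stalkMap x').hom.comp κ'.hom
  have flA' : @Module.Flat A' (((Scheme.Modules.pullback p).obj F).presheaf.stalk x') _ _
      (Module.compHom _ κq) :=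
    flat_compHom_of_bijective κ'.hom
      (ConcreteCategory.bijective_of_isIso ((stalkClosedPointIso (CommRingCat.of A')).inv ≫
        ((Spec (CommRingCat.of A')).presheaf.stalkCongr (.of_eq hy)).inv))
      (q.stalkMap x').hom hfl
  obtain ⟨τ, hτ⟩ := exists_stalk_transport F hx
  have hτsymm : ∀ (b₁ : X.presheaf.stalk (p x')) (z₁ : F.presheaf.stalk (p x')),
      τ.symm (b₁ • z₁) = σ.hom.hom b₁ • τ.symm z₁ := by
    intro b₁ z₁
    apply τ.injective
    rw [AddEquiv.apply_symm_apply, hτ, AddEquiv.apply_symm_apply]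
    congr 1
    exact (congr($(σ.hom_inv_id).hom b₁)).symm
  obtain ⟨ρ, hρ1, hρ2⟩ := exists_rho (B := X.presheaf.stalk x) (C := C) ρr σ.hom.hom hRB τ
    hτsymm γ hγ
  letI mA'W : Module A' (((Scheme.Modules.pullback p).obj F).presheaf.stalk x') :=
    Module.compHom _ κq
  refine ⟨_, inferInstance, mA'W, flA', γ.toAddMonoidHom.comp τ.toAddMonoidHom, ρ, ?_, ?_, ?_⟩
  · intro a z
    change γ (τ ((f.stalkMap x).hom a • z)) = κq (ψ.hom a) • γ (τ z)
    rw [hτ, map_smul]
    change (p.stalkMap x').hom _ • γ (τ z) = _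
    have h1 := congr($(hSQ).hom a)
    change (p.stalkMap x').hom (σ.inv.hom ((f.stalkMap x).hom a)) =
      (q.stalkMap x').hom (κ'.hom (ψ.hom a)) at h1
    exact congrArg (fun r => r • γ (τ z)) h1
  · intro a' w
    exact (hρ1 (κq a') w).trans (by rw [← hRA a']; rfl)
  · intro z
    exact hρ2 z

theorem testHyp_of_isFlatOverAt [IsLocalHom ψ.hom]
    (g : Spec (CommRingCat.of A') ⟶ Y) (hg : g = Spec.map ψ ≫ Y.fromSpecStalk (f x))
    (hflat : ∀ x' : ↥(pullback f g), pullback.fst f g x' = x →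
      pullback.snd f g x' = closedPoint A' →
      FlatMod.IsFlatOverAt (pullback.snd f g)
        ((Scheme.Modules.pullback (pullback.fst f g)).obj F) x') :
    letI := (f.stalkMap x).hom.toAlgebra
    letI := ψ.hom.toAlgebra
    letI := FlatMod.moduleStalkOver f F x
    TestHyp (A := Y.presheaf.stalk (f x)) (B := X.presheaf.stalk x) (F.presheaf.stalk x) A' := by
  subst hg
  letI aAB : Algebra (Y.presheaf.stalk (f x)) (X.presheaf.stalk x) := (f.stalkMap x).hom.toAlgebra
  letI aAA' : Algebra (Y.presheaf.stalk (f x)) A' := ψ.hom.toAlgebra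
  letI mAM := FlatMod.moduleStalkOver f F x
  intro P hPprime hP
  let D := X.presheaf.stalk x ⊗[Y.presheaf.stalk (f x)] (A' ⧸ maximalIdeal A')
  let C := Localization.AtPrime P
  let φB : X.presheaf.stalk x ⟶ CommRingCat.of C :=
    CommRingCat.ofHom (algebraMap (X.presheaf.stalk x) C)
  let φA' : CommRingCat.of A' ⟶ CommRingCat.of C :=
    CommRingCat.ofHom ((algebraMap D C).comp
      ((Algebra.TensorProduct.includeRight (R := Y.presheaf.stalk (f x))
        (A := X.presheaf.stalk x) (B := A' ⧸ maximalIdeal A')).toRingHom.comp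
        (Ideal.Quotient.mk (maximalIdeal A'))))
  have hφA' : ∀ a' : A', φA'.hom a' = algebraMap D C ((1 : X.presheaf.stalk x) ⊗ₜ
      (Ideal.Quotient.mk (maximalIdeal A') a')) := fun a' => rfl
  haveI hlB : IsLocalHom φB.hom := by
    constructor
    intro b hb
    by_contra hnu
    have hbm : b ∈ maximalIdeal (X.presheaf.stalk x) := (IsLocalRing.mem_maximalIdeal b).mpr hnu
    have h1 : algebraMap D C (algebraMap (X.presheaf.stalk x) D b) ∈ maximalIdeal C :=
      (IsLocalization.AtPrime.to_map_mem_maximal_iff C P _).mpr (hP (Ideal.mem_map_of_mem _ hbm))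
    rw [← IsScalarTower.algebraMap_apply] at h1
    exact (IsLocalRing.mem_maximalIdeal _).mp h1 hb
  haveI hlA : IsLocalHom φA'.hom := by
    constructor
    intro a' ha'
    by_contra hnu
    have ham : a' ∈ maximalIdeal A' := (IsLocalRing.mem_maximalIdeal a').mpr hnu
    rw [hφA', Ideal.Quotient.eq_zero_iff_mem.mpr ham, tmul_zero, map_zero] at ha'
    exact not_isUnit_zero ha'
  have hcomp : f.stalkMap x ≫ φB = ψ ≫ φA' := by
    ext a
    change algebraMap (X.presheaf.stalk x) C ((f.stalkMap x).hom a) = φA'.hom (ψ.hom a)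
    rw [hφA', IsScalarTower.algebraMap_apply (X.presheaf.stalk x) D C,
      Algebra.TensorProduct.algebraMap_apply]
    congr 1
    change (algebraMap (Y.presheaf.stalk (f x)) (X.presheaf.stalk x) a) ⊗ₜ _ = 1 ⊗ₜ
      (algebraMap A' (A' ⧸ maximalIdeal A') (algebraMap (Y.presheaf.stalk (f x)) A' a))
    rw [Algebra.algebraMap_eq_smul_one, TensorProduct.smul_tmul,
      ← IsScalarTower.algebraMap_apply, Algebra.algebraMap_eq_smul_one]
  obtain ⟨x', hx, hy, ρr, hRB, hRA⟩ :=
    exists_point_of_local_square f x A' ψ (CommRingCat.of C) φB φA' hcomp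
  have hfl := hflat x' hx hy
  have hSQ := stalk_square_pullback f x A' ψ x' hx hy
  have hRB' : ∀ b₁, ρr.hom (((pullback.fst f (Spec.map ψ ≫ Y.fromSpecStalk (f x))).stalkMap
      x').hom b₁) = algebraMap (X.presheaf.stalk x) C
        ((X.presheaf.stalkCongr (.of_eq hx)).hom.hom b₁) :=
    fun b₁ => congr($(hRB).hom b₁)
  have hRA' : ∀ a', ρr.hom (((pullback.snd f (Spec.map ψ ≫ Y.fromSpecStalk (f x))).stalkMap
      x').hom (((stalkClosedPointIso (CommRingCat.of A')).inv ≫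
        ((Spec (CommRingCat.of A')).presheaf.stalkCongr (.of_eq hy)).inv).hom a')) =
      φA'.hom a' := by
    intro a'
    have h1 : ((stalkClosedPointIso (CommRingCat.of A')).inv ≫
        ((Spec (CommRingCat.of A')).presheaf.stalkCongr (.of_eq hy)).inv) ≫
        (pullback.snd f (Spec.map ψ ≫ Y.fromSpecStalk (f x))).stalkMap x' ≫ ρr = φA' := by
      refine (congrArg (fun m => ((stalkClosedPointIso (CommRingCat.of A')).inv ≫
        ((Spec (CommRingCat.of A')).presheaf.stalkCongr (.of_eq hy)).inv) ≫ m) hRA).trans ?_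
      simp only [Category.assoc, Iso.inv_hom_id_assoc]
    exact congr($(h1).hom a')
  obtain ⟨W, iW, mW, flW, θ, ρ, h1, h2, h3⟩ := testHyp_core f F x A' ψ
    (pullback.fst f (Spec.map ψ ≫ Y.fromSpecStalk (f x)))
    (pullback.snd f (Spec.map ψ ≫ Y.fromSpecStalk (f x))) x' hx hy hSQ hfl C φA'.hom ρr.hom
    hRB' hRA'
  exact ⟨W, iW, mW, flW, θ, ρ, h1, h2, h3⟩

end

end Groth.Agent.Lib.Helper1.FamFlatSch
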