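import Mathlib
import Groth.Prelude.Def_FlatMod2
import Groth.Prelude.Def_Coh
import Groth.Agent.Lib.Helper1.FamFlatSch
import Groth.Agent.Lib.Helper17.PbFlatOver
import Groth.Agent.Lib.Helper17.CohStalk
import Groth.Agent.Lib.Helper7.AdicFlat

set_option autoImplicit false
set_option linter.style.haveILetI false
universe u
open CategoryTheory CategoryTheory.Limits AlgebraicGeometry TensorProduct IsLocalRing

namespace Groth.Agent.Lib.Helper1.FamFlatApp

open Groth.Agent.Lib.Helper1.FamFlat Groth.Agent.Lib.Helper1.FamFlatSch Groth.Agent.Lib.Helper17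


variable {X Y : Scheme.{u}}

/-- pointwise base change of relative flatness along a morphism of `Y`-schemes. -/
theorem isFlatOverAt_of_hom (f : X ⟶ Y) (F : X.Modules) [F.IsQuasicoherent] {T T' : Over Y}
    (g : T' ⟶ T) (x' : ↥(pullback f T'.hom))
    (h : FlatMod.IsFlatOverAt (pullback.snd f T.hom)
      ((Scheme.Modules.pullback (pullback.fst f T.hom)).obj F) (PbCover.bcMap f g x')) :
    FlatMod.IsFlatOverAt (pullback.snd f T'.hom)
      ((Scheme.Modules.pullback (pullback.fst f T'.hom)).obj F) x' := by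
  haveI : ((Scheme.Modules.pullback (pullback.fst f T.hom)).obj F).IsQuasicoherent :=
    PbStalk.isQuasicoherent_pullback _ F
  refine PbFlatOver.isFlatOverAt_of_iso _ (PbFlatOver.bcIso f g F) x' ?_
  exact FibreFlat.isFlatOverAt_baseChange (PbCover.isPullback_bcMap f g) _ x' h

section

variable (f : X ⟶ Y) (F : X.Modules) [F.IsQuasicoherent] (x : X)
  (A' : Type u) [CommRing A'] [IsLocalRing A']
  (ψ : Y.presheaf.stalk (f x) ⟶ CommRingCat.of A') [IsLocalHom ψ.hom]

theorem testHyp_of_over (T : Over Y) (h : Spec (CommRingCat.of A') ⟶ T.left)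
    (hh : h ≫ T.hom = Spec.map ψ ≫ Y.fromSpecStalk (f x))
    (hflat : ∀ x' : ↥(pullback f T.hom), pullback.fst f T.hom x' = x →
      pullback.snd f T.hom x' = h (closedPoint A') →
      FlatMod.IsFlatOverAt (pullback.snd f T.hom)
        ((Scheme.Modules.pullback (pullback.fst f T.hom)).obj F) x') :
    letI := (f.stalkMap x).hom.toAlgebra
    letI := ψ.hom.toAlgebra
    letI := FlatMod.moduleStalkOver f F x
    TestHyp (A := Y.presheaf.stalk (f x)) (B := X.presheaf.stalk x) (F.presheaf.stalk x) A' := by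
  refine testHyp_of_isFlatOverAt f F x A' ψ (h ≫ T.hom) hh ?_
  intro x'' h1 h2
  let T' : Over Y := Over.mk (h ≫ T.hom)
  let gg : T' ⟶ T := Over.homMk h rfl
  refine isFlatOverAt_of_hom f F gg x'' (hflat _ ?_ ?_)
  · rw [← Scheme.Hom.comp_apply, PbCover.bcMap_fst]
    exact h1
  · rw [← Scheme.Hom.comp_apply, PbCover.bcMap_snd, Scheme.Hom.comp_apply]
    exact congrArg (fun z => h z) h2

end

section Generic

variable [IsLocallyNoetherian Y] (f : X ⟶ Y) [LocallyOfFiniteType f] (F : X.Modules)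
  (hF : Coh.IsCoh F) (x : X)
  {ι : Type*} (A' : ι → Type u) [∀ i, CommRing (A' i)] [∀ i, IsLocalRing (A' i)]
  (ψ : ∀ i, Y.presheaf.stalk (f x) ⟶ CommRingCat.of (A' i)) [∀ i, IsLocalHom (ψ i).hom]

include hF in
/-- scheme form of `flat_quot_of_family`. -/
theorem flat_quot_of_family_sch
    (𝔮 : Ideal (Y.presheaf.stalk (f x))) (h𝔮 : ∀ a, a ∈ 𝔮 ↔ ∀ i, (ψ i).hom a = 0)
    (n : ℕ) (hn : maximalIdeal (Y.presheaf.stalk (f x)) ^ n ≤ 𝔮)
    (T : ι → Over Y) (h : ∀ i, Spec (CommRingCat.of (A' i)) ⟶ (T i).left)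
    (hh : ∀ i, h i ≫ (T i).hom = Spec.map (ψ i) ≫ Y.fromSpecStalk (f x))
    (hflat : ∀ i (x' : ↥(pullback f (T i).hom)), pullback.fst f (T i).hom x' = x →
      pullback.snd f (T i).hom x' = h i (closedPoint (A' i)) →
      FlatMod.IsFlatOverAt (pullback.snd f (T i).hom)
        ((Scheme.Modules.pullback (pullback.fst f (T i).hom)).obj F) x')
    (𝔯 : Ideal (Y.presheaf.stalk (f x))) (h𝔯 : 𝔮 ≤ 𝔯) :
    letI := FlatMod.moduleStalkOver f F x
    Module.Flat (Y.presheaf.stalk (f x) ⧸ 𝔯)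
      ((Y.presheaf.stalk (f x) ⧸ 𝔯) ⊗[Y.presheaf.stalk (f x)] F.presheaf.stalk x) := by
  haveI : F.IsQuasicoherent := hF.1
  haveI : F.IsFiniteType := hF.2
  haveI : IsLocallyNoetherian X := LocallyOfFiniteType.isLocallyNoetherian f
  letI aAB : Algebra (Y.presheaf.stalk (f x)) (X.presheaf.stalk x) := (f.stalkMap x).hom.toAlgebra
  letI mAM := FlatMod.moduleStalkOver f F x
  haveI : IsScalarTower (Y.presheaf.stalk (f x)) (X.presheaf.stalk x) (F.presheaf.stalk x) :=
    ⟨fun a b m => mul_smul ((f.stalkMap x).hom a) b m⟩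
  haveI := CohStalk.finite_stalk F x
  letI : ∀ i, Algebra (Y.presheaf.stalk (f x)) (A' i) := fun i => (ψ i).hom.toAlgebra
  haveI : ∀ i, IsLocalHom (algebraMap (Y.presheaf.stalk (f x)) (A' i)) :=
    fun i => inferInstanceAs (IsLocalHom (ψ i).hom)
  exact flat_quot_of_family (M := F.presheaf.stalk x) A' 𝔮 h𝔮 n hn
    (fun i => testHyp_of_over f F x (A' i) (ψ i) (T i) (h i) (hh i) (hflat i)) 𝔯 h𝔯

include hF in
/-- scheme form of `flat_of_family`. -/
theorem isFlatOverAt_of_family_nilpotent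
    (n : ℕ) (hn : maximalIdeal (Y.presheaf.stalk (f x)) ^ n = ⊥)
    (hinj : ∀ a, (∀ i, (ψ i).hom a = 0) → a = 0)
    (T : ι → Over Y) (h : ∀ i, Spec (CommRingCat.of (A' i)) ⟶ (T i).left)
    (hh : ∀ i, h i ≫ (T i).hom = Spec.map (ψ i) ≫ Y.fromSpecStalk (f x))
    (hflat : ∀ i (x' : ↥(pullback f (T i).hom)), pullback.fst f (T i).hom x' = x →
      pullback.snd f (T i).hom x' = h i (closedPoint (A' i)) →
      FlatMod.IsFlatOverAt (pullback.snd f (T i).hom)
        ((Scheme.Modules.pullback (pullback.fst f (T i).hom)).obj F) x') :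
    FlatMod.IsFlatOverAt f F x := by
  haveI : F.IsQuasicoherent := hF.1
  haveI : F.IsFiniteType := hF.2
  haveI : IsLocallyNoetherian X := LocallyOfFiniteType.isLocallyNoetherian f
  letI aAB : Algebra (Y.presheaf.stalk (f x)) (X.presheaf.stalk x) := (f.stalkMap x).hom.toAlgebra
  letI mAM := FlatMod.moduleStalkOver f F x
  haveI : IsScalarTower (Y.presheaf.stalk (f x)) (X.presheaf.stalk x) (F.presheaf.stalk x) :=
    ⟨fun a b m => mul_smul ((f.stalkMap x).hom a) b m⟩
  haveI := CohStalk.finite_stalk F x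
  letI : ∀ i, Algebra (Y.presheaf.stalk (f x)) (A' i) := fun i => (ψ i).hom.toAlgebra
  haveI : ∀ i, IsLocalHom (algebraMap (Y.presheaf.stalk (f x)) (A' i)) :=
    fun i => inferInstanceAs (IsLocalHom (ψ i).hom)
  exact flat_of_family (M := F.presheaf.stalk x) A' n hn hinj
    (fun i => testHyp_of_over f F x (A' i) (ψ i) (T i) (h i) (hh i) (hflat i))

end Generic

/-- For an Artinian local ring, the map to the stalk at any point of its spectrum is bijective. -/
theorem bijective_toStalk_of_artinian (A₀ : Type u) [CommRing A₀] [IsArtinianRing A₀]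
    [IsLocalRing A₀] (y : Spec (CommRingCat.of A₀)) :
    Function.Bijective (StructureSheaf.toStalk A₀ y).hom := by
  have hle : y.asIdeal.primeCompl ≤ IsUnit.submonoid A₀ := by
    intro a ha
    have hmax : y.asIdeal.IsMaximal := IsArtinianRing.isMaximal_of_isPrime y.asIdeal
    have hy : y.asIdeal = maximalIdeal A₀ := IsLocalRing.eq_maximalIdeal hmax
    have ha' : a ∉ maximalIdeal A₀ := hy ▸ ha
    exact (IsLocalRing.notMem_maximalIdeal).mp ha'
  let e := IsLocalization.atUnits A₀ y.asIdeal.primeCompl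
    (S := ↑((Spec.structureSheaf A₀).presheaf.stalk y)) hle
  have he : ⇑e = ⇑(StructureSheaf.toStalk A₀ y).hom := funext fun a => e.commutes a
  rw [← he]
  exact e.bijective

/-- Artinian local base: a jointly injective family of ring homs to local rings. -/
theorem isFlatOverAt_of_family_artinian {A₀ : Type u} [CommRing A₀] [IsArtinianRing A₀]
    [IsLocalRing A₀] (f : X ⟶ Spec (CommRingCat.of A₀)) [LocallyOfFiniteType f]
    (F : X.Modules) (hF : Coh.IsCoh F) (x : X)
    {ι : Type*} (A' : ι → Type u) [∀ i, CommRing (A' i)] [∀ i, IsLocalRing (A' i)]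
    (u : ∀ i, A₀ →+* A' i) (hu : ∀ a : A₀, (∀ i, u i a = 0) → a = 0)
    (T : ι → Over (Spec (CommRingCat.of A₀))) (h : ∀ i, Spec (CommRingCat.of (A' i)) ⟶ (T i).left)
    (hh : ∀ i, h i ≫ (T i).hom = Spec.map (CommRingCat.ofHom (u i)))
    (hflat : ∀ i (x' : ↥(pullback f (T i).hom)), pullback.fst f (T i).hom x' = x →
      pullback.snd f (T i).hom x' = h i (closedPoint (A' i)) →
      FlatMod.IsFlatOverAt (pullback.snd f (T i).hom)
        ((Scheme.Modules.pullback (pullback.fst f (T i).hom)).obj F) x') :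
    FlatMod.IsFlatOverAt f F x := by
  have hbij := bijective_toStalk_of_artinian A₀ (f x)
  let E : A₀ ≃+* (Spec (CommRingCat.of A₀)).presheaf.stalk (f x) :=
    RingEquiv.ofBijective (StructureSheaf.toStalk A₀ (f x)).hom hbij
  haveI : IsArtinianRing ((Spec (CommRingCat.of A₀)).presheaf.stalk (f x)) :=
    RingEquiv.isArtinianRing E
  obtain ⟨n, hn⟩ : ∃ n, maximalIdeal ((Spec (CommRingCat.of A₀)).presheaf.stalk (f x)) ^ n = ⊥ := by
    have h1 := IsArtinianRing.isNilpotent_jacobson_bot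
      (R := (Spec (CommRingCat.of A₀)).presheaf.stalk (f x))
    rw [IsLocalRing.jacobson_eq_maximalIdeal ⊥ bot_ne_top] at h1
    exact h1
  let ψ : ∀ i, (Spec (CommRingCat.of A₀)).presheaf.stalk (f x) ⟶ CommRingCat.of (A' i) :=
    fun i => CommRingCat.ofHom ((u i).comp E.symm.toRingHom)
  have hψ : ∀ i a, (ψ i).hom (E a) = u i a := fun i a => by
    change u i (E.symm (E a)) = u i a
    rw [RingEquiv.symm_apply_apply]
  haveI : ∀ i, IsLocalHom (ψ i).hom := fun i => ⟨fun a ha => by
    by_contra hnu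
    have ham : a ∈ maximalIdeal _ := (IsLocalRing.mem_maximalIdeal a).mpr hnu
    have h0 : a ^ n = 0 := by
      have := Ideal.pow_mem_pow ham n
      rwa [hn, Ideal.mem_bot] at this
    have h1 : IsUnit ((ψ i).hom a ^ n) := ha.pow n
    rw [← map_pow, h0, map_zero] at h1
    exact not_isUnit_zero h1⟩
  refine isFlatOverAt_of_family_nilpotent f F hF x A' ψ n hn ?_ T h ?_ hflat
  · intro a ha
    obtain ⟨a₀, rfl⟩ := E.surjective a
    have : a₀ = 0 := hu a₀ (fun i => by rw [← hψ i a₀]; exact ha i)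
    rw [this, map_zero]
  · intro i
    rw [hh i, Spec.fromSpecStalk_eq']
    refine (congrArg Spec.map ?_).trans (Spec.map_comp (StructureSheaf.toStalk _ (f x)) (ψ i))
    ext a
    exact (hψ i a).symm


/-- a morphism to an affine scheme, restricted to the local scheme at a point. -/
theorem fromSpecStalk_comp_toSpec {Z : Scheme.{u}} {R : CommRingCat.{u}} (g : Z ⟶ Spec R) (y : Z) :
    Z.fromSpecStalk y ≫ g =
      Spec.map ((Scheme.ΓSpecIso R).inv ≫ g.appTop ≫ Z.presheaf.germ ⊤ y trivial) := by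
  have h1 : g = Z.toSpecΓ ≫ Spec.map g.appTop ≫ Spec.map (Scheme.ΓSpecIso R).inv := by
    rw [← Category.assoc, ← Scheme.toSpecΓ_naturality, ← SpecMap_ΓSpecIso_hom, Category.assoc,
      ← Spec.map_comp, Iso.inv_hom_id, Spec.map_id, Category.comp_id]
  conv_lhs => rw [h1]
  rw [Scheme.fromSpecStalk_toSpecΓ_assoc, ← Spec.map_comp, ← Spec.map_comp, Category.assoc]

end Groth.Agent.Lib.Helper1.FamFlatApp
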