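import Mathlib
import Groth.Agent.Lib.Helper1.FamFlatApp

set_option autoImplicit false
set_option linter.style.haveILetI false
universe u
open CategoryTheory CategoryTheory.Limits AlgebraicGeometry TensorProduct IsLocalRing

namespace Groth.Agent.Lib.Helper1.FamFlatAdic

open Groth.Agent.Lib.Helper1.FamFlat Groth.Agent.Lib.Helper1.FamFlatSch Groth.Agent.Lib.Helper17
open Groth.Agent.Lib.Helper1.FamFlatApp

variable {X Y : Scheme.{u}} [IsLocallyNoetherian Y] (f : X ⟶ Y) [LocallyOfFiniteType f]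
  (F : X.Modules) (hF : Coh.IsCoh F) (x : X)
  {ι : Type u} (A : ι → Type u) [∀ i, CommRing (A i)] [∀ i, IsLocalRing (A i)]
  (φ : ∀ i, (Y.presheaf.stalk (f x) : Type u) →+* A i) [∀ i, IsLocalHom (φ i)]

include hF in
theorem flat_quot_of_finset
    (hflat : ∀ (i : ι)
      (x' : ↥(pullback f (Spec.map (CommRingCat.ofHom (φ i)) ≫ Y.fromSpecStalk (f x)))),
      pullback.fst f (Spec.map (CommRingCat.ofHom (φ i)) ≫ Y.fromSpecStalk (f x)) x' = x →
      pullback.snd f (Spec.map (CommRingCat.ofHom (φ i)) ≫ Y.fromSpecStalk (f x)) x' =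
        closedPoint (A i) →
      FlatMod.IsFlatOverAt
        (pullback.snd f (Spec.map (CommRingCat.ofHom (φ i)) ≫ Y.fromSpecStalk (f x)))
        ((Scheme.Modules.pullback
          (pullback.fst f (Spec.map (CommRingCat.ofHom (φ i)) ≫ Y.fromSpecStalk (f x)))).obj F) x')
    (s : Finset (ι × ℕ)) (𝔯 : Ideal (Y.presheaf.stalk (f x)))
    (hs : ⨅ p ∈ s, Ideal.comap (φ p.1) (maximalIdeal (A p.1) ^ p.2) ≤ 𝔯) :
    letI := FlatMod.moduleStalkOver f F x
    Module.Flat (Y.presheaf.stalk (f x) ⧸ 𝔯)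
      ((Y.presheaf.stalk (f x) ⧸ 𝔯) ⊗[Y.presheaf.stalk (f x)] F.presheaf.stalk x) := by
  classical
  haveI hnt : ∀ p : {p : ι × ℕ // p ∈ s ∧ p.2 ≠ 0},
      Nontrivial (A p.1.1 ⧸ maximalIdeal (A p.1.1) ^ p.1.2) := fun p =>
    Ideal.Quotient.nontrivial_iff.mpr (ne_top_of_le_ne_top
      (IsLocalRing.maximalIdeal.isMaximal _).ne_top (Ideal.pow_le_self p.2.2))
  haveI hloc : ∀ p : {p : ι × ℕ // p ∈ s ∧ p.2 ≠ 0},
      IsLocalRing (A p.1.1 ⧸ maximalIdeal (A p.1.1) ^ p.1.2) := fun p =>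
    IsLocalRing.of_surjective' (Ideal.Quotient.mk _) Ideal.Quotient.mk_surjective
  haveI hlm : ∀ p : {p : ι × ℕ // p ∈ s ∧ p.2 ≠ 0},
      IsLocalHom (Ideal.Quotient.mk (maximalIdeal (A p.1.1) ^ p.1.2)) := fun p =>
    IsLocalHom.of_surjective _ Ideal.Quotient.mk_surjective
  let ψ : ∀ p : {p : ι × ℕ // p ∈ s ∧ p.2 ≠ 0}, Y.presheaf.stalk (f x) ⟶
      CommRingCat.of (A p.1.1 ⧸ maximalIdeal (A p.1.1) ^ p.1.2) := fun p =>
    CommRingCat.ofHom ((Ideal.Quotient.mk (maximalIdeal (A p.1.1) ^ p.1.2)).comp (φ p.1.1))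
  haveI hlψ : ∀ p : {p : ι × ℕ // p ∈ s ∧ p.2 ≠ 0}, IsLocalHom (ψ p).hom := fun p => by
    change IsLocalHom ((Ideal.Quotient.mk (maximalIdeal (A p.1.1) ^ p.1.2)).comp (φ p.1.1))
    exact RingHom.isLocalHom_comp _ _
  refine flat_quot_of_family_sch f F hF x
    (ι := {p : ι × ℕ // p ∈ s ∧ p.2 ≠ 0})
    (fun p => A p.1.1 ⧸ maximalIdeal (A p.1.1) ^ p.1.2) ψ
    (⨅ p ∈ s, Ideal.comap (φ p.1) (maximalIdeal (A p.1) ^ p.2)) ?_ (s.sup Prod.snd) ?_
    (fun p => Over.mk (Spec.map (CommRingCat.ofHom (φ p.1.1)) ≫ Y.fromSpecStalk (f x)))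
    (fun p => Spec.map (CommRingCat.ofHom (Ideal.Quotient.mk (maximalIdeal (A p.1.1) ^ p.1.2))))
    ?_ ?_ 𝔯 hs
  · intro a
    simp only [Ideal.mem_iInf, Ideal.mem_comap]
    constructor
    · intro h p
      exact Ideal.Quotient.eq_zero_iff_mem.mpr (h p.1 p.2.1)
    · intro h p hp
      by_cases h0 : p.2 = 0
      · rw [h0, pow_zero, Ideal.one_eq_top]; exact Submodule.mem_top
      · exact Ideal.Quotient.eq_zero_iff_mem.mp (h ⟨p, hp, h0⟩)
  · refine le_iInf₂ (fun p hp => ?_)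
    have h1 : p.2 ≤ s.sup Prod.snd := Finset.le_sup (f := Prod.snd) hp
    refine (Ideal.pow_le_pow_right h1).trans ?_
    rw [← Ideal.map_le_iff_le_comap, Ideal.map_pow]
    exact Ideal.pow_right_mono (IsLocalRing.map_maximalIdeal_le (φ p.1)) _
  · intro p
    change Spec.map _ ≫ (Spec.map _ ≫ _) = _
    rw [← Category.assoc, ← Spec.map_comp]
    rfl
  · intro p x' h1 h2
    haveI : IsLocalHom (CommRingCat.ofHom
        (Ideal.Quotient.mk (maximalIdeal (A p.1.1) ^ p.1.2))).hom := hlm p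
    exact hflat p.1.1 x' h1 (h2.trans Spec_closedPoint)

include hF in
theorem isFlatOverAt_of_family_adic
    (htop : ∀ N : ℕ, ∃ s : Finset (ι × ℕ),
      ⨅ p ∈ s, Ideal.comap (φ p.1) (maximalIdeal (A p.1) ^ p.2) ≤
        maximalIdeal ↑(Y.presheaf.stalk (f x)) ^ N)
    (hflat : ∀ (i : ι)
      (x' : ↥(pullback f (Spec.map (CommRingCat.ofHom (φ i)) ≫ Y.fromSpecStalk (f x)))),
      pullback.fst f (Spec.map (CommRingCat.ofHom (φ i)) ≫ Y.fromSpecStalk (f x)) x' = x →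
      pullback.snd f (Spec.map (CommRingCat.ofHom (φ i)) ≫ Y.fromSpecStalk (f x)) x' =
        closedPoint (A i) →
      FlatMod.IsFlatOverAt
        (pullback.snd f (Spec.map (CommRingCat.ofHom (φ i)) ≫ Y.fromSpecStalk (f x)))
        ((Scheme.Modules.pullback
          (pullback.fst f (Spec.map (CommRingCat.ofHom (φ i)) ≫ Y.fromSpecStalk (f x)))).obj F)
          x') :
    FlatMod.IsFlatOverAt f F x := by
  haveI : F.IsQuasicoherent := hF.1
  haveI : F.IsFiniteType := hF.2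
  haveI : IsLocallyNoetherian X := LocallyOfFiniteType.isLocallyNoetherian f
  letI aAB : Algebra (Y.presheaf.stalk (f x)) (X.presheaf.stalk x) := (f.stalkMap x).hom.toAlgebra
  letI mAM := FlatMod.moduleStalkOver f F x
  haveI : IsScalarTower (Y.presheaf.stalk (f x)) (X.presheaf.stalk x) (F.presheaf.stalk x) :=
    ⟨fun a b m => mul_smul ((f.stalkMap x).hom a) b m⟩
  haveI := CohStalk.finite_stalk F x
  have hI : (maximalIdeal (Y.presheaf.stalk (f x))).map
      (algebraMap (Y.presheaf.stalk (f x)) (X.presheaf.stalk x)) ≤ Ideal.jacobson ⊥ := by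
    rw [IsLocalRing.jacobson_eq_maximalIdeal ⊥ bot_ne_top]
    exact IsLocalRing.map_maximalIdeal_le (f.stalkMap x).hom
  refine Groth.Agent.Lib.Helper7.flat_of_forall_flat_quotient_pow_of_finite
    (maximalIdeal (Y.presheaf.stalk (f x))) hI (F.presheaf.stalk x) ?_
  intro N _
  obtain ⟨s, hs⟩ := htop N
  exact flat_quot_of_finset f F hF x A φ hflat s _ hs

end Groth.Agent.Lib.Helper1.FamFlatAdic
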