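import Mathlib
import Groth.Agent.Lib.Helper1.FamFlatApp

set_option autoImplicit false
set_option linter.style.haveILetI false
universe u
open CategoryTheory CategoryTheory.Limits AlgebraicGeometry TensorProduct IsLocalRing

namespace Groth.Agent.Lib.Helper1.FamFlatFin

open Groth.Agent.Lib.Helper1.FamFlat Groth.Agent.Lib.Helper1.FamFlatSch Groth.Agent.Lib.Helper17
open Groth.Agent.Lib.Helper1.FamFlatApp

/-- Artin–Rees: for a finite injective algebra over a Noetherian ring, the contraction of `IⁿS`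
is contained in `Iⁿ⁻ᶜ`. -/
theorem exists_comap_map_pow_le {R S : Type*} [CommRing R] [IsNoetherianRing R] [CommRing S]
    [Algebra R S] [Module.Finite R S] (hinj : Function.Injective (algebraMap R S)) (I : Ideal R) :
    ∃ c : ℕ, ∀ n, c ≤ n →
      Ideal.comap (algebraMap R S) ((I ^ n).map (algebraMap R S)) ≤ I ^ (n - c) := by
  obtain ⟨c, hc⟩ := Ideal.exists_pow_inf_eq_pow_smul I (LinearMap.range (Algebra.linearMap R S))
  refine ⟨c, fun n hn a ha => ?_⟩
  have h1 : algebraMap R S a ∈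
      (I ^ n • (⊤ : Submodule R S)) ⊓ LinearMap.range (Algebra.linearMap R S) := by
    refine ⟨?_, ⟨a, rfl⟩⟩
    rw [Ideal.smul_top_eq_map]
    exact ha
  rw [hc n hn] at h1
  have h2 : ∀ z ∈ I ^ (n - c) •
      (I ^ c • (⊤ : Submodule R S) ⊓ LinearMap.range (Algebra.linearMap R S)),
      ∃ b ∈ I ^ (n - c), algebraMap R S b = z := by
    intro z hz
    refine Submodule.smul_induction_on hz ?_ ?_
    · rintro r hr _ ⟨-, ⟨b', rfl⟩⟩
      exact ⟨r * b', Ideal.mul_mem_right _ _ hr, by rw [map_mul, Algebra.smul_def]; rfl⟩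
    · rintro _ _ ⟨b₁, hb₁, rfl⟩ ⟨b₂, hb₂, rfl⟩
      exact ⟨b₁ + b₂, add_mem hb₁ hb₂, map_add _ _ _⟩
  obtain ⟨b, hb, hbz⟩ := h2 _ h1
  rwa [← hinj hbz]

/-- the map from a local ring to the localization of an integral algebra at a maximal ideal is
local. -/
theorem isLocalHom_toLocalization {R S : Type*} [CommRing R] [IsLocalRing R] [CommRing S]
    (φ : R →+* S) (hφ : φ.IsIntegral) (m' : Ideal S) [m'.IsMaximal] :
    IsLocalHom ((algebraMap S (Localization.AtPrime m')).comp φ) := by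
  constructor
  intro a ha
  by_contra hnu
  have ham : a ∈ maximalIdeal R := (mem_maximalIdeal a).mpr hnu
  have h1 : m'.comap φ = maximalIdeal R :=
    IsLocalRing.eq_maximalIdeal (Ideal.isMaximal_comap_of_isIntegral_of_isMaximal' φ hφ m')
  have h2 : φ a ∈ m' := by rw [← h1] at ham; exact ham
  have h3 := (IsLocalization.AtPrime.to_map_mem_maximal_iff (Localization.AtPrime m') m'
    (φ a)).mpr h2
  exact (mem_maximalIdeal _).mp h3 ha

section Alg

variable {R S : Type u} [CommRing R] [IsLocalRing R] [CommRing S] (φ : R →+* S) (I : Ideal R)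

/-- `L/IL` for `L` the localization of `S` at `m'`. -/
abbrev LQ (m' : Ideal S) [m'.IsPrime] : Type u :=
  Localization.AtPrime m' ⧸ I.map ((algebraMap S (Localization.AtPrime m')).comp φ)

/-- `S → L/IL`. -/
abbrev toLQ (m' : Ideal S) [m'.IsPrime] : S →+* LQ φ I m' :=
  (Ideal.Quotient.mk _).comp (algebraMap S (Localization.AtPrime m'))

theorem nontrivial_LQ (hφ : φ.IsIntegral) (hI : I ≤ maximalIdeal R) (m' : Ideal S)
    [m'.IsMaximal] : Nontrivial (LQ φ I m') := by
  haveI := isLocalHom_toLocalization φ hφ m'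
  exact Ideal.Quotient.nontrivial_iff.mpr (ne_top_of_le_ne_top
    (IsLocalRing.maximalIdeal.isMaximal _).ne_top
    ((Ideal.map_mono hI).trans (IsLocalRing.map_maximalIdeal_le _)))

theorem isLocalRing_LQ (hφ : φ.IsIntegral) (hI : I ≤ maximalIdeal R) (m' : Ideal S)
    [m'.IsMaximal] : IsLocalRing (LQ φ I m') :=
  haveI := nontrivial_LQ φ I hφ hI m'
  IsLocalRing.of_surjective' (Ideal.Quotient.mk _) Ideal.Quotient.mk_surjective

theorem isLocalHom_toLQ_comp (hφ : φ.IsIntegral) (hI : I ≤ maximalIdeal R) (m' : Ideal S)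
    [m'.IsMaximal] : IsLocalHom ((toLQ φ I m').comp φ) := by
  haveI := nontrivial_LQ φ I hφ hI m'
  haveI := isLocalHom_toLocalization φ hφ m'
  haveI : IsLocalHom (Ideal.Quotient.mk
      (I.map ((algebraMap S (Localization.AtPrime m')).comp φ))) :=
    IsLocalHom.of_surjective _ Ideal.Quotient.mk_surjective
  change IsLocalHom ((Ideal.Quotient.mk _).comp ((algebraMap S (Localization.AtPrime m')).comp φ))
  exact RingHom.isLocalHom_comp _ _

theorem mem_comap_map_iff (a : R) :
    a ∈ Ideal.comap φ (I.map φ) ↔ ∀ m : MaximalSpectrum S, toLQ φ I m.asIdeal (φ a) = 0 := by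
  constructor
  · intro h m
    change Ideal.Quotient.mk _ (algebraMap S (Localization.AtPrime m.asIdeal) (φ a)) = 0
    refine Ideal.Quotient.eq_zero_iff_mem.mpr ?_
    rw [← Ideal.map_map]
    exact Ideal.mem_map_of_mem _ h
  · intro h
    change φ a ∈ I.map φ
    refine Ideal.mem_of_localization_maximal (fun P hP => ?_)
    have h1 := h ⟨P, hP⟩
    change Ideal.Quotient.mk _ (algebraMap S (Localization.AtPrime P) (φ a)) = 0 at h1
    have h2 := Ideal.Quotient.eq_zero_iff_mem.mp h1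
    rwa [← Ideal.map_map] at h2

theorem comap_toLQ_maximalIdeal (hφ : φ.IsIntegral) (hI : I ≤ maximalIdeal R) (m' : Ideal S)
    [m'.IsMaximal] :
    haveI := isLocalRing_LQ φ I hφ hI m'
    Ideal.comap (toLQ φ I m') (maximalIdeal (LQ φ I m')) = m' := by
  haveI := isLocalRing_LQ φ I hφ hI m'
  haveI : IsLocalHom (Ideal.Quotient.mk
      (I.map ((algebraMap S (Localization.AtPrime m')).comp φ))) :=
    IsLocalHom.of_surjective _ Ideal.Quotient.mk_surjective
  rw [← Ideal.comap_comap, IsLocalRing.maximalIdeal_comap]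
  exact Localization.AtPrime.under_maximalIdeal

end Alg

section Sch

variable {X Y : Scheme.{u}} [IsLocallyNoetherian Y] (f : X ⟶ Y) [LocallyOfFiniteType f]
  (F : X.Modules) (hF : Coh.IsCoh F) (x : X)
  (A' : CommRingCat.{u}) (φ : Y.presheaf.stalk (f.base x) ⟶ A')

local notation "𝒜" => Y.presheaf.stalk (f.base x)

include hF in
theorem flat_quot_of_finite (hfin : φ.hom.Finite)
    (H : ∀ x' : ↥(pullback f (Spec.map φ ≫ Y.fromSpecStalk (f.base x))),
      pullback.fst f (Spec.map φ ≫ Y.fromSpecStalk (f.base x)) x' = x →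
      IsClosed ({pullback.snd f (Spec.map φ ≫ Y.fromSpecStalk (f.base x)) x'} :
        Set ↥(Spec A')) →
      FlatMod.IsFlatOverAt (pullback.snd f (Spec.map φ ≫ Y.fromSpecStalk (f.base x)))
        ((Scheme.Modules.pullback
          (pullback.fst f (Spec.map φ ≫ Y.fromSpecStalk (f.base x)))).obj F) x')
    (N' : ℕ) (hN' : N' ≠ 0) (𝔯 : Ideal 𝒜)
    (h𝔯 : Ideal.comap φ.hom ((maximalIdeal 𝒜 ^ N').map φ.hom) ≤ 𝔯) :
    letI := FlatMod.moduleStalkOver f F x
    Module.Flat (𝒜 ⧸ 𝔯) ((𝒜 ⧸ 𝔯) ⊗[𝒜] F.presheaf.stalk x) := by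
  have hint : φ.hom.IsIntegral := hfin.to_isIntegral
  have hI : maximalIdeal 𝒜 ^ N' ≤ maximalIdeal 𝒜 := Ideal.pow_le_self hN'
  haveI hloc : ∀ m : MaximalSpectrum A',
      IsLocalRing (LQ φ.hom (maximalIdeal 𝒜 ^ N') m.asIdeal) :=
    fun m => isLocalRing_LQ _ _ hint hI m.asIdeal
  let ψ : ∀ m : MaximalSpectrum A', 𝒜 ⟶
      CommRingCat.of (LQ φ.hom (maximalIdeal 𝒜 ^ N') m.asIdeal) :=
    fun m => CommRingCat.ofHom ((toLQ φ.hom _ m.asIdeal).comp φ.hom)
  haveI hlψ : ∀ m, IsLocalHom (ψ m).hom := fun m => isLocalHom_toLQ_comp _ _ hint hI m.asIdeal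
  refine flat_quot_of_family_sch f F hF x (ι := MaximalSpectrum A')
    (fun m => LQ φ.hom (maximalIdeal 𝒜 ^ N') m.asIdeal) ψ
    (Ideal.comap φ.hom ((maximalIdeal 𝒜 ^ N').map φ.hom)) ?_ N' Ideal.le_comap_map
    (fun _ => Over.mk (Spec.map φ ≫ Y.fromSpecStalk (f.base x)))
    (fun m => Spec.map (CommRingCat.ofHom (toLQ φ.hom (maximalIdeal 𝒜 ^ N') m.asIdeal)))
    ?_ ?_ 𝔯 h𝔯
  · intro a
    exact mem_comap_map_iff φ.hom _ a
  · intro m
    change Spec.map _ ≫ (Spec.map _ ≫ _) = _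
    rw [← Category.assoc, ← Spec.map_comp]
    rfl
  · intro m x' h1 h2
    refine H x' h1 ?_
    have h2' : pullback.snd f (Spec.map φ ≫ Y.fromSpecStalk (f.base x)) x' = _ := h2
    rw [h2']
    refine (PrimeSpectrum.isClosed_singleton_iff_isMaximal _).mpr ?_
    change (Ideal.comap (toLQ φ.hom _ m.asIdeal) (maximalIdeal _)).IsMaximal
    rw [comap_toLQ_maximalIdeal _ _ hint hI]
    exact m.isMaximal

include hF in
theorem isFlatOverAt_iff_of_finite_injective (hfin : φ.hom.Finite)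
    (hinj : Function.Injective φ.hom) :
    FlatMod.IsFlatOverAt f F x ↔
      ∀ x' : ↥(pullback f (Spec.map φ ≫ Y.fromSpecStalk (f.base x))),
        pullback.fst f (Spec.map φ ≫ Y.fromSpecStalk (f.base x)) x' = x →
        IsClosed ({pullback.snd f (Spec.map φ ≫ Y.fromSpecStalk (f.base x)) x'} :
          Set ↥(Spec A')) →
        FlatMod.IsFlatOverAt (pullback.snd f (Spec.map φ ≫ Y.fromSpecStalk (f.base x)))
          ((Scheme.Modules.pullback
            (pullback.fst f (Spec.map φ ≫ Y.fromSpecStalk (f.base x)))).obj F) x' := by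
  haveI : F.IsQuasicoherent := hF.1
  constructor
  · intro h x' h1 _
    refine FibreFlat.isFlatOverAt_baseChange (IsPullback.of_hasPullback f _) F x' ?_
    rw [h1]
    exact h
  · intro H
    haveI : F.IsFiniteType := hF.2
    haveI : IsLocallyNoetherian X := LocallyOfFiniteType.isLocallyNoetherian f
    letI aAB : Algebra 𝒜 (X.presheaf.stalk x) := (f.stalkMap x).hom.toAlgebra
    letI mAM := FlatMod.moduleStalkOver f F x
    haveI : IsScalarTower 𝒜 (X.presheaf.stalk x) (F.presheaf.stalk x) :=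
      ⟨fun a b m => mul_smul ((f.stalkMap x).hom a) b m⟩
    haveI := CohStalk.finite_stalk F x
    have hI : (maximalIdeal 𝒜).map (algebraMap 𝒜 (X.presheaf.stalk x)) ≤ Ideal.jacobson ⊥ := by
      rw [IsLocalRing.jacobson_eq_maximalIdeal ⊥ bot_ne_top]
      exact IsLocalRing.map_maximalIdeal_le (f.stalkMap x).hom
    letI aφ : Algebra 𝒜 A' := φ.hom.toAlgebra
    haveI : Module.Finite 𝒜 A' := hfin
    obtain ⟨c, hc⟩ := exists_comap_map_pow_le (R := 𝒜) (S := A') hinj (maximalIdeal 𝒜)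
    refine Groth.Agent.Lib.Helper7.flat_of_forall_flat_quotient_pow_of_finite
      (maximalIdeal 𝒜) hI (F.presheaf.stalk x) ?_
    intro N _
    refine flat_quot_of_finite f F hF x A' φ hfin H (N + c) (by omega) _ ?_
    have h3 := hc (N + c) (Nat.le_add_left c N)
    rwa [Nat.add_sub_cancel] at h3

end Sch

end Groth.Agent.Lib.Helper1.FamFlatFin
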