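import Mathlib
import Groth.Prelude
import Groth.Agent.Lib.Helper13.BaseChangeVanish
import Groth.Agent.Lib.Helper13.QCohCoprod
import Groth.Agent.Lib.Helper3.QCPush
import Groth.Agent.Lib.Helper3.QCProps
import Groth.Agent.Lib.Helper17.FlatStructure
import Groth.Agent.Lib.Helper23.T2A

/-!
# `H¹` of a base change along a morphism of affine schemes (helper1; CORE of S1485)

`core'`: if `H²` vanishes on all quasi-coherent modules of a qcqs scheme `X` over an affine base `V`
and `H¹(X, O_X) = 0`, then `H¹(X ×_V T, O) = 0` for every morphism `T → V` of affine schemes, provided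
(a) the pushforward of the structure sheaf of `X ×_V T` is a quotient of a free module and
(b) `H¹` of free modules vanishes; (a) and (b) enter as hypotheses.
-/

set_option autoImplicit false
set_option linter.style.haveILetI false
universe u
open CategoryTheory CategoryTheory.Limits AlgebraicGeometry Opposite

namespace Groth.Agent.Lib.Helper1.FibH1

open Groth.Agent.Lib.Helper23.T2

theorem core' {X V T : Scheme.{u}} (h : X ⟶ V) (g : T ⟶ V) [IsAffine V]
    [IsAffine T] [CompactSpace X] [QuasiSeparatedSpace X]
    (ha : ∃ (J : Type u) (π : (∐ fun _ : J => Coh.structureModule X) ⟶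
        (Scheme.Modules.pushforward (pullback.fst h g)).obj
          (Coh.structureModule (pullback h g))), Epi π)
    (hb : ∀ J : Type u, Subsingleton (Coh.HH X (∐ fun _ : J => Coh.structureModule X) 1))
    (hH2 : ∀ F : X.Modules, Coh.IsQCoh F → Subsingleton (Coh.HH X F 2)) :
    Subsingleton (Coh.HH (pullback h g) (Coh.structureModule (pullback h g)) 1) := by
  haveI : IsAffineHom g := inferInstance
  haveI : IsAffineHom (pullback.fst h g) :=
    MorphismProperty.of_isPullback (P := @IsAffineHom) (IsPullback.of_hasPullback h g).flip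
      ‹IsAffineHom g›
  obtain ⟨e⟩ := Groth.Agent.Lib.Helper13.BaseChangeVanish.nonempty_HH_equiv_push
    (pullback.fst h g) (Coh.structureModule (pullback h g)) 1
  refine e.toEquiv.subsingleton_congr.2 ?_
  haveI hN : ((Scheme.Modules.pushforward (pullback.fst h g)).obj
      (Coh.structureModule (pullback h g))).IsQuasicoherent :=
    Groth.Agent.Lib.Helper3.QCSec.isQuasicoherent_pushforward _ _
  obtain ⟨J, π, hπ⟩ := ha
  haveI hS : (∐ fun _ : J => Coh.structureModule X : X.Modules).IsQuasicoherent :=
    Groth.Agent.Lib.Helper13.QCohCoprod.isQuasicoherent_sigma _ (fun _ => inferInstance)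
  haveI hK : (kernel π : X.Modules).IsQuasicoherent :=
    Groth.Agent.Lib.Helper3.QCProps.isQuasicoherent_kernel π
  let S : ShortComplex X.Modules := ShortComplex.mk (kernel.ι π) π (kernel.condition π)
  have hSE : S.ShortExact :=
    { exact := ShortComplex.exact_of_f_is_kernel _ (kernelIsKernel π)
      mono_f := inferInstanceAs (Mono (kernel.ι π))
      epi_g := hπ }
  have h1 : Subsingleton (Coh.HH X (∐ fun _ : J => Coh.structureModule X) 1) := hb J
  have h2 : Subsingleton (Coh.HH X (kernel π) 2) := hH2 _ hK
  refine ⟨fun a b => ?_⟩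
  obtain ⟨ya, hya⟩ := exact₃ S hSE 1 a (h2.elim _ _)
  obtain ⟨yb, hyb⟩ := exact₃ S hSE 1 b (h2.elim _ _)
  rw [← hya, ← hyb, h1.elim ya yb]

end Groth.Agent.Lib.Helper1.FibH1
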