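import Mathlib
import Groth.Prelude
import Groth.Agent.Lib.Helper1.FibH1
import Groth.Agent.Lib.Helper12.FibH1a
import Groth.Agent.Lib.Helper17.FibH1b

/-!
# `H¹` of the fibres of a morphism with vanishing `H²` and `H¹(O) = 0` (helper1; CORE of S1485)

Hypothesis-free form of `Helper1.FibH1.core'`, using (a) helper12 `FibH1a` and (b) helper17 `FibH1b`.
-/

set_option autoImplicit false
set_option linter.style.haveILetI false
universe u
open CategoryTheory CategoryTheory.Limits AlgebraicGeometry Opposite

namespace Groth.Agent.Lib.Helper1.FibH1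

theorem subsingleton_H1_pullback {X V T : Scheme.{u}} (h : X ⟶ V) (g : T ⟶ V) [IsAffine V]
    [IsAffine T] [CompactSpace X] [QuasiSeparatedSpace X]
    (hH2 : ∀ F : X.Modules, Coh.IsQCoh F → Subsingleton (Coh.HH X F 2))
    (hH1 : Subsingleton (Coh.HH X (Coh.structureModule X) 1)) :
    Subsingleton (Coh.HH (pullback h g) (Coh.structureModule (pullback h g)) 1) :=
  core' h g (Groth.Agent.Lib.Helper12.FibH1a.exists_epi_sigma_structureModule_push h g)
    (fun J => Groth.Agent.Lib.Helper17.FibH1b.subsingleton_HH_sigma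
      (fun _ : J => Coh.structureModule X) 1 (fun _ => hH1)) hH2

theorem subsingleton_H1_fiber {X V : Scheme.{u}} (h : X ⟶ V) [IsAffine V] [CompactSpace X]
    [QuasiSeparatedSpace X]
    (hH2 : ∀ F : X.Modules, Coh.IsQCoh F → Subsingleton (Coh.HH X F 2))
    (hH1 : Subsingleton (Coh.HH X (Coh.structureModule X) 1)) (v : V) :
    Subsingleton (Coh.HH (h.fiber v) (Coh.structureModule (h.fiber v)) 1) :=
  subsingleton_H1_pullback h (V.fromSpecResidueField v) hH2 hH1

/-- the same with `h` quasi-compact and quasi-separated instead of `X` qcqs. -/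
theorem core {X V : Scheme.{u}} (h : X ⟶ V) [IsAffine V] [QuasiCompact h] [QuasiSeparated h]
    (hH2 : ∀ F : X.Modules, Coh.IsQCoh F → Subsingleton (Coh.HH X F 2))
    (hH1 : Subsingleton (Coh.HH X (Coh.structureModule X) 1)) (v : V) :
    Subsingleton (Coh.HH (h.fiber v) (Coh.structureModule (h.fiber v)) 1) := by
  haveI : CompactSpace X := QuasiCompact.compactSpace_of_compactSpace h
  haveI : QuasiSeparatedSpace X := quasiSeparatedSpace_of_quasiSeparated h
  exact subsingleton_H1_fiber h hH2 hH1 v

end Groth.Agent.Lib.Helper1.FibH1
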