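import Mathlib
import Groth.Agent.Lib.Helper1.CycSub5
import Groth.Agent.Lib.Helper17.FibreStalkMap
import Groth.Agent.Lib.Helper28.IdealComap

/-!
# Containment of closed subschemes flat over a reduced base can be checked on fibres
-/

set_option autoImplicit false
universe u
open CategoryTheory AlgebraicGeometry TopologicalSpace IsLocalRing

namespace Groth.Agent.Lib.Helper1.FibLe

open Groth.Agent.Lib.Helper1.CycSub

/-- A flat local homomorphism from a reduced Noetherian local ring to a local ring of depth zero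
(maximal ideal associated) forces the source to be a field. -/
theorem maximalIdeal_eq_bot_of_flat {R S : Type*} [CommRing R] [CommRing S] [IsLocalRing R]
    [IsLocalRing S] [IsNoetherianRing R] [IsReduced R] (φ : R →+* S) [IsLocalHom φ]
    (hφ : φ.Flat) (h : IsAssociatedPrime (maximalIdeal S) S) : maximalIdeal R = ⊥ := by
  obtain ⟨-, v, hv⟩ := h
  letI := φ.toAlgebra
  haveI : Module.Flat R S := hφ
  have hv0 : v ≠ 0 := by
    rintro rfl
    have h1 : (1 : S) ∈ maximalIdeal S := by
      rw [hv]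
      refine Ideal.le_radical ?_
      rw [Submodule.mem_colon_singleton]
      simp
    exact (Ideal.ne_top_iff_one _).mp (IsLocalRing.maximalIdeal.isMaximal _).ne_top h1
  -- every element of the maximal ideal is a zero divisor
  have hzd : ((maximalIdeal R : Ideal R) : Set R) ⊆ ((nonZeroDivisors R : Set R))ᶜ := by
    intro a ha hreg
    have h1 : φ a ∈ maximalIdeal S := by
      rw [SetLike.mem_coe, mem_maximalIdeal, mem_nonunits_iff] at ha
      rw [mem_maximalIdeal, mem_nonunits_iff]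
      exact fun hu => ha (isUnit_of_map_unit φ a hu)
    rw [hv, Ideal.mem_radical_iff] at h1
    obtain ⟨n, hn⟩ := h1
    rw [Submodule.mem_colon_singleton, Submodule.mem_bot, smul_eq_mul, ← map_pow] at hn
    have hreg' : a ^ n ∈ nonZeroDivisors R := pow_mem hreg n
    have h2 : IsSMulRegular S (a ^ n) := Module.Flat.isSMulRegular_of_nonZeroDivisors hreg'
    have h3 : (a ^ n) • v = (a ^ n) • (0 : S) := by
      rw [smul_zero, Algebra.smul_def]
      exact hn
    exact hv0 (h2 h3)
  rw [← biUnion_associatedPrimes_eq_compl_nonZeroDivisors R] at hzd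
  have hfin : (associatedPrimes R R).Finite := associatedPrimes.finite R R
  have hzd' : ((maximalIdeal R : Ideal R) : Set R) ⊆
      ⋃ p ∈ (↑hfin.toFinset : Set (Ideal R)), ((p : Ideal R) : Set R) := by
    intro a ha
    obtain ⟨p, hp, hap⟩ := Set.mem_iUnion₂.mp (hzd ha)
    exact Set.mem_iUnion₂.mpr ⟨p, Finset.mem_coe.mpr (hfin.mem_toFinset.mpr hp), hap⟩
  obtain ⟨p, hp, hle⟩ := (Ideal.subset_union_prime (f := fun p : Ideal R => p)
    (s := hfin.toFinset) ⊥ ⊥
    (fun p hp _ _ => (hfin.mem_toFinset.mp hp).isPrime)).mp hzd'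
  have hpass : IsAssociatedPrime p R := hfin.mem_toFinset.mp hp
  have hpeq : maximalIdeal R = p :=
    (IsLocalRing.maximalIdeal.isMaximal R).eq_of_le hpass.isPrime.ne_top hle
  rw [← hpeq, isAssociatedPrime_iff] at hpass
  obtain ⟨-, r, hr⟩ := hpass
  have hr0 : r ≠ 0 := by
    rintro rfl
    have h1 : (1 : R) ∈ maximalIdeal R := by
      rw [hr, Submodule.mem_colon_singleton]
      simp
    exact (Ideal.ne_top_iff_one _).mp (IsLocalRing.maximalIdeal.isMaximal _).ne_top h1
  have hru : IsUnit r := by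
    by_contra hnu
    have h1 : r ∈ maximalIdeal R := by rwa [mem_maximalIdeal, mem_nonunits_iff]
    rw [hr, Submodule.mem_colon_singleton, Submodule.mem_bot, smul_eq_mul, ← pow_two] at h1
    exact hr0 (pow_eq_zero_iff (two_ne_zero)|>.mp h1)
  rw [eq_bot_iff]
  intro a ha
  rw [hr, Submodule.mem_colon_singleton, Submodule.mem_bot, smul_eq_mul] at ha
  exact (hru.mul_left_eq_zero).mp ha

variable {X : Scheme.{u}}

/-- In a locally Noetherian scheme, a section not in the ideal of a closed subscheme is detected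
at a point of the subscheme whose maximal ideal is associated. -/
theorem exists_assoc_point [IsLocallyNoetherian X] (𝓘 : X.IdealSheafData) (U : X.affineOpens)
    (s : Γ(X, U)) (hsI : s ∉ 𝓘.ideal U) :
    ∃ (ζ : 𝓘.subscheme) (_ : 𝓘.subschemeι ζ ∈ U.1),
      IsAssociatedPrime (maximalIdeal ↑(𝓘.subscheme.presheaf.stalk ζ))
        ↑(𝓘.subscheme.presheaf.stalk ζ) ∧
      ∀ t : Γ(X, U), t * s ∈ 𝓘.ideal U → 𝓘.subschemeι ζ ∉ X.basicOpen t := by
  haveI : IsNoetherianRing Γ(X, U) := IsLocallyNoetherian.component_noetherian U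
  have hs0 : Ideal.Quotient.mk (𝓘.ideal U) s ≠ 0 := by
    rwa [Ne, Ideal.Quotient.eq_zero_iff_mem]
  obtain ⟨P, hPass, hle⟩ := exists_le_isAssociatedPrime_of_isNoetherianRing Γ(X, U) _ hs0
  rw [isAssociatedPrime_iff] at hPass
  obtain ⟨hPprime, ubar, hPeq⟩ := hPass
  obtain ⟨u, rfl⟩ := Ideal.Quotient.mk_surjective ubar
  have hPmem : ∀ a : Γ(X, U), a ∈ P ↔ a * u ∈ 𝓘.ideal U := by
    intro a
    rw [hPeq, Submodule.mem_colon_singleton, Submodule.mem_bot, ← Ideal.Quotient.eq_zero_iff_mem,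
      map_mul]
    rfl
  obtain ⟨x, hx⟩ : ∃ x, x = U.2.fromSpec ⟨P, hPprime⟩ := ⟨_, rfl⟩
  have hxU : x ∈ U.1 := by
    have : x ∈ Set.range U.2.fromSpec := ⟨_, hx.symm⟩
    rwa [U.2.range_fromSpec] at this
  have hprime : U.2.primeIdealOf ⟨x, hxU⟩ = ⟨P, hPprime⟩ := by
    apply U.2.fromSpec.isOpenEmbedding.injective
    rw [U.2.fromSpec_primeIdealOf ⟨x, hxU⟩]
    exact hx
  have hD : ∀ a : Γ(X, U), x ∈ X.basicOpen a ↔ a ∉ P := by
    intro a
    rw [Helper3.mem_basicOpen_iff_notMem_primeIdealOf U.2 x hxU a, hprime]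
  have hsupp : x ∈ 𝓘.support := by
    rw [Helper3.mem_support_iff_le_primeIdealOf 𝓘 U x hxU, hprime]
    intro a ha
    exact (hPmem a).mpr (Ideal.mul_mem_right _ _ ha)
  obtain ⟨ζ, hζ⟩ : x ∈ Set.range 𝓘.subschemeι := by
    rw [𝓘.range_subschemeι]
    exact hsupp
  subst hζ
  refine ⟨ζ, hxU, isAssociatedPrime_of_colon 𝓘 U ζ hxU u (fun a => by
    rw [← hPmem a, hD a, not_not]), ?_⟩
  intro t hts htx
  have htP : t ∈ P := by
    apply hle
    rw [Submodule.mem_colon_singleton, Submodule.mem_bot]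
    have h5 : Ideal.Quotient.mk (𝓘.ideal U) (t * s) = 0 := Ideal.Quotient.eq_zero_iff_mem.mpr hts
    rw [map_mul] at h5
    exact h5
  exact (hD t).mp htx htP

end Groth.Agent.Lib.Helper1.FibLe
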