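import Mathlib
import Groth.Agent.Lib.Helper1.FibLe1

/-!
# Containment of closed subschemes flat over a reduced base can be checked on fibres (main)
-/

set_option autoImplicit false
universe u
open CategoryTheory AlgebraicGeometry TopologicalSpace IsLocalRing

namespace Groth.Agent.Lib.Helper1.FibLe

open Groth.Agent.Lib.Helper1.CycSub

theorem maximalIdeal_stalk_eq_bot_congr {T : Scheme.{u}} {p q : T} (h : p = q)
    (hp : maximalIdeal (T.presheaf.stalk p) = ⊥) : maximalIdeal (T.presheaf.stalk q) = ⊥ := by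
  subst h
  exact hp

theorem le_of_fibrewise_le {𝒞 T : Scheme.{u}} [IsLocallyNoetherian T] [IsReduced T]
    (π : 𝒞 ⟶ T) [LocallyOfFiniteType π] (D D' : 𝒞.IdealSheafData)
    (hflat : Flat (D'.subschemeι ≫ π))
    (hfib : ∀ t : ↥T, D.comap (π.fiberι t) ≤ D'.comap (π.fiberι t)) :
    D ≤ D' := by
  haveI : IsLocallyNoetherian 𝒞 := LocallyOfFiniteType.isLocallyNoetherian π
  intro W s hs
  by_contra hsI
  obtain ⟨ζ, hζW, hass, hcontra⟩ := exists_assoc_point D' W s hsI
  -- the local ring of the base at the image point is a field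
  have hbot : maximalIdeal (T.presheaf.stalk ((D'.subschemeι ≫ π).base ζ)) = ⊥ :=
    maximalIdeal_eq_bot_of_flat ((D'.subschemeι ≫ π).stalkMap ζ).hom
      (Flat.stalkMap (D'.subschemeι ≫ π) ζ) hass
  set t : T := π.base (D'.subschemeι.base ζ) with ht
  -- a point of the fibre over the point
  obtain ⟨y, hy⟩ : D'.subschemeι.base ζ ∈ Set.range (π.fiberι t) := by
    rw [π.range_fiberι t]
    rfl
  have hbot' : maximalIdeal (T.presheaf.stalk (π.base ((π.fiberι t).base y))) = ⊥ :=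
    maximalIdeal_stalk_eq_bot_congr (by rw [hy]; rfl) hbot
  obtain ⟨hsurj, hker⟩ := Helper17.FibreStalkMap.stalkMap_fiberι π t y
  rw [hbot', Ideal.map_bot] at hker
  have hinj : Function.Injective ((π.fiberι t).stalkMap y).hom :=
    (RingHom.injective_iff_ker_eq_bot _).mpr hker
  -- an affine open of the fibre around `y` inside the preimage of `W`
  have hyW : (π.fiberι t).base y ∈ W.1 := by rw [hy]; exact hζW
  obtain ⟨_, ⟨Wt, hWt : IsAffineOpen Wt, rfl⟩, hyWt, hWtle⟩ :=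
    (π.fiber t).isBasis_affineOpens.exists_subset_of_mem_open
      (show y ∈ ((π.fiberι t) ⁻¹ᵁ W.1 : Set (π.fiber t)) from hyW) ((π.fiberι t) ⁻¹ᵁ W.1).2
  have hle : Wt ≤ (π.fiberι t) ⁻¹ᵁ W.1 := hWtle
  have h1 := hfib t ⟨Wt, hWt⟩
  rw [Helper28.ideal_comap_of_le D (π.fiberι t) W ⟨Wt, hWt⟩ hle,
    Helper28.ideal_comap_of_le D' (π.fiberι t) W ⟨Wt, hWt⟩ hle] at h1
  have h2 : ((π.fiberι t).appLE W.1 Wt hle).hom s ∈
      (D'.ideal W).map ((π.fiberι t).appLE W.1 Wt hle).hom :=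
    h1 (Ideal.mem_map_of_mem _ hs)
  -- pass to the stalk at `y`
  have hgerm : ∀ a : Γ(𝒞, W.1), ((π.fiber t).presheaf.germ Wt y hyWt).hom
      (((π.fiberι t).appLE W.1 Wt hle).hom a) =
      ((π.fiberι t).stalkMap y).hom ((𝒞.presheaf.germ W.1 _ hyW).hom a) := by
    intro a
    rw [Scheme.Hom.germ_stalkMap_apply (π.fiberι t) W.1 y hyW a]
    rw [Scheme.Hom.appLE]
    exact TopCat.Presheaf.germ_res_apply (π.fiber t).presheaf (homOfLE hle) y hyWt _
  have h3 : ((π.fiber t).presheaf.germ Wt y hyWt).hom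
      (((π.fiberι t).appLE W.1 Wt hle).hom s) ∈
      ((D'.ideal W).map ((π.fiberι t).appLE W.1 Wt hle).hom).map
        ((π.fiber t).presheaf.germ Wt y hyWt).hom := Ideal.mem_map_of_mem _ h2
  rw [Ideal.map_map] at h3
  have hcomp : (((π.fiber t).presheaf.germ Wt y hyWt).hom.comp
      ((π.fiberι t).appLE W.1 Wt hle).hom) =
      (((π.fiberι t).stalkMap y).hom.comp (𝒞.presheaf.germ W.1 _ hyW).hom) :=
    RingHom.ext hgerm
  rw [hcomp, ← Ideal.map_map, hgerm s,
    Ideal.mem_map_iff_of_surjective _ hsurj] at h3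
  obtain ⟨b, hb, hbs⟩ := h3
  have hbeq := hinj hbs
  rw [hbeq] at hb
  rw [germ_mem_map_iff W.2 _ hyW] at hb
  obtain ⟨c, hcx, hcs⟩ := hb
  refine hcontra c hcs ?_
  have : D'.subschemeι ζ = (π.fiberι t).base y := hy.symm
  rw [this]
  exact hcx

end Groth.Agent.Lib.Helper1.FibLe
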