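import Mathlib
import Groth.Agent.Lib.Helper1.FibreFlatSq
import Groth.Agent.Lib.Helper14.FlatOpen.ModStalk
import Groth.Agent.Lib.Helper28.GenFlatMod
import Groth.Agent.Lib.Helper17.FibreFlat
import Groth.Agent.Lib.Helper12.ConstrNhds
import Groth.Agent.Lib.Helper12.FibreDimConstr
import Groth.Agent.S4847

set_option autoImplicit false
set_option linter.style.haveILetI false
universe u
open TensorProduct CategoryTheory CategoryTheory.Limits AlgebraicGeometry Topology

namespace Groth.Agent.Lib.Helper1.FibreFlatSq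

open Groth.Agent.Lib.Helper17 Groth.Agent.Lib.Helper12

theorem isPullback_fibreMap {X Y S : Scheme.{u}} (g : X ⟶ Y) (h : Y ⟶ S) (s : S) :
    IsPullback (pullback.fst (g ≫ h) (S.fromSpecResidueField s)) (fibreMap g h s) g
      (pullback.fst h (S.fromSpecResidueField s)) := by
  have big := (IsPullback.of_hasPullback (g ≫ h) (S.fromSpecResidueField s)).flip
  have right := (IsPullback.of_hasPullback h (S.fromSpecResidueField s)).flip
  have hsnd : fibreMap g h s ≫ pullback.snd h (S.fromSpecResidueField s) =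
      pullback.snd (g ≫ h) (S.fromSpecResidueField s) := pullback.lift_snd _ _ _
  rw [← hsnd] at big
  exact (IsPullback.of_right big (pullback.lift_fst _ _ _) right).flip

theorem exists_nhd_not_isFlatOver_fibre {X Y S : Scheme.{u}} [IsIntegral S] [IsNoetherian S]
    (g : X ⟶ Y) (h : Y ⟶ S) [LocallyOfFiniteType h] [QuasiCompact h]
    [LocallyOfFiniteType (g ≫ h)] [QuasiCompact (g ≫ h)]
    (F : X.Modules) [F.IsQuasicoherent]
    [SheafOfModules.IsFinitePresentation (R := X.ringCatSheaf) F]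
    (hη : ¬ FlatMod.IsFlatOver (fibreMap g h (genericPoint S))
      ((Scheme.Modules.pullback
        (pullback.fst (g ≫ h) (S.fromSpecResidueField (genericPoint S)))).obj F)) :
    ∃ U : S.Opens, genericPoint S ∈ U ∧ ∀ s ∈ U, ¬ FlatMod.IsFlatOver (fibreMap g h s)
      ((Scheme.Modules.pullback (pullback.fst (g ≫ h) (S.fromSpecResidueField s))).obj F) := by
  haveI : IsLocallyNoetherian Y := LocallyOfFiniteType.isLocallyNoetherian h
  haveI : IsLocallyNoetherian X := LocallyOfFiniteType.isLocallyNoetherian (g ≫ h)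
  haveI : LocallyOfFiniteType g := locallyOfFiniteType_of_comp g h
  haveI : F.IsFiniteType := inferInstance
  have hW : IsOpen {x : X | FlatMod.IsFlatOverAt g F x} :=
    Groth.Agent.Lib.Helper14.FlatOpen.isOpen_isFlatOverAt g F
  have hZc : IsClosed {x : X | FlatMod.IsFlatOverAt g F x}ᶜ := isClosed_compl_iff.mpr hW
  unfold FlatMod.IsFlatOver at hη
  push Not at hη
  obtain ⟨xη, hxη⟩ := hη
  have hxZ : (pullback.fst (g ≫ h) (S.fromSpecResidueField (genericPoint S))).base xη ∈
      {x : X | FlatMod.IsFlatOverAt g F x}ᶜ := by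
    intro hfl
    exact hxη (FibreFlat.isFlatOverAt_baseChange (isPullback_fibreMap g h (genericPoint S)) F xη hfl)
  have hxS : (g ≫ h).base
      ((pullback.fst (g ≫ h) (S.fromSpecResidueField (genericPoint S))).base xη) =
      genericPoint S :=
    (Set.ext_iff.mp ((g ≫ h).range_fiberι (genericPoint S)) _).mp ⟨xη, rfl⟩
  have hE : IsLocallyConstructible ((g ≫ h).base '' {x : X | FlatMod.IsFlatOverAt g F x}ᶜ) :=
    (g ≫ h).isLocallyConstructible_image (FibreDimConstr.isLocallyConstructible_of_isClosed _ hZc)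
  have hEη : ((g ≫ h).base '' {x : X | FlatMod.IsFlatOverAt g F x}ᶜ) ∈ nhds (genericPoint S) := by
    refine ConstrNhds.mem_nhds_of_isLocallyConstructible _ hE _ (fun z hz => ?_)
    have hzη : z = genericPoint S := (hz.antisymm (genericPoint_specializes z)).eq
    rw [hzη]
    exact ⟨_, hxZ, hxS⟩
  obtain ⟨U₁, hU₁E, hU₁o, hηU₁⟩ := mem_nhds_iff.mp hEη
  obtain ⟨U₂, hU₂ne, hU₂⟩ := Groth.Agent.Lib.Helper28.GenFlatMod.generic_flat_module (g ≫ h) F
  have hηU₂ : genericPoint S ∈ U₂ :=
    ((genericPoint_spec S).mem_open_set_iff U₂.isOpen).mpr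
      (by rwa [Set.univ_inter])
  refine ⟨⟨U₁, hU₁o⟩ ⊓ U₂, ⟨hηU₁, hηU₂⟩, ?_⟩
  rintro s ⟨hs1, hs2⟩ hflat
  obtain ⟨x, hxZ', rfl⟩ := hU₁E hs1
  apply hxZ'
  have hx' : (pullback.fst (g ≫ h) (S.fromSpecResidueField ((g ≫ h).base x))).base
      ((g ≫ h).asFiber x) = x := (g ≫ h).fiberι_asFiber x
  have h1 := flat_quot_of_isFlatOverAt_fibre g h F _ ((g ≫ h).asFiber x) (hflat _)
  have hSfl : FlatMod.IsFlatOverAt (g ≫ h) F
      ((pullback.fst (g ≫ h) (S.fromSpecResidueField ((g ≫ h).base x))).base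
        ((g ≫ h).asFiber x)) := hU₂ _ (by rw [hx']; exact hs2)
  have key : FlatMod.IsFlatOverAt g F
      ((pullback.fst (g ≫ h) (S.fromSpecResidueField ((g ≫ h).base x))).base
        ((g ≫ h).asFiber x)) := by
    by_cases hN : Nontrivial (F.presheaf.stalk
      ((pullback.fst (g ≫ h) (S.fromSpecResidueField ((g ≫ h).base x))).base
        ((g ≫ h).asFiber x)))
    · exact ((Groth.Agent.S4847.result g h F ⟨inferInstance, inferInstance⟩ _ hN).mp
        ⟨hSfl, h1⟩).2
    · rw [not_nontrivial_iff_subsingleton] at hN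
      unfold FlatMod.IsFlatOverAt
      infer_instance
  rw [hx'] at key
  exact key

end Groth.Agent.Lib.Helper1.FibreFlatSq
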