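import Mathlib
import Groth.Agent.S6267

/-!
# Fibrewise injectivity criterion (EGA 0_III 10.2.4 / Matsumura 22.5)

`R → S` local hom of local rings, `S` Noetherian, `N` a finite `S`-module, `M` a flat `R`-module,
`u : N →ₗ[R] M` with `k ⊗ u` injective. Then `u` is injective with flat cokernel.
-/

set_option autoImplicit false
universe u v

namespace Groth.Agent.Lib.Helper1.FibreInj

open TensorProduct IsLocalRing

section general

variable {R : Type u} [CommRing R]
variable {M N : Type u} [AddCommGroup M] [Module R M] [AddCommGroup N] [Module R N]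

theorem one_tmul_eq_zero_iff (I : Ideal R) {N : Type v} [AddCommGroup N] [Module R N] (n : N) :
    (1 : R ⧸ I) ⊗ₜ[R] n = 0 ↔ n ∈ I • (⊤ : Submodule R N) := by
  rw [← (TensorProduct.quotTensorEquivQuotSMul N I).map_eq_zero_iff,
    TensorProduct.quotTensorEquivQuotSMul_mk_one_tmul, Submodule.Quotient.mk_eq_zero]

theorem exists_one_tmul (I : Ideal R) {N : Type v} [AddCommGroup N] [Module R N]
    (t : (R ⧸ I) ⊗[R] N) : ∃ n : N, (1 : R ⧸ I) ⊗ₜ[R] n = t := by
  induction t using TensorProduct.induction_on with
  | zero => exact ⟨0, by simp⟩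
  | tmul q s =>
    obtain ⟨a, rfl⟩ := Ideal.Quotient.mk_surjective q
    refine ⟨a • s, ?_⟩
    rw [← TensorProduct.smul_tmul]
    congr 1
    rw [Algebra.smul_def, mul_one]
    rfl
  | add t t' ht ht' =>
    obtain ⟨x, rfl⟩ := ht
    obtain ⟨y, rfl⟩ := ht'
    exact ⟨x + y, by rw [TensorProduct.tmul_add]⟩

/-- four lemma step: `Q ↦ Injective (lTensor Q u)` is closed under extensions (`M` flat). -/
theorem lTensor_injective_of_exact (u : N →ₗ[R] M) [Module.Flat R M]
    {Q : Type v} [AddCommGroup Q] [Module R Q] (Q' : Submodule R Q)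
    (h1 : Function.Injective (LinearMap.lTensor Q' u))
    (h2 : Function.Injective (LinearMap.lTensor (Q ⧸ Q') u)) :
    Function.Injective (LinearMap.lTensor Q u) := by
  rw [injective_iff_map_eq_zero]
  intro t ht
  have hex : Function.Exact Q'.subtype Q'.mkQ := by
    rw [LinearMap.exact_iff]; simp
  have hsurj : Function.Surjective Q'.mkQ := Submodule.mkQ_surjective _
  have h3 : LinearMap.rTensor N Q'.mkQ t = 0 := by
    apply h2
    rw [map_zero, ← LinearMap.comp_apply, LinearMap.lTensor_comp_rTensor,
      ← LinearMap.rTensor_comp_lTensor, LinearMap.comp_apply, ht, map_zero]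
  obtain ⟨t', rfl⟩ := (rTensor_exact N hex hsurj t).mp h3
  have h4 : LinearMap.lTensor Q' u t' = 0 := by
    have hinj : Function.Injective (LinearMap.rTensor M Q'.subtype) :=
      Module.Flat.rTensor_preserves_injective_linearMap _ Q'.injective_subtype
    apply hinj
    rw [map_zero, ← LinearMap.comp_apply, LinearMap.rTensor_comp_lTensor,
      ← LinearMap.lTensor_comp_rTensor, LinearMap.comp_apply, ht]
  rw [h1 (h4.trans (map_zero _).symm), map_zero]

variable [IsLocalRing R]

/-- If `k ⊗ u` is injective then `Q ⊗ u` is injective for every `Q` killed by the maximal ideal. -/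
theorem lTensor_injective_of_torsion (u : N →ₗ[R] M)
    (h : Function.Injective (LinearMap.lTensor (ResidueField R) u))
    (Q : Type v) [AddCommGroup Q] [Module R Q]
    (hQ : ∀ a ∈ maximalIdeal R, ∀ q : Q, a • q = 0) :
    Function.Injective (LinearMap.lTensor Q u) := by
  have hQ' : Module.IsTorsionBySet R Q (maximalIdeal R : Set R) := by
    intro q a
    exact hQ a.1 a.2 q
  let _ : Module (ResidueField R) Q := hQ'.module
  have : IsScalarTower R (ResidueField R) Q := hQ'.isScalarTower
  let e := TensorProduct.AlgebraTensorModule.cancelBaseChange R (ResidueField R)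
    (ResidueField R) Q N
  let e' := TensorProduct.AlgebraTensorModule.cancelBaseChange R (ResidueField R)
    (ResidueField R) Q M
  have hinj0 : Function.Injective (u.baseChange (ResidueField R)) := by
    have : ⇑(u.baseChange (ResidueField R)) = ⇑(LinearMap.lTensor (ResidueField R) u) :=
      LinearMap.baseChange_eq_ltensor _
    rw [this]; exact h
  have hinj : Function.Injective (LinearMap.lTensor Q (u.baseChange (ResidueField R))) :=
    Module.Flat.lTensor_preserves_injective_linearMap _ hinj0
  have comm : ∀ t, LinearMap.lTensor Q u (e t) =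
      e' (LinearMap.lTensor Q (u.baseChange (ResidueField R)) t) := by
    intro t
    induction t using TensorProduct.induction_on with
    | zero => simp
    | tmul q y =>
      induction y using TensorProduct.induction_on with
      | zero => simp
      | tmul c n => simp [e, e']
      | add y y' hy hy' => simp only [tmul_add, map_add, hy, hy']
    | add t t' ht ht' => simp only [map_add, ht, ht']
  intro a b hab
  have h1 : e' (LinearMap.lTensor Q (u.baseChange (ResidueField R)) (e.symm a)) =
      e' (LinearMap.lTensor Q (u.baseChange (ResidueField R)) (e.symm b)) := by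
    rw [← comm, ← comm]; simpa using hab
  exact e.symm.injective (hinj (e'.injective h1))

theorem one_tmul_residue_eq_zero_iff {N : Type v} [AddCommGroup N] [Module R N] (n : N) :
    (1 : ResidueField R) ⊗ₜ[R] n = 0 ↔ n ∈ maximalIdeal R • (⊤ : Submodule R N) :=
  one_tmul_eq_zero_iff (maximalIdeal R) n

theorem exists_one_tmul_residue {N : Type v} [AddCommGroup N] [Module R N]
    (t : ResidueField R ⊗[R] N) : ∃ n : N, (1 : ResidueField R) ⊗ₜ[R] n = t := by
  induction t using TensorProduct.induction_on with
  | zero => exact ⟨0, by simp⟩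
  | tmul q s =>
    obtain ⟨a, rfl⟩ := IsLocalRing.residue_surjective q
    refine ⟨a • s, ?_⟩
    rw [← TensorProduct.smul_tmul]
    congr 1
    rw [Algebra.smul_def, mul_one]
    rfl
  | add t t' ht ht' =>
    obtain ⟨x, rfl⟩ := ht
    obtain ⟨y, rfl⟩ := ht'
    exact ⟨x + y, by rw [TensorProduct.tmul_add]⟩

theorem lTensor_injective_of_pow_torsion (u : N →ₗ[R] M) [Module.Flat R M]
    (h : Function.Injective (LinearMap.lTensor (ResidueField R) u)) (n : ℕ) :
    ∀ (Q : Type v) [AddCommGroup Q] [Module R Q],
      (∀ a ∈ maximalIdeal R ^ n, ∀ q : Q, a • q = 0) →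
      Function.Injective (LinearMap.lTensor Q u) := by
  induction n with
  | zero =>
    intro Q _ _ hQ
    have : Subsingleton Q := ⟨fun a b => by
      have ha := hQ 1 (by simp) a
      have hb := hQ 1 (by simp) b
      rw [one_smul] at ha hb; rw [ha, hb]⟩
    have : Subsingleton (Q ⊗[R] N) := inferInstance
    exact Function.injective_of_subsingleton _
  | succ n ih =>
    intro Q _ _ hQ
    let Q' : Submodule R Q := (maximalIdeal R ^ n) • ⊤
    apply lTensor_injective_of_exact u Q'
    · apply lTensor_injective_of_torsion u h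
      intro a ha q
      obtain ⟨q, hq⟩ := q
      apply Subtype.ext
      show a • q = 0
      refine Submodule.smul_induction_on hq ?_ ?_
      · intro b hb x _
        rw [smul_smul]
        exact hQ (a * b) (by rw [pow_succ']; exact Ideal.mul_mem_mul ha hb) x
      · intro x y hx hy; rw [smul_add, hx, hy, add_zero]
    · apply ih
      intro a ha q
      obtain ⟨q, rfl⟩ := Submodule.mkQ_surjective _ q
      rw [← map_smul, Submodule.mkQ_apply, Submodule.Quotient.mk_eq_zero]
      exact Submodule.smul_mem_smul ha Submodule.mem_top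

theorem mem_smul_top_of_apply_mem (u : N →ₗ[R] M) [Module.Flat R M]
    (h : Function.Injective (LinearMap.lTensor (ResidueField R) u))
    (J : Ideal R) (n : ℕ) (hJ : maximalIdeal R ^ n ≤ J) (x : N)
    (hx : u x ∈ J • (⊤ : Submodule R M)) : x ∈ J • (⊤ : Submodule R N) := by
  have hinj := lTensor_injective_of_pow_torsion u h n (R ⧸ J) (by
    intro a ha q
    obtain ⟨q, rfl⟩ := Ideal.Quotient.mk_surjective q
    rw [← Ideal.Quotient.mk_eq_mk, ← Submodule.Quotient.mk_smul, Submodule.Quotient.mk_eq_zero]
    exact J.mul_mem_right q (hJ ha))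
  rw [← one_tmul_eq_zero_iff]
  apply hinj
  rw [map_zero, LinearMap.lTensor_tmul, one_tmul_eq_zero_iff]
  exact hx

end general

section krull

theorem mem_smul_top_of_forall_mem_sup_pow {R N : Type*} (S : Type*) [CommRing R] [CommRing S]
    [IsLocalRing R] [IsLocalRing S]
    [IsNoetherianRing S] [Algebra R S] [IsLocalHom (algebraMap R S)]
    [AddCommGroup N] [Module R N] [Module S N] [IsScalarTower R S N] [Module.Finite S N]
    (I : Ideal R) (x : N)
    (hx : ∀ n, x ∈ (I ⊔ maximalIdeal R ^ n) • (⊤ : Submodule R N)) :
    x ∈ I • (⊤ : Submodule R N) := by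
  set N₀ : Submodule S N := (I.map (algebraMap R S)) • ⊤ with hN₀
  have hN₀' : N₀.restrictScalars R = I • (⊤ : Submodule R N) := by
    rw [hN₀, Ideal.smul_restrictScalars, Submodule.restrictScalars_top]
  have key : N₀.mkQ x ∈ (⨅ i : ℕ, (maximalIdeal S) ^ i • ⊤ : Submodule S (N ⧸ N₀)) := by
    rw [Submodule.mem_iInf]
    intro n
    have := hx n
    rw [Submodule.sup_smul] at this
    obtain ⟨y, hy, z, hz, rfl⟩ := Submodule.mem_sup.mp this
    have hy0 : N₀.mkQ y = 0 := by
      rw [Submodule.mkQ_apply, Submodule.Quotient.mk_eq_zero, ← Submodule.restrictScalars_mem R,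
        hN₀']
      exact hy
    rw [map_add, hy0, zero_add]
    refine Submodule.smul_induction_on hz ?_ ?_
    · intro a ha w _
      rw [← algebraMap_smul S a w, map_smul]
      apply Submodule.smul_mem_smul _ Submodule.mem_top
      have : algebraMap R S a ∈ (maximalIdeal R ^ n).map (algebraMap R S) :=
        Ideal.mem_map_of_mem _ ha
      rw [Ideal.map_pow] at this
      exact Ideal.pow_right_mono (map_maximalIdeal_le _) n this
    · intro a b ha hb; rw [map_add]; exact Submodule.add_mem _ ha hb
  rw [(maximalIdeal S).iInf_pow_smul_eq_bot_of_isLocalRing (M := N ⧸ N₀)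
    (Ideal.IsPrime.ne_top inferInstance), Submodule.mem_bot, Submodule.mkQ_apply,
    Submodule.Quotient.mk_eq_zero] at key
  rw [← hN₀', Submodule.restrictScalars_mem]
  exact key

end krull

section main

theorem mem_smul_top_of_apply_mem_smul_top {R M N : Type u} (S : Type v) [CommRing R] [CommRing S]
    [IsLocalRing R] [IsLocalRing S]
    [IsNoetherianRing S] [Algebra R S] [IsLocalHom (algebraMap R S)]
    [AddCommGroup M] [Module R M] [Module.Flat R M]
    [AddCommGroup N] [Module R N] [Module S N] [IsScalarTower R S N] [Module.Finite S N]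
    (u : N →ₗ[R] M)
    (h : Function.Injective (LinearMap.lTensor (ResidueField R) u))
    (I : Ideal R) (x : N) (hx : u x ∈ I • (⊤ : Submodule R M)) :
    x ∈ I • (⊤ : Submodule R N) := by
  apply mem_smul_top_of_forall_mem_sup_pow S I x
  intro n
  apply mem_smul_top_of_apply_mem u h (I ⊔ maximalIdeal R ^ n) n le_sup_right x
  exact Submodule.smul_mono_left le_sup_left hx

theorem injective_and_flat_of_injective_residue {R M N : Type u} (S : Type v) [CommRing R]
    [CommRing S] [IsLocalRing R] [IsLocalRing S]
    [IsNoetherianRing S] [Algebra R S] [IsLocalHom (algebraMap R S)]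
    [AddCommGroup M] [Module R M] [Module.Flat R M]
    [AddCommGroup N] [Module R N] [Module S N] [IsScalarTower R S N] [Module.Finite S N]
    (u : N →ₗ[R] M)
    (h : Function.Injective (LinearMap.lTensor (ResidueField R) u)) :
    Function.Injective u ∧ Module.Flat R (M ⧸ LinearMap.range u) := by
  have key := mem_smul_top_of_apply_mem_smul_top S u h
  constructor
  · rw [injective_iff_map_eq_zero]
    intro x hx
    have := key ⊥ x (by rw [hx]; exact zero_mem _)
    simpa using this
  · apply S6267.flat_quotient_of_inj
    intro I _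
    rw [injective_iff_map_eq_zero]
    have hrep : ∀ t : N ⊗[R] (R ⧸ I), ∃ x, x ⊗ₜ[R] (1 : R ⧸ I) = t := by
      intro t
      induction t using TensorProduct.induction_on with
      | zero => exact ⟨0, by simp⟩
      | tmul x q =>
        obtain ⟨a, rfl⟩ := Ideal.Quotient.mk_surjective q
        refine ⟨a • x, ?_⟩
        rw [TensorProduct.smul_tmul]
        congr 1
        rw [Algebra.smul_def, mul_one]
        rfl
      | add t t' ht ht' =>
        obtain ⟨x, rfl⟩ := ht
        obtain ⟨y, rfl⟩ := ht'
        exact ⟨x + y, by rw [add_tmul]⟩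
    intro t ht
    obtain ⟨x, rfl⟩ := hrep t
    rw [LinearMap.rTensor_tmul, S6267.tmul_one_eq_zero_iff] at ht
    rw [S6267.tmul_one_eq_zero_iff]
    exact key I x ht

end main

end Groth.Agent.Lib.Helper1.FibreInj
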