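import Mathlib

/-! Image/preimage calculus for subobjects in an abelian category (helper1).
`img f S = imageSubobject (S.arrow ≫ f)`; Galois connection with `Subobject.pullback f`. -/
set_option autoImplicit false
open CategoryTheory CategoryTheory.Limits
universe v u

namespace Groth.Agent.Lib.Helper1.SubImg

variable {A : Type u} [Category.{v} A] [Abelian A] {X Y Z : A}

/-- the image of a subobject under a morphism -/
noncomputable def img (f : X ⟶ Y) (S : Subobject X) : Subobject Y := imageSubobject (S.arrow ≫ f)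

lemma img_eq_exists (f : X ⟶ Y) (S : Subobject X) : img f S = (Subobject.exists f).obj S := by
  let F := Subobject.imageFactorisation f S
  refine Subobject.eq_of_comm
    ((imageSubobjectIso _) ≪≫ (IsImage.isoExt (Image.isImage _) F.isImage)) ?_
  have := IsImage.isoExt_hom_m (Image.isImage (S.arrow ≫ f)) F.isImage
  simp only [Iso.trans_hom, Category.assoc]
  erw [this]
  exact imageSubobject_arrow _

lemma img_le_iff (f : X ⟶ Y) (S : Subobject X) (T : Subobject Y) :
    img f S ≤ T ↔ S ≤ (Subobject.pullback f).obj T := by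
  rw [img_eq_exists]
  constructor
  · intro h
    exact leOfHom ((Subobject.existsPullbackAdj f).homEquiv S T (homOfLE h))
  · intro h
    exact leOfHom (((Subobject.existsPullbackAdj f).homEquiv S T).symm (homOfLE h))

lemma img_mono (f : X ⟶ Y) {S S' : Subobject X} (h : S ≤ S') : img f S ≤ img f S' := by
  rw [img_le_iff]
  exact h.trans ((img_le_iff f S' _).1 le_rfl)

lemma img_comp (f : X ⟶ Y) (g : Y ⟶ Z) (S : Subobject X) : img (f ≫ g) S = img g (img f S) := by
  apply eq_of_forall_ge_iff
  intro T
  rw [img_le_iff, img_le_iff, img_le_iff, Subobject.pullback_comp]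

lemma img_top (f : X ⟶ Y) : img f ⊤ = imageSubobject f := by
  unfold img
  exact imageSubobject_iso_comp _ f

lemma img_le_image (f : X ⟶ Y) (S : Subobject X) : img f S ≤ imageSubobject f :=
  imageSubobject_comp_le _ _

lemma img_eq_map (g : Y ⟶ Z) [Mono g] (S : Subobject Y) : img g S = (Subobject.map g).obj S := by
  rw [img_eq_exists, Subobject.exists_iso_map]

lemma img_inf_of_mono (g : Y ⟶ Z) [Mono g] (U V : Subobject Y) :
    img g (U ⊓ V) = img g U ⊓ img g V := by
  simp only [img_eq_map, Subobject.inf_map]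

lemma img_sup (f : X ⟶ Y) (U V : Subobject X) : img f (U ⊔ V) = img f U ⊔ img f V := by
  apply eq_of_forall_ge_iff
  intro T
  simp only [img_le_iff, sup_le_iff]

lemma img_bot (f : X ⟶ Y) : img f ⊥ = ⊥ := by
  rw [eq_bot_iff, img_le_iff]; exact bot_le

lemma imageSubobject_eq_top_of_epi (f : X ⟶ Y) [Epi f] : imageSubobject f = ⊤ := by
  rw [← Subobject.isIso_arrow_iff_eq_top]
  haveI : Epi (imageSubobject f).arrow := epi_of_epi_fac (imageSubobject_arrow_comp f)
  exact isIso_of_mono_of_epi _

lemma img_top_of_epi (f : X ⟶ Y) [Epi f] : img f ⊤ = ⊤ := by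
  rw [img_top, imageSubobject_eq_top_of_epi]

lemma img_id (S : Subobject X) : img (𝟙 X) S = S := by
  unfold img
  have h : S.arrow ≫ 𝟙 X = S.arrow := Category.comp_id _
  haveI : Mono (S.arrow ≫ 𝟙 X) := by rw [h]; infer_instance
  rw [imageSubobject_mono]
  simp only [h, Subobject.mk_arrow]

/-- `img f (f⁻¹ T) = T ⊓ im f`. -/
lemma img_pullback (f : X ⟶ Y) (T : Subobject Y) :
    img f ((Subobject.pullback f).obj T) ≤ T ⊓ imageSubobject f :=
  le_inf ((img_le_iff f _ T).2 le_rfl) (img_le_image f _)

end Groth.Agent.Lib.Helper1.SubImg
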