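import Mathlib
import Groth.Prelude.Def_SpSeq
import Groth.Agent.Lib.Helper1.SubImg
open CategoryTheory CategoryTheory.Limits
universe v u
/-! Finite filtrations: SpSeq.FilObj / FilCx convergence in the finite case (helper1). -/
set_option autoImplicit false
set_option linter.unusedVariables false
set_option linter.style.haveILetI false
namespace Groth.Agent.Lib.Helper1.FilFin
open SpSeq Groth.Agent.Lib.Helper1.SubImg

variable {A : Type u} [Category.{v} A] [Abelian A]

lemma isZero_subquot {X : A} (Z B : Subobject X) (h : B ≤ Z) (h' : Z ≤ B) :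
    IsZero (subquot Z B h) := by
  haveI : IsIso (B.ofLE Z h) :=
    ⟨Z.ofLE B h', by rw [Subobject.ofLE_comp_ofLE, Subobject.ofLE_refl],
      by rw [Subobject.ofLE_comp_ofLE, Subobject.ofLE_refl]⟩
  exact isZero_cokernel_of_epi _

lemma pullback_bot {X Y : A} (f : X ⟶ Y) :
    (Subobject.pullback f).obj ⊥ = kernelSubobject f := by
  apply le_antisymm
  · apply le_kernelSubobject
    have h1 : ((Subobject.pullback f).obj ⊥).Factors ((Subobject.pullback f).obj ⊥).arrow :=
      Subobject.factors_self _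
    rw [Limits.pullback_factors_iff, Subobject.bot_factors_iff_zero] at h1
    exact h1
  · exact SpSeq.FilCx.kernelSubobject_le_pullback f ⊥

lemma imageSubobject_eq_bot_of_eq_zero {X Y : A} (f : X ⟶ Y) (h : f = 0) :
    imageSubobject f = ⊥ := by
  subst h; exact imageSubobject_zero

lemma arrow_eq_zero_of_eq_bot {X : A} {S : Subobject X} (h : S = ⊥) : S.arrow = 0 := by
  subst h; exact Subobject.bot_arrow

/-- a filtered object -/
lemma fil_eq_top_of_le (K : FilObj A) {a p : ℤ} (ha : K.fil a = ⊤) (hp : p ≤ a) : K.fil p = ⊤ :=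
  top_le_iff.1 (ha ▸ K.anti hp)

lemma fil_eq_bot_of_le (K : FilObj A) {b p : ℤ} (hb : K.fil b = ⊥) (hp : b ≤ p) : K.fil p = ⊥ :=
  le_bot_iff.1 (hb ▸ K.anti hp)

lemma isSeparated_of_bot (K : FilObj A) {b : ℤ} (hb : K.fil b = ⊥) : K.IsSeparated := by
  constructor
  · rintro _ ⟨p, rfl⟩; exact bot_le
  · intro S hS
    exact hb ▸ hS ⟨b, rfl⟩

lemma isExhaustive_of_top (K : FilObj A) {a : ℤ} (ha : K.fil a = ⊤) : K.IsExhaustive := by
  constructor
  · rintro _ ⟨p, rfl⟩; exact le_top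
  · intro S hS
    exact ha ▸ hS ⟨a, rfl⟩

lemma quotMap_π (K : FilObj A) {p q : ℤ} (h : p ≤ q) :
    cokernel.π (K.fil q).arrow ≫ K.quotMap h = cokernel.π (K.fil p).arrow := by
  unfold FilObj.quotMap
  exact cokernel.π_desc _ _ _

lemma isComplete_of_bot (K : FilObj A) {b : ℤ} (hb : K.fil b = ⊥) : K.IsComplete := by
  intro T f hf
  have hiso : ∀ p, b ≤ p → IsIso (cokernel.π (K.fil p).arrow) := fun p hp =>
    cokernel.π_of_zero (arrow_eq_zero_of_eq_bot (fil_eq_bot_of_le K hb hp))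
  haveI := hiso b le_rfl
  refine ⟨f b ≫ inv (cokernel.π (K.fil b).arrow), fun p => ?_⟩
  rcases le_total p b with hp | hp
  · rw [← hf p b hp, Category.assoc, ← quotMap_π K hp, IsIso.inv_hom_id_assoc]
  · haveI := hiso p hp
    rw [← hf b p hp, Category.assoc, Category.assoc]
    have h1 : K.quotMap hp = inv (cokernel.π (K.fil p).arrow) ≫ cokernel.π (K.fil b).arrow := by
      rw [IsIso.eq_inv_comp, quotMap_π]
    rw [h1, Category.assoc, IsIso.hom_inv_id_assoc, IsIso.inv_hom_id, Category.comp_id]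


section FilCx
variable (K : FilCx A)

lemma filX_eq_top_of_le {n a p : ℤ} (ha : K.filX a n = ⊤) (hp : p ≤ a) : K.filX p n = ⊤ :=
  top_le_iff.1 (ha ▸ K.filX_anti n hp)

lemma filX_eq_bot_of_le {n b p : ℤ} (hb : K.filX b n = ⊥) (hp : b ≤ p) : K.filX p n = ⊥ :=
  le_bot_iff.1 (hb ▸ K.filX_anti n hp)

lemma isIso_f_of_filX_top {p n : ℤ} (h : K.filX p n = ⊤) : IsIso ((K.fil p).arrow.f n) :=
  (Subobject.isIso_iff_mk_eq_top _).2 h

lemma filH_eq_top {p n : ℤ} (h₁ : K.filX p (n - 1) = ⊤) (h₂ : K.filX p n = ⊤)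
    (h₃ : K.filX p (n + 1) = ⊤) : K.filH p n = ⊤ := by
  unfold FilCx.filH
  haveI i₁ := isIso_f_of_filX_top K h₁
  haveI i₂ := isIso_f_of_filX_top K h₂
  haveI i₃ := isIso_f_of_filX_top K h₃
  haveI : IsIso (HomologicalComplex.homologyMap (K.fil p).arrow n) := by
    unfold HomologicalComplex.homologyMap
    apply ShortComplex.isIso_homologyMap_of_epi_of_isIso_of_mono'
    · change Epi ((K.fil p).arrow.f ((ComplexShape.up ℤ).prev n))
      rw [CochainComplex.prev]; infer_instance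
    · exact i₂
    · change Mono ((K.fil p).arrow.f ((ComplexShape.up ℤ).next n))
      rw [CochainComplex.next]; infer_instance
  exact imageSubobject_eq_top_of_epi _

lemma filH_eq_bot {p n : ℤ} (h : K.filX p n = ⊥) : K.filH p n = ⊥ := by
  unfold FilCx.filH
  have h0 : (K.fil p).arrow.f n = 0 := Subobject.mk_eq_bot_iff_zero.1 h
  have hz : IsZero ((K.fil p : CochainComplex A ℤ).X n) := IsZero.of_mono_eq_zero _ h0
  have hz' : IsZero ((K.fil p : CochainComplex A ℤ).homology n) :=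
    ShortComplex.isZero_homology_of_isZero_X₂ _ hz
  exact imageSubobject_eq_bot_of_eq_zero _ (hz'.eq_of_src _ 0)


lemma BSub_eq (r : ℕ) (p n : ℤ) : K.BSub r p n =
    (K.filX p n ⊓ img (K.obj.d (n - 1) n) (K.filX (p - r + 1) (n - 1))) ⊔ K.filX (p + 1) n := rfl

theorem finite_main (hK : ∀ n : ℤ, (K.XFil n).IsFinite) :
    K.IsBounded 0 ∧ (∀ n : ℤ, (K.HFil n).IsFinite) ∧ K.Converges := by
  have hTop : ∀ n, ∃ a, ∀ p, p ≤ a → K.filX p n = ⊤ := fun n => by
    obtain ⟨⟨a, ha⟩, _⟩ := hK n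
    exact ⟨a, fun p hp => filX_eq_top_of_le K ha hp⟩
  have hBot : ∀ n, ∃ b, ∀ p, b ≤ p → K.filX p n = ⊥ := fun n => by
    obtain ⟨_, ⟨b, hb⟩⟩ := hK n
    exact ⟨b, fun p hp => filX_eq_bot_of_le K hb hp⟩
  have hH : ∀ n, (K.HFil n).IsFinite := by
    intro n
    obtain ⟨a₁, h₁⟩ := hTop (n - 1)
    obtain ⟨a₂, h₂⟩ := hTop n
    obtain ⟨a₃, h₃⟩ := hTop (n + 1)
    obtain ⟨b, hb⟩ := hBot n
    exact ⟨⟨min a₁ (min a₂ a₃), filH_eq_top K (h₁ _ (min_le_left _ _))
      (h₂ _ ((min_le_right _ _).trans (min_le_left _ _)))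
      (h₃ _ ((min_le_right _ _).trans (min_le_right _ _)))⟩, ⟨b, filH_eq_bot K (hb b le_rfl)⟩⟩
  refine ⟨?_, hH, ?_, ⟨?_, ?_⟩, ?_⟩
  · -- bounded
    intro n
    obtain ⟨a, ha⟩ := hTop n
    obtain ⟨b, hb⟩ := hBot n
    apply (Set.finite_Ico a b).subset
    intro p hp
    simp only [Set.mem_setOf_eq] at hp
    by_contra hnot
    apply hp
    rw [Set.mem_Ico, not_and_or, not_le, not_lt] at hnot
    rcases hnot with h | h
    · apply isZero_subquot
      unfold FilCx.BSub
      rw [ha (p + 1) (by omega), sup_top_eq]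
      exact le_top
    · apply isZero_subquot
      unfold FilCx.ZSub
      rw [hb p h, hb (p + 1) (by omega), bot_inf_eq, sup_bot_eq]
      exact bot_le
  · -- regular
    intro p n
    obtain ⟨b, hb⟩ := hBot (n + 1)
    refine ⟨(b - p).toNat, fun r hr => ?_⟩
    unfold FilCx.ZSub
    rw [hb (p + r) (by omega), hb (p + ((b - p).toNat : ℕ)) (by omega)]
  · -- weakly converges
    intro p n
    constructor
    · obtain ⟨b, hb⟩ := hBot (n + 1)
      constructor
      · rintro _ ⟨r, rfl⟩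
        exact sup_le_sup_right (inf_le_inf_left _ (FilCx.kernelSubobject_le_pullback _ _)) _
      · intro S hS
        have := hS ⟨(b - p).toNat, rfl⟩
        simp only at this
        unfold FilCx.ZSub at this
        rw [hb _ (by omega), pullback_bot] at this
        exact this
    · obtain ⟨a, ha⟩ := hTop (n - 1)
      constructor
      · rintro _ ⟨r, rfl⟩
        exact sup_le_sup_right (inf_le_inf_left _ (imageSubobject_comp_le _ _)) _
      · intro S hS
        have := hS ⟨(p + 1 - a).toNat, rfl⟩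
        simp only at this
        rw [BSub_eq, ha _ (by omega), img_top] at this
        exact this
  · intro n
    obtain ⟨⟨a, ha⟩, ⟨b, hb⟩⟩ := hH n
    exact ⟨isSeparated_of_bot _ hb, isExhaustive_of_top _ ha⟩
  · intro n
    obtain ⟨_, ⟨b, hb⟩⟩ := hH n
    exact isComplete_of_bot _ hb

end FilCx

end Groth.Agent.Lib.Helper1.FilFin
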