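import Mathlib
import Groth.Prelude.Def_SpSeq
import Groth.Agent.Lib.Helper1.SubImg
open CategoryTheory CategoryTheory.Limits
universe v u
/-! Pullbacks of filtered objects (SpSeq.FilObj) and strictness (helper1). -/
set_option autoImplicit false
set_option linter.unusedVariables false
set_option linter.style.haveILetI false
namespace Groth.Agent.Lib.Helper1.FilPB
open SpSeq Groth.Agent.Lib.Helper1.SubImg

variable {A : Type u} [Category.{v} A] [Abelian A]

/-- `S ≤ T` can be tested on an epimorphic cover of `S`. -/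
lemma le_of_epi_fac {X : A} {S T : Subobject X} {Z : A} (q : Z ⟶ (S : A)) [Epi q] (h : Z ⟶ (T : A))
    (w : q ≫ S.arrow = h ≫ T.arrow) : S ≤ T := by
  haveI : StrongEpi q := strongEpi_of_epi q
  have sq : CommSq h q T.arrow S.arrow := ⟨w.symm⟩
  exact Subobject.le_of_comm sq.lift sq.fac_right

variable {K L M : FilObj A} (f : L ⟶ K) (g : M ⟶ K)

/-- pullback filtered object -/
noncomputable def pb : FilObj A where
  obj := pullback f.hom g.hom
  fil p := (Subobject.pullback (pullback.fst f.hom g.hom)).obj (L.fil p) ⊓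
    (Subobject.pullback (pullback.snd f.hom g.hom)).obj (M.fil p)
  anti := fun p q h => inf_le_inf ((Subobject.pullback _).monotone (L.anti h))
    ((Subobject.pullback _).monotone (M.anti h))

noncomputable def pbFst : pb f g ⟶ L := ⟨pullback.fst _ _, fun p => inf_le_left⟩
noncomputable def pbSnd : pb f g ⟶ M := ⟨pullback.snd _ _, fun p => inf_le_right⟩

lemma comp_hom {K L M : FilObj A} (a : K ⟶ L) (b : L ⟶ M) : (a ≫ b).hom = a.hom ≫ b.hom := rfl

lemma pb_condition : pbFst f g ≫ f = pbSnd f g ≫ g := FilObj.Hom.ext pullback.condition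

noncomputable def pbIsLimit :
    IsLimit (PullbackCone.mk (pbFst f g) (pbSnd f g) (pb_condition f g)) :=
  PullbackCone.IsLimit.mk _
    (fun s => ⟨pullback.lift s.fst.hom s.snd.hom (congrArg FilObj.Hom.hom s.condition), fun p => by
        change _ ≤ (Subobject.pullback _).obj ((Subobject.pullback (pullback.fst f.hom g.hom)).obj (L.fil p) ⊓
          (Subobject.pullback (pullback.snd f.hom g.hom)).obj (M.fil p))
        rw [Subobject.inf_pullback, ← Subobject.pullback_comp, ← Subobject.pullback_comp,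
          pullback.lift_fst, pullback.lift_snd]
        exact le_inf (s.fst.compat p) (s.snd.compat p)⟩)
    (fun s => FilObj.Hom.ext (pullback.lift_fst _ _ _))
    (fun s => FilObj.Hom.ext (pullback.lift_snd _ _ _))
    (fun s m h₁ h₂ => FilObj.Hom.ext (pullback.hom_ext
      (by
        have := congrArg FilObj.Hom.hom h₁
        rw [comp_hom] at this
        rw [pullback.lift_fst]; exact this)
      (by
        have := congrArg FilObj.Hom.hom h₂
        rw [comp_hom] at this
        rw [pullback.lift_snd]; exact this)))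

lemma isPullback_pb : IsPullback (pbFst f g) (pbSnd f g) f g :=
  IsPullback.of_isLimit (pbIsLimit f g)


lemma isStrict_pbSnd (hf : FilObj.IsStrict f) : FilObj.IsStrict (pbSnd f g) := by
  intro p
  set π₁ := pullback.fst f.hom g.hom with hπ₁
  set π₂ := pullback.snd f.hom g.hom with hπ₂
  set Fp : Subobject (pullback f.hom g.hom) :=
    (Subobject.pullback π₁).obj (L.fil p) ⊓ (Subobject.pullback π₂).obj (M.fil p) with hFp
  change img π₂ Fp = imageSubobject π₂ ⊓ M.fil p
  apply le_antisymm
  · exact le_inf (img_le_image _ _) ((img_le_iff _ _ _).2 inf_le_right)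
  · set S := imageSubobject π₂ ⊓ M.fil p with hS
    -- Step 1: a cover of `S` lifting to the pullback
    let e₂ := factorThruImageSubobject π₂
    let j : (S : A) ⟶ (imageSubobject π₂ : A) := S.ofLE _ inf_le_left
    let z₁ : pullback e₂ j ⟶ pullback f.hom g.hom := pullback.fst e₂ j
    let q₁ : pullback e₂ j ⟶ (S : A) := pullback.snd e₂ j
    haveI : Epi q₁ := Abelian.epi_pullback_of_epi_f e₂ j
    have hz₁ : z₁ ≫ π₂ = q₁ ≫ S.arrow := by
      have hc : z₁ ≫ e₂ = q₁ ≫ j := pullback.condition
      calc z₁ ≫ π₂ = z₁ ≫ e₂ ≫ (imageSubobject π₂).arrow := by rw [imageSubobject_arrow_comp]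
        _ = q₁ ≫ j ≫ (imageSubobject π₂).arrow := by rw [← Category.assoc, hc, Category.assoc]
        _ = q₁ ≫ S.arrow := by rw [Subobject.ofLE_arrow]
    -- Step 2: `z₁ ≫ π₁ ≫ f` factors through the image of `F^p L`
    have hcond : π₁ ≫ f.hom = π₂ ≫ g.hom := pullback.condition
    have hI : (imageSubobject ((L.fil p).arrow ≫ f.hom)).Factors (z₁ ≫ π₁ ≫ f.hom) := by
      rw [hf p, Subobject.inf_factors]
      constructor
      · rw [← Category.assoc]
        exact imageSubobject_factors_comp_self f.hom (z₁ ≫ π₁)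
      · rw [hcond, ← Category.assoc, hz₁, Category.assoc]
        apply Subobject.factors_of_factors_right
        exact (Limits.pullback_factors_iff g.hom (K.fil p) S.arrow).1
          (Subobject.factors_of_le _ (inf_le_right.trans (g.compat p)) (Subobject.factors_self S))
    let k := (imageSubobject ((L.fil p).arrow ≫ f.hom)).factorThru _ hI
    have hk : k ≫ (imageSubobject ((L.fil p).arrow ≫ f.hom)).arrow = z₁ ≫ π₁ ≫ f.hom :=
      Subobject.factorThru_arrow _ _ hI
    -- Step 3: lift to `F^p L` after a further cover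
    let e₁ := factorThruImageSubobject ((L.fil p).arrow ≫ f.hom)
    let l' : pullback e₁ k ⟶ ((L.fil p : Subobject L.obj) : A) := pullback.fst e₁ k
    let q₂ : pullback e₁ k ⟶ pullback e₂ j := pullback.snd e₁ k
    haveI : Epi q₂ := Abelian.epi_pullback_of_epi_f e₁ k
    have hl' : l' ≫ (L.fil p).arrow ≫ f.hom = q₂ ≫ z₁ ≫ π₁ ≫ f.hom := by
      have hc : l' ≫ e₁ = q₂ ≫ k := pullback.condition
      calc l' ≫ (L.fil p).arrow ≫ f.hom
          = l' ≫ e₁ ≫ (imageSubobject ((L.fil p).arrow ≫ f.hom)).arrow := by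
            rw [imageSubobject_arrow_comp]
        _ = q₂ ≫ k ≫ (imageSubobject ((L.fil p).arrow ≫ f.hom)).arrow := by
            rw [← Category.assoc, hc, Category.assoc]
        _ = q₂ ≫ z₁ ≫ π₁ ≫ f.hom := by rw [hk]
    -- Step 4: the new element of the pullback
    have hx'c : (l' ≫ (L.fil p).arrow) ≫ f.hom = (q₂ ≫ q₁ ≫ S.arrow) ≫ g.hom := by
      rw [Category.assoc, hl', hcond, reassoc_of% hz₁]
      simp only [Category.assoc]
    let x' : pullback e₁ k ⟶ pullback f.hom g.hom :=
      pullback.lift (l' ≫ (L.fil p).arrow) (q₂ ≫ q₁ ≫ S.arrow) hx'c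
    have hx'F : Fp.Factors x' := by
      rw [hFp, Subobject.inf_factors, Limits.pullback_factors_iff, Limits.pullback_factors_iff]
      constructor
      · rw [show x' ≫ π₁ = l' ≫ (L.fil p).arrow from pullback.lift_fst _ _ _]
        exact Subobject.factors_comp_arrow _
      · rw [show x' ≫ π₂ = q₂ ≫ q₁ ≫ S.arrow from pullback.lift_snd _ _ _]
        apply Subobject.factors_of_factors_right
        apply Subobject.factors_of_factors_right
        exact Subobject.factors_of_le _ inf_le_right (Subobject.factors_self _)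
    let x'' := Fp.factorThru x' hx'F
    have hx'' : x'' ≫ Fp.arrow = x' := Subobject.factorThru_arrow _ _ hx'F
    -- Step 5: conclude
    have e5 : factorThruImageSubobject (Fp.arrow ≫ π₂) ≫
        (imageSubobject (Fp.arrow ≫ π₂)).arrow = Fp.arrow ≫ π₂ :=
      imageSubobject_arrow_comp _
    change S ≤ imageSubobject (Fp.arrow ≫ π₂)
    refine le_of_epi_fac (q₂ ≫ q₁) (x'' ≫ factorThruImageSubobject (Fp.arrow ≫ π₂)) ?_
    rw [Category.assoc, Category.assoc, e5, reassoc_of% hx'',
      show x' ≫ π₂ = q₂ ≫ q₁ ≫ S.arrow from pullback.lift_snd _ _ _]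


lemma isStrict_of_iso {P Q : FilObj A} (e : P ≅ Q) : FilObj.IsStrict e.hom := by
  intro p
  change img e.hom.hom (P.fil p) = imageSubobject e.hom.hom ⊓ Q.fil p
  haveI : IsIso e.hom.hom :=
    ⟨e.inv.hom, congrArg FilObj.Hom.hom e.hom_inv_id, congrArg FilObj.Hom.hom e.inv_hom_id⟩
  rw [imageSubobject_eq_top_of_epi, top_inf_eq]
  apply le_antisymm
  · exact (img_le_iff _ _ _).2 (e.hom.compat p)
  · have h1 : img e.inv.hom (Q.fil p) ≤ P.fil p := (img_le_iff _ _ _).2 (e.inv.compat p)
    have h2 := img_mono e.hom.hom h1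
    rw [← img_comp] at h2
    have : e.inv.hom ≫ e.hom.hom = 𝟙 _ := congrArg FilObj.Hom.hom e.inv_hom_id
    rw [this, img_id] at h2
    exact h2

lemma epi_hom_of_iso {P Q : FilObj A} (e : P ≅ Q) : Epi e.hom.hom := by
  haveI : IsIso e.hom.hom :=
    ⟨e.inv.hom, congrArg FilObj.Hom.hom e.hom_inv_id, congrArg FilObj.Hom.hom e.inv_hom_id⟩
  infer_instance

end Groth.Agent.Lib.Helper1.FilPB
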