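import Mathlib
import Groth.Prelude.Def_SpSeq
import Groth.Agent.Lib.Helper1.FilPB
open CategoryTheory CategoryTheory.Limits
universe v u
/-! Pushouts of filtered objects (SpSeq.FilObj), refinement lemmas, strictness (helper1). -/
set_option autoImplicit false
set_option linter.unusedVariables false
set_option linter.style.haveILetI false
namespace Groth.Agent.Lib.Helper1.FilPO
open SpSeq Groth.Agent.Lib.Helper1.SubImg Groth.Agent.Lib.Helper1.FilPB

variable {A : Type u} [Category.{v} A] [Abelian A]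

/-- refinement: a map factoring through `imageSubobject φ` lifts along `φ` after a cover. -/
lemma refine_image {X Y W : A} (φ : X ⟶ Y) (y : W ⟶ Y) (hy : (imageSubobject φ).Factors y) :
    ∃ (W' : A) (π : W' ⟶ W) (_ : Epi π) (x : W' ⟶ X), π ≫ y = x ≫ φ := by
  obtain ⟨W', π, hπ, x, hx⟩ := surjective_up_to_refinements_of_epi (factorThruImageSubobject φ)
    ((imageSubobject φ).factorThru y hy)
  refine ⟨W', π, hπ, x, ?_⟩
  have := congrArg (fun t => t ≫ (imageSubobject φ).arrow) hx
  simpa using this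

lemma sup_eq_image {X : A} (S T : Subobject X) :
    S ⊔ T = imageSubobject (biprod.desc S.arrow T.arrow) := by
  apply le_antisymm
  · apply sup_le
    · exact Subobject.le_of_comm (biprod.inl ≫ factorThruImageSubobject _) (by simp)
    · exact Subobject.le_of_comm (biprod.inr ≫ factorThruImageSubobject _) (by simp)
  · refine imageSubobject_le _ (biprod.desc (S.ofLE _ le_sup_left) (T.ofLE _ le_sup_right)) ?_
    apply biprod.hom_ext' <;> simp

/-- refinement for a supremum of subobjects -/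
lemma refine_sup {X W : A} (S T : Subobject X) (y : W ⟶ X) (hy : (S ⊔ T).Factors y) :
    ∃ (W' : A) (π : W' ⟶ W) (_ : Epi π) (a : W' ⟶ (S : A)) (b : W' ⟶ (T : A)),
      π ≫ y = a ≫ S.arrow + b ≫ T.arrow := by
  rw [sup_eq_image] at hy
  obtain ⟨W', π, hπ, c, hc⟩ := refine_image _ y hy
  refine ⟨W', π, hπ, c ≫ biprod.fst, c ≫ biprod.snd, ?_⟩
  rw [hc]
  have : biprod.desc S.arrow T.arrow = biprod.fst ≫ S.arrow + biprod.snd ≫ T.arrow := by
    apply biprod.hom_ext' <;> simp
  rw [this, Preadditive.comp_add, Category.assoc, Category.assoc]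

/-- exactness of the pushout sequence, up to refinement -/
lemma pushout_refine {X Y Z W : A} (f : X ⟶ Y) (g : X ⟶ Z) (l : W ⟶ Y) (n : W ⟶ Z)
    (h : l ≫ pushout.inl f g = n ≫ pushout.inr f g) :
    ∃ (W' : A) (π : W' ⟶ W) (_ : Epi π) (k : W' ⟶ X), π ≫ l = k ≫ f := by
  let S : ShortComplex A := ShortComplex.mk (biprod.lift f (-g))
    (Abelian.BiproductToPushoutIsCokernel.biproductToPushout f g) (by
      rw [biprod.lift_desc, Preadditive.neg_comp, pushout.condition, add_neg_cancel])
  have hS : S.Exact := ShortComplex.exact_of_g_is_cokernel S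
    (Abelian.BiproductToPushoutIsCokernel.isColimitBiproductToPushout f g)
  obtain ⟨W', π, hπ, k, hk⟩ := hS.exact_up_to_refinements (biprod.lift l (-n)) (by
    change biprod.lift l (-n) ≫ biprod.desc (pushout.inl f g) (pushout.inr f g) = 0
    rw [biprod.lift_desc, Preadditive.neg_comp, h, add_neg_cancel])
  refine ⟨W', π, hπ, k, ?_⟩
  have := congrArg (fun t => t ≫ biprod.fst) hk
  simpa [S] using this


variable {K L M : FilObj A} (f : K ⟶ L) (g : K ⟶ M)

/-- pushout filtered object -/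
noncomputable def po : FilObj A where
  obj := pushout f.hom g.hom
  fil p := img (pushout.inl f.hom g.hom) (L.fil p) ⊔ img (pushout.inr f.hom g.hom) (M.fil p)
  anti := fun p q h => sup_le_sup (img_mono _ (L.anti h)) (img_mono _ (M.anti h))

noncomputable def poInl : L ⟶ po f g :=
  ⟨pushout.inl _ _, fun p => (img_le_iff _ _ _).1 le_sup_left⟩
noncomputable def poInr : M ⟶ po f g :=
  ⟨pushout.inr _ _, fun p => (img_le_iff _ _ _).1 le_sup_right⟩

lemma po_condition : f ≫ poInl f g = g ≫ poInr f g := FilObj.Hom.ext pushout.condition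

noncomputable def poIsColimit :
    IsColimit (PushoutCocone.mk (poInl f g) (poInr f g) (po_condition f g)) :=
  PushoutCocone.IsColimit.mk _
    (fun s => ⟨pushout.desc s.inl.hom s.inr.hom (congrArg FilObj.Hom.hom s.condition), fun p => by
        change img (pushout.inl f.hom g.hom) (L.fil p) ⊔ img (pushout.inr f.hom g.hom) (M.fil p) ≤ _
        refine (img_le_iff (pushout.desc s.inl.hom s.inr.hom
          (congrArg FilObj.Hom.hom s.condition)) _ _).1 ?_
        rw [img_sup, ← img_comp, ← img_comp, pushout.inl_desc, pushout.inr_desc]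
        exact sup_le ((img_le_iff _ _ _).2 (s.inl.compat p)) ((img_le_iff _ _ _).2 (s.inr.compat p))⟩)
    (fun s => FilObj.Hom.ext (pushout.inl_desc _ _ _))
    (fun s => FilObj.Hom.ext (pushout.inr_desc _ _ _))
    (fun s m h₁ h₂ => FilObj.Hom.ext (pushout.hom_ext
      (by
        have := congrArg FilObj.Hom.hom h₁
        rw [comp_hom] at this
        rw [pushout.inl_desc]; exact this)
      (by
        have := congrArg FilObj.Hom.hom h₂
        rw [comp_hom] at this
        rw [pushout.inr_desc]; exact this)))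

lemma isPushout_po : IsPushout f g (poInl f g) (poInr f g) :=
  IsPushout.of_isColimit (poIsColimit f g)

lemma isStrict_poInr (hf : FilObj.IsStrict f) : FilObj.IsStrict (poInr f g) := by
  intro p
  set ι₁ := pushout.inl f.hom g.hom with hι₁
  set ι₂ := pushout.inr f.hom g.hom with hι₂
  set Fp : Subobject (pushout f.hom g.hom) := img ι₁ (L.fil p) ⊔ img ι₂ (M.fil p) with hFp
  change img ι₂ (M.fil p) = imageSubobject ι₂ ⊓ Fp
  apply le_antisymm
  · exact le_inf (img_le_image _ _) le_sup_right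
  · set S := imageSubobject ι₂ ⊓ Fp with hS
    -- (a) lift to `M`
    obtain ⟨W₁, p₁, hp₁, m, E1⟩ := refine_image ι₂ S.arrow
      (Subobject.factors_of_le _ inf_le_left (Subobject.factors_self S))
    -- (b) decompose in the supremum
    obtain ⟨W₂, p₂, hp₂, a, b, E2⟩ := refine_sup (img ι₁ (L.fil p)) (img ι₂ (M.fil p))
      (p₁ ≫ S.arrow) (Subobject.factors_of_factors_right _
        (Subobject.factors_of_le _ inf_le_right (Subobject.factors_self S)))
    obtain ⟨W₃, p₃, hp₃, l, E3⟩ := refine_image ((L.fil p).arrow ≫ ι₁)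
      (a ≫ (img ι₁ (L.fil p)).arrow) (Subobject.factors_comp_arrow a)
    obtain ⟨W₄, p₄, hp₄, m', E4⟩ := refine_image ((M.fil p).arrow ≫ ι₂)
      (p₃ ≫ b ≫ (img ι₂ (M.fil p)).arrow)
      (Subobject.factors_of_factors_right _ (Subobject.factors_comp_arrow b))
    -- on `W₄`
    have E5 : (p₄ ≫ p₃ ≫ p₂ ≫ p₁) ≫ S.arrow =
        (p₄ ≫ l) ≫ (L.fil p).arrow ≫ ι₁ + m' ≫ (M.fil p).arrow ≫ ι₂ := by
      simp only [Category.assoc]
      rw [E2, Preadditive.comp_add, Preadditive.comp_add, E4, E3]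
    have E6 : ((p₄ ≫ l) ≫ (L.fil p).arrow) ≫ ι₁ =
        ((p₄ ≫ p₃ ≫ p₂) ≫ m - m' ≫ (M.fil p).arrow) ≫ ι₂ := by
      rw [Preadditive.sub_comp, eq_sub_iff_add_eq]
      simp only [Category.assoc] at E5 ⊢
      rw [← E5, E1]
    -- (c) exactness of the pushout sequence
    obtain ⟨W₅, p₅, hp₅, k, E7⟩ := pushout_refine f.hom g.hom _ _ E6
    -- (d) strictness of `f`
    have hk : (imageSubobject ((K.fil p).arrow ≫ f.hom)).Factors (k ≫ f.hom) := by
      rw [hf p, Subobject.inf_factors]
      refine ⟨imageSubobject_factors_comp_self f.hom k, ?_⟩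
      rw [← E7, ← Category.assoc]
      exact Subobject.factors_comp_arrow _
    obtain ⟨W₆, p₆, hp₆, k', E8⟩ := refine_image _ _ hk
    -- the map `F^p K ⟶ F^p M` induced by `g`
    have hgF : (M.fil p).Factors ((K.fil p).arrow ≫ g.hom) :=
      (Limits.pullback_factors_iff g.hom (M.fil p) (K.fil p).arrow).1
        (Subobject.factors_of_le _ (g.compat p) (Subobject.factors_self _))
    let gK := (M.fil p).factorThru _ hgF
    have hgK : gK ≫ (M.fil p).arrow = (K.fil p).arrow ≫ g.hom := Subobject.factorThru_arrow _ _ hgF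
    have hcond : f.hom ≫ ι₁ = g.hom ≫ ι₂ := pushout.condition
    -- conclusion
    change S ≤ imageSubobject ((M.fil p).arrow ≫ ι₂)
    have e9 : factorThruImageSubobject ((M.fil p).arrow ≫ ι₂) ≫
        (imageSubobject ((M.fil p).arrow ≫ ι₂)).arrow = (M.fil p).arrow ≫ ι₂ :=
      imageSubobject_arrow_comp _
    haveI : Epi (p₆ ≫ p₅ ≫ p₄ ≫ p₃ ≫ p₂ ≫ p₁) := by
      repeat apply epi_comp
    refine le_of_epi_fac (p₆ ≫ p₅ ≫ p₄ ≫ p₃ ≫ p₂ ≫ p₁)
      (((p₆ ≫ p₅) ≫ m' + k' ≫ gK) ≫ factorThruImageSubobject ((M.fil p).arrow ≫ ι₂)) ?_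
    refine Eq.trans ?_ ((Category.assoc _ _ _).trans (congrArg _ e9)).symm
    rw [Preadditive.add_comp]
    have h1 : (k' ≫ gK) ≫ (M.fil p).arrow ≫ ι₂ = (p₆ ≫ p₅) ≫ (p₄ ≫ l) ≫ (L.fil p).arrow ≫ ι₁ := by
      rw [Category.assoc, reassoc_of% hgK, ← hcond]
      simp only [Category.assoc] at E8 E7 ⊢
      rw [← reassoc_of% E8, ← reassoc_of% E7]
    rw [h1]
    simp only [Category.assoc] at E5 ⊢
    rw [E5, Preadditive.comp_add, Preadditive.comp_add, add_comm]


lemma mono_hom_of_iso {P Q : FilObj A} (e : P ≅ Q) : Mono e.hom.hom := by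
  haveI : IsIso e.hom.hom :=
    ⟨e.inv.hom, congrArg FilObj.Hom.hom e.hom_inv_id, congrArg FilObj.Hom.hom e.inv_hom_id⟩
  infer_instance

end Groth.Agent.Lib.Helper1.FilPO
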