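import Mathlib
import Groth.Prelude
import Groth.Agent.Lib.Helper17.TensorSec
import Groth.Agent.Lib.Helper17.PbStalk
import Groth.Agent.Lib.Helper13.BaseChangeVanish
import Groth.Agent.S0019
import Groth.Agent.Lib.Helper26.AffProj
import Groth.Agent.Lib.Helper23.T2A

/-!
# Cohomologically `d`-ample sequences pull back along finite morphisms (S13535)

Assembly of landed S0019 (finite pushforward of coherent is coherent), helper13's
`nonempty_HH_equiv_push` (cohomology along an affine morphism) and helper26's projection formula for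
affine morphisms `AffProj.isIso_projHom_of_isAffineHom`.
-/

set_option autoImplicit false
universe u
open CategoryTheory CategoryTheory.Limits AlgebraicGeometry

namespace Groth.Agent.Lib.Helper1.FinPullAmple

/-- projection formula for an affine morphism and quasi-coherent modules (helper26's `AffProj`). -/
theorem nonempty_iso_push_tensor_pullback {X Y : Scheme.{u}} (f : Y ⟶ X) [IsAffineHom f]
    (F : Y.Modules) (E : X.Modules) [F.IsQuasicoherent] [E.IsQuasicoherent] :
    Nonempty ((Scheme.Modules.pushforward f).obj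
        (CohB1.tensorMod F ((Scheme.Modules.pullback f).obj E)) ≅
      CohB1.tensorMod ((Scheme.Modules.pushforward f).obj F) E) := by
  haveI := Groth.Agent.Lib.Helper26.AffProj.isIso_projHom_of_isAffineHom f F E
  exact ⟨(asIso (Groth.Agent.Lib.Helper2.Mon.projHom f F E)).symm⟩

theorem main (A : Type u) [CommRing A] [IsNoetherianRing A]
    {X Y : Scheme.{u}} (pX : X ⟶ Spec (CommRingCat.of A)) (pY : Y ⟶ Spec (CommRingCat.of A))
    [IsProper pX] [IsProper pY] (f : Y ⟶ X) (hf : f ≫ pX = pY) [IsFinite f]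
    (d : ℕ) (hd : 0 < d) (E : ℕ → X.Modules) (hE : ∀ n, Coh.IsCoh (E n))
    (hamp : ∀ F : X.Modules, Coh.IsCoh F → ∃ n₀ : ℕ, ∀ n : ℕ, n₀ ≤ n → ∀ i : ℕ, d + 1 ≤ i →
        Subsingleton (Coh.HH X (CohB1.tensorMod F (E n)) i)) :
    ∀ F : Y.Modules, Coh.IsCoh F → ∃ n₀ : ℕ, ∀ n : ℕ, n₀ ≤ n → ∀ i : ℕ, d + 1 ≤ i →
        Subsingleton (Coh.HH Y (CohB1.tensorMod F ((Scheme.Modules.pullback f).obj (E n))) i) := by
  intro F hF
  haveI : IsLocallyNoetherian X := LocallyOfFiniteType.isLocallyNoetherian pX
  have hpush : Coh.IsCoh ((Scheme.Modules.pushforward f).obj F) := Groth.Agent.S0019.result f F hF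
  obtain ⟨n₀, hn₀⟩ := hamp _ hpush
  refine ⟨n₀, fun n hn i hi => ?_⟩
  haveI := hF.1
  haveI := (hE n).1
  haveI : ((Scheme.Modules.pullback f).obj (E n)).IsQuasicoherent :=
    Groth.Agent.Lib.Helper17.PbStalk.isQuasicoherent_pullback f (E n)
  haveI : (CohB1.tensorMod F ((Scheme.Modules.pullback f).obj (E n))).IsQuasicoherent :=
    Groth.Agent.Lib.Helper17.TensorSec.isQuasicoherent_tensorMod _ _
  obtain ⟨e1⟩ := Groth.Agent.Lib.Helper13.BaseChangeVanish.nonempty_HH_equiv_push f
    (CohB1.tensorMod F ((Scheme.Modules.pullback f).obj (E n))) i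
  obtain ⟨e2⟩ := nonempty_iso_push_tensor_pullback f F (E n)
  have h := hn₀ n hn i hi
  -- transport along e2 on cohomology
  have e3 : Coh.HH X ((Scheme.Modules.pushforward f).obj
      (CohB1.tensorMod F ((Scheme.Modules.pullback f).obj (E n)))) i ≃+
      Coh.HH X (CohB1.tensorMod ((Scheme.Modules.pushforward f).obj F) (E n)) i :=
    (Groth.Agent.Lib.Helper23.T2.HmapEquiv e2 i).toAddEquiv
  exact (e1.trans e3).toEquiv.subsingleton

end Groth.Agent.Lib.Helper1.FinPullAmple
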