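import Mathlib
import Groth.Agent.Lib.Helper4.Kunz
import Groth.Agent.Lib.Helper26.RegularNormal

/-!
# Finite injective local maps of regular local rings are flat (helper1)
-/

set_option autoImplicit false
universe u
open IsLocalRing TensorProduct

namespace Groth.Agent.Lib.Helper1.FinRegFlat

theorem flat_core {A B R S : Type u} [CommRing A] [CommRing B] [CommRing R] [CommRing S]
    [Algebra A B] [Module.Finite A B] [Algebra A R] [Algebra B S] [Algebra R S] [Algebra A S]
    [IsScalarTower A R S] [IsScalarTower A B S]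
    (q : Ideal B) [q.IsPrime] [IsLocalization.AtPrime S q]
    [IsRegularLocalRing R] [IsRegularLocalRing S] [IsLocalHom (algebraMap R S)]
    (hinj : Function.Injective (algebraMap R S)) : (algebraMap R S).Flat := by
  haveI : IsDomain R := Groth.Agent.Lib.Helper9.RegLocal.isDomain_of_isRegularLocalRing R
  haveI : IsDomain S := Groth.Agent.Lib.Helper9.RegLocal.isDomain_of_isRegularLocalRing S
  haveI : IsIntegrallyClosed R :=
    Groth.Agent.Lib.Helper26.RegularNormal.isIntegrallyClosed_of_isRegularLocalRing R
  haveI : IsNoetherianRing R := inferInstance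
  let ψ : R ⊗[A] B →ₐ[R] S :=
    Algebra.TensorProduct.lift (Algebra.ofId R S) (IsScalarTower.toAlgHom A B S)
      (fun _ _ => Commute.all _ _)
  let D : Subalgebra R S := ψ.range
  haveI : Module.Finite R D :=
    Module.Finite.of_surjective ψ.rangeRestrict.toLinearMap ψ.rangeRestrict_surjective
  haveI : Algebra.IsIntegral R D := Algebra.IsIntegral.of_finite R D
  haveI : IsNoetherianRing D := IsNoetherianRing.of_finite R D
  have hDinj : Function.Injective (algebraMap D S) := Subtype.val_injective
  haveI : FaithfulSMul R D := by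
    rw [faithfulSMul_iff_algebraMap_injective]
    intro a b hab
    apply hinj
    have := congrArg (algebraMap D S) hab
    rwa [← IsScalarTower.algebraMap_apply, ← IsScalarTower.algebraMap_apply] at this
  haveI : Algebra.HasGoingDown R D := inferInstance
  let Q : Ideal D := (maximalIdeal S).comap (algebraMap D S)
  haveI hQp : Q.IsPrime := Ideal.comap_isPrime _ _
  have hmemB : ∀ b : B, algebraMap B S b ∈ D := by
    intro b
    refine ⟨(1 : R) ⊗ₜ[A] b, ?_⟩
    simp [ψ]
  -- S is the localization of D at Q
  haveI hloc : IsLocalization.AtPrime S Q := by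
    refine ⟨?_, ?_, ?_⟩
    · rintro ⟨d, hd⟩
      have : algebraMap D S d ∉ maximalIdeal S := fun h => hd h
      simpa [mem_maximalIdeal, mem_nonunits_iff] using this
    · intro s
      obtain ⟨⟨b, t⟩, hbt⟩ := IsLocalization.surj q.primeCompl s
      have htu : IsUnit (algebraMap B S t) := IsLocalization.map_units S t
      refine ⟨⟨⟨algebraMap B S b, hmemB b⟩, ⟨⟨algebraMap B S t, hmemB t⟩, ?_⟩⟩, hbt⟩
      show (⟨algebraMap B S t, hmemB t⟩ : D) ∉ Q
      intro h
      have h' : algebraMap B S t ∈ maximalIdeal S := h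
      exact (mem_maximalIdeal _).mp h' htu
    · intro x y hxy
      exact ⟨1, by rw [hDinj hxy]⟩
  haveI hlies : Q.LiesOver (maximalIdeal R) := by
    constructor
    show maximalIdeal R = (Q.comap (algebraMap R D))
    rw [Ideal.comap_comap, ← IsScalarTower.algebraMap_eq]
    have h04 : (maximalIdeal S).comap (algebraMap R S) = maximalIdeal R :=
      ((local_hom_TFAE (algebraMap R S)).out 0 4).mp ‹IsLocalHom (algebraMap R S)›
    exact h04.symm
  let I : Ideal D := (maximalIdeal R).map (algebraMap R D)
  have hmax : ∀ J : Ideal D, J.IsPrime → I ≤ J → J.IsMaximal := by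
    intro J hJ hIJ
    have hc : J.comap (algebraMap R D) = maximalIdeal R := by
      have := Ideal.map_le_iff_le_comap.mp hIJ
      exact ((maximalIdeal.isMaximal R).eq_of_le (Ideal.comap_ne_top _ hJ.ne_top) this).symm
    exact Ideal.isMaximal_of_isIntegral_of_isMaximal_comap J (hc ▸ maximalIdeal.isMaximal R)
  have hIQ : I ≤ Q := Ideal.map_le_iff_le_comap.mpr hlies.over.le
  have h0 : Ring.KrullDimLE 0 (D ⧸ I) := by
    rw [Ideal.krullDimLE_zero_quotient_iff_forall_minimalPrimes_isMaximal]
    intro J hJ
    exact hmax J hJ.1.1 hJ.1.2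
  have hht : Q.height = (maximalIdeal R).height := by
    rw [Ideal.height_eq_height_add_of_liesOver_of_hasGoingDown (maximalIdeal R) Q]
    have hne : Q.map (Ideal.Quotient.mk I) ≠ ⊤ := by
      intro h
      have h2 := congrArg (Ideal.comap (Ideal.Quotient.mk I)) h
      rw [Ideal.comap_map_of_surjective _ Ideal.Quotient.mk_surjective, Ideal.comap_top,
        ← RingHom.ker_eq_comap_bot, Ideal.mk_ker, sup_eq_left.mpr hIQ] at h2
      exact hQp.ne_top h2
    have h1 : ((Q.map (Ideal.Quotient.mk I)).height : WithBot ℕ∞) ≤ 0 :=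
      (Ideal.height_le_ringKrullDim_of_ne_top hne).trans (Ring.krullDimLE_iff.mp h0)
    have h2 : (Q.map (Ideal.Quotient.mk I)).height = 0 := by
      have : (Q.map (Ideal.Quotient.mk I)).height ≤ 0 := by exact_mod_cast h1
      exact le_antisymm this bot_le
    show _ + (Q.map (Ideal.Quotient.mk I)).height = _
    rw [h2, add_zero]
  have hdim : ringKrullDim S = ringKrullDim R := by
    rw [IsLocalization.AtPrime.ringKrullDim_eq_height Q S, hht,
      IsLocalRing.maximalIdeal_height_eq_ringKrullDim]
  have hrad : maximalIdeal S ≤ ((maximalIdeal R).map (algebraMap R S)).radical := by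
    rw [Ideal.radical_eq_sInf]
    refine le_sInf ?_
    rintro P ⟨hP, hPp⟩
    haveI := hPp
    let P' : Ideal D := P.comap (algebraMap D S)
    haveI : P'.IsPrime := Ideal.comap_isPrime _ _
    have hIP' : I ≤ P' := by
      rw [Ideal.map_le_iff_le_comap, Ideal.comap_comap, ← IsScalarTower.algebraMap_eq]
      exact Ideal.map_le_iff_le_comap.mp hP
    have hP'max := hmax P' inferInstance hIP'
    have hP'Q : P' ≤ Q := Ideal.comap_mono (le_maximalIdeal hPp.ne_top)
    have hPQ : P' = Q := hP'max.eq_of_le hQp.ne_top hP'Q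
    have e1 : P = P'.map (algebraMap D S) := (IsLocalization.map_under Q.primeCompl S P).symm
    rw [e1, hPQ, IsLocalization.AtPrime.map_eq_maximalIdeal Q S]
  exact Groth.Agent.Lib.Helper4.Kunz.flat_of_regular (algebraMap R S) hdim hrad

end Groth.Agent.Lib.Helper1.FinRegFlat
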