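import Mathlib
import Groth.Agent.Lib.Helper1.FinRegFlat1
import Groth.Agent.Lib.Lead.CycPullGeo

/-!
# Finite morphisms of regular schemes with dominating components are flat (helper1)
-/

set_option autoImplicit false
universe u
open CategoryTheory AlgebraicGeometry IsLocalRing

namespace Groth.Agent.Lib.Helper1.FinRegFlat

open Groth.Agent.Lib.Lead.CycPull in
theorem stalkMap_injective {X Y : Scheme.{u}} (f : X ⟶ Y)
    (hY : ∀ y : Y, IsDomain (Y.presheaf.stalk y))
    (hdom : ∀ Z ∈ irreducibleComponents (X : Type u),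
      closure (f.base '' Z) ∈ irreducibleComponents (Y : Type u)) (x : X) :
    Function.Injective (f.stalkMap x).hom := by
  let Z : Set X := irreducibleComponent x
  have hZ : Z ∈ irreducibleComponents (X : Type u) := irreducibleComponent_mem_irreducibleComponents x
  have hxZ : x ∈ Z := mem_irreducibleComponent
  have hZc : IsClosed Z := isClosed_of_mem_irreducibleComponents Z hZ
  obtain ⟨ξ, hξ⟩ := QuasiSober.sober hZ.1 hZc
  have hξx : ξ ⤳ x := specializes_iff_mem_closure.mpr (hξ.def.symm ▸ hxZ)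
  have hηy : f.base ξ ⤳ f.base x := f.base.hom.map_specializes hξx
  have hW := hdom Z hZ
  have hWη : closure (f.base '' Z) = closure {f.base ξ} := by
    rw [← hξ.def, closure_image_closure f.continuous, Set.image_singleton]
  rw [hWη] at hW
  haveI := hY (f.base x)
  let Q0 : PrimeSpectrum (Y.presheaf.stalk (f.base x)) := ⟨⊥, Ideal.isPrime_bot⟩
  have h3 : Q0 ⤳ primeOf (f.base x) (f.base ξ) hηy :=
    (PrimeSpectrum.le_iff_specializes _ _).mp bot_le
  have h4 : Y.fromSpecStalk (f.base x) Q0 ⤳ f.base ξ := by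
    have := h3.map (Y.fromSpecStalk (f.base x)).continuous
    rwa [fromSpecStalk_primeOf] at this
  have h5 : f.base ξ ⤳ Y.fromSpecStalk (f.base x) Q0 := by
    rw [specializes_iff_closure_subset]
    exact hW.2 isIrreducible_singleton.closure (specializes_iff_closure_subset.mp h4)
  have h6 : Y.fromSpecStalk (f.base x) Q0 = f.base ξ := (h4.antisymm h5).eq
  have h7 : primeOf (f.base x) (f.base ξ) hηy = Q0 := by
    apply (Y.fromSpecStalk (f.base x)).isEmbedding.injective
    rw [fromSpecStalk_primeOf, h6]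
  rw [injective_iff_map_eq_zero]
  intro r hr
  have h8 := Scheme.Hom.stalkSpecializes_stalkMap_apply f ξ x hξx r
  rw [hr, map_zero] at h8
  have h9 : (Y.presheaf.stalkSpecializes hηy).hom r ∈ maximalIdeal (Y.presheaf.stalk (f.base ξ)) := by
    rw [mem_maximalIdeal, mem_nonunits_iff]
    intro hu
    have := hu.map (f.stalkMap ξ).hom
    rw [h8] at this
    exact not_isUnit_zero this
  have h10 : r ∈ (primeOf (f.base x) (f.base ξ) hηy).asIdeal := h9
  rw [h7] at h10
  exact h10

theorem flat_of_finite_regular {X Y : Scheme.{u}} (f : X ⟶ Y) [IsFinite f]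
    (hX : ∀ x : X, IsRegularLocalRing (X.presheaf.stalk x))
    (hY : ∀ y : Y, IsRegularLocalRing (Y.presheaf.stalk y))
    (hdom : ∀ Z ∈ irreducibleComponents (X : Type u),
      closure (f.base '' Z) ∈ irreducibleComponents (Y : Type u)) :
    Flat f := by
  refine Flat.of_stalkMap f (fun x => ?_)
  have hinj := stalkMap_injective f
    (fun y => Groth.Agent.Lib.Helper9.RegLocal.isDomain_of_isRegularLocalRing _) hdom x
  obtain ⟨_, ⟨V, hV0, rfl⟩, hyV, -⟩ :=
    Y.isBasis_affineOpens.exists_subset_of_mem_open (Set.mem_univ (f.base x)) isOpen_univ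
  have hV : IsAffineOpen V := hV0
  have hU : IsAffineOpen (f ⁻¹ᵁ V) := hV.preimage f
  have hxU : x ∈ f ⁻¹ᵁ V := hyV
  letI : Algebra Γ(Y, V) Γ(X, f ⁻¹ᵁ V) := (f.app V).hom.toAlgebra
  haveI : Module.Finite Γ(Y, V) Γ(X, f ⁻¹ᵁ V) := IsFinite.finite_app f V hV
  letI : Algebra Γ(Y, V) (Y.presheaf.stalk (f.base x)) :=
    Y.presheaf.algebra_section_stalk ⟨f.base x, hyV⟩
  letI : Algebra Γ(X, f ⁻¹ᵁ V) (X.presheaf.stalk x) := X.presheaf.algebra_section_stalk ⟨x, hxU⟩
  letI : Algebra (Y.presheaf.stalk (f.base x)) (X.presheaf.stalk x) := (f.stalkMap x).hom.toAlgebra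
  letI : Algebra Γ(Y, V) (X.presheaf.stalk x) :=
    ((algebraMap Γ(X, f ⁻¹ᵁ V) (X.presheaf.stalk x)).comp
      (algebraMap Γ(Y, V) Γ(X, f ⁻¹ᵁ V))).toAlgebra
  haveI : IsScalarTower Γ(Y, V) Γ(X, f ⁻¹ᵁ V) (X.presheaf.stalk x) :=
    IsScalarTower.of_algebraMap_eq' rfl
  haveI : IsScalarTower Γ(Y, V) (Y.presheaf.stalk (f.base x)) (X.presheaf.stalk x) :=
    IsScalarTower.of_algebraMap_eq' (by
      ext s
      exact (congr($(Scheme.Hom.germ_stalkMap f V x hyV) s)).symm)
  haveI : IsLocalization.AtPrime (X.presheaf.stalk x) (hU.primeIdealOf ⟨x, hxU⟩).asIdeal :=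
    hU.isLocalization_stalk ⟨x, hxU⟩
  haveI : IsRegularLocalRing (Y.presheaf.stalk (f.base x)) := hY _
  haveI : IsRegularLocalRing (X.presheaf.stalk x) := hX _
  haveI : IsLocalHom (algebraMap (Y.presheaf.stalk (f.base x)) (X.presheaf.stalk x)) :=
    inferInstanceAs (IsLocalHom (f.stalkMap x).hom)
  exact flat_core (A := Γ(Y, V)) (B := Γ(X, f ⁻¹ᵁ V)) (hU.primeIdealOf ⟨x, hxU⟩).asIdeal hinj

end Groth.Agent.Lib.Helper1.FinRegFlat
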