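import Mathlib

open CategoryTheory Limits AlgebraicGeometry TopologicalSpace

namespace Groth.Agent.Lib.Helper1.FiniteAffine

universe u

/-- Prime avoidance: a finite set of points in an open of `Spec R` lies in a basic open
contained in that open. -/
lemma exists_basicOpen_of_finite {R : Type*} [CommRing R] (U : Set (PrimeSpectrum R))
    (hU : IsOpen U) (T : Finset (PrimeSpectrum R)) (hT : ∀ p ∈ T, p ∈ U) :
    ∃ r : R, (∀ p ∈ T, p ∈ PrimeSpectrum.basicOpen r) ∧
      (PrimeSpectrum.basicOpen r : Set (PrimeSpectrum R)) ⊆ U := by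
  classical
  rcases T.eq_empty_or_nonempty with rfl | ⟨p₀, hp₀⟩
  · exact ⟨0, by simp, by simp⟩
  obtain ⟨s, hs⟩ := (PrimeSpectrum.isClosed_iff_zeroLocus _).mp hU.isClosed_compl
  set I : Ideal R := Ideal.span s with hI
  have hUI : Uᶜ = PrimeSpectrum.zeroLocus (I : Set R) := by
    rw [hs, hI, PrimeSpectrum.zeroLocus_span]
  have h1 : ¬ ((I : Set R) ⊆ ⋃ p ∈ (T : Set (PrimeSpectrum R)), (p.asIdeal : Set R)) := by
    rw [Ideal.subset_union_prime (f := fun p : PrimeSpectrum R ↦ p.asIdeal)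
      p₀ p₀ (fun p _ _ _ ↦ p.2)]
    rintro ⟨p, hp, hIp⟩
    have : p ∈ Uᶜ := by
      rw [hUI]; exact hIp
    exact this (hT p hp)
  obtain ⟨r, hrI, hr⟩ := Set.not_subset.mp h1
  refine ⟨r, fun p hp ↦ ?_, fun q hq ↦ ?_⟩
  · intro hrp
    apply hr
    simp only [Set.mem_iUnion]
    exact ⟨p, hp, hrp⟩
  · by_contra hqU
    have : q ∈ PrimeSpectrum.zeroLocus (I : Set R) := hUI ▸ hqU
    exact hq (this hrI)


/-- In an affine scheme, a finite set of points in an open lies in a basic open contained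
in that open. -/
lemma exists_basicOpen_le_of_finite (N : Scheme.{u}) [IsAffine N] (U : N.Opens)
    (T : Finset N) (hT : ∀ x ∈ T, x ∈ U) :
    ∃ r : Γ(N, ⊤), (∀ x ∈ T, x ∈ N.basicOpen r) ∧ N.basicOpen r ≤ U := by
  classical
  let e := N.isoSpec
  let U' : (Spec Γ(N, ⊤)).Opens := e.inv ⁻¹ᵁ U
  obtain ⟨r, hr1, hr2⟩ := exists_basicOpen_of_finite (R := Γ(N, ⊤)) (SetLike.coe U') U'.2
    (T.image e.hom) (by
      intro p hp
      obtain ⟨x, hx, rfl⟩ := Finset.mem_image.mp hp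
      change e.inv (e.hom x) ∈ U
      simpa using hT x hx)
  refine ⟨r, fun x hx ↦ ?_, fun x hx ↦ ?_⟩
  · rw [← Scheme.toSpecΓ_preimage_basicOpen]
    exact hr1 _ (Finset.mem_image_of_mem _ hx)
  · rw [← Scheme.toSpecΓ_preimage_basicOpen] at hx
    have : e.hom x ∈ U' := hr2 hx
    change e.inv (e.hom x) ∈ U at this
    simpa using this


theorem exists_isAffineOpen_of_finite_of_locallyQuasiFinite {X Y : Scheme.{u}} (f : X ⟶ Y)
    [IsAffine Y] [IsSeparated f] [LocallyQuasiFinite f] [LocallyOfFiniteType f] (T : Finset X) :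
    ∃ U : X.Opens, IsAffineOpen U ∧ ∀ x ∈ T, x ∈ U := by
  classical
  -- a quasi-compact open containing `T`
  have h0 : ∀ x : X, ∃ V : X.Opens, IsAffineOpen V ∧ x ∈ V := by
    intro x
    obtain ⟨_, ⟨V, hV, rfl⟩, hxV, -⟩ :=
      X.isBasis_affineOpens.exists_subset_of_mem_open (Set.mem_univ x) isOpen_univ
    exact ⟨V, hV, hxV⟩
  choose V hV hxV using h0
  let W : X.Opens := ⨆ x ∈ T, V x
  have hTW : ∀ x ∈ T, x ∈ W := by
    intro x hx
    simp only [W, Opens.mem_iSup]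
    exact ⟨x, hx, hxV x⟩
  have hWc : IsCompact (W : Set X) := by
    have : (W : Set X) = ⋃ x ∈ T, (V x : Set X) := by simp [W]
    rw [this]
    exact T.isCompact_biUnion fun x _ ↦ (hV x).isCompact
  let g : W.toScheme ⟶ Y := W.ι ≫ f
  have : QuasiCompact g :=
    (quasiCompact_iff_compactSpace _).mpr (isCompact_iff_compactSpace.mp hWc)
  let N := g.normalization
  let j : W.toScheme ⟶ N := g.toNormalization
  have : IsOpenImmersion j := inferInstance
  have : IsAffine N := isAffine_of_isAffineHom g.fromNormalization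
  let T' : Finset N := T.attach.image fun x ↦ j ⟨x.1, hTW x.1 x.2⟩
  obtain ⟨r, hr1, hr2⟩ := exists_basicOpen_le_of_finite N j.opensRange T' (by
    intro p hp
    obtain ⟨x, -, rfl⟩ := Finset.mem_image.mp hp
    exact ⟨_, rfl⟩)
  have hA : IsAffineOpen (N.basicOpen r) := (isAffineOpen_top N).basicOpen r
  have hA' : IsAffineOpen (j ⁻¹ᵁ N.basicOpen r) := hA.preimage_of_isOpenImmersion j hr2
  refine ⟨W.ι ''ᵁ (j ⁻¹ᵁ N.basicOpen r), hA'.image_of_isOpenImmersion W.ι, fun x hx ↦ ?_⟩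
  refine ⟨⟨x, hTW x hx⟩, ?_, rfl⟩
  exact hr1 _ (Finset.mem_image.mpr ⟨⟨x, hx⟩, Finset.mem_attach _ _, rfl⟩)

end Groth.Agent.Lib.Helper1.FiniteAffine
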