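import Mathlib
import Groth.Prelude.Def_MoreMor
import Groth.Prelude.Def_Omega3

set_option autoImplicit false
set_option linter.style.haveILetI false
universe u
open CategoryTheory CategoryTheory.Limits AlgebraicGeometry TopologicalSpace Opposite

namespace Groth.Agent.Lib.Helper1.FirstNbhd

/-- If a composite of closed immersions has kernel whose square lies in the kernel of the second
factor, the first factor has square-zero kernel. -/
theorem ker_mul_ker_eq_bot_of_comp_le {Z Q Z' : Scheme.{u}} (ι : Z ⟶ Q) (q : Q ⟶ Z')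
    [IsClosedImmersion ι] [IsClosedImmersion q]
    (h : (ι ≫ q).ker * (ι ≫ q).ker ≤ q.ker) : ι.ker * ι.ker = ⊥ := by
  rw [eq_bot_iff]
  refine Scheme.IdealSheafData.le_of_iSup_eq_top
    (ι := Z'.affineOpens) (fun U' => ⟨q ⁻¹ᵁ U'.1, U'.2.preimage q⟩) ?_ ?_
  · rw [eq_top_iff]
    rintro x -
    obtain ⟨_, ⟨(V : Z'.Opens), hV : IsAffineOpen V, rfl⟩, hxV, -⟩ :=
      Z'.isBasis_affineOpens.exists_subset_of_mem_open (Set.mem_univ (q.base x)) isOpen_univ
    exact TopologicalSpace.Opens.mem_iSup.mpr ⟨⟨V, hV⟩, hxV⟩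
  · intro U'
    change (ι.ker * ι.ker).ideal _ ≤ (⊥ : Q.IdealSheafData).ideal _
    rw [Scheme.IdealSheafData.ideal_mul, Pi.mul_apply, Scheme.IdealSheafData.ideal_bot,
      Pi.bot_apply, Scheme.Hom.ker_apply, Ideal.mul_le]
    intro x hx y hy
    rw [Ideal.mem_bot]
    obtain ⟨x', rfl⟩ := q.app_surjective U'.1 U'.2 x
    obtain ⟨y', rfl⟩ := q.app_surjective U'.1 U'.2 y
    have hmem : ∀ z : Γ(Z', U'.1), (q.app U'.1).hom z ∈ RingHom.ker (ι.app (q ⁻¹ᵁ U'.1)).hom →
        z ∈ (ι ≫ q).ker.ideal U' := by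
      intro z hz
      rw [Scheme.Hom.ker_apply, RingHom.mem_ker, Scheme.Hom.comp_app]
      exact RingHom.mem_ker.mp hz
    have h0 : x' * y' ∈ ((ι ≫ q).ker * (ι ≫ q).ker).ideal U' := by
      rw [Scheme.IdealSheafData.ideal_mul, Pi.mul_apply]
      exact Ideal.mul_mem_mul (hmem x' hx) (hmem y' hy)
    have h1 : x' * y' ∈ q.ker.ideal U' := h U' h0
    rw [Scheme.Hom.ker_apply, RingHom.mem_ker] at h1
    rw [← map_mul]
    exact h1

variable {Y : Scheme.{u}} (I : Y.IdealSheafData)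

theorem isFirstOrderThickening_inclusion (h : I ^ 2 ≤ I) :
    MoreMor.IsFirstOrderThickening (Scheme.IdealSheafData.inclusion h) := by
  have hci : IsClosedImmersion (Scheme.IdealSheafData.inclusion h) := by
    have : IsClosedImmersion (Scheme.IdealSheafData.inclusion h ≫ (I ^ 2).subschemeι) := by
      rw [Scheme.IdealSheafData.inclusion_subschemeι]; infer_instance
    exact IsClosedImmersion.of_comp_isClosedImmersion _ (I ^ 2).subschemeι
  refine ⟨⟨hci, ⟨fun z' => ?_⟩⟩, ?_⟩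
  · have h1 : (I ^ 2).subschemeι z' ∈ Set.range (I ^ 2).subschemeι := ⟨z', rfl⟩
    rw [Scheme.IdealSheafData.range_subschemeι, Scheme.IdealSheafData.support_pow _ 2 (by simp),
      ← Scheme.IdealSheafData.range_subschemeι] at h1
    obtain ⟨z, hz⟩ := h1
    refine ⟨z, ?_⟩
    apply (I ^ 2).subschemeι.isClosedEmbedding.injective
    rw [← hz, ← Scheme.IdealSheafData.inclusion_subschemeι h]
    rfl
  · apply ker_mul_ker_eq_bot_of_comp_le _ (I ^ 2).subschemeι
    rw [Scheme.IdealSheafData.inclusion_subschemeι, Scheme.IdealSheafData.ker_subschemeι,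
      Scheme.IdealSheafData.ker_subschemeι, pow_two]

/-- a morphism from a first order thickening `T'` of `T` whose restriction to `T` factors through
`V(I)` kills `I²`. -/
theorem sq_le_ker {T T' : Scheme.{u}} (j : T ⟶ T') (hj : MoreMor.IsFirstOrderThickening j)
    (b₀ : T' ⟶ Y) (a : T ⟶ I.subscheme) (w : j ≫ b₀ = a ≫ I.subschemeι) : I ^ 2 ≤ b₀.ker := by
  have : IsClosedImmersion j := hj.1.1
  rw [Scheme.Hom.ker, Scheme.IdealSheafData.le_ofIdeals_iff]
  intro V
  rw [Scheme.IdealSheafData.ideal_pow, Pi.pow_apply, pow_two, Ideal.mul_le]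
  intro s hs t ht
  rw [RingHom.mem_ker]
  -- local vanishing
  have key : ∀ (W : T'.Opens) (hW : IsAffineOpen W) (e : W ≤ b₀ ⁻¹ᵁ V.1) (s : Γ(Y, V.1)),
      s ∈ I.ideal V → (b₀.appLE V.1 W e).hom s ∈ j.ker.ideal ⟨W, hW⟩ := by
    intro W hW e s hs
    rw [Scheme.Hom.ker_apply, RingHom.mem_ker]
    have h1 : (j.app W).hom ((b₀.appLE V.1 W e).hom s) =
        ((j ≫ b₀).appLE V.1 (j ⁻¹ᵁ W) (by
          intro x hx
          exact e hx)).hom s := by
      rw [← Scheme.Hom.appLE_comp_appLE (f := j) (g := b₀) (U := V.1) (V := W) (W := j ⁻¹ᵁ W) e le_rfl]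
      rw [Scheme.Hom.app_eq_appLE]
      rfl
    rw [h1]
    have h2 : ((j ≫ b₀).appLE V.1 (j ⁻¹ᵁ W) (by
          intro x hx
          exact e hx)) = (a ≫ I.subschemeι).appLE V.1 (j ⁻¹ᵁ W) (by
          rw [← w]
          intro x hx
          exact e hx) := by
      congr 1
    rw [h2, ← Scheme.Hom.appLE_comp_appLE (f := a) (g := I.subschemeι) (U := V.1)
      (V := I.subschemeι ⁻¹ᵁ V.1) (W := j ⁻¹ᵁ W) le_rfl (by
        intro x hx
        have := congrArg (fun g => g.base x) w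
        have hx' : (j ≫ b₀).base x ∈ V.1 := e hx
        change (I.subschemeι.base (a.base x)) ∈ V.1
        have h3 : (j ≫ b₀).base x = I.subschemeι.base (a.base x) := this
        rw [← h3]; exact hx')]
    have h3 : (I.subschemeι.appLE V.1 (I.subschemeι ⁻¹ᵁ V.1) le_rfl).hom s = 0 := by
      rw [← Scheme.Hom.app_eq_appLE, ← RingHom.mem_ker,
        Scheme.IdealSheafData.ker_subschemeι_app]
      exact hs
    rw [CommRingCat.hom_comp, RingHom.comp_apply, h3, map_zero]
  apply T'.IsSheaf.section_ext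
  intro x hx
  obtain ⟨_, ⟨W : T'.Opens, hW, rfl⟩, hxW, hWle⟩ := T'.isBasis_affineOpens.exists_subset_of_mem_open
    hx (b₀ ⁻¹ᵁ V.1).2
  refine ⟨W, hWle, hxW, ?_⟩
  have h1 := key W hW hWle s hs
  have h2 := key W hW hWle t ht
  have h3 : (b₀.appLE V.1 W hWle).hom s * (b₀.appLE V.1 W hWle).hom t ∈
      (j.ker * j.ker).ideal ⟨W, hW⟩ := by
    rw [Scheme.IdealSheafData.ideal_mul, Pi.mul_apply]
    exact Ideal.mul_mem_mul h1 h2
  rw [hj.2, Scheme.IdealSheafData.ideal_bot, Pi.bot_apply, Ideal.mem_bot, ← map_mul] at h3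
  rw [map_zero]
  exact h3

end Groth.Agent.Lib.Helper1.FirstNbhd
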