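import Mathlib
import Groth.Prelude.Def_CAlgX
import Groth.Agent.Lib.Helper24.EssFPInj

/-!
# EGA IV 11.3.7 (a) ⇔ (b), module form
-/
set_option autoImplicit false
universe u
open TensorProduct

namespace Groth.Agent.Lib.Helper1.FlatCokerIff

lemma one_tmul_eq_zero_iff {R : Type*} [CommRing R] (I : Ideal R) {M : Type*} [AddCommGroup M]
    [Module R M] (x : M) :
    ((1 : R ⧸ I) ⊗ₜ[R] x = 0) ↔ x ∈ (I • ⊤ : Submodule R M) := by
  rw [← TensorProduct.quotTensorEquivQuotSMul_symm_mk I x,
    LinearEquiv.map_eq_zero_iff, Submodule.Quotient.mk_eq_zero]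

theorem main_iff {R S M N C : Type u} [CommRing R] [CommRing S] [IsLocalRing R] [IsLocalRing S]
    [Algebra R S] [IsLocalHom (algebraMap R S)] (hS : CAlgX.IsEssFinitePresentation R S)
    [AddCommGroup M] [Module S M] [Module R M] [IsScalarTower R S M]
    [Module.FinitePresentation S M]
    [AddCommGroup N] [Module S N] [Module R N] [IsScalarTower R S N]
    [Module.FinitePresentation S N] [Module.Flat R N]
    [AddCommGroup C] [Module S C] [Module R C] [IsScalarTower R S C]
    (u : M →ₗ[S] N) (π : N →ₗ[S] C) (hπ : Function.Surjective π) (hex : Function.Exact u π) :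
    (Function.Injective u ∧ Module.Flat R C) ↔
      ∀ x : M, u x ∈ (IsLocalRing.maximalIdeal R).map (algebraMap R S) • (⊤ : Submodule S N) →
        x ∈ (IsLocalRing.maximalIdeal R).map (algebraMap R S) • (⊤ : Submodule S M) := by
  constructor
  · rintro ⟨hinj, hflat⟩ x hx
    have h1 : u x ∈ ((IsLocalRing.maximalIdeal R).map (algebraMap R S) •
        (⊤ : Submodule S N)).restrictScalars R := hx
    rw [Ideal.smul_restrictScalars, Submodule.restrictScalars_top] at h1
    have h2 : x ∈ ((IsLocalRing.maximalIdeal R).map (algebraMap R S) •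
        (⊤ : Submodule S M)).restrictScalars R := by
      rw [Ideal.smul_restrictScalars, Submodule.restrictScalars_top]
      have hinj' := LinearMap.lTensor_injective_of_exact_of_flat (π.restrictScalars R) hπ
        (u.restrictScalars R) hinj hex (R ⧸ IsLocalRing.maximalIdeal R)
      rw [← one_tmul_eq_zero_iff]
      apply hinj'
      rw [LinearMap.lTensor_tmul, map_zero]
      exact (one_tmul_eq_zero_iff _ _).mpr h1
    exact h2
  · intro h
    obtain ⟨S₀, i1, i2, i3, i4, T, hfp, hloc⟩ := hS
    letI := i1; letI := i2; letI := i3; haveI := i4; haveI := hfp; haveI := hloc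
    obtain ⟨hinj, hflat⟩ :=
      Groth.Agent.Lib.Helper24.EssFPInj.injective_and_flat_coker (R := R) (S := S) T u h
    refine ⟨hinj, ?_⟩
    have hker : LinearMap.ker π = LinearMap.range u := (LinearMap.exact_iff.mp hex)
    let e : (N ⧸ LinearMap.range u) ≃ₗ[S] C :=
      (Submodule.quotEquivOfEq _ _ hker.symm).trans (π.quotKerEquivOfSurjective hπ)
    exact Module.Flat.of_linearEquiv (e.restrictScalars R).symm

end Groth.Agent.Lib.Helper1.FlatCokerIff
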