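import Mathlib

set_option autoImplicit false
universe u
open Module

namespace Groth.Agent.Lib.Helper1.FlatVanish

variable {A A' : Type*} [CommRing A] [CommRing A'] [Algebra A A'] [Module.Flat A A']
  {Mn : Type*} [AddCommGroup Mn] [Module A Mn] (val : Mn →ₗ[A] A) (J : Ideal A)
  {T : Type*} [AddCommGroup T] [Module A' T]
  (P : Mn →+ T) (hP : ∀ (a : A) (x : Mn), P (a • x) = algebraMap A A' a • P x)
  (hP0 : ∀ x : Mn, val x ∈ J → P x = 0)

include hP hP0 in
theorem sum_smul_eq_zero {κ : Type*} [Fintype κ] (a' : κ → A') (x : κ → Mn)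
    (h : ∑ k, a' k * algebraMap A A' (val (x k)) ∈ Ideal.map (algebraMap A A') J) :
    ∑ k, a' k • P (x k) = 0 := by
  classical
  rw [Ideal.map, Submodule.mem_span_set'] at h
  obtain ⟨m, b', g, hg⟩ := h
  choose y hyJ hy using fun j => (g j).2
  -- the relation
  let f : κ ⊕ Fin m → A := Sum.elim (fun k => val (x k)) y
  let c : κ ⊕ Fin m → A' := Sum.elim a' (fun j => - b' j)
  have hrel : ∑ i, f i • c i = 0 := by
    rw [Fintype.sum_sum_type]
    simp only [f, c, Sum.elim_inl, Sum.elim_inr, Algebra.smul_def, mul_neg, Finset.sum_neg_distrib]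
    have e1 : ∑ k, algebraMap A A' (val (x k)) * a' k = ∑ k, a' k * algebraMap A A' (val (x k)) :=
      Finset.sum_congr rfl (fun k _ => mul_comm _ _)
    have e2 : ∑ j, algebraMap A A' (y j) * b' j = ∑ j, b' j • ((g j : A')) :=
      Finset.sum_congr rfl (fun j _ => by rw [smul_eq_mul, mul_comm, hy j])
    rw [e1, e2, hg, add_neg_cancel]
  obtain ⟨k, α, c'', hc, hα⟩ := Module.Flat.isTrivialRelation_of_sum_smul_eq_zero (R := A) (M := A') (f := f) (x := c) hrel
  have hcl : ∀ i, a' i = ∑ l, α (Sum.inl i) l • c'' l := fun i => hc (Sum.inl i)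
  have hvan : ∀ l, P (∑ i, α (Sum.inl i) l • x i) = 0 := by
    intro l
    apply hP0
    have h1 := hα l
    rw [Fintype.sum_sum_type] at h1
    simp only [f, Sum.elim_inl, Sum.elim_inr] at h1
    rw [map_sum]
    have h2 : ∑ i, val (α (Sum.inl i) l • x i) = ∑ i, val (x i) * α (Sum.inl i) l :=
      Finset.sum_congr rfl (fun i _ => by rw [map_smul, smul_eq_mul, mul_comm])
    rw [h2, eq_neg_of_add_eq_zero_left h1]
    exact J.neg_mem (J.sum_mem (fun j _ => J.mul_mem_right _ (hyJ j)))
  calc ∑ i, a' i • P (x i) = ∑ i, ∑ l, c'' l • P (α (Sum.inl i) l • x i) := by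
        refine Finset.sum_congr rfl (fun i _ => ?_)
        rw [hcl i, Finset.sum_smul]
        refine Finset.sum_congr rfl (fun l _ => ?_)
        rw [hP, Algebra.smul_def, mul_comm, mul_smul]
    _ = ∑ l, c'' l • P (∑ i, α (Sum.inl i) l • x i) := by
        rw [Finset.sum_comm]
        refine Finset.sum_congr rfl (fun l _ => ?_)
        rw [map_sum, Finset.smul_sum]
    _ = 0 := by
        refine Finset.sum_eq_zero (fun l _ => ?_)
        rw [hvan l, smul_zero]

end Groth.Agent.Lib.Helper1.FlatVanish
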