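import Mathlib

open CategoryTheory Limits AlgebraicGeometry MorphismProperty

namespace Groth.Agent.Lib.Helper1.FpqcDescent

universe u

/-- Quasi-compactness descends along surjective quasi-compact morphisms. -/
instance quasiCompact_descendsAlong :
    DescendsAlong @QuasiCompact (@Surjective ⊓ @QuasiCompact : MorphismProperty Scheme.{u}) where
  of_isPullback {A X Y Z fst snd f g} h hf hfst := by
    have hfs : Surjective f := hf.1
    have hfq : QuasiCompact f := hf.2
    have hsnd : Surjective snd := MorphismProperty.of_isPullback h hfs
    constructor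
    intro U hU hUc
    have h1 : IsCompact (f ⁻¹' U) := QuasiCompact.isCompact_preimage _ hU hUc
    have h2 : IsCompact (fst ⁻¹' (f ⁻¹' U)) :=
      QuasiCompact.isCompact_preimage (f := fst) _ (hU.preimage f.continuous) h1
    have h3 : g ⁻¹' U = snd '' (fst ⁻¹' (f ⁻¹' U)) := by
      have hw : ∀ a, f (fst a) = g (snd a) := fun a ↦ by
        have := congrArg (fun φ : A ⟶ Z ↦ φ a) h.w
        simpa using this
      ext y
      constructor
      · intro hy
        obtain ⟨a, rfl⟩ := snd.surjective y
        exact ⟨a, by simpa [hw a] using hy, rfl⟩
      · rintro ⟨a, ha, rfl⟩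
        simpa [hw a] using ha
    rw [h3]
    exact h2.image snd.continuous

instance quasiCompact_descendsAlong_fpqc :
    DescendsAlong @QuasiCompact
      (@Surjective ⊓ @Flat ⊓ @QuasiCompact : MorphismProperty Scheme.{u}) :=
  DescendsAlong.of_le (Q := (@Surjective ⊓ @QuasiCompact : MorphismProperty Scheme.{u}))
    (fun _ _ _ h ↦ ⟨h.1.1, h.2⟩)

set_option backward.isDefEq.respectTransparency.types false in
instance mono_descendsAlong_fpqc :
    DescendsAlong (monomorphisms Scheme.{u})
      (@Surjective ⊓ @Flat ⊓ @QuasiCompact : MorphismProperty Scheme.{u}) := by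
  rw [← diagonal_isomorphisms]
  infer_instance

set_option backward.isDefEq.respectTransparency.types false in
/-- Closed immersions descend along fpqc covers. -/
instance isClosedImmersion_descendsAlong_fpqc :
    DescendsAlong @IsClosedImmersion
      (@Surjective ⊓ @Flat ⊓ @QuasiCompact : MorphismProperty Scheme.{u}) where
  of_isPullback {A X Y Z fst snd f g} h hf hfst := by
    have : IsClosedImmersion fst := hfst
    have h1 : Mono g := of_isPullback_of_descendsAlong (P := monomorphisms Scheme.{u}) h hf
      (inferInstanceAs (Mono fst))
    have h2 : UniversallyClosed g := of_isPullback_of_descendsAlong (P := @UniversallyClosed) h hf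
      inferInstance
    have h3 : LocallyOfFiniteType g := of_isPullback_of_descendsAlong
      (P := @LocallyOfFiniteType) h hf inferInstance
    have h4 : QuasiCompact g := of_isPullback_of_descendsAlong (P := @QuasiCompact) h hf
      inferInstance
    rw [IsClosedImmersion.iff_isProper_and_mono]
    exact ⟨{}, h1⟩

end Groth.Agent.Lib.Helper1.FpqcDescent
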