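import Mathlib
import Groth.Agent.Lib.Helper1.FibreLocFreeB
import Groth.Agent.Lib.Helper14.FibreFreeSch
import Groth.Agent.Lib.Helper17.PbFlatOver

set_option autoImplicit false
set_option linter.style.haveILetI false
universe u
open CategoryTheory CategoryTheory.Limits AlgebraicGeometry TopologicalSpace Opposite TensorProduct

namespace Groth.Agent.Lib.Helper1.FreeLocusBC

open Groth.Agent.Lib.Helper3 Groth.Agent.Lib.Helper17 Groth.Agent.Lib.Helper14
open Groth.Agent.Lib.Helper1.FibreLocFree

/-- freeness of a stalk is stable under pullback. -/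
theorem free_stalk_pullback {X X' : Scheme.{u}} (e : X' ⟶ X) (F : X.Modules) [F.IsQuasicoherent]
    (x' : X') (h : Module.Free (X.presheaf.stalk (e x')) (F.presheaf.stalk (e x'))) :
    Module.Free (X'.presheaf.stalk x')
      (((Scheme.Modules.pullback e).obj F).presheaf.stalk x') := by
  letI algAB : Algebra (X.presheaf.stalk (e x')) (X'.presheaf.stalk x') :=
    (e.stalkMap x').hom.toAlgebra
  letI modAN : Module (X.presheaf.stalk (e x'))
      (((Scheme.Modules.pullback e).obj F).presheaf.stalk x') :=
    Module.compHom _ (e.stalkMap x').hom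
  obtain ⟨hst, γ, hγ⟩ := PbStalk.exists_isBaseChange_stalk e F x'
  haveI := hst
  haveI := h
  exact Module.Free.of_equiv hγ.equiv

/-- flatness of a stalk is stable under pullback. -/
theorem isFlatAt_pullback {X X' : Scheme.{u}} (e : X' ⟶ X) (F : X.Modules) [F.IsQuasicoherent]
    (x' : X') (h : FlatMod.IsFlatAt F (e x')) :
    FlatMod.IsFlatAt ((Scheme.Modules.pullback e).obj F) x' := by
  letI algAB : Algebra (X.presheaf.stalk (e x')) (X'.presheaf.stalk x') :=
    (e.stalkMap x').hom.toAlgebra
  letI modAN : Module (X.presheaf.stalk (e x'))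
      (((Scheme.Modules.pullback e).obj F).presheaf.stalk x') :=
    Module.compHom _ (e.stalkMap x').hom
  obtain ⟨hst, γ, hγ⟩ := PbStalk.exists_isBaseChange_stalk e F x'
  haveI := hst
  haveI : Module.Flat (X.presheaf.stalk (e x')) (F.presheaf.stalk (e x')) := h
  exact Module.Flat.of_linearEquiv hγ.equiv.symm

/-- flatness of a stalk descends along a flat morphism. -/
theorem isFlatAt_of_isFlatAt_pullback {Y Y' : Scheme.{u}} (e : Y' ⟶ Y) [Flat e]
    (F : Y.Modules) [F.IsQuasicoherent] (y' : Y')
    (h : FlatMod.IsFlatAt ((Scheme.Modules.pullback e).obj F) y') :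
    FlatMod.IsFlatAt F (e y') := by
  letI algAB : Algebra (Y.presheaf.stalk (e y')) (Y'.presheaf.stalk y') :=
    (e.stalkMap y').hom.toAlgebra
  letI modAN : Module (Y.presheaf.stalk (e y'))
      (((Scheme.Modules.pullback e).obj F).presheaf.stalk y') :=
    Module.compHom _ (e.stalkMap y').hom
  obtain ⟨hst, γ, hγ⟩ := PbStalk.exists_isBaseChange_stalk e F y'
  haveI := hst
  haveI : Module.Flat (Y.presheaf.stalk (e y')) (Y'.presheaf.stalk y') := Flat.stalkMap e y'
  haveI : IsLocalHom (algebraMap (Y.presheaf.stalk (e y')) (Y'.presheaf.stalk y')) :=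
    inferInstanceAs (IsLocalHom (e.stalkMap y').hom)
  haveI : Module.FaithfullyFlat (Y.presheaf.stalk (e y')) (Y'.presheaf.stalk y') :=
    Module.FaithfullyFlat.of_flat_of_isLocalHom
  haveI : Module.Flat (Y'.presheaf.stalk y')
      (((Scheme.Modules.pullback e).obj F).presheaf.stalk y') := h
  haveI : Module.Flat (Y'.presheaf.stalk y')
      ((Y'.presheaf.stalk y') ⊗[Y.presheaf.stalk (e y')] (F.presheaf.stalk (e y'))) :=
    Module.Flat.of_linearEquiv hγ.equiv
  exact Module.Flat.of_flat_tensorProduct (Y.presheaf.stalk (e y')) (F.presheaf.stalk (e y'))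
    (Y'.presheaf.stalk y')

/-- flatness of a stalk is invariant under isomorphisms. -/
theorem isFlatAt_of_iso {X : Scheme.{u}} {M M' : X.Modules} (e : M ≅ M') (x : X)
    (h : FlatMod.IsFlatAt M x) : FlatMod.IsFlatAt M' x := by
  unfold FlatMod.IsFlatAt at h ⊢
  have hbij : Function.Bijective (StalkExact.stalkLin e.hom x) :=
    ⟨StalkExact.stalkLin_injective e.hom x, StalkExact.stalkLin_surjective e.hom x⟩
  exact Module.Flat.of_linearEquiv (LinearEquiv.ofBijective (StalkExact.stalkLin e.hom x) hbij).symm

/-- `F` flat over `S` at `x` and `F_s` flat at the corresponding point of the fibre imply that the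
stalk `F_x` is free (finite presentation, no Noetherian hypothesis). -/
theorem free_stalk_of_flat_fibre' {X S : Scheme.{u}} (f : X ⟶ S) (F : X.Modules)
    [F.IsQuasicoherent] [SheafOfModules.IsFinitePresentation (R := X.ringCatSheaf) F]
    (s : S) (y : f.fiber s)
    (hfl : FlatMod.IsFlatOverAt f F ((f.fiberι s).base y))
    (hy : FlatMod.IsFlatAt ((Scheme.Modules.pullback (f.fiberι s)).obj F) y) :
    Module.Free (X.presheaf.stalk ((f.fiberι s).base y))
      (F.presheaf.stalk ((f.fiberι s).base y)) := by
  obtain ⟨hsurj, hker⟩ := FibreStalkMap.stalkMap_fiberι f s y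
  letI algAB : Algebra (X.presheaf.stalk ((f.fiberι s).base y)) ((f.fiber s).presheaf.stalk y) :=
    ((f.fiberι s).stalkMap y).hom.toAlgebra
  letI modAN : Module (X.presheaf.stalk ((f.fiberι s).base y))
      (((Scheme.Modules.pullback (f.fiberι s)).obj F).presheaf.stalk y) :=
    Module.compHom _ ((f.fiberι s).stalkMap y).hom
  obtain ⟨hst, γ, hγ⟩ := PbStalk.exists_isBaseChange_stalk (f.fiberι s) F y
  haveI := hst
  haveI : Module.Flat ((f.fiber s).presheaf.stalk y)
      (((Scheme.Modules.pullback (f.fiberι s)).obj F).presheaf.stalk y) := hy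
  have h1 := flat_quot_of_flat_baseChange (A := X.presheaf.stalk ((f.fiberι s).base y))
    (B := (f.fiber s).presheaf.stalk y) hsurj γ hγ
  have hker' : RingHom.ker (algebraMap (X.presheaf.stalk ((f.fiberι s).base y))
      ((f.fiber s).presheaf.stalk y)) =
      Ideal.map (f.stalkMap ((f.fiberι s).base y)).hom
        (IsLocalRing.maximalIdeal (S.presheaf.stalk (f.base ((f.fiberι s).base y)))) := hker
  rw [hker'] at h1
  haveI := FibreFree.finitePresentation_stalk F ((f.fiberι s).base y)
  letI : Algebra (S.presheaf.stalk (f.base ((f.fiberι s).base y)))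
      (X.presheaf.stalk ((f.fiberι s).base y)) := (f.stalkMap ((f.fiberι s).base y)).hom.toAlgebra
  letI := FlatMod.moduleStalkOver f F ((f.fiberι s).base y)
  haveI : IsScalarTower (S.presheaf.stalk (f.base ((f.fiberι s).base y)))
      (X.presheaf.stalk ((f.fiberι s).base y)) (F.presheaf.stalk ((f.fiberι s).base y)) :=
    IsScalarTower.of_algebraMap_smul (fun r y => rfl)
  haveI : IsLocalHom (algebraMap (S.presheaf.stalk (f.base ((f.fiberι s).base y)))
      (X.presheaf.stalk ((f.fiberι s).base y))) :=
    inferInstanceAs (IsLocalHom (f.stalkMap ((f.fiberι s).base y)).hom)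
  haveI : Module.Flat (S.presheaf.stalk (f.base ((f.fiberι s).base y)))
      (F.presheaf.stalk ((f.fiberι s).base y)) := hfl
  exact FibreFree.free_of_flat_of_flat_fibre h1

section

variable {X S X' S' : Scheme.{u}} {f : X ⟶ S} {g : S' ⟶ S} {f' : X' ⟶ S'} {g' : X' ⟶ X}

/-- the map induced on fibres by a commutative square. -/
noncomputable def fibreBC (hc : IsPullback g' f' f g) (s' : S') :
    f'.fiber s' ⟶ f.fiber (g.base s') :=
  pullback.map f' (S'.fromSpecResidueField s') f (S.fromSpecResidueField (g.base s')) g'
    (Spec.map (g.residueFieldMap s')) g hc.w.symm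
    (Scheme.Hom.SpecMap_residueFieldMap_fromSpecResidueField g s').symm

theorem fibreBC_ι (hc : IsPullback g' f' f g) (s' : S') :
    fibreBC hc s' ≫ f.fiberι (g.base s') = f'.fiberι s' ≫ g' :=
  pullback.lift_fst _ _ _

theorem isPullback_fibreBC (hc : IsPullback g' f' f g) (s' : S') :
    IsPullback (fibreBC hc s') (pullback.snd f' (S'.fromSpecResidueField s'))
      (pullback.snd f (S.fromSpecResidueField (g.base s'))) (Spec.map (g.residueFieldMap s')) := by
  have h1 := IsPullback.of_hasPullback f' (S'.fromSpecResidueField s')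
  have big := h1.paste_horiz hc
  have h3 := IsPullback.of_hasPullback f (S.fromSpecResidueField (g.base s'))
  have e1 : pullback.fst f' (S'.fromSpecResidueField s') ≫ g' =
      fibreBC hc s' ≫ pullback.fst f (S.fromSpecResidueField (g.base s')) :=
    (fibreBC_ι hc s').symm
  have e2 : S'.fromSpecResidueField s' ≫ g =
      Spec.map (g.residueFieldMap s') ≫ S.fromSpecResidueField (g.base s') :=
    (Scheme.Hom.SpecMap_residueFieldMap_fromSpecResidueField g s').symm
  rw [e1, e2] at big
  exact IsPullback.of_right big (pullback.lift_snd _ _ _) h3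

instance flat_fibreBC (hc : IsPullback g' f' f g) (s' : S') : Flat (fibreBC hc s') := by
  have hφ : Flat (Spec.map (g.residueFieldMap s')) := by
    rw [HasRingHomProperty.Spec_iff (P := @Flat)]
    algebraize [(g.residueFieldMap s').hom]
    change Module.Flat _ _
    infer_instance
  exact MorphismProperty.of_isPullback (P := @Flat) (isPullback_fibreBC hc s').flip hφ


/-- **the free locus of a finitely presented module flat over the base commutes with base change.** -/
theorem free_locus_baseChange (F : X.Modules) [F.IsQuasicoherent]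
    [SheafOfModules.IsFinitePresentation (R := X.ringCatSheaf) F]
    (hfl : FlatMod.IsFlatOver f F) (hc : IsPullback g' f' f g) :
    {x' : X' | Module.Free (X'.presheaf.stalk x')
        (((Scheme.Modules.pullback g').obj F).presheaf.stalk x')} =
      g' ⁻¹' {x : X | Module.Free (X.presheaf.stalk x) (F.presheaf.stalk x)} := by
  ext x'
  simp only [Set.mem_ofPred_eq, Set.mem_preimage]
  constructor
  · intro hfree
    have hy' : (f'.fiberι (f'.base x')).base (f'.asFiber x') = x' := f'.fiberι_asFiber x'
    haveI : ((Scheme.Modules.pullback g').obj F).IsQuasicoherent :=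
      PbStalk.isQuasicoherent_pullback g' F
    have h1 : FlatMod.IsFlatAt ((Scheme.Modules.pullback g').obj F)
        ((f'.fiberι (f'.base x')).base (f'.asFiber x')) := by
      rw [hy']
      unfold FlatMod.IsFlatAt
      haveI := hfree
      infer_instance
    have h2 := isFlatAt_pullback (f'.fiberι (f'.base x')) _ (f'.asFiber x') h1
    let iso : (Scheme.Modules.pullback (f'.fiberι (f'.base x'))).obj
          ((Scheme.Modules.pullback g').obj F) ≅
        (Scheme.Modules.pullback (fibreBC hc (f'.base x'))).obj
          ((Scheme.Modules.pullback (f.fiberι (g.base (f'.base x')))).obj F) :=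
      (Scheme.Modules.pullbackComp (f'.fiberι (f'.base x')) g').app F ≪≫
        (Scheme.Modules.pullbackCongr (fibreBC_ι hc (f'.base x')).symm).app F ≪≫
        ((Scheme.Modules.pullbackComp (fibreBC hc (f'.base x'))
          (f.fiberι (g.base (f'.base x')))).app F).symm
    have h3 := isFlatAt_of_iso iso (f'.asFiber x') h2
    haveI : ((Scheme.Modules.pullback (f.fiberι (g.base (f'.base x')))).obj F).IsQuasicoherent :=
      PbStalk.isQuasicoherent_pullback _ F
    have h4 := isFlatAt_of_isFlatAt_pullback (fibreBC hc (f'.base x')) _ (f'.asFiber x') h3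
    have h5 := free_stalk_of_flat_fibre' f F _ ((fibreBC hc (f'.base x')).base (f'.asFiber x'))
      (hfl _) h4
    have hpt : (f.fiberι (g.base (f'.base x'))).base
        ((fibreBC hc (f'.base x')).base (f'.asFiber x')) = g'.base x' := by
      have := congr(($(fibreBC_ι hc (f'.base x'))).base (f'.asFiber x'))
      exact this.trans (congrArg g'.base hy')
    rw [hpt] at h5
    exact h5
  · intro hfree
    exact free_stalk_pullback g' F x' hfree

end

end Groth.Agent.Lib.Helper1.FreeLocusBC
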