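import Mathlib
import Groth.Prelude
import Groth.Agent.Lib.Helper17.DevBasic
import Groth.Agent.Lib.Helper17.DevPow

/-!
# The abelian category of coherent modules on a locally Noetherian scheme
-/

set_option autoImplicit false
set_option linter.style.haveILetI false
universe u
open CategoryTheory CategoryTheory.Limits AlgebraicGeometry TopologicalSpace Opposite

namespace Groth.Agent.Lib.Helper1.GabLoc

open Groth.Agent.Lib.Helper17 Groth.Agent.Lib.Helper17.DevBasic

variable (X : Scheme.{u})

/-- coherent modules, as an object property. -/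
abbrev CohP : ObjectProperty X.Modules := fun M : X.Modules => Coh.IsCoh M

instance : (CohP X).IsClosedUnderIsomorphisms where
  of_iso e h := isCoh_of_iso e h

instance : (CohP X).ContainsZero where
  exists_zero := by
    obtain ⟨Z, hZ⟩ := HasZeroObject.zero (C := X.Modules)
    exact ⟨Z, hZ, isCoh_of_isZero hZ⟩

instance [IsLocallyNoetherian X] : (CohP X).IsClosedUnderKernels where
  kernels_le := by
    rintro _ ⟨f, k, hk, hf⟩
    have e : kernel f ≅ k.pt := IsLimit.conePointUniqueUpToIso (limit.isLimit _) hk
    exact isCoh_of_iso e (isCoh_kernel f hf.1 hf.2.1)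

instance : (CohP X).IsClosedUnderCokernels where
  cokernels_le := by
    rintro _ ⟨f, k, hk, hf⟩
    have e : cokernel f ≅ k.pt := IsColimit.coconePointUniqueUpToIso (colimit.isColimit _) hk
    exact isCoh_of_iso e (isCoh_cokernel f hf.1.1 hf.2)

instance : (CohP X).IsClosedUnderBinaryProducts where
  limitsOfShape_le := by
    rintro M ⟨p⟩
    have e : M ≅ (p.diag.obj ⟨WalkingPair.left⟩ ⊞ p.diag.obj ⟨WalkingPair.right⟩ : X.Modules) :=
      IsLimit.conePointsIsoOfNatIso p.isLimit
        (BinaryBiproduct.isLimit (p.diag.obj ⟨WalkingPair.left⟩) (p.diag.obj ⟨WalkingPair.right⟩))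
        (diagramIsoPair p.diag)
    exact isCoh_of_iso e.symm (DevPow.isCoh_biprod _ _ (p.prop_diag_obj _) (p.prop_diag_obj _))

instance : (CohP X).IsClosedUnderFiniteProducts := ObjectProperty.IsClosedUnderFiniteProducts.mk'

noncomputable example [IsLocallyNoetherian X] : Abelian (CohP X).FullSubcategory := inferInstance

noncomputable example [IsLocallyNoetherian X] :
    Abelian (ObjectProperty.FullSubcategory (fun M : X.Modules => Coh.IsCoh M)) := inferInstance

end Groth.Agent.Lib.Helper1.GabLoc
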