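import Mathlib
import Groth.Prelude
import Groth.Agent.Lib.Helper1.GabLoc1

/-!
# The Serre class of coherent modules supported off an open
-/

set_option autoImplicit false
set_option linter.style.haveILetI false
universe u
open CategoryTheory CategoryTheory.Limits AlgebraicGeometry TopologicalSpace Opposite

namespace Groth.Agent.Lib.Helper1.GabLoc

open Groth.Agent.Lib.Helper17 Groth.Agent.Lib.Helper17.DevBasic

variable (X : Scheme.{u}) [IsLocallyNoetherian X]

instance preservesKer {A B : (CohP X).FullSubcategory} (f : A ⟶ B) :
    PreservesLimit (parallelPair f 0) (CohP X).ι := (CohP X).preservesKernels_ι f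

instance preservesCoker {A B : (CohP X).FullSubcategory} (f : A ⟶ B) :
    PreservesColimit (parallelPair f 0) (CohP X).ι := (CohP X).preservesCokernels_ι f

instance : PreservesFiniteLimits (CohP X).ι :=
  Functor.preservesFiniteLimits_of_preservesKernels _

instance : PreservesFiniteColimits (CohP X).ι :=
  Functor.preservesFiniteColimits_of_preservesCokernels _

/-- coherent modules supported off `U`. -/
def Q (U : X.Opens) : ObjectProperty (CohP X).FullSubcategory :=
  fun M => CohB1.support M.obj ⊆ (U : Set X)ᶜ

variable {X}

theorem mono_hom {A B : (CohP X).FullSubcategory} (f : A ⟶ B) [Mono f] : Mono f.hom :=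
  inferInstanceAs (Mono ((CohP X).ι.map f))

theorem epi_hom {A B : (CohP X).FullSubcategory} (f : A ⟶ B) [Epi f] : Epi f.hom :=
  inferInstanceAs (Epi ((CohP X).ι.map f))

instance (U : X.Opens) : (Q X U).IsSerreClass where
  exists_zero := by
    obtain ⟨Z, hZ⟩ := HasZeroObject.zero (C := (CohP X).FullSubcategory)
    refine ⟨Z, hZ, ?_⟩
    have hz : IsZero ((CohP X).ι.obj Z) := (CohP X).ι.map_isZero hZ
    show CohB1.support ((CohP X).ι.obj Z) ⊆ _
    rw [support_eq_empty_of_isZero hz]
    exact Set.empty_subset _
  prop_of_mono f _ hY := by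
    haveI := mono_hom f
    exact (support_subset_of_mono f.hom).trans hY
  prop_of_epi f _ hX := by
    haveI := epi_hom f
    exact (support_subset_of_epi f.hom).trans hX
  prop_X₂_of_shortExact {S} hS h₁ h₃ := by
    have hS' : (S.map (CohP X).ι).ShortExact := hS.map_of_exact (CohP X).ι
    exact (support_subset_union _ hS').trans (Set.union_subset h₁ h₃)

end Groth.Agent.Lib.Helper1.GabLoc
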