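import Mathlib
import Groth.Prelude
import Groth.Agent.Lib.Helper1.GabLoc2
import Groth.Agent.Lib.Helper3.PbIsoCrit
import Groth.Agent.Lib.Helper3.QCExact
import Groth.Agent.Lib.Helper3.QCOpen

/-!
# Morphisms with kernel and cokernel supported off `U` restrict to isomorphisms on `U`
-/

set_option autoImplicit false
set_option linter.style.haveILetI false
universe u
open CategoryTheory CategoryTheory.Limits AlgebraicGeometry TopologicalSpace Opposite
open Scheme.Modules

namespace Groth.Agent.Lib.Helper1.GabLoc

open Groth.Agent.Lib.Helper3 Groth.Agent.Lib.Helper17 Groth.Agent.Lib.Helper17.DevBasic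

variable {X : Scheme.{u}}

theorem subsingleton_sections_of_support {K : X.Modules} {U O : X.Opens} (hOU : O ≤ U)
    (hK : CohB1.support K ⊆ (U : Set X)ᶜ) : Subsingleton Γ(K, O) :=
  QCOpen.subsingleton_sections_of_stalks K O
    (fun x hx => not_not.mp (fun hxs => hK hxs (hOU hx)))

theorem app_bijective_of_support {A B : X.Modules} [A.IsQuasicoherent] [B.IsQuasicoherent]
    (f : A ⟶ B) (U : X.Opens) (hk : CohB1.support (kernel f) ⊆ (U : Set X)ᶜ)
    (hc : CohB1.support (cokernel f) ⊆ (U : Set X)ᶜ) (O : X.Opens) (hO : IsAffineOpen O)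
    (hOU : O ≤ U) : Function.Bijective (f.app O) := by
  constructor
  · rw [injective_iff_map_eq_zero]
    intro y hy
    haveI := subsingleton_sections_of_support hOU hk
    obtain ⟨x, hx⟩ := QCExact.exact_sections (ShortComplex.mk (kernel.ι f) f (kernel.condition f))
      (ShortComplex.exact_kernel f) O y hy
    rw [← hx, Subsingleton.elim x 0, map_zero]
  · intro t
    haveI := subsingleton_sections_of_support hOU hc
    haveI : (cokernel f).IsQuasicoherent := QCProps.isQuasicoherent_cokernel f
    haveI : (Abelian.image f).IsQuasicoherent := QCProps.isQuasicoherent_kernel (cokernel.π f)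
    obtain ⟨u, hu⟩ := QCExact.exact_sections
      (ShortComplex.mk (Abelian.image.ι f) (cokernel.π f) (kernel.condition _))
      (ShortComplex.exact_kernel (cokernel.π f)) O t (Subsingleton.elim _ _)
    obtain ⟨a, ha⟩ := (QCExact.epi_iff_surjective_on_affines (Abelian.factorThruImage f)).mp
      inferInstance O hO u
    refine ⟨a, ?_⟩
    have h1 : f.app O a = (Abelian.image.ι f).app O ((Abelian.factorThruImage f).app O a) := by
      have := congrArg (fun φ => (Scheme.Modules.Hom.app φ O).hom a) (Abelian.image.fac f)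
      exact this.symm
    rw [h1, ha]
    exact hu

theorem isIso_restrict_of_support {A B : X.Modules} [A.IsQuasicoherent] [B.IsQuasicoherent]
    (f : A ⟶ B) (U : X.Opens) (hk : CohB1.support (kernel f) ⊆ (U : Set X)ᶜ)
    (hc : CohB1.support (cokernel f) ⊆ (U : Set X)ᶜ) :
    IsIso ((restrictFunctor U.ι).map f) := by
  haveI : (A.restrict U.ι).IsQuasicoherent := Scheme.Modules.isQuasicoherent_restrictFunctor U.ι A
  haveI : (B.restrict U.ι).IsQuasicoherent := Scheme.Modules.isQuasicoherent_restrictFunctor U.ι B
  apply PbIsoCrit.isIso_of_bijective_on_affine_cover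
  intro y
  obtain ⟨O', hO', hyO'⟩ := QCProps.exists_affine_nbhd y
  exact ⟨O', hO', hyO', app_bijective_of_support f U hk hc (U.ι ''ᵁ O')
    (hO'.image_of_isOpenImmersion U.ι) (U.ι_image_le O')⟩

variable [IsLocallyNoetherian X]

theorem isoModSerre_iff (U : X.Opens) {A B : (CohP X).FullSubcategory} (f : A ⟶ B) :
    (Q X U).isoModSerre f ↔ (CohB1.support (kernel f.hom) ⊆ (U : Set X)ᶜ ∧
      CohB1.support (cokernel f.hom) ⊆ (U : Set X)ᶜ) := by
  rw [ObjectProperty.isoModSerre_iff, ObjectProperty.monoModSerre_iff,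
    ObjectProperty.epiModSerre_iff]
  have e1 : (kernel f).obj ≅ kernel f.hom := PreservesKernel.iso (CohP X).ι f
  have e2 : (cokernel f).obj ≅ cokernel f.hom := PreservesCokernel.iso (CohP X).ι f
  show (CohB1.support (kernel f).obj ⊆ _ ∧ CohB1.support (cokernel f).obj ⊆ _) ↔ _
  rw [support_eq_of_iso e1, support_eq_of_iso e2]

end Groth.Agent.Lib.Helper1.GabLoc
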