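import Mathlib
import Groth.Prelude
import Groth.Agent.Lib.Helper1.GabLoc3
import Groth.Agent.Lib.Helper1.ARees
import Groth.Agent.Lib.Helper1.Dev9522
import Groth.Agent.Lib.Helper3.QCPush
import Groth.Agent.Lib.Helper3.QCExtend
import Groth.Agent.Lib.Helper17.SuppKill
import Groth.Agent.S9515

/-!
# Restriction of coherent modules to an open: inverts, essentially surjective, fractions
-/

set_option autoImplicit false
set_option linter.style.haveILetI false
universe u
open CategoryTheory CategoryTheory.Limits AlgebraicGeometry TopologicalSpace Opposite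
open Scheme.Modules

namespace Groth.Agent.Lib.Helper1.GabLoc

open Groth.Agent.Lib.Helper3 Groth.Agent.Lib.Helper17 Groth.Agent.Lib.Helper17.DevBasic

variable (X : Scheme.{u}) [IsNoetherian X] (U : X.Opens)
  (hres : ∀ M : X.Modules, Coh.IsCoh M → Coh.IsCoh ((restrictFunctor U.ι).obj M))

/-- the restriction functor on coherent modules. -/
noncomputable abbrev L1 : (CohP X).FullSubcategory ⥤ (CohP (U : Scheme.{u})).FullSubcategory :=
  ObjectProperty.lift (CohP (U : Scheme.{u})) ((CohP X).ι ⋙ restrictFunctor U.ι)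
    (fun M => hres M.obj M.property)

theorem inverts : (Q X U).isoModSerre.IsInvertedBy (L1 X U hres) := by
  intro A B f hf
  rw [isoModSerre_iff] at hf
  haveI := A.property.1
  haveI := B.property.1
  haveI : IsIso ((CohP (U : Scheme.{u})).ι.map ((L1 X U hres).map f)) :=
    isIso_restrict_of_support f.hom U hf.1 hf.2
  exact isIso_of_fully_faithful (CohP (U : Scheme.{u})).ι _

theorem ess (N : (CohP (U : Scheme.{u})).FullSubcategory) :
    ∃ M : (CohP X).FullSubcategory, Nonempty ((L1 X U hres).obj M ≅ N) := by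
  haveI := N.property.1
  have hUc : IsCompact (U : Set X) := NoetherianSpace.isCompact _
  haveI : ((pushforward U.ι).obj N.obj).IsQuasicoherent :=
    QCSec.isQuasicoherent_pushforward U.ι N.obj
  haveI : IsIso ((restrictAdjunction U.ι).counit.app N.obj) := inferInstance
  let i' : N.obj ⟶ ((pushforward U.ι).obj N.obj).restrict U.ι :=
    inv ((restrictAdjunction U.ι).counit.app N.obj)
  obtain ⟨F, i, e, -, hFq, hFt, -⟩ :=
    QCExtend.exists_finiteType_extension U hUc ((pushforward U.ι).obj N.obj) N.obj N.property.2 i'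
  exact ⟨⟨F, ⟨hFq, hFt⟩⟩, ⟨ObjectProperty.isoMk _ e⟩⟩

theorem fraction (A B : (CohP X).FullSubcategory)
    (φ : (L1 X U hres).obj A ⟶ (L1 X U hres).obj B) :
    ∃ (A' : (CohP X).FullSubcategory) (s : A' ⟶ A) (_ : (Q X U).isoModSerre s) (ψ : A' ⟶ B),
      (L1 X U hres).map ψ = (L1 X U hres).map s ≫ φ := by
  haveI := A.property.1
  haveI := A.property.2
  have hU : (U : Set X) = ((ARees.JV U).support : Set X)ᶜ := by
    rw [ARees.JV, Scheme.IdealSheafData.coe_support_vanishingIdeal]
    exact (compl_compl _).symm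
  obtain ⟨n, ψ, hψ⟩ := Groth.Agent.S9515.result X B.obj A.obj B.property.1 A.property
    (ARees.JV U) U hU φ.hom
  have hcoh : Coh.IsCoh ((Dual3.idealMul (ARees.JV U ^ n)).obj A.obj) :=
    isCoh_kernel (DevStep.proj (ARees.JV U ^ n) A.obj) A.property inferInstance
  refine ⟨⟨_, hcoh⟩, ObjectProperty.homMk (Dual3.idealMulι (ARees.JV U ^ n) A.obj), ?_,
    ObjectProperty.homMk ψ, ?_⟩
  · rw [isoModSerre_iff]
    constructor
    · have hz : IsZero (kernel (Dual3.idealMulι (ARees.JV U ^ n) A.obj)) := by
        haveI : Mono (Dual3.idealMulι (ARees.JV U ^ n) A.obj) :=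
          inferInstanceAs (Mono (kernel.ι _))
        exact isZero_kernel_of_mono _
      show CohB1.support (kernel (Dual3.idealMulι (ARees.JV U ^ n) A.obj)) ⊆ _
      rw [support_eq_empty_of_isZero hz]
      exact Set.empty_subset _
    · show CohB1.support (cokernel (Dual3.idealMulι (ARees.JV U ^ n) A.obj)) ⊆ _
      let m : cokernel (kernel.ι (DevStep.proj (ARees.JV U ^ n) A.obj)) ⟶
          DevStep.quot (ARees.JV U ^ n) A.obj :=
        Abelian.factorThruCoimage (DevStep.proj (ARees.JV U ^ n) A.obj)
      haveI : Mono m := inferInstanceAs (Mono (Abelian.factorThruCoimage _))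
      refine (support_subset_of_mono m).trans ?_
      refine (SuppKill.support_subset_of_kill _ (ARees.JV U ^ n)
        ((killed_iff _ _).mp (DevStep.killed_quot (ARees.JV U ^ n) A.obj))).trans ?_
      refine (Groth.Agent.Lib.Helper1.Dev9522.support_pow_le _ n).trans ?_
      rw [ARees.JV, Scheme.IdealSheafData.coe_support_vanishingIdeal]
      rfl
  · apply ObjectProperty.hom_ext
    exact hψ

end Groth.Agent.Lib.Helper1.GabLoc
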