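import Mathlib
import Groth.Prelude
import Groth.Agent.Lib.Helper1.GabLoc4
import Groth.Agent.Lib.Helper17.StalkExact

/-!
# Gabriel: `Coh(X) → Coh(U)` is the localization at morphisms with kernel and cokernel off `U`
-/

set_option autoImplicit false
set_option linter.style.haveILetI false
universe u
open CategoryTheory CategoryTheory.Limits AlgebraicGeometry TopologicalSpace Opposite
open Scheme.Modules

namespace Groth.Agent.Lib.Helper1.GabLoc

open Groth.Agent.Lib.Helper3 Groth.Agent.Lib.Helper17 Groth.Agent.Lib.Helper17.DevBasic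
  Groth.Agent.Lib.Helper17.StalkExact

theorem support_image_of_restrict_eq_zero {X : Scheme.{u}} {A B : X.Modules} (ψ : A ⟶ B)
    (U : X.Opens) (hψ : (restrictFunctor U.ι).map ψ = 0) :
    CohB1.support (Abelian.image ψ) ⊆ (U : Set X)ᶜ := by
  intro x hx hxU
  apply hx
  suffices hz : ∀ k : (Abelian.image ψ).presheaf.stalk x, k = 0 from
    ⟨fun k k' => by rw [hz k, hz k']⟩
  intro k
  obtain ⟨g, rfl⟩ := stalkLin_surjective (Abelian.factorThruImage ψ) x k
  apply stalkLin_injective (Abelian.image.ι ψ) x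
  rw [map_zero, stalkLin_apply, stalkLin_apply, ← QS.stalkMap_comp_apply, Abelian.image.fac]
  obtain ⟨W, hxW, t, rfl⟩ := TopCat.Presheaf.exists_germ_eq A.presheaf g
  rw [QS.stalkMap_germ]
  have hVW : U.ι ''ᵁ (U.ι ⁻¹ᵁ W) ≤ W := U.ι.image_preimage_le W
  have hxV : x ∈ U.ι ''ᵁ (U.ι ⁻¹ᵁ W) := by
    rw [Scheme.Hom.image_preimage_eq_opensRange_inf, Scheme.Opens.opensRange_ι]
    exact ⟨hxU, hxW⟩
  rw [← TopCat.Presheaf.germ_res_apply B.presheaf (homOfLE hVW) x hxV, ← ModBasic.app_res ψ hVW t]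
  have h0 : ψ.app (U.ι ''ᵁ (U.ι ⁻¹ᵁ W)) (A.presheaf.map (homOfLE hVW).op t) = 0 :=
    congrArg (fun φ => (Scheme.Modules.Hom.app φ (U.ι ⁻¹ᵁ W)).hom
      (A.presheaf.map (homOfLE hVW).op t)) hψ
  rw [h0, map_zero]

variable (X : Scheme.{u}) [IsNoetherian X] (U : X.Opens)
  (hres : ∀ M : X.Modules, Coh.IsCoh M → Coh.IsCoh ((restrictFunctor U.ι).obj M))

/-- equalizing two maps with the same restriction. -/
theorem exists_postcomp_eq {A B : (CohP X).FullSubcategory} (f g : A ⟶ B)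
    (h : (L1 X U hres).map f = (L1 X U hres).map g) :
    ∃ (B' : (CohP X).FullSubcategory) (s : B ⟶ B') (_ : (Q X U).isoModSerre s),
      f ≫ s = g ≫ s := by
  have hδ : (restrictFunctor U.ι).map (f.hom - g.hom) = 0 := by
    rw [Functor.map_sub, sub_eq_zero]
    exact congrArg (fun φ => φ.hom) h
  have hcoh : Coh.IsCoh (cokernel (f.hom - g.hom)) :=
    isCoh_cokernel (f.hom - g.hom) A.property.1 B.property
  refine ⟨⟨_, hcoh⟩, ObjectProperty.homMk (cokernel.π (f.hom - g.hom)), ?_, ?_⟩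
  · rw [isoModSerre_iff]
    constructor
    · exact support_image_of_restrict_eq_zero (f.hom - g.hom) U hδ
    · have hz : IsZero (cokernel (cokernel.π (f.hom - g.hom))) := isZero_cokernel_of_epi _
      show CohB1.support (cokernel (cokernel.π (f.hom - g.hom))) ⊆ _
      rw [support_eq_empty_of_isZero hz]
      exact Set.empty_subset _
  · apply ObjectProperty.hom_ext
    show f.hom ≫ cokernel.π (f.hom - g.hom) = g.hom ≫ cokernel.π (f.hom - g.hom)
    rw [← sub_eq_zero, ← Preadditive.sub_comp, cokernel.condition]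

theorem key13987 :
    (L1 X U hres).IsLocalization
      (fun (A B : (CohP X).FullSubcategory) (f : A ⟶ B) =>
        CohB1.support (kernel f.hom) ⊆ (↑U : Set X)ᶜ ∧
          CohB1.support (cokernel f.hom) ⊆ (↑U : Set X)ᶜ) := by
  have hW : (fun (A B : (CohP X).FullSubcategory) (f : A ⟶ B) =>
        CohB1.support (kernel f.hom) ⊆ (↑U : Set X)ᶜ ∧
          CohB1.support (cokernel f.hom) ⊆ (↑U : Set X)ᶜ) = (Q X U).isoModSerre := by
    funext A B f
    exact propext (isoModSerre_iff U f).symm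
  rw [hW]
  obtain ⟨W, hWdef⟩ : ∃ W : MorphismProperty (CohP X).FullSubcategory,
      W = (Q X U).isoModSerre := ⟨_, rfl⟩
  have hinv : W.IsInvertedBy (L1 X U hres) := by rw [hWdef]; exact inverts X U hres
  have hWs : ∀ {A B : (CohP X).FullSubcategory} (s : A ⟶ B), (Q X U).isoModSerre s → W s := by
    intro A B s h
    rw [hWdef]
    exact h
  haveI : W.HasLeftCalculusOfFractions := by rw [hWdef]; infer_instance
  rw [← hWdef]
  let G := Localization.lift (L1 X U hres) hinv W.Q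
  let e : W.Q ⋙ G ≅ L1 X U hres := Localization.fac _ _ _
  have hnat : ∀ {A B : (CohP X).FullSubcategory} (f : A ⟶ B),
      G.map (W.Q.map f) ≫ e.hom.app B = e.hom.app A ≫ (L1 X U hres).map f :=
    fun f => e.hom.naturality f
  haveI : G.EssSurj := ⟨fun N => by
    obtain ⟨M, ⟨i⟩⟩ := ess X U hres N
    exact ⟨W.Q.obj M, ⟨e.app M ≪≫ i⟩⟩⟩
  haveI : G.Faithful := by
    refine Functor.faithful_of_comp_of_hasLeftCalculusOfFractions W.Q W G (fun A B f g h => ?_)
    have h1 : (L1 X U hres).map f = (L1 X U hres).map g := by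
      rw [← cancel_epi (e.hom.app A), ← hnat f, ← hnat g, h]
    obtain ⟨B', s, hs, hfg⟩ := exists_postcomp_eq X U hres f g h1
    haveI : IsIso (W.Q.map s) := Localization.inverts W.Q W s (hWs s hs)
    rw [← cancel_mono (W.Q.map s), ← Functor.map_comp, ← Functor.map_comp, hfg]
  haveI : G.Full := by
    refine ⟨fun {X₁ X₂} φ => ?_⟩
    haveI : W.Q.EssSurj := Localization.essSurj W.Q W
    let a₁ := W.Q.objObjPreimageIso X₁
    let a₂ := W.Q.objObjPreimageIso X₂
    obtain ⟨φ', hφ'⟩ : ∃ φ' : G.obj (W.Q.obj (W.Q.objPreimage X₁)) ⟶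
        G.obj (W.Q.obj (W.Q.objPreimage X₂)), φ' = G.map a₁.hom ≫ φ ≫ G.map a₂.inv := ⟨_, rfl⟩
    obtain ⟨A', s, hs, ψ, hψ⟩ := fraction X U hres (W.Q.objPreimage X₁) (W.Q.objPreimage X₂)
      (e.inv.app _ ≫ φ' ≫ e.hom.app _)
    haveI : IsIso (W.Q.map s) := Localization.inverts W.Q W s (hWs s hs)
    have key : G.map (W.Q.map ψ) = G.map (W.Q.map s) ≫ φ' := by
      rw [← cancel_mono (e.hom.app (W.Q.objPreimage X₂)), hnat ψ, hψ, Category.assoc,
        ← Category.assoc (e.hom.app A'), ← hnat s]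
      simp
    refine ⟨a₁.inv ≫ (inv (W.Q.map s) ≫ W.Q.map ψ) ≫ a₂.hom, ?_⟩
    have h2 : G.map (inv (W.Q.map s) ≫ W.Q.map ψ) = φ' := by
      rw [← cancel_epi (G.map (W.Q.map s)), ← Functor.map_comp, IsIso.hom_inv_id_assoc, key]
    rw [Functor.map_comp, Functor.map_comp, h2, hφ']
    simp [← Functor.map_comp_assoc, ← Functor.map_comp]
  haveI : G.IsEquivalence := { }
  exact Functor.IsLocalization.of_equivalence_target W.Q W (L1 X U hres) G.asEquivalence e

end Groth.Agent.Lib.Helper1.GabLoc
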