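import Mathlib
import Groth.Agent.Lib.Helper3.ModBasis
import Groth.Agent.Lib.Helper3.QCExact
import Groth.Agent.Lib.Helper3.QCSec

/-!
# Sections supported in a closed subset are those killed by a power of the ideal
-/

set_option autoImplicit false
set_option linter.style.haveILetI false
universe u
open CategoryTheory CategoryTheory.Limits AlgebraicGeometry Opposite

namespace Groth.Agent.Lib.Helper1.GammaZPow

open Groth.Agent.Lib.Helper3 Scheme.Modules

theorem key {U X : Scheme.{u}} (j : U ⟶ X) [IsOpenImmersion j] (F : X.Modules) [F.IsQuasicoherent]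
    (V : X.Opens) (hV : IsAffineOpen V) (I : Ideal Γ(X, V)) (hI : I.FG)
    (hZ : ∀ x : X, x ∈ V → (x ∉ Set.range j.base ↔ ∀ f ∈ I, x ∉ X.basicOpen f))
    (s : Γ(F, V)) :
    (∃ c : Γ(kernel ((restrictAdjunction j).unit.app F), V),
      (kernel.ι ((restrictAdjunction j).unit.app F)).app V c = s) ↔
      ∃ n : ℕ, ∀ a ∈ I ^ n, a • s = 0 := by
  set η := (restrictAdjunction j).unit.app F with hη
  have hle : j ''ᵁ (j ⁻¹ᵁ V) ≤ V := j.image_preimage_le V
  have h1 : (∃ c : Γ(kernel η, V), (kernel.ι η).app V c = s) ↔ QCSec.res F hle s = 0 := by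
    constructor
    · rintro ⟨c, rfl⟩
      have h0 := congrArg (fun φ => (Scheme.Modules.Hom.app φ V).hom c) (kernel.condition η)
      exact h0
    · intro h
      have hex : (ShortComplex.mk (kernel.ι η) η (kernel.condition η)).Exact :=
        ShortComplex.exact_kernel _
      haveI : Mono (ShortComplex.mk (kernel.ι η) η (kernel.condition η)).f := equalizer.ι_mono
      exact QCExact.exact_sections _ hex V s h
  rw [h1]
  have hmem : ∀ x : X, x ∈ j ''ᵁ (j ⁻¹ᵁ V) ↔ x ∈ V ∧ x ∈ Set.range j.base := by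
    intro x
    rw [Scheme.Hom.image_preimage_eq_opensRange_inf]
    exact ⟨fun h => ⟨h.2, h.1⟩, fun h => ⟨h.2, h.1⟩⟩
  constructor
  · intro hs
    -- each element of `I` has a power killing `s`
    have hrad : I ≤ (Module.annihilator Γ(X, V) (Submodule.span Γ(X, V) {s})).radical := by
      intro f hf
      have hfU : X.basicOpen f ≤ j ''ᵁ (j ⁻¹ᵁ V) := by
        intro x hx
        rw [hmem]
        refine ⟨X.basicOpen_le f hx, ?_⟩
        by_contra hcon
        exact ((hZ x (X.basicOpen_le f hx)).mp hcon) f hf hx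
      have hloc := QCSec.isLocSec_of_isQuasicoherent F hV f (X.basicOpen f) rfl (X.basicOpen_le f)
      have h2 : QCSec.res F (X.basicOpen_le f) s = 0 := by
        have h3 : QCSec.res F hfU (QCSec.res F hle s) = QCSec.res F (X.basicOpen_le f) s :=
          ModBasic.map_map_apply F hfU hle s
        rw [← h3, hs, QCSec.res_zero]
      obtain ⟨n, hn⟩ := hloc.inj s h2
      refine ⟨n, ?_⟩
      rw [Module.mem_annihilator]
      rintro ⟨y, hy⟩
      obtain ⟨b, rfl⟩ := Submodule.mem_span_singleton.mp hy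
      apply Subtype.ext
      show f ^ n • b • s = 0
      rw [smul_comm, hn, smul_zero]
    obtain ⟨n, hn⟩ := Ideal.exists_pow_le_of_le_radical_of_fg hrad hI
    refine ⟨n, fun a ha => ?_⟩
    have h4 := Module.mem_annihilator.mp (hn ha) ⟨s, Submodule.mem_span_singleton_self s⟩
    exact congrArg Subtype.val h4
  · rintro ⟨n, hn⟩
    refine ModBasis.eq_zero_of_locally_zero F _ _ (fun x hx => ?_)
    obtain ⟨hxV, hxU⟩ := (hmem x).mp hx
    have h5 : ¬ ∀ f ∈ I, x ∉ X.basicOpen f := fun hcon => ((hZ x hxV).mpr hcon) hxU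
    push Not at h5
    obtain ⟨f, hf, hxf⟩ := h5
    have hfU : X.basicOpen f ≤ j ''ᵁ (j ⁻¹ᵁ V) := by
      intro y hy
      rw [hmem]
      refine ⟨X.basicOpen_le f hy, ?_⟩
      by_contra hcon
      exact ((hZ y (X.basicOpen_le f hy)).mp hcon) f hf hy
    refine ⟨X.basicOpen f, hfU, hxf, ?_⟩
    have h3 : QCSec.res F hfU (QCSec.res F hle s) = QCSec.res F (X.basicOpen_le f) s :=
      ModBasic.map_map_apply F hfU hle s
    rw [h3]
    have h6 : f ^ n • s = 0 := hn _ (Ideal.pow_mem_pow hf n)
    have h7 := congrArg (QCSec.res F (X.basicOpen_le f)) h6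
    rw [QCSec.res_smul, QCSec.res_zero, QCSec.rres_pow] at h7
    have hu : IsUnit (QCSec.rres X (X.basicOpen_le f) f) := RingedSpace.isUnit_res_basicOpen _ f
    have hu' := hu.pow n
    exact (hu'.smul_eq_zero).mp h7

end Groth.Agent.Lib.Helper1.GammaZPow
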