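import Mathlib

/-! Number of generators of a finite module from local generation over an open cover (helper1):
pure commutative algebra part. -/
set_option autoImplicit false
open TopologicalSpace
universe u

namespace Groth.Agent.Lib.Helper1.GenCover

variable {R : Type u} [CommRing R] {M : Type u} [AddCommGroup M] [Module R M]

/-- the colon ideal `(N : y)` -/
def colon (N : Submodule R M) (y : M) : Ideal R := N.comap (LinearMap.toSpanSingleton R M y)

lemma mem_colon (N : Submodule R M) (y : M) (r : R) : r ∈ colon N y ↔ r • y ∈ N := by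
  simp [colon]

/-- the locus where `N` and `M` agree locally -/
def Good (N : Submodule R M) (p : PrimeSpectrum R) : Prop :=
  ∀ y : M, ∃ r : R, r ∉ p.asIdeal ∧ r • y ∈ N

lemma good_iff_of_span (N : Submodule R M) (S : Finset M) (hS : Submodule.span R (S : Set M) = ⊤)
    (p : PrimeSpectrum R) :
    Good N p ↔ ∀ y ∈ S, ∃ r : R, r ∉ p.asIdeal ∧ r • y ∈ N := by
  constructor
  · intro h y _
    exact h y
  · intro h y
    have hy : y ∈ Submodule.span R (S : Set M) := by rw [hS]; trivial
    induction hy using Submodule.span_induction with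
    | mem x hx => exact h x hx
    | zero => exact ⟨1, fun h1 => p.isPrime.ne_top ((Ideal.eq_top_iff_one _).2 h1), by simp⟩
    | add x y _ _ hx hy =>
      obtain ⟨r, hr, hrx⟩ := hx
      obtain ⟨r', hr', hry⟩ := hy
      refine ⟨r * r', fun h => (p.isPrime.mem_or_mem h).elim hr hr', ?_⟩
      rw [smul_add]
      refine N.add_mem ?_ ?_
      · rw [mul_comm, mul_smul]; exact N.smul_mem _ hrx
      · rw [mul_smul]; exact N.smul_mem _ hry
    | smul c x _ hx =>
      obtain ⟨r, hr, hrx⟩ := hx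
      refine ⟨r, hr, ?_⟩
      rw [smul_comm]
      exact N.smul_mem _ hrx

lemma not_good_iff (N : Submodule R M) (S : Finset M) (hS : Submodule.span R (S : Set M) = ⊤)
    (p : PrimeSpectrum R) :
    ¬ Good N p ↔ p ∈ ⋃ y ∈ S, PrimeSpectrum.zeroLocus (colon N y : Set R) := by
  rw [good_iff_of_span N S hS]
  simp only [Set.mem_iUnion, PrimeSpectrum.mem_zeroLocus, not_forall, not_exists, not_and]
  constructor
  · rintro ⟨y, hy, h⟩
    refine ⟨y, hy, fun r hr => ?_⟩
    by_contra hrp
    exact h r hrp ((mem_colon N y r).1 hr)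
  · rintro ⟨y, hy, h⟩
    refine ⟨y, hy, fun r hrp hr => hrp (h ((mem_colon N y r).2 hr))⟩

lemma isClosed_not_good [Module.Finite R M] (N : Submodule R M) :
    IsClosed {p : PrimeSpectrum R | ¬ Good N p} := by
  obtain ⟨S, hS⟩ := (Module.Finite.fg_top : (⊤ : Submodule R M).FG)
  have : {p : PrimeSpectrum R | ¬ Good N p}
      = ⋃ y ∈ S, PrimeSpectrum.zeroLocus (colon N y : Set R) := by
    ext p
    exact not_good_iff N S hS p
  rw [this]
  exact S.finite_toSet.isClosed_biUnion fun y _ => PrimeSpectrum.isClosed_zeroLocus _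

lemma eq_top_of_good (N : Submodule R M) (h : ∀ p, Good N p) : N = ⊤ := by
  rw [eq_top_iff]
  intro y _
  by_contra hy
  have hne : colon N y ≠ ⊤ := by
    intro h1
    have : (1 : R) ∈ colon N y := by rw [h1]; trivial
    rw [mem_colon, one_smul] at this
    exact hy this
  obtain ⟨m, hm, hle⟩ := Ideal.exists_le_maximal _ hne
  obtain ⟨r, hr, hry⟩ := h ⟨m, hm.isPrime⟩ y
  exact hr (hle ((mem_colon N y r).2 hry))

variable [Module.Finite R M]

theorem step (n m : ℕ) (U : Fin m → Opens (PrimeSpectrum R))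
    (h : ∀ i, ∀ b : R, PrimeSpectrum.basicOpen b ≤ U i →
      ∃ x : Fin n → M, ∀ y : M, ∃ e : ℕ, b ^ e • y ∈ Submodule.span R (Set.range x))
    (k : ℕ) (hk : k ≤ m) (Z : Set (PrimeSpectrum R)) (hZ : IsClosed Z)
    (hZU : ∀ p ∈ Z, ∃ i : Fin m, i.val < k ∧ p ∈ U i) :
    ∃ s : Fin (n * k) → M, ∀ p ∈ Z, Good (Submodule.span R (Set.range s)) p := by
  induction k generalizing Z with
  | zero =>
    refine ⟨fun i => 0, fun p hp => ?_⟩
    obtain ⟨i, hi, -⟩ := hZU p hp
    exact absurd hi (Nat.not_lt_zero _)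
  | succ k ih =>
    have hkm : k < m := hk
    let Uk : Opens (PrimeSpectrum R) := U ⟨k, hkm⟩
    -- the part of `Z` outside `U_k`
    have hZ' : IsClosed (Z ∩ (Uk : Set (PrimeSpectrum R))ᶜ) :=
      hZ.inter Uk.2.isClosed_compl
    obtain ⟨s', hs'⟩ := ih (Nat.le_of_succ_le hk) (Z ∩ (Uk : Set (PrimeSpectrum R))ᶜ) hZ' (by
      rintro p ⟨hpZ, hpU⟩
      obtain ⟨i, hi, hpi⟩ := hZU p hpZ
      refine ⟨i, ?_, hpi⟩
      rcases Nat.lt_succ_iff_lt_or_eq.1 hi with h1 | h1
      · exact h1
      · exfalso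
        apply hpU
        have : i = ⟨k, hkm⟩ := Fin.ext h1
        rw [this] at hpi
        exact hpi)
    set N' := Submodule.span R (Set.range s') with hN'
    -- the bad locus
    have hW : IsClosed (Z ∩ {p | ¬ Good N' p}) := hZ.inter (isClosed_not_good N')
    have hWU : ∀ p ∈ Z ∩ {p | ¬ Good N' p}, p ∈ Uk := by
      rintro p ⟨hpZ, hpG⟩
      by_contra hpU
      exact hpG (hs' p ⟨hpZ, hpU⟩)
    obtain ⟨J1, hJ1⟩ := (PrimeSpectrum.isClosed_iff_zeroLocus_ideal _).1 hW
    obtain ⟨J2, hJ2⟩ := (PrimeSpectrum.isClosed_iff_zeroLocus_ideal _).1 Uk.2.isClosed_compl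
    have hJ : J1 ⊔ J2 = ⊤ := by
      rw [← PrimeSpectrum.zeroLocus_empty_iff_eq_top, PrimeSpectrum.zeroLocus_sup, ← hJ1, ← hJ2]
      ext p
      simp only [Set.mem_inter_iff, Set.mem_empty_iff_false, iff_false, not_and]
      intro hp hpU
      exact hpU (hWU p hp)
    have h1 : (1 : R) ∈ J1 ⊔ J2 := by rw [hJ]; trivial
    obtain ⟨a, ha, b, hb, hab⟩ := Submodule.mem_sup.1 h1
    have hbU : PrimeSpectrum.basicOpen b ≤ Uk := by
      intro p hp
      by_contra hpU
      have : p ∈ PrimeSpectrum.zeroLocus (J2 : Set R) := by rw [← hJ2]; exact hpU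
      exact hp (this hb)
    obtain ⟨x, hx⟩ := h ⟨k, hkm⟩ b hbU
    refine ⟨fun i => Fin.append s' x (Fin.cast (by ring) i), ?_⟩
    have hrange : Set.range (fun i : Fin (n * (k + 1)) => Fin.append s' x (Fin.cast (by ring) i))
        = Set.range s' ∪ Set.range x := by
      ext z
      constructor
      · rintro ⟨i, rfl⟩
        change Fin.append s' x (Fin.cast (by ring : n * (k + 1) = n * k + n) i) ∈ _
        generalize (Fin.cast (by ring : n * (k + 1) = n * k + n) i) = j
        induction j using Fin.addCases with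
        | left j => exact Or.inl ⟨j, (Fin.append_left _ _ _).symm⟩
        | right j => exact Or.inr ⟨j, (Fin.append_right _ _ _).symm⟩
      · rintro (⟨j, rfl⟩ | ⟨j, rfl⟩)
        · refine ⟨Fin.cast (by ring) (Fin.castAdd n j), ?_⟩
          simp
        · refine ⟨Fin.cast (by ring) (Fin.natAdd (n * k) j), ?_⟩
          simp
    rw [hrange, Submodule.span_union]
    intro p hpZ y
    by_cases hG : Good N' p
    · obtain ⟨r, hr, hry⟩ := hG y
      exact ⟨r, hr, Submodule.mem_sup_left hry⟩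
    · have hpW : p ∈ PrimeSpectrum.zeroLocus (J1 : Set R) := by rw [← hJ1]; exact ⟨hpZ, hG⟩
      have hap : a ∈ p.asIdeal := hpW ha
      have hbp : b ∉ p.asIdeal := by
        intro hbp
        apply p.isPrime.ne_top
        rw [Ideal.eq_top_iff_one, ← hab]
        exact p.asIdeal.add_mem hap hbp
      obtain ⟨e, he⟩ := hx y
      exact ⟨b ^ e, fun hh => hbp (p.isPrime.mem_of_pow_mem e hh), Submodule.mem_sup_right he⟩

theorem gen_of_cover (n m : ℕ) (U : Fin m → Opens (PrimeSpectrum R)) (hU : ⨆ i, U i = ⊤)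
    (h : ∀ i, ∀ b : R, PrimeSpectrum.basicOpen b ≤ U i →
      ∃ x : Fin n → M, ∀ y : M, ∃ e : ℕ, b ^ e • y ∈ Submodule.span R (Set.range x)) :
    ∃ s : Fin (n * m) → M, Submodule.span R (Set.range s) = ⊤ := by
  obtain ⟨s, hs⟩ := step n m U h m le_rfl Set.univ isClosed_univ (by
    intro p _
    have : p ∈ ((⨆ i, U i : Opens (PrimeSpectrum R)) : Set (PrimeSpectrum R)) := by
      rw [hU]; trivial
    rw [Opens.coe_iSup, Set.mem_iUnion] at this
    obtain ⟨i, hi⟩ := this
    exact ⟨i, i.2, hi⟩)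
  exact ⟨s, eq_top_of_good _ fun p => hs p trivial⟩

end Groth.Agent.Lib.Helper1.GenCover
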