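import Mathlib
import Groth.Prelude.Def_FlatMod2
import Groth.Agent.Lib.Helper3.QCExact
import Groth.Agent.Lib.Helper3.QCLim
import Groth.Agent.Lib.Helper3.QCOpen
import Groth.Agent.Lib.Helper3.QCExtend
import Groth.Agent.Lib.Helper1.GenCover

set_option autoImplicit false
open CategoryTheory CategoryTheory.Limits AlgebraicGeometry TopologicalSpace Opposite
open Scheme.Modules
universe u

namespace Groth.Agent.Lib.Helper1.GenCover
open Groth.Agent.Lib.Helper3 Groth.Agent.Lib.Helper3.QCSec

theorem isQuasicoherent_freeMod (X : Scheme.{u}) (n : ℕ) :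
    SheafOfModules.IsQuasicoherent (R := X.ringCatSheaf) (FlatMod.freeMod X n) :=
  QCLim.isQuasicoherent_finite_colimit (Discrete.functor fun _ : Fin n => Coh.structureModule X)
    (fun _ => (inferInstance : (Coh.structureModule X).IsQuasicoherent))

theorem sum_app {X : Scheme.{u}} {M N : X.Modules} {J : Type*} (t : Finset J) (φ : J → (M ⟶ N))
    (O : X.Opens) (x : Γ(M, O)) : (∑ k ∈ t, φ k).app O x = ∑ k ∈ t, (φ k).app O x := by
  classical
  induction t using Finset.induction_on with
  | empty => simp only [Finset.sum_empty]; rfl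
  | insert a t ha ih =>
    rw [Finset.sum_insert ha, Finset.sum_insert ha, ← ih]
    rfl

section
variable {X : Scheme.{u}} {n : ℕ} {N : X.Modules} (φ : FlatMod.freeMod X n ⟶ N)

/-- the coprojections -/
noncomputable abbrev inj (j : Fin n) : Coh.structureModule X ⟶ FlatMod.freeMod X n :=
  Sigma.ι (fun _ : Fin n => Coh.structureModule X) j

/-- the projections -/
noncomputable def proj (j : Fin n) : FlatMod.freeMod X n ⟶ Coh.structureModule X :=
  Sigma.desc (fun k => if k = j then 𝟙 _ else 0)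

lemma total : ∑ j : Fin n, proj (X := X) j ≫ inj j = 𝟙 (FlatMod.freeMod X n) := by
  apply Sigma.hom_ext
  intro k
  rw [Preadditive.comp_sum, Category.comp_id]
  rw [Finset.sum_eq_single k]
  · simp [proj]
  · intro j _ hjk
    simp [proj, hjk.symm]
  · intro h
    exact absurd (Finset.mem_univ k) h

/-- the global sections of `N` given by `φ` -/
noncomputable def sec (j : Fin n) : Γ(N, ⊤) :=
  (inj j ≫ φ).app ⊤ (1 : Γ(X, ⊤))

lemma app_mem_span (W : X.Opens) (u : Γ(FlatMod.freeMod X n, W)) :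
    φ.app W u ∈ Submodule.span Γ(X, W) (Set.range fun j => res N (le_top : W ≤ ⊤) (sec φ j)) := by
  have h1 : φ = ∑ j : Fin n, proj (X := X) j ≫ (inj j ≫ φ) := by
    conv_lhs => rw [← Category.id_comp φ, ← total, Preadditive.sum_comp]
    simp
  have key : φ.app W u = ∑ j : Fin n, (inj j ≫ φ).app W ((proj (X := X) j).app W u) := by
    conv_lhs => rw [h1]
    rw [sum_app]
    rfl
  rw [key]
  refine Submodule.sum_mem _ fun j _ => ?_
  set r : Γ(Coh.structureModule X, W) := (proj (X := X) j).app W u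
  have hr : r = (show Γ(X, W) from r) • (show Γ(Coh.structureModule X, W) from (1 : Γ(X, W))) :=
    (mul_one (show Γ(X, W) from r)).symm
  have h2 : (inj j ≫ φ).app W (show Γ(Coh.structureModule X, W) from (1 : Γ(X, W)))
      = res N (le_top : W ≤ ⊤) (sec φ j) := by
    unfold sec
    rw [← QCExact.app_res']
    congr 1
    exact (map_one (X.presheaf.map (homOfLE (le_top : W ≤ ⊤)).op).hom).symm
  change (inj j ≫ φ).app W r ∈ _
  rw [hr, Hom.app_smul, h2]
  exact Submodule.smul_mem _ _ (Submodule.subset_span ⟨j, rfl⟩)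

lemma span_eq_top [Epi φ] [N.IsQuasicoherent] (W : X.Opens) (hW : IsAffineOpen W) :
    Submodule.span Γ(X, W) (Set.range fun j => res N (le_top : W ≤ ⊤) (sec φ j)) = ⊤ := by
  haveI := isQuasicoherent_freeMod X n
  rw [eq_top_iff]
  intro t _
  obtain ⟨u, rfl⟩ := (QCExact.epi_iff_surjective_on_affines φ).1 inferInstance W hW t
  exact app_mem_span φ W u

end

section L
variable {R : CommRingCat.{u}} (M : ModuleCat.{u} R)

lemma exists_gens_of_span (b : R) (D : (Spec R).Opens) (hD : D = PrimeSpectrum.basicOpen b)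
    {n : ℕ} (s : Fin n → Γ(tilde M, D))
    (hs : Submodule.span Γ(Spec R, D) (Set.range s) = ⊤) :
    ∃ x : Fin n → M, ∀ y : M, ∃ e : ℕ, b ^ e • y ∈ Submodule.span R (Set.range x) := by
  subst hD
  classical
  let f : M →ₗ[R] Γ(tilde M, PrimeSpectrum.basicOpen b) :=
    (tilde.toOpen M (PrimeSpectrum.basicOpen b)).hom
  haveI : IsLocalizedModule (Submonoid.powers b) f :=
    inferInstanceAs (IsLocalizedModule.Away b (tilde.toOpen M (PrimeSpectrum.basicOpen b)).hom)
  have h1 : ∀ j, ∃ (x : M) (e : ℕ), b ^ e • s j = f x := by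
    intro j
    obtain ⟨⟨x, ⟨_, e, rfl⟩⟩, hx⟩ := IsLocalizedModule.surj (Submonoid.powers b) f (s j)
    exact ⟨x, e, hx⟩
  choose x e hx using h1
  refine ⟨x, ?_⟩
  set N' := Submodule.span R (Set.range x) with hN'
  have key : ∀ t ∈ Submodule.span Γ(Spec R, PrimeSpectrum.basicOpen b) (Set.range s),
      ∃ (k : ℕ) (y' : M), y' ∈ N' ∧ b ^ k • t = f y' := by
    intro t ht
    induction ht using Submodule.span_induction with
    | mem t ht =>
      obtain ⟨j, rfl⟩ := ht
      exact ⟨e j, x j, Submodule.subset_span ⟨j, rfl⟩, hx j⟩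
    | zero => exact ⟨0, 0, N'.zero_mem, by simp⟩
    | add t1 t2 _ _ h1 h2 =>
      obtain ⟨k1, y1, hy1, e1⟩ := h1
      obtain ⟨k2, y2, hy2, e2⟩ := h2
      refine ⟨k1 + k2, b ^ k2 • y1 + b ^ k1 • y2,
        N'.add_mem (N'.smul_mem _ hy1) (N'.smul_mem _ hy2), ?_⟩
      rw [smul_add, map_add, _root_.map_smul, _root_.map_smul, ← e1, ← e2, smul_smul, smul_smul,
        pow_add, mul_comm (b ^ k1) (b ^ k2)]
    | smul a t _ h =>
      obtain ⟨k, y', hy', e'⟩ := h
      obtain ⟨⟨c, ⟨_, l, rfl⟩⟩, hc⟩ := IsLocalization.surj (Submonoid.powers b) a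
      refine ⟨k + l, c • y', N'.smul_mem _ hy', ?_⟩
      have hc' : a * algebraMap R Γ(Spec R, PrimeSpectrum.basicOpen b) (b ^ l)
          = algebraMap R Γ(Spec R, PrimeSpectrum.basicOpen b) c := hc
      calc b ^ (k + l) • (a • t) = b ^ l • (a • (b ^ k • t)) := by
            rw [pow_add, mul_comm, mul_smul, smul_comm (b ^ k) a t]
        _ = (algebraMap R Γ(Spec R, PrimeSpectrum.basicOpen b) (b ^ l) * a) • (b ^ k • t) := by
            rw [mul_smul, algebraMap_smul]
        _ = algebraMap R Γ(Spec R, PrimeSpectrum.basicOpen b) c • f y' := by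
            rw [mul_comm, hc', e']
        _ = f (c • y') := by rw [algebraMap_smul, _root_.map_smul]
  intro y
  obtain ⟨k, y', hy', hk⟩ := key (f y) (by rw [hs]; trivial)
  have h2 : f (b ^ k • y - y') = 0 := by rw [map_sub, _root_.map_smul, hk, sub_self]
  obtain ⟨⟨_, l, rfl⟩, hl⟩ := (IsLocalizedModule.eq_zero_iff (Submonoid.powers b) f).1 h2
  refine ⟨l + k, ?_⟩
  have h3 : b ^ l • (b ^ k • y - y') = 0 := hl
  rw [smul_sub, sub_eq_zero, smul_smul, ← pow_add] at h3
  rw [h3]
  exact N'.smul_mem _ hy'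

theorem exists_gens (V : (Spec R).Opens) (n : ℕ)
    (φ : FlatMod.freeMod (↑V) n ⟶ (tilde M).restrict V.ι) [Epi φ] (b : R)
    (hb : PrimeSpectrum.basicOpen b ≤ V) :
    ∃ x : Fin n → M, ∀ y : M, ∃ e : ℕ, b ^ e • y ∈ Submodule.span R (Set.range x) := by
  let Db : (Spec R).Opens := PrimeSpectrum.basicOpen b
  let W : (V : Scheme.{u}).Opens := V.ι ⁻¹ᵁ Db
  have hD : V.ι ''ᵁ W = Db := by
    rw [Scheme.Hom.image_preimage_eq_opensRange_inf, Scheme.Opens.opensRange_ι]
    exact inf_eq_right.2 hb
  have hDb : IsAffineOpen Db := IsAffineOpen.Spec_basicOpen b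
  have hW : IsAffineOpen W := by
    apply hDb.preimage_of_isOpenImmersion V.ι
    rw [Scheme.Opens.opensRange_ι]
    exact hb
  haveI : ((tilde M).restrict V.ι).IsQuasicoherent :=
    Scheme.Modules.isQuasicoherent_restrictFunctor V.ι (tilde M)
  have hs := span_eq_top φ W hW
  -- the sections, as sections of `tilde M`
  let s' : Fin n → Γ(tilde M, V.ι ''ᵁ W) := fun j =>
    res ((tilde M).restrict V.ι) (le_top : W ≤ ⊤) (sec φ j)
  have hs' : Submodule.span Γ(Spec R, V.ι ''ᵁ W) (Set.range s') = ⊤ := by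
    rw [eq_top_iff]
    intro t _
    have ht : QCExtend.toR (tilde M) V W t ∈ Submodule.span Γ(↑V, W)
        (Set.range fun j => res ((tilde M).restrict V.ι) (le_top : W ≤ ⊤) (sec φ j)) := by
      rw [hs]; trivial
    have key : ∀ t' ∈ Submodule.span Γ(↑V, W)
        (Set.range fun j => res ((tilde M).restrict V.ι) (le_top : W ≤ ⊤) (sec φ j)),
        (show Γ(tilde M, V.ι ''ᵁ W) from t') ∈
          Submodule.span Γ(Spec R, V.ι ''ᵁ W) (Set.range s') := by
      intro t' ht'
      induction ht' using Submodule.span_induction with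
      | mem x hx =>
        obtain ⟨j, rfl⟩ := hx
        exact Submodule.subset_span ⟨j, rfl⟩
      | zero => exact Submodule.zero_mem _
      | add x y _ _ hx hy => exact Submodule.add_mem _ hx hy
      | smul r x _ hx =>
        have e1 : r • x = QCExtend.toR (tilde M) V W (((V.ι.appIso W).inv r) •
            (show Γ(tilde M, V.ι ''ᵁ W) from x)) := by
          rw [QCExtend.toR_smul, Iso.inv_hom_id_apply]
          rfl
        rw [e1]
        exact Submodule.smul_mem _ _ hx
    exact key _ ht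
  exact exists_gens_of_span M b (V.ι ''ᵁ W) hD s' hs'

end L

end Groth.Agent.Lib.Helper1.GenCover
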