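import Mathlib

/-!
# Local algebra for the comparison of generic and closed fibre multiplicities
-/

set_option autoImplicit false
universe u
open IsLocalRing

namespace Groth.Agent.Lib.Helper1.GenLe

/-- `B` Noetherian local, `M` finite, `c ∈ 𝔪` an `M`-regular element, `p ∈ Ass M` such that `𝔪` is the
only prime containing `p + (c)`: then `𝔪 ∈ Ass (M/cM)`. -/
theorem maximalIdeal_isAssociatedPrime_quot {B : Type*} [CommRing B] [IsNoetherianRing B]
    [IsLocalRing B] {M : Type*} [AddCommGroup M] [Module B M] [Module.Finite B M] (c : B)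
    (hc : c ∈ maximalIdeal B) (hreg : IsSMulRegular M c) (p : Ideal B)
    (hp : IsAssociatedPrime p M)
    (honly : ∀ Q : Ideal B, Q.IsPrime → p ≤ Q → c ∈ Q → Q = maximalIdeal B) :
    IsAssociatedPrime (maximalIdeal B) (M ⧸ (Ideal.span {c} • (⊤ : Submodule B M))) := by
  rw [isAssociatedPrime_iff] at hp
  obtain ⟨hpp, x, hx⟩ := hp
  have hx0 : x ≠ 0 := by
    rintro rfl
    have h1 : (1 : B) ∈ p := by
      rw [hx, Submodule.mem_colon_singleton]
      simp
    exact (Ideal.ne_top_iff_one _).mp hpp.ne_top h1
  set N : Submodule B M := Submodule.torsionBySet B M p with hN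
  have hxN : x ∈ N := by
    rw [hN, Submodule.mem_torsionBySet_iff]
    rintro ⟨a, ha⟩
    have : a ∈ p := ha
    rw [hx, Submodule.mem_colon_singleton, Submodule.mem_bot] at this
    exact this
  set π := (Ideal.span {c} • (⊤ : Submodule B M)).mkQ with hπ
  have hNbar : N.map π ≠ ⊥ := by
    intro hbot
    have hle : N ≤ Ideal.span {c} • (⊤ : Submodule B M) := by
      intro n hn
      have : π n ∈ N.map π := Submodule.mem_map_of_mem hn
      rw [hbot, Submodule.mem_bot] at this
      rwa [hπ, Submodule.mkQ_apply, Submodule.Quotient.mk_eq_zero] at this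
    have hle2 : N ≤ Ideal.span {c} • N := by
      intro n hn
      have h1 := hle hn
      rw [Submodule.ideal_span_singleton_smul, Submodule.mem_smul_pointwise_iff_exists] at h1
      obtain ⟨n1, -, rfl⟩ := h1
      rw [Submodule.ideal_span_singleton_smul]
      refine Submodule.smul_mem_pointwise_smul _ _ _ ?_
      rw [hN, Submodule.mem_torsionBySet_iff]
      rintro ⟨a, ha⟩
      rw [hN, Submodule.mem_torsionBySet_iff] at hn
      have h2 : a • (c • n1) = 0 := hn ⟨a, ha⟩
      apply hreg
      show c • (a • n1) = c • 0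
      rw [smul_zero, smul_comm]
      exact h2
    have hNfg : N.FG := IsNoetherian.noetherian N
    have hjac : Ideal.span {c} ≤ Ideal.jacobson (⊥ : Ideal B) := by
      rw [IsLocalRing.jacobson_eq_maximalIdeal ⊥ bot_ne_top, Ideal.span_le,
        Set.singleton_subset_iff]
      exact hc
    have := Submodule.eq_bot_of_le_smul_of_le_jacobson_bot _ N hNfg hle2 hjac
    rw [this, Submodule.mem_bot] at hxN
    exact hx0 hxN
  haveI : Nontrivial (N.map π) := by
    rw [Submodule.nontrivial_iff_ne_bot]
    exact hNbar
  obtain ⟨Q, hQ⟩ := associatedPrimes.nonempty B (N.map π)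
  have hQ' : IsAssociatedPrime Q (M ⧸ (Ideal.span {c} • (⊤ : Submodule B M))) :=
    hQ.map_of_injective (f := (N.map π).subtype) (Submodule.injective_subtype _)
  have hQm : Q = maximalIdeal B := by
    have hQ2 := hQ
    rw [AssociatedPrimes.mem_iff, isAssociatedPrime_iff] at hQ2
    obtain ⟨hQp, ⟨ybar, hy⟩, hQe⟩ := hQ2
    obtain ⟨n, hn, rfl⟩ := hy
    rw [SetLike.mem_coe] at hn
    refine honly Q hQp ?_ ?_
    · intro a ha
      rw [hQe, Submodule.mem_colon_singleton, Submodule.mem_bot]
      apply Subtype.ext
      show a • π n = 0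
      rw [← map_smul]
      rw [hN, Submodule.mem_torsionBySet_iff] at hn
      rw [hn ⟨a, ha⟩, map_zero]
    · rw [hQe, Submodule.mem_colon_singleton, Submodule.mem_bot]
      apply Subtype.ext
      show c • π n = 0
      rw [← map_smul, hπ, Submodule.mkQ_apply, Submodule.Quotient.mk_eq_zero]
      exact Submodule.smul_mem_smul (Ideal.mem_span_singleton_self c) Submodule.mem_top
  rw [← hQm]
  exact hQ'

/-- A nonzero finite module over a Noetherian local ring whose support is the closed point has the
maximal ideal as an associated prime. -/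
theorem maximalIdeal_isAssociatedPrime_of_support {B : Type*} [CommRing B] [IsNoetherianRing B]
    [IsLocalRing B] {N : Type*} [AddCommGroup N] [Module B N] [Module.Finite B N] [Nontrivial N]
    (hsupp : ∀ Q : PrimeSpectrum B, Q ∈ Module.support B N → Q.asIdeal = maximalIdeal B) :
    IsAssociatedPrime (maximalIdeal B) N := by
  obtain ⟨Q, hQ⟩ := associatedPrimes.nonempty B N
  have hQ1 : IsAssociatedPrime Q N := hQ
  have : (⟨Q, hQ1.isPrime⟩ : PrimeSpectrum B) ∈ Module.support B N :=
    Module.mem_support_iff_of_finite.mpr (by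
      have := hQ1.annihilator_le
      rwa [Submodule.annihilator_top] at this)
  have h2 := hsupp _ this
  simp only at h2
  rw [← h2]
  exact hQ1

end Groth.Agent.Lib.Helper1.GenLe
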