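import Mathlib

/-!
# Maximal points of closed subsets (topology)
-/

set_option autoImplicit false
universe u
open TopologicalSpace

namespace Groth.Agent.Lib.Helper1.GenLe

/-- In a quasi-sober `T₀` space, every point of a closed set has a generization in the set which is a
maximal point of the set. -/
theorem exists_maximal_generization {X : Type*} [TopologicalSpace X] [QuasiSober X] [T0Space X]
    (Z : Set X) (hZ : IsClosed Z) (w : X) (hw : w ∈ Z) :
    ∃ w' ∈ Z, w' ⤳ w ∧ ∀ v ∈ Z, v ⤳ w' → v = w' := by
  haveI : QuasiSober Z := hZ.isClosedEmbedding_subtypeVal.quasiSober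
  have hCirr : IsIrreducible (irreducibleComponent (⟨w, hw⟩ : Z)) :=
    isIrreducible_irreducibleComponent
  have hCcl : IsClosed (irreducibleComponent (⟨w, hw⟩ : Z)) := isClosed_irreducibleComponent
  obtain ⟨g, hg⟩ := QuasiSober.sober hCirr hCcl
  refine ⟨g.1, g.2, ?_, ?_⟩
  · have h1 : g ⤳ (⟨w, hw⟩ : Z) := by
      rw [specializes_iff_mem_closure, hg.def]
      exact mem_irreducibleComponent
    exact h1.map continuous_subtype_val
  · intro v hv hvg
    have h1 : (⟨v, hv⟩ : Z) ⤳ g := Topology.IsInducing.subtypeVal.specializes_iff.mp hvg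
    have h2 : irreducibleComponent (⟨w, hw⟩ : Z) ⊆ closure {(⟨v, hv⟩ : Z)} := by
      rw [← hg.def]
      exact specializes_iff_closure_subset.mp h1
    have h3 : closure {(⟨v, hv⟩ : Z)} = irreducibleComponent (⟨w, hw⟩ : Z) :=
      eq_irreducibleComponent isIrreducible_singleton.closure.isPreirreducible h2
    have h4 : IsGenericPoint (⟨v, hv⟩ : Z) (irreducibleComponent (⟨w, hw⟩ : Z)) := h3
    exact congrArg Subtype.val (h4.eq hg)

/-- A closed subset of a Noetherian quasi-sober `T₀` space has finitely many maximal points. -/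
theorem finite_maximal_points {X : Type*} [TopologicalSpace X] [NoetherianSpace X] [QuasiSober X]
    [T0Space X] (Z : Set X) (hZ : IsClosed Z) :
    {v : X | v ∈ Z ∧ ∀ w ∈ Z, w ⤳ v → w = v}.Finite := by
  haveI : QuasiSober Z := hZ.isClosedEmbedding_subtypeVal.quasiSober
  have hfin : (irreducibleComponents Z).Finite := NoetherianSpace.finite_irreducibleComponents
  have hinj : Set.InjOn (fun g : Z => closure ({g} : Set Z))
      ((fun g : Z => closure ({g} : Set Z)) ⁻¹' irreducibleComponents Z) := by
    intro g _ g' _ h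
    have h1 : IsGenericPoint g (closure {g}) := rfl
    have h2 : IsGenericPoint g' (closure {g}) := h.symm
    exact h1.eq h2
  have hfin2 := hfin.preimage hinj
  refine (hfin2.image Subtype.val).subset ?_
  rintro v ⟨hvZ, hmax⟩
  refine ⟨⟨v, hvZ⟩, ?_, rfl⟩
  show closure {(⟨v, hvZ⟩ : Z)} ∈ irreducibleComponents Z
  have hCirr : IsIrreducible (irreducibleComponent (⟨v, hvZ⟩ : Z)) :=
    isIrreducible_irreducibleComponent
  have hCcl : IsClosed (irreducibleComponent (⟨v, hvZ⟩ : Z)) := isClosed_irreducibleComponent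
  obtain ⟨g, hg⟩ := QuasiSober.sober hCirr hCcl
  have h1 : g ⤳ (⟨v, hvZ⟩ : Z) := by
    rw [specializes_iff_mem_closure, hg.def]
    exact mem_irreducibleComponent
  have h2 : g.1 = v := hmax g.1 g.2 (h1.map continuous_subtype_val)
  have h3 : g = ⟨v, hvZ⟩ := Subtype.ext h2
  rw [← h3, hg.def]
  exact irreducibleComponent_mem_irreducibleComponents _

end Groth.Agent.Lib.Helper1.GenLe
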