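import Mathlib

/-!
# Base change along a surjection with principal kernel; transfer of associated primes
-/

set_option autoImplicit false
universe u
open IsLocalRing

namespace Groth.Agent.Lib.Helper1.GenLe

/-- base change along a surjection with principal kernel is the quotient. -/
theorem exists_linearEquiv_baseChange_quot {A B' : Type u} [CommRing A] [CommRing B']
    [Algebra A B'] {M N : Type u} [AddCommGroup M] [Module A M] [AddCommGroup N] [Module A N]
    [Module B' N] [IsScalarTower A B' N] (hsurj : Function.Surjective (algebraMap A B')) (c : A)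
    (hker : RingHom.ker (algebraMap A B') = Ideal.span {c})
    (γ : M →ₗ[A] N) (hγ : IsBaseChange B' γ) :
    Nonempty (N ≃ₗ[A] (M ⧸ (Ideal.span {c} • (⊤ : Submodule A M)))) := by
  have hsurj' : Function.Surjective (Algebra.ofId A B') := by
    intro b
    obtain ⟨a, ha⟩ := hsurj b
    exact ⟨a, by rw [Algebra.ofId_apply]; exact ha⟩
  have hI : RingHom.ker (Algebra.ofId A B') = Ideal.span {c} := by
    rw [← hker]
    ext a
    rw [RingHom.mem_ker, RingHom.mem_ker, Algebra.ofId_apply]
  let e1 : TensorProduct A B' M ≃ₗ[A] N := hγ.equiv.restrictScalars A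
  let e2 : (A ⧸ RingHom.ker (Algebra.ofId A B')) ≃ₗ[A] B' :=
    (Ideal.quotientKerAlgEquivOfSurjective hsurj').toLinearEquiv
  let e3 := TensorProduct.quotTensorEquivQuotSMul M (RingHom.ker (Algebra.ofId A B'))
  let e4 : TensorProduct A B' M ≃ₗ[A]
      TensorProduct A (A ⧸ RingHom.ker (Algebra.ofId A B')) M :=
    TensorProduct.congr e2.symm (LinearEquiv.refl A M)
  exact ⟨e1.symm.trans ((e4.trans e3).trans (Submodule.quotEquivOfEq _ _ (by rw [hI])))⟩

/-- Along a surjection of local rings, the maximal ideal stays associated. -/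
theorem isAssociatedPrime_of_surjective {A B' : Type*} [CommRing A] [CommRing B'] [IsLocalRing A]
    [IsLocalRing B'] [Algebra A B'] (hsurj : Function.Surjective (algebraMap A B'))
    {N : Type*} [AddCommGroup N] [Module A N] [Module B' N] [IsScalarTower A B' N]
    (h : IsAssociatedPrime (maximalIdeal A) N) : IsAssociatedPrime (maximalIdeal B') N := by
  obtain ⟨-, n, hn⟩ := h
  refine ⟨inferInstance, n, ?_⟩
  haveI : IsLocalHom (algebraMap A B') := IsLocalHom.of_surjective _ hsurj
  ext b
  obtain ⟨a, rfl⟩ := hsurj b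
  have h1 : algebraMap A B' a ∈ maximalIdeal B' ↔ a ∈ maximalIdeal A := by
    rw [mem_maximalIdeal, mem_maximalIdeal, mem_nonunits_iff, mem_nonunits_iff,
      isUnit_map_iff]
  rw [h1, hn, Ideal.mem_radical_iff, Ideal.mem_radical_iff]
  refine exists_congr fun k => ?_
  rw [Submodule.mem_colon_singleton, Submodule.mem_colon_singleton, ← map_pow, algebraMap_smul,
    Submodule.mem_bot, Submodule.mem_bot]

/-- Nakayama: `M/cM ≠ 0` for `M ≠ 0` finite and `c ∈ 𝔪`. -/
theorem nontrivial_quot_smul {B : Type*} [CommRing B] [IsLocalRing B] {M : Type*} [AddCommGroup M]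
    [Module B M] [Module.Finite B M] [Nontrivial M] (c : B) (hc : c ∈ maximalIdeal B) :
    Nontrivial (M ⧸ (Ideal.span {c} • (⊤ : Submodule B M))) := by
  rw [Submodule.Quotient.nontrivial_iff]
  intro htop
  have hjac : Ideal.span {c} ≤ Ideal.jacobson (⊥ : Ideal B) := by
    rw [IsLocalRing.jacobson_eq_maximalIdeal ⊥ bot_ne_top, Ideal.span_le,
      Set.singleton_subset_iff]
    exact hc
  have := Submodule.eq_bot_of_le_smul_of_le_jacobson_bot (Ideal.span {c}) (⊤ : Submodule B M)
    Module.Finite.fg_top htop.ge hjac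
  exact top_ne_bot this

end Groth.Agent.Lib.Helper1.GenLe
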