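import Mathlib
import Groth.Prelude
import Groth.Agent.Lib.Helper1.GenLe1
import Groth.Agent.Lib.Helper1.GenLe2
import Groth.Agent.Lib.Helper1.GenLe3
import Groth.Agent.Lib.Helper17.FibreStalkMap
import Groth.Agent.Lib.Lead.StalkLoc
import Groth.Agent.Lib.Helper22.AssocLen5

/-!
# Fibres: stalks of the restriction of a module to a fibre; multiplicities at generizations
-/

set_option autoImplicit false
universe u
open CategoryTheory AlgebraicGeometry TopologicalSpace IsLocalRing

namespace Groth.Agent.Lib.Helper1.GenLe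

open Groth.Agent.Lib.Lead.CycPull Groth.Agent.Lib.Lead.StalkLoc Groth.Agent.Lib.Helper22.AssocLen

section fibre

variable {X Y : Scheme.{u}} (f : X ⟶ Y) (F : X.Modules) [F.IsQuasicoherent]

/-- the stalk of `F|_{X_s}` at `z` is `F_x / c F_x` if `c` generates `𝔪_s O_{X,x}`: lengths. -/
theorem length_fibre_stalk (s : Y) (z : f.fiber s) (c : X.presheaf.stalk ((f.fiberι s).base z))
    (hc : Ideal.map (f.stalkMap ((f.fiberι s).base z)).hom
        (maximalIdeal (Y.presheaf.stalk (f.base ((f.fiberι s).base z)))) = Ideal.span {c}) :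
    Module.length ((f.fiber s).presheaf.stalk z)
        (((Scheme.Modules.pullback (f.fiberι s)).obj F).presheaf.stalk z) =
      Module.length (X.presheaf.stalk ((f.fiberι s).base z))
        (F.presheaf.stalk ((f.fiberι s).base z) ⧸ (Ideal.span {c} •
          (⊤ : Submodule (X.presheaf.stalk ((f.fiberι s).base z))
            (F.presheaf.stalk ((f.fiberι s).base z))))) := by
  obtain ⟨hsurj, hker⟩ := Helper17.FibreStalkMap.stalkMap_fiberι f s z
  letI := ((f.fiberι s).stalkMap z).hom.toAlgebra
  letI : Module (X.presheaf.stalk ((f.fiberι s).base z))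
      (((Scheme.Modules.pullback (f.fiberι s)).obj F).presheaf.stalk z) :=
    Module.compHom _ ((f.fiberι s).stalkMap z).hom
  obtain ⟨hst, γ, hγ⟩ := Helper17.PbStalk.exists_isBaseChange_stalk (f.fiberι s) F z
  haveI := hst
  exact length_baseChange_quot hsurj c (hker.trans hc) γ hγ

/-- transfer of associated points to the fibre. -/
theorem isAssPoint_fibre (s : Y) (z : f.fiber s) (c : X.presheaf.stalk ((f.fiberι s).base z))
    (hc : Ideal.map (f.stalkMap ((f.fiberι s).base z)).hom
        (maximalIdeal (Y.presheaf.stalk (f.base ((f.fiberι s).base z)))) = Ideal.span {c})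
    (h : IsAssociatedPrime (maximalIdeal (X.presheaf.stalk ((f.fiberι s).base z)))
        (F.presheaf.stalk ((f.fiberι s).base z) ⧸ (Ideal.span {c} •
          (⊤ : Submodule (X.presheaf.stalk ((f.fiberι s).base z))
            (F.presheaf.stalk ((f.fiberι s).base z)))))) :
    Curv2.IsAssPoint ((Scheme.Modules.pullback (f.fiberι s)).obj F) z := by
  obtain ⟨hsurj, hker⟩ := Helper17.FibreStalkMap.stalkMap_fiberι f s z
  letI := ((f.fiberι s).stalkMap z).hom.toAlgebra
  letI : Module (X.presheaf.stalk ((f.fiberι s).base z))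
      (((Scheme.Modules.pullback (f.fiberι s)).obj F).presheaf.stalk z) :=
    Module.compHom _ ((f.fiberι s).stalkMap z).hom
  obtain ⟨hst, γ, hγ⟩ := Helper17.PbStalk.exists_isBaseChange_stalk (f.fiberι s) F z
  haveI := hst
  obtain ⟨e⟩ := exists_linearEquiv_baseChange_quot hsurj c (hker.trans hc) γ hγ
  have h1 : IsAssociatedPrime (maximalIdeal (X.presheaf.stalk ((f.fiberι s).base z)))
      (((Scheme.Modules.pullback (f.fiberι s)).obj F).presheaf.stalk z) :=
    (LinearEquiv.isAssociatedPrime_iff e).mpr h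
  exact isAssociatedPrime_of_surjective hsurj h1

end fibre

section gen

variable {X : Scheme.{u}} [IsLocallyNoetherian X] (F : X.Modules) [F.IsQuasicoherent]
  [F.IsFiniteType]

/-- a maximal point of the support of `F` generizing `x` gives a minimal prime of the support of
the stalk `F_x`. -/
theorem ker_specMap_mem_minimalPrimes (x x' : X) (h : x' ⤳ x)
    (hne : Nontrivial (F.presheaf.stalk x'))
    (hmax : ∀ w : X, Nontrivial (F.presheaf.stalk w) → w ⤳ x' → w = x') :
    RingHom.ker (Cyc.specMap x x' h) ∈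
      (Module.annihilator (X.presheaf.stalk x) (F.presheaf.stalk x)).minimalPrimes := by
  haveI := Helper17.CohStalk.finite_stalk F x
  haveI hP : (RingHom.ker (Cyc.specMap x x' h)).IsPrime := RingHom.ker_isPrime _
  refine ⟨⟨hP, ?_⟩, ?_⟩
  · have := (mem_support_iff_nontrivial F h ⟨_, hP⟩ rfl).mpr hne
    exact Module.mem_support_iff_of_finite.mp this
  · rintro q ⟨hq, hle⟩ hqk
    obtain ⟨w, hw, rfl⟩ := exists_eq_ker_specMap x q hq
    have hwne : Nontrivial (F.presheaf.stalk w) :=
      (mem_support_iff_nontrivial F hw ⟨_, hq⟩ rfl).mp (Module.mem_support_iff_of_finite.mpr hle)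
    have hwx' : w ⤳ x' := (ker_specMap_le_iff x w x' hw h).mp hqk
    have := hmax w hwne hwx'
    subst this
    exact le_refl _

/-- **multiplicity inequality at a point**: the sum of the lengths of `F` at finitely many maximal
points of its support which specialize to `x` is at most the length of `F_x/cF_x`. -/
theorem sum_length_le (x : X) (c : X.presheaf.stalk x) (hc : c ∈ maximalIdeal (X.presheaf.stalk x))
    (hreg : IsSMulRegular (F.presheaf.stalk x) c) (𝒮 : Finset X)
    (h𝒮 : ∀ x' ∈ 𝒮, x' ⤳ x ∧ Nontrivial (F.presheaf.stalk x') ∧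
      ∀ w : X, Nontrivial (F.presheaf.stalk w) → w ⤳ x' → w = x') :
    ∑ x' ∈ 𝒮, Module.length (X.presheaf.stalk x') (F.presheaf.stalk x') ≤
      Module.length (X.presheaf.stalk x) (F.presheaf.stalk x ⧸
        (Ideal.span {c} • (⊤ : Submodule (X.presheaf.stalk x) (F.presheaf.stalk x)))) := by
  classical
  haveI := Helper17.CohStalk.finite_stalk F x
  by_cases htop : Module.length (X.presheaf.stalk x) (F.presheaf.stalk x ⧸
        (Ideal.span {c} • (⊤ : Submodule (X.presheaf.stalk x) (F.presheaf.stalk x)))) = ⊤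
  · rw [htop]
    exact le_top
  rcases 𝒮.eq_empty_or_nonempty with hemp | ⟨x₀, hx₀⟩
  · rw [hemp, Finset.sum_empty]
    exact bot_le
  -- the support has positive dimension
  obtain ⟨hx₀x, hx₀ne, hx₀max⟩ := h𝒮 x₀ hx₀
  have hmin₀ := ker_specMap_mem_minimalPrimes F x x₀ hx₀x hx₀ne hx₀max
  have hass₀ : IsAssociatedPrime (RingHom.ker (Cyc.specMap x x₀ hx₀x)) (F.presheaf.stalk x) :=
    Module.associatedPrimes.minimalPrimes_annihilator_subset_associatedPrimes _ _ hmin₀
  have hcnot : c ∉ RingHom.ker (Cyc.specMap x x₀ hx₀x) := by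
    intro hcm
    rw [isAssociatedPrime_iff] at hass₀
    obtain ⟨-, m, hm⟩ := hass₀
    rw [hm, Submodule.mem_colon_singleton, Submodule.mem_bot] at hcm
    have hm0 : m = 0 := hreg (show c • m = c • 0 by rw [smul_zero]; exact hcm)
    have h1 : (1 : X.presheaf.stalk x) ∈ RingHom.ker (Cyc.specMap x x₀ hx₀x) := by
      rw [hm, Submodule.mem_colon_singleton, hm0]
      simp
    exact (Ideal.ne_top_iff_one _).mp (RingHom.ker_isPrime (Cyc.specMap x x₀ hx₀x)).ne_top h1
  have hdim : 0 < Module.supportDim (X.presheaf.stalk x) (F.presheaf.stalk x) := by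
    haveI hP : (RingHom.ker (Cyc.specMap x x₀ hx₀x)).IsPrime := RingHom.ker_isPrime _
    have h1 : (⟨_, hP⟩ : PrimeSpectrum (X.presheaf.stalk x)) ∈
        Module.support (X.presheaf.stalk x) (F.presheaf.stalk x) :=
      Module.mem_support_iff_of_finite.mpr hmin₀.1.2
    have h2 : IsLocalRing.closedPoint (X.presheaf.stalk x) ∈
        Module.support (X.presheaf.stalk x) (F.presheaf.stalk x) := by
      rw [Module.mem_support_iff_of_finite]
      exact hmin₀.1.2.trans (IsLocalRing.le_maximalIdeal hP.ne_top)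
    have h3 : (⟨⟨_, hP⟩, h1⟩ : Module.support (X.presheaf.stalk x) (F.presheaf.stalk x)) <
        ⟨_, h2⟩ := by
      rw [Subtype.mk_lt_mk, ← PrimeSpectrum.asIdeal_lt_asIdeal]
      refine lt_of_le_of_ne (IsLocalRing.le_maximalIdeal hP.ne_top) ?_
      intro heq
      have heq' : RingHom.ker (Cyc.specMap x x₀ hx₀x) = maximalIdeal (X.presheaf.stalk x) := heq
      exact hcnot (by rw [heq']; exact hc)
    unfold Module.supportDim
    exact Order.krullDim_pos_iff.mpr ⟨_, _, h3⟩
  have hmain := (main c (F.presheaf.stalk x) hc hdim htop).1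
  refine le_trans ?_ hmain
  haveI : Finite (Idx (B := X.presheaf.stalk x) (F.presheaf.stalk x)) :=
    (Ideal.finite_minimalPrimes_of_isNoetherianRing _
      (Module.annihilator (X.presheaf.stalk x) (F.presheaf.stalk x))).to_subtype
  haveI : Fintype (Idx (B := X.presheaf.stalk x) (F.presheaf.stalk x)) := Fintype.ofFinite _
  rw [finsum_eq_sum_of_fintype]
  let L : Idx (B := X.presheaf.stalk x) (F.presheaf.stalk x) → ℕ∞ := fun p =>
    haveI : p.1.IsPrime := p.2.1.1
    lam p.1 (F.presheaf.stalk x)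
  show _ ≤ ∑ p : Idx (B := X.presheaf.stalk x) (F.presheaf.stalk x), L p
  -- the map from `𝒮` to the minimal primes
  let g : 𝒮 → Idx (B := X.presheaf.stalk x) (F.presheaf.stalk x) := fun x' =>
    ⟨RingHom.ker (Cyc.specMap x x'.1 (h𝒮 x'.1 x'.2).1),
      ker_specMap_mem_minimalPrimes F x x'.1 (h𝒮 x'.1 x'.2).1 (h𝒮 x'.1 x'.2).2.1 (h𝒮 x'.1 x'.2).2.2⟩
  have hg : Function.Injective g := by
    intro a b hab
    apply Subtype.ext
    exact ker_specMap_injective x a.1 b.1 _ _ (congrArg Subtype.val hab)
  have hterm : ∀ x' : 𝒮, Module.length (X.presheaf.stalk x'.1) (F.presheaf.stalk x'.1) =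
      L (g x') := by
    intro x'
    haveI : (RingHom.ker (Cyc.specMap x x'.1 (h𝒮 x'.1 x'.2).1)).IsPrime := RingHom.ker_isPrime _
    exact (lam_stalk_eq F (h𝒮 x'.1 x'.2).1).symm
  rw [← Finset.sum_coe_sort 𝒮]
  calc ∑ x' : 𝒮, Module.length (X.presheaf.stalk x'.1) (F.presheaf.stalk x'.1)
      = ∑ x' : 𝒮, L (g x') := Finset.sum_congr rfl fun x' _ => hterm x'
    _ = ∑ p ∈ Finset.univ.image g, L p :=
        (Finset.sum_image (f := L) (fun a _ b _ hab => hg hab)).symm
    _ ≤ ∑ p : Idx (B := X.presheaf.stalk x) (F.presheaf.stalk x), L p :=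
        Finset.sum_le_sum_of_subset (Finset.subset_univ _)

end gen

end Groth.Agent.Lib.Helper1.GenLe
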