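import Mathlib
import Groth.Prelude
import Groth.Agent.Lib.Helper1.GenLe4

/-!
# Combinatorics of the comparison; maximal points of the support in a fibre
-/

set_option autoImplicit false
universe u
open CategoryTheory AlgebraicGeometry TopologicalSpace IsLocalRing

namespace Groth.Agent.Lib.Helper1.GenLe

/-- the combinatorial comparison of two finsums. -/
theorem finsum_le_finsum_of_rel {I' I P : Type*} [Finite I] (T' : I' → ℕ∞) (T : I → ℕ∞)
    (a' : I' → P) (ha' : Function.Injective a') (ℓ : P → ℕ∞) (hT' : ∀ z', T' z' = ℓ (a' z'))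
    (rel : I' → I → Prop) (hrel : ∀ z', ∃ z, rel z' z)
    (hsum : ∀ (z : I) (𝒮 : Finset P), (∀ x' ∈ 𝒮, ∃ z', a' z' = x' ∧ rel z' z) →
      ∑ x' ∈ 𝒮, ℓ x' ≤ T z) :
    ∑ᶠ z', T' z' ≤ ∑ᶠ z, T z := by
  classical
  haveI := Fintype.ofFinite I
  rw [finsum_eq_sum_of_fintype T]
  by_cases hfin : (Function.support T').Finite
  · rw [finsum_eq_sum T' hfin]
    choose φ hφ using hrel
    rw [← Finset.sum_fiberwise hfin.toFinset φ T']
    refine Finset.sum_le_sum fun z _ => ?_
    have h1 := hsum z ((hfin.toFinset.filter (fun z' => φ z' = z)).image a') ?_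
    · rw [Finset.sum_image (fun a _ b _ h => ha' h)] at h1
      refine le_trans (le_of_eq ?_) h1
      exact Finset.sum_congr rfl fun z' _ => hT' z'
    · intro x' hx'
      obtain ⟨z', hz', rfl⟩ := Finset.mem_image.mp hx'
      exact ⟨z', rfl, (Finset.mem_filter.mp hz').2 ▸ hφ z'⟩
  · rw [finsum_of_infinite_support hfin]
    exact bot_le

section fibre

variable {X Y : Scheme.{u}} (f : X ⟶ Y) (F : X.Modules) [F.IsQuasicoherent] [F.IsFiniteType]

theorem nontrivial_fibre_stalk_iff (s : Y) (z : f.fiber s) :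
    Nontrivial (((Scheme.Modules.pullback (f.fiberι s)).obj F).presheaf.stalk z) ↔
      Nontrivial (F.presheaf.stalk ((f.fiberι s).base z)) := by
  rw [← not_subsingleton_iff_nontrivial, ← not_subsingleton_iff_nontrivial,
    Helper17.PbStalk.subsingleton_stalk_pullback_iff]

/-- the maximal points of the support of `F|_{X_s}` are the maximal points of `Supp F ∩ X_s`. -/
theorem fibre_index_iff (s : Y) (v : f.fiber s) :
    (Nontrivial (((Scheme.Modules.pullback (f.fiberι s)).obj F).presheaf.stalk v) ∧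
      ∀ w : f.fiber s, Nontrivial (((Scheme.Modules.pullback (f.fiberι s)).obj F).presheaf.stalk w) →
        v ∈ closure {w} → w = v) ↔
    (Nontrivial (F.presheaf.stalk ((f.fiberι s).base v)) ∧
      ∀ w : X, f.base w = s → Nontrivial (F.presheaf.stalk w) → w ⤳ (f.fiberι s).base v →
        w = (f.fiberι s).base v) := by
  rw [nontrivial_fibre_stalk_iff]
  refine and_congr_right fun _ => ?_
  constructor
  · intro h w hw hwne hwv
    obtain ⟨w₀, rfl⟩ : w ∈ Set.range (f.fiberι s) := by
      rw [f.range_fiberι s]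
      exact hw
    have h1 : w₀ ⤳ v := (f.fiberι s).isEmbedding.isInducing.specializes_iff.mp hwv
    rw [h w₀ ((nontrivial_fibre_stalk_iff f F s w₀).mpr hwne) (specializes_iff_mem_closure.mp h1)]
  · intro h w hwne hvw
    have h1 : w ⤳ v := specializes_iff_mem_closure.mpr hvw
    have h2 : (f.fiberι s).base w ⤳ (f.fiberι s).base v := h1.map (f.fiberι s).continuous
    have h3 : (f.fiberι s).base w ∈ f ⁻¹' {s} := by
      rw [← f.range_fiberι s]
      exact ⟨w, rfl⟩
    exact (f.fiberι s).isEmbedding.injective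
      (h _ h3 ((nontrivial_fibre_stalk_iff f F s w).mp hwne) h2)

end fibre

end Groth.Agent.Lib.Helper1.GenLe
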