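import Mathlib
import Groth.Prelude
import Groth.Agent.Lib.Helper1.GenLe5
import Groth.Agent.Lib.Helper1.DVRConn
import Groth.Agent.Lib.Helper1.FibLe2
import Groth.Agent.S0020

/-!
# Schemes over a discrete valuation ring: the germ of the uniformizer, maximal points of the
closed fibre of the support of a flat coherent module
-/

set_option autoImplicit false
universe u
open CategoryTheory AlgebraicGeometry TopologicalSpace IsLocalRing

namespace Groth.Agent.Lib.Helper1.GenLe

open Groth.Agent.Lib.Lead.CycPull Groth.Agent.Lib.Lead.StalkLoc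

variable {A : Type u} [CommRing A] [IsDomain A] [IsDiscreteValuationRing A] {X : Scheme.{u}}
  (f : X ⟶ Spec (CommRingCat.of A))

/-- the germ at `x` of the pullback of `π`. -/
noncomputable def cOf (π : A) (x : X) : X.presheaf.stalk x :=
  X.presheaf.germ ⊤ x trivial (DVRConn.piV f π ⊤)

theorem cOf_eq (π : A) (x : X) : cOf f π x = (f.stalkMap x).hom
    ((Spec (CommRingCat.of A)).presheaf.germ ⊤ (f.base x) trivial
      ((Scheme.ΓSpecIso (CommRingCat.of A)).inv.hom π)) :=
  DVRConn.germ_piV f π ⊤ x trivial

theorem cOf_mem_iff {π : A} (hπ : Irreducible π) (x : X) :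
    cOf f π x ∈ maximalIdeal (X.presheaf.stalk x) ↔ f.base x = IsLocalRing.closedPoint A := by
  rw [mem_maximalIdeal, mem_nonunits_iff, cOf, ← Scheme.mem_basicOpen_top,
    DVRConn.mem_basicOpen_piV f hπ]
  constructor
  · intro h
    exact DVRConn.eq_closedPoint_of_ne _ (fun h' => h ⟨trivial, h'⟩)
  · rintro h ⟨-, h'⟩
    rw [h] at h'
    have : maximalIdeal A = ⊥ := congrArg PrimeSpectrum.asIdeal h'
    exact IsDiscreteValuationRing.not_a_field A this

theorem map_maximalIdeal_closed {π : A} (hπ : Irreducible π) (x : X)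
    (hx : f.base x = IsLocalRing.closedPoint A) :
    Ideal.map (f.stalkMap x).hom
        (maximalIdeal ((Spec (CommRingCat.of A)).presheaf.stalk (f.base x))) =
      Ideal.span {cOf f π x} := by
  rw [cOf_eq]
  exact DVRConn.fiberIdeal_eq_span f hπ x hx

theorem map_maximalIdeal_generic (x : X)
    (hx : f.base x = genericPoint (Spec (CommRingCat.of A))) :
    Ideal.map (f.stalkMap x).hom
        (maximalIdeal ((Spec (CommRingCat.of A)).presheaf.stalk (f.base x))) =
      Ideal.span {0} := by
  have h0 : maximalIdeal ((Spec (CommRingCat.of A)).presheaf.stalk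
      (genericPoint (Spec (CommRingCat.of A)))) = ⊥ := by
    have : IsField ((Spec (CommRingCat.of A)).presheaf.stalk
        (genericPoint (Spec (CommRingCat.of A)))) :=
      Field.toIsField (Spec (CommRingCat.of A)).functionField
    exact IsLocalRing.isField_iff_maximalIdeal_eq.mp this
  rw [FibLe.maximalIdeal_stalk_eq_bot_congr hx.symm h0, Ideal.map_bot]
  simp

theorem isSMulRegular_cOf (F : X.Modules) (hflat : FlatMod.IsFlatOver f F) {π : A} (hπ : π ≠ 0)
    (x : X) : IsSMulRegular (F.presheaf.stalk x) (cOf f π x) := by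
  have h1 := hflat x
  unfold FlatMod.IsFlatOverAt at h1
  letI := FlatMod.moduleStalkOver f F x
  have hr0 : (Spec (CommRingCat.of A)).presheaf.germ ⊤ (f.base x) trivial
      ((Scheme.ΓSpecIso (CommRingCat.of A)).inv.hom π) ≠ 0 := by
    rw [DVRConn.germ_top_eq]
    intro h
    have h2 : algebraMap A (Localization.AtPrime (f.base x).asIdeal) π = 0 := by
      have := congrArg (Spec.stalkIso (CommRingCat.of A) (f.base x)).hom.hom h
      simpa using this
    exact hπ ((IsLocalization.injective (Localization.AtPrime (f.base x).asIdeal)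
      (f.base x).asIdeal.primeCompl_le_nonZeroDivisors) (by rw [h2, map_zero]))
  have hr1 := mem_nonZeroDivisors_of_ne_zero hr0
  have h2 : IsSMulRegular (F.presheaf.stalk x) ((Spec (CommRingCat.of A)).presheaf.germ ⊤ (f.base x)
      trivial ((Scheme.ΓSpecIso (CommRingCat.of A)).inv.hom π)) :=
    Module.Flat.isSMulRegular_of_nonZeroDivisors hr1
  rw [cOf_eq]
  exact h2

theorem cOf_mem_ker_iff {π : A} (hπ : Irreducible π) (x w : X) (h : w ⤳ x) :
    cOf f π x ∈ RingHom.ker (Cyc.specMap x w h) ↔ f.base w = IsLocalRing.closedPoint A := by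
  rw [← cOf_mem_iff f hπ w, ← primeOf_asIdeal]
  have h1 : (X.presheaf.stalkSpecializes h).hom (cOf f π x) = cOf f π w := by
    unfold cOf
    exact ConcreteCategory.congr_hom
      (TopCat.Presheaf.germ_stalkSpecializes X.presheaf (U := ⊤) (y := x) trivial h) _
  rw [← h1]
  rfl

end Groth.Agent.Lib.Helper1.GenLe
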