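import Mathlib
import Groth.Prelude
import Groth.Agent.Lib.Helper1.GenLe6

/-!
# Maximal points of the support on the closed fibre (over a DVR)
-/

set_option autoImplicit false
universe u
open CategoryTheory AlgebraicGeometry TopologicalSpace IsLocalRing

namespace Groth.Agent.Lib.Helper1.GenLe

open Groth.Agent.Lib.Lead.CycPull Groth.Agent.Lib.Lead.StalkLoc

variable {A : Type u} [CommRing A] [IsDomain A] [IsDiscreteValuationRing A] {X : Scheme.{u}}
  (f : X ⟶ Spec (CommRingCat.of A)) (F : X.Modules)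

/-- the support of `F` on the closed fibre. -/
def Sy : Set X := {x | f.base x = IsLocalRing.closedPoint A ∧ Nontrivial (F.presheaf.stalk x)}

theorem isClosed_support (hF : Coh.IsCoh F) : IsClosed {x : X | Nontrivial (F.presheaf.stalk x)} := by
  have := Groth.Agent.S0020.result X F hF.2
  have h2 : {x : X | Nontrivial (F.presheaf.stalk x)} = CohB1.support F := by
    ext x
    simp only [Set.mem_setOf_eq, CohB1.support, not_subsingleton_iff_nontrivial]
  rw [h2]
  exact this

theorem isClosed_closedFibre : IsClosed (f.base ⁻¹' {IsLocalRing.closedPoint A}) := by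
  refine IsClosed.preimage f.continuous ?_
  exact (PrimeSpectrum.isClosed_singleton_iff_isMaximal (IsLocalRing.closedPoint A)).mpr
    (IsLocalRing.maximalIdeal.isMaximal A)

theorem isClosed_Sy (hF : Coh.IsCoh F) : IsClosed (Sy f F) :=
  (isClosed_closedFibre f).inter (isClosed_support F hF)

variable [IsLocallyNoetherian X]

/-- a maximal point of `Sy` is an associated point of the closed fibre. -/
theorem isAss_of_maximal (hF : Coh.IsCoh F) {π : A} (hπ : Irreducible π) (x : X)
    (hx : x ∈ Sy f F) (hmax : ∀ w ∈ Sy f F, w ⤳ x → w = x) :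
    IsAssociatedPrime (maximalIdeal (X.presheaf.stalk x)) (F.presheaf.stalk x ⧸
      (Ideal.span {cOf f π x} • (⊤ : Submodule (X.presheaf.stalk x) (F.presheaf.stalk x)))) := by
  haveI : F.IsQuasicoherent := hF.1
  haveI : F.IsFiniteType := hF.2
  haveI := Helper17.CohStalk.finite_stalk F x
  haveI : Nontrivial (F.presheaf.stalk x) := hx.2
  have hc : cOf f π x ∈ maximalIdeal (X.presheaf.stalk x) := (cOf_mem_iff f hπ x).mpr hx.1
  haveI := nontrivial_quot_smul (M := F.presheaf.stalk x) (cOf f π x) hc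
  apply maximalIdeal_isAssociatedPrime_of_support
  intro Q hQ
  rw [Module.mem_support_iff_of_finite] at hQ
  have hcQ : cOf f π x ∈ Q.asIdeal := by
    apply hQ
    rw [Module.mem_annihilator]
    intro n
    obtain ⟨m, rfl⟩ := Submodule.Quotient.mk_surjective _ n
    rw [← Submodule.Quotient.mk_smul, Submodule.Quotient.mk_eq_zero]
    exact Submodule.smul_mem_smul (Ideal.mem_span_singleton_self _) Submodule.mem_top
  have hannQ : Module.annihilator (X.presheaf.stalk x) (F.presheaf.stalk x) ≤ Q.asIdeal := by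
    refine le_trans ?_ hQ
    intro a ha
    rw [Module.mem_annihilator] at ha ⊢
    intro n
    obtain ⟨m, rfl⟩ := Submodule.Quotient.mk_surjective _ n
    rw [← Submodule.Quotient.mk_smul, ha m, Submodule.Quotient.mk_zero]
  obtain ⟨w, hw, hQw⟩ := exists_eq_ker_specMap x Q.asIdeal Q.2
  have hwS : w ∈ Sy f F := by
    refine ⟨(cOf_mem_ker_iff f hπ x w hw).mp (hQw ▸ hcQ), ?_⟩
    exact (mem_support_iff_nontrivial F hw Q hQw).mp (Module.mem_support_iff_of_finite.mpr hannQ)
  have hwx := hmax w hwS hw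
  rw [hQw, ker_specMap_congr x w x hwx hw specializes_rfl, ker_specMap_self]

/-- every maximal point of the support of `F` specializes to a maximal point of the support on the
closed fibre, when the closed fibre of `F` has no embedded points. -/
theorem exists_max_closed [IsProper f] (hF : Coh.IsCoh F) (hflat : FlatMod.IsFlatOver f F)
    (hemb : AssSch.NoEmbedded
      ((Scheme.Modules.pullback (f.fiberι (IsLocalRing.closedPoint A))).obj F))
    (x' : X) (hne : Nontrivial (F.presheaf.stalk x'))
    (hmax : ∀ w : X, Nontrivial (F.presheaf.stalk w) → w ⤳ x' → w = x') :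
    ∃ x1 ∈ Sy f F, x' ⤳ x1 ∧ ∀ w ∈ Sy f F, w ⤳ x1 → w = x1 := by
  haveI : F.IsQuasicoherent := hF.1
  haveI : F.IsFiniteType := hF.2
  obtain ⟨π, hπ⟩ := IsDiscreteValuationRing.exists_irreducible A
  obtain ⟨x0, hx0, hfx0⟩ := DVRFib.exists_specialization f x'
  have hZ : IsClosed (closure {x'} ∩ f.base ⁻¹' {IsLocalRing.closedPoint A}) :=
    isClosed_closure.inter (isClosed_closedFibre f)
  obtain ⟨x1, hx1Z, -, hx1max⟩ := exists_maximal_generization _ hZ x0
    ⟨specializes_iff_mem_closure.mp hx0, hfx0⟩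
  have hx'x1 : x' ⤳ x1 := specializes_iff_mem_closure.mpr hx1Z.1
  have hfx1 : f.base x1 = IsLocalRing.closedPoint A := hx1Z.2
  have hx1ne : Nontrivial (F.presheaf.stalk x1) :=
    (isClosed_support F hF).closure_subset_iff.mpr (Set.singleton_subset_iff.mpr hne) hx1Z.1
  have hx1S : x1 ∈ Sy f F := ⟨hfx1, hx1ne⟩
  refine ⟨x1, hx1S, hx'x1, ?_⟩
  -- `x1` is an associated point of the closed fibre
  haveI := Helper17.CohStalk.finite_stalk F x1
  have hc1 : cOf f π x1 ∈ maximalIdeal (X.presheaf.stalk x1) := (cOf_mem_iff f hπ x1).mpr hfx1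
  have hass1 : IsAssociatedPrime (maximalIdeal (X.presheaf.stalk x1)) (F.presheaf.stalk x1 ⧸
      (Ideal.span {cOf f π x1} • (⊤ : Submodule (X.presheaf.stalk x1) (F.presheaf.stalk x1)))) := by
    refine maximalIdeal_isAssociatedPrime_quot (cOf f π x1) hc1
      (isSMulRegular_cOf f F hflat hπ.ne_zero x1) (RingHom.ker (Cyc.specMap x1 x' hx'x1))
      (Module.associatedPrimes.minimalPrimes_annihilator_subset_associatedPrimes _ _
        (ker_specMap_mem_minimalPrimes F x1 x' hx'x1 hne hmax)) ?_
    intro Q hQ hpQ hcQ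
    obtain ⟨w, hw, rfl⟩ := exists_eq_ker_specMap x1 Q hQ
    have h1 : x' ⤳ w := (ker_specMap_le_iff x1 x' w hx'x1 hw).mp hpQ
    have h2 : f.base w = IsLocalRing.closedPoint A := (cOf_mem_ker_iff f hπ x1 w hw).mp hcQ
    have h3 := hx1max w ⟨specializes_iff_mem_closure.mp h1, h2⟩ hw
    rw [ker_specMap_congr x1 w x1 h3 hw specializes_rfl, ker_specMap_self]
  -- maximality
  intro w hwS hwx1
  obtain ⟨w', hw'S, hw'w, hw'max⟩ := exists_maximal_generization _ (isClosed_Sy f F hF) w hwS
  have hass' := isAss_of_maximal f F hF hπ w' hw'S hw'max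
  obtain ⟨z1, hz1⟩ : x1 ∈ Set.range (f.fiberι (IsLocalRing.closedPoint A)) := by
    rw [f.range_fiberι]
    exact hfx1
  obtain ⟨zw, hzw⟩ : w' ∈ Set.range (f.fiberι (IsLocalRing.closedPoint A)) := by
    rw [f.range_fiberι]
    exact hw'S.1
  subst hz1
  subst hzw
  have hA1 := isAssPoint_fibre f F (IsLocalRing.closedPoint A) z1 _
    (map_maximalIdeal_closed f hπ _ hfx1) hass1
  have hA2 := isAssPoint_fibre f F (IsLocalRing.closedPoint A) zw _
    (map_maximalIdeal_closed f hπ _ hw'S.1) hass'
  have hsp : zw ⤳ z1 :=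
    (f.fiberι (IsLocalRing.closedPoint A)).isEmbedding.isInducing.specializes_iff.mp
      (hw'w.trans hwx1)
  have heq : z1 = zw := hemb z1 hA1 zw hA2 hsp
  subst heq
  exact (hwx1.antisymm hw'w).eq

end Groth.Agent.Lib.Helper1.GenLe
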