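import Mathlib
import Groth.Prelude.Def_Dual3
import Groth.Agent.Lib.Helper14.CMBaseChange
import Groth.Agent.Lib.Helper4.GorRing
import Groth.Agent.Lib.Helper4.GorHomSch

/-!
# The Gorenstein property of a morphism at a point and base change (helper1)

Gorenstein analogue of helper14's `CMBaseChange` / `CMFieldBCSch` / `CMField`, built on helper4's
Gorenstein ring theory.
-/

set_option autoImplicit false
set_option linter.style.haveILetI false
universe u
open CategoryTheory CategoryTheory.Limits AlgebraicGeometry TensorProduct Opposite IsLocalRing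

namespace Groth.Agent.Lib.Helper1.GorBC

open Groth.Agent.Lib.Helper4 Groth.Agent.Lib.Helper4.GorRing Groth.Agent.Lib.Helper4.GorFlat
  Groth.Agent.Lib.Helper4.GorFibre Groth.Agent.Lib.Helper14

section field

/-- `K ⊗_k L` is Gorenstein when `L` is essentially of finite type over `k`. -/
theorem gor_tensor_of_essFiniteType_right (k K L : Type u) [Field k] [Field K] [Field L]
    [Algebra k K] [Algebra k L] [Algebra.EssFiniteType k L] :
    LocCoh.IsGorensteinRing (K ⊗[k] L) := by
  obtain ⟨σ, hσ, P, hP, ⟨e⟩⟩ := CMField.exists_prime_residueField_equiv k L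
  let e1 : (MvPolynomial σ k ⊗[k] K) ≃+* MvPolynomial σ K :=
    (Algebra.TensorProduct.comm k (MvPolynomial σ k) K).toRingEquiv.trans
      (MvPolynomial.algebraTensorAlgEquiv k K).toRingEquiv
  haveI : IsRegularRing (MvPolynomial σ k ⊗[k] K) := IsRegularRing.of_ringEquiv e1.symm
  haveI : IsNoetherianRing (MvPolynomial σ k ⊗[k] K) :=
    isNoetherianRing_of_ringEquiv _ e1.symm
  haveI : IsNoetherianRing (MvPolynomial σ k) := inferInstance
  have hG : LocCoh.IsGorensteinRing (MvPolynomial σ k ⊗[k] K) := gorRing_of_isRegularRing _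
  have hF : LocCoh.IsGorensteinRing (P.Fiber (MvPolynomial σ k ⊗[k] K)) :=
    gorRing_fiber_of_flat (MvPolynomial σ k) (MvPolynomial σ k ⊗[k] K) hG P
  let e2 : P.Fiber (MvPolynomial σ k ⊗[k] K) ≃+* K ⊗[k] L :=
    ((Algebra.TensorProduct.cancelBaseChange k (MvPolynomial σ k) (MvPolynomial σ k)
      P.ResidueField K).toRingEquiv.trans
      (Algebra.TensorProduct.congr e (AlgEquiv.refl : K ≃ₐ[k] K)).toRingEquiv).trans
      (Algebra.TensorProduct.comm k L K).toRingEquiv
  exact gorRing_of_ringEquiv e2 hF

/-- `K ⊗_k L` is Gorenstein when one of the two fields is essentially of finite type. -/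
theorem gor_tensor (k K L : Type u) [Field k] [Field K] [Field L] [Algebra k K] [Algebra k L]
    (h : Algebra.EssFiniteType k K ∨ Algebra.EssFiniteType k L) :
    LocCoh.IsGorensteinRing (K ⊗[k] L) := by
  rcases h with h | h
  · haveI := h
    exact gorRing_of_ringEquiv (Algebra.TensorProduct.comm k L K).toRingEquiv
      (gor_tensor_of_essFiniteType_right k L K)
  · haveI := h
    exact gor_tensor_of_essFiniteType_right k K L

variable (k S k' : Type u) [Field k] [CommRing S] [Algebra k S] [Field k'] [Algebra k k']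

theorem gor_fiber_tensor (P : Ideal S) [P.IsPrime]
    (h : Algebra.EssFiniteType k P.ResidueField ∨ Algebra.EssFiniteType k k') :
    LocCoh.IsGorensteinRing (P.Fiber (S ⊗[k] k')) :=
  gorRing_of_ringEquiv (R := P.ResidueField ⊗[k] k')
    (Algebra.TensorProduct.cancelBaseChange k S S P.ResidueField k').symm.toRingEquiv
    (gor_tensor k P.ResidueField k' h)

variable [IsNoetherianRing S] [IsNoetherianRing (S ⊗[k] k')]

theorem gor_atPrime_iff_tensor (q' : Ideal (S ⊗[k] k')) [q'.IsPrime]
    (h : Algebra.EssFiniteType k (q'.comap (algebraMap S (S ⊗[k] k'))).ResidueField ∨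
      Algebra.EssFiniteType k k') :
    LocCoh.IsGorensteinLocalRing
        (Localization.AtPrime (q'.comap (algebraMap S (S ⊗[k] k')))) ↔
      LocCoh.IsGorensteinLocalRing (Localization.AtPrime q') := by
  have hfib := (isGorensteinRing_fiber_iff S (S ⊗[k] k') _).mp
    (gor_fiber_tensor k S k' _ h) q' rfl
  rw [gor_atPrime_iff S (S ⊗[k] k') q']
  exact ⟨fun h1 => ⟨h1, hfib⟩, fun h1 => h1.1⟩

end field

section scheme
variable {k : Type u} [Field k] {X : Scheme.{u}} (f : X ⟶ Spec (CommRingCat.of k))
variable (k' : Type u) [Field k'] [Algebra k k']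

open Groth.Agent.Lib.Helper14.StalkTensor

local notation "qk" => Spec.map (CommRingCat.ofHom (algebraMap k k'))

/-- Gorenstein-ness at `x'` and at its image under base field extension. -/
theorem gor_stalk_iff [IsLocallyNoetherian X] (x' : ↥(pullback f qk))
    (hN : letI := stalkAlgA f ((pullback.fst f qk) x')
      IsNoetherianRing (X.presheaf.stalk ((pullback.fst f qk) x') ⊗[k] k'))
    (h : letI := stalkAlgA f ((pullback.fst f qk) x')
      Algebra.EssFiniteType k (X.presheaf.stalk ((pullback.fst f qk) x')) ∨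
      Algebra.EssFiniteType k k') :
    LocCoh.IsGorensteinLocalRing (X.presheaf.stalk ((pullback.fst f qk) x')) ↔
      LocCoh.IsGorensteinLocalRing ((pullback f qk).presheaf.stalk x') := by
  letI := stalkAlgA f ((pullback.fst f qk) x')
  have hc := stalkAlgA_compat f ((pullback.fst f qk) x')
  haveI := hN
  obtain ⟨Q, hQp, hQ1, ⟨e⟩⟩ := exists_prime_stalk_equiv f k' ((pullback.fst f qk) x') hc x' rfl
  have hQ1' : Q.comap (algebraMap (X.presheaf.stalk ((pullback.fst f qk) x'))
      (X.presheaf.stalk ((pullback.fst f qk) x') ⊗[k] k')) = maximalIdeal _ := hQ1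
  have h' : Algebra.EssFiniteType k (Q.comap (algebraMap (X.presheaf.stalk ((pullback.fst f qk) x'))
      (X.presheaf.stalk ((pullback.fst f qk) x') ⊗[k] k'))).ResidueField ∨
      Algebra.EssFiniteType k k' := by
    rcases h with h | h
    · left
      haveI := h
      exact Algebra.EssFiniteType.comp k (X.presheaf.stalk ((pullback.fst f qk) x')) _
    · right; exact h
  have key := gor_atPrime_iff_tensor k (X.presheaf.stalk ((pullback.fst f qk) x')) k' Q h'
  rw [gor_atPrime_congr _ _ hQ1', gor_atPrime_maximalIdeal_iff] at key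
  rw [key]
  exact gor_ringEquiv_iff e.symm

end scheme

section basechange
variable {X Y X' Y' : Scheme.{u}}

open Groth.Agent.Lib.Helper14.CMBaseChange in
theorem gor_fibre_iff {f : X ⟶ Y} {f' : X' ⟶ Y'} {g' : X' ⟶ X} {g : Y' ⟶ Y}
    (hc : IsPullback g' f' f g) (x' : X') [IsLocallyNoetherian (f.fiber (g (f' x')))]
    (hyp : LocallyOfFiniteType g ∨ LocallyOfFiniteType f) :
    LocCoh.IsGorensteinLocalRing ↑((f.fiber (f (g' x'))).presheaf.stalk (f.asFiber (g' x'))) ↔
      LocCoh.IsGorensteinLocalRing ↑((f'.fiber (f' x')).presheaf.stalk (f'.asFiber x')) := by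
  obtain ⟨e, hpb, he⟩ := LCF.exists_fibre_isPullback hc (f' x')
  letI aK : Algebra (Y.residueField (g (f' x'))) (Y'.residueField (f' x')) :=
    (g.residueFieldMap (f' x')).hom.toAlgebra
  set φ : f.fiber (g (f' x')) ⟶ Spec (CommRingCat.of (Y.residueField (g (f' x')))) :=
    f.fiberToSpecResidueField (g (f' x')) with hφ
  have hpb' : IsPullback e (f'.fiberToSpecResidueField (f' x')) φ
      (Spec.map (CommRingCat.ofHom (algebraMap (Y.residueField (g (f' x')))
        (Y'.residueField (f' x'))))) := hpb
  set iso := hpb'.isoPullback with hiso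
  set x₀' := f'.asFiber x' with hx₀'
  set x'' := iso.hom x₀' with hx''
  set z := pullback.fst φ (Spec.map (CommRingCat.ofHom (algebraMap (Y.residueField (g (f' x')))
        (Y'.residueField (f' x'))))) x'' with hz
  have hzι : f.fiberι (g (f' x')) z = g' x' := by
    have h1 : z = e x₀' :=
      (Scheme.Hom.comp_apply _ _ _).symm.trans
        (congrArg (fun m : f'.fiber (f' x') ⟶ f.fiber (g (f' x')) => m x₀')
          (IsPullback.isoPullback_hom_fst hpb'))
    have h2 : f.fiberι (g (f' x')) (e x₀') = g' (f'.fiberι (f' x') x₀') :=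
      (Scheme.Hom.comp_apply _ _ _).symm.trans
        ((congrArg (fun m : f'.fiber (f' x') ⟶ X => m x₀') he).trans
          (Scheme.Hom.comp_apply _ _ _))
    rw [h1, h2, f'.fiberι_asFiber]
  obtain ⟨e1⟩ := nonempty_stalk_equiv_of_fiberι_eq f (f (g' x')) (g (f' x'))
    ((Scheme.Hom.comp_apply _ _ _).symm.trans
      ((congrArg (fun m : X' ⟶ Y => m x') hc.w).trans (Scheme.Hom.comp_apply _ _ _)))
    (f.asFiber (g' x')) z (by
    rw [f.fiberι_asFiber, hzι])
  let e3 : ↑((pullback φ (Spec.map (CommRingCat.ofHom (algebraMap (Y.residueField (g (f' x')))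
        (Y'.residueField (f' x')))))).presheaf.stalk x'') ≃+*
      ↑((f'.fiber (f' x')).presheaf.stalk x₀') :=
    (asIso (iso.hom.stalkMap x₀')).commRingCatIsoToRingEquiv
  have key : LocCoh.IsGorensteinLocalRing ↑((f.fiber (g (f' x'))).presheaf.stalk z) ↔
      LocCoh.IsGorensteinLocalRing ↑((pullback φ (Spec.map (CommRingCat.ofHom
        (algebraMap (Y.residueField (g (f' x'))) (Y'.residueField (f' x')))))).presheaf.stalk
          x'') := by
    rcases hyp with hg | hf
    · haveI := hg
      haveI : Algebra.EssFiniteType (Y.residueField (g (f' x'))) (Y'.residueField (f' x')) :=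
        essFiniteType_residueFieldMap g (f' x')
      refine gor_stalk_iff φ (Y'.residueField (f' x')) x'' ?_ (Or.inr inferInstance)
      letI := Groth.Agent.Lib.Helper14.StalkTensor.stalkAlgA φ z
      exact Algebra.EssFiniteType.isNoetherianRing ((f.fiber (g (f' x'))).presheaf.stalk z) _
    · haveI := hf
      have hφft : LocallyOfFiniteType (f.fiberToSpecResidueField (g (f' x'))) := by
        change LocallyOfFiniteType (pullback.snd f (Y.fromSpecResidueField (g (f' x'))))
        infer_instance
      haveI : LocallyOfFiniteType φ := hφft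
      letI := Groth.Agent.Lib.Helper14.StalkTensor.stalkAlgA φ z
      haveI hE : Algebra.EssFiniteType (Y.residueField (g (f' x')))
          ((f.fiber (g (f' x'))).presheaf.stalk z) := by
        rw [← RingHom.essFiniteType_algebraMap,
          Groth.Agent.Lib.Helper14.CMFieldBCSch.algebraMap_stalkAlgA]
        exact Groth.Agent.Lib.Helper14.GeomRegSmooth.essFiniteType_stalkStr _ _
      refine gor_stalk_iff φ (Y'.residueField (f' x')) x'' ?_ (Or.inl hE)
      haveI : IsNoetherianRing (TensorProduct (Y.residueField (g (f' x')))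
          (Y'.residueField (f' x')) ((f.fiber (g (f' x'))).presheaf.stalk z)) :=
        Algebra.EssFiniteType.isNoetherianRing (Y'.residueField (f' x')) _
      exact isNoetherianRing_of_ringEquiv _
        (Algebra.TensorProduct.comm (Y.residueField (g (f' x'))) (Y'.residueField (f' x'))
          ((f.fiber (g (f' x'))).presheaf.stalk z)).toRingEquiv
  rw [gor_ringEquiv_iff e1, key, gor_ringEquiv_iff e3]

open Groth.Agent.Lib.Helper17 in
/-- base change preserves "Gorenstein at a point". -/
theorem isGorensteinAt_baseChange {f : X ⟶ Y} {f' : X' ⟶ Y'} {g' : X' ⟶ X} {g : Y' ⟶ Y}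
    (hc : IsPullback g' f' f g) (x' : X') [IsLocallyNoetherian (f.fiber (g (f' x')))]
    (hyp : LocallyOfFiniteType g ∨ LocallyOfFiniteType f)
    (h : Dual3.IsGorensteinAt f (g' x')) : Dual3.IsGorensteinAt f' x' :=
  ⟨FibreFlat.flat_stalkMap_baseChange hc.flip x' h.1, (gor_fibre_iff hc x' hyp).1 h.2⟩

/-- descent of "Gorenstein at a point", given flatness downstairs. -/
theorem isGorensteinAt_of_baseChange {f : X ⟶ Y} {f' : X' ⟶ Y'} {g' : X' ⟶ X} {g : Y' ⟶ Y}
    (hc : IsPullback g' f' f g) (x' : X') [IsLocallyNoetherian (f.fiber (g (f' x')))]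
    (hyp : LocallyOfFiniteType g ∨ LocallyOfFiniteType f)
    (hflat : (f.stalkMap (g' x')).hom.Flat)
    (h : Dual3.IsGorensteinAt f' x') : Dual3.IsGorensteinAt f (g' x') :=
  ⟨hflat, (gor_fibre_iff hc x' hyp).2 h.2⟩

end basechange

end Groth.Agent.Lib.Helper1.GorBC
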