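import Mathlib
import Groth.Prelude.Def_OmegaPn
import Groth.Agent.Lib.Helper1.Conorm
import Groth.Agent.Lib.Helper1.PbSurj
import Groth.Agent.Lib.Helper3.IdealMod

set_option autoImplicit false
set_option linter.style.haveILetI false
universe u
open CategoryTheory CategoryTheory.Limits AlgebraicGeometry TopologicalSpace Opposite

namespace Groth.Agent.Lib.Helper1.GrSect

open Groth.Agent.Lib.Helper3 Groth.Agent.Lib.Helper1.PbSect

variable {X Y : Scheme.{u}} (i : Y ⟶ X) (n : ℕ)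

section Val

variable (K : X.IdealSheafData) {U : X.Opens} (hU : IsAffineOpen U)

include hU in
theorem val_mem_ideal (s : Γ(ClSub.idealMod K, U)) : IdealMod.val K s ∈ K.ideal ⟨U, hU⟩ := by
  have h1 := IdealMod.app_val K s
  have h2 : IdealMod.val K s ∈ RingHom.ker (K.subschemeι.app U).hom := h1
  rwa [Scheme.IdealSheafData.ker_subschemeι_app K ⟨U, hU⟩] at h2

include hU in
theorem exists_val_eq_of_mem (b : Γ(X, U)) (hb : b ∈ K.ideal ⟨U, hU⟩) :
    ∃ s : Γ(ClSub.idealMod K, U), IdealMod.val K s = b := by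
  apply IdealMod.exists_val_eq
  have h2 : b ∈ RingHom.ker (K.subschemeι.app U).hom := by
    rwa [Scheme.IdealSheafData.ker_subschemeι_app K ⟨U, hU⟩]
  exact h2

end Val

variable [IsClosedImmersion i] {U : X.Opens} (hU : IsAffineOpen U)

theorem ideal_pow_eq (hU : IsAffineOpen U) :
    (i.ker ^ n).ideal ⟨U, hU⟩ = RingHom.ker (i.app U).hom ^ n := by
  have h2 : (i.ker ^ n).ideal ⟨U, hU⟩ = (i.ker.ideal ⟨U, hU⟩) ^ n := rfl
  rw [h2, Scheme.Hom.ker_apply]

include hU in
theorem val_mem_pow (s : Γ(ClSub.idealMod (i.ker ^ n), U)) :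
    IdealMod.val (i.ker ^ n) s ∈ RingHom.ker (i.app U).hom ^ n := by
  rw [← ideal_pow_eq i n hU]
  exact val_mem_ideal _ hU s

include hU in
theorem exists_val_eq_pow (b : Γ(X, U)) (hb : b ∈ RingHom.ker (i.app U).hom ^ n) :
    ∃ s : Γ(ClSub.idealMod (i.ker ^ n), U), IdealMod.val (i.ker ^ n) s = b := by
  apply exists_val_eq_of_mem _ hU
  rwa [ideal_pow_eq i n hU]

omit [IsClosedImmersion i] in
theorem grSect_eq_pullRes (U : X.Opens) (s : Γ(ClSub.idealMod (i.ker ^ n), U)) :
    PrinPart.grSect i n U s = pullRes i (ClSub.idealMod (i.ker ^ n)) (le_refl (i ⁻¹ᵁ U)) s := by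
  rw [pullRes_apply]
  have : (homOfLE (le_refl (i ⁻¹ᵁ U))).op = 𝟙 _ := rfl
  rw [this, CategoryTheory.Functor.map_id]
  rfl

include hU in
theorem grSect_surjective : Function.Surjective (PrinPart.grSect i n U) := by
  have hρ : Function.Surjective (i.appLE U (i ⁻¹ᵁ U) le_rfl).hom := by
    rw [Conorm.appLE_refl]; exact i.app_surjective U hU
  intro y
  obtain ⟨s, hs'⟩ := PbSurj.pullRes_surjective i (ClSub.idealMod (i.ker ^ n)) hU (hU.preimage i)
    le_rfl hρ y
  exact ⟨s, (grSect_eq_pullRes i n U s).trans hs'⟩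

include hU in
theorem grSect_eq_zero_iff (s : Γ(ClSub.idealMod (i.ker ^ n), U)) :
    PrinPart.grSect i n U s = 0 ↔
      IdealMod.val (i.ker ^ n) s ∈ RingHom.ker (i.app U).hom ^ (n + 1) := by
  have hρ : Function.Surjective (i.appLE U (i ⁻¹ᵁ U) le_rfl).hom := by
    rw [Conorm.appLE_refl]; exact i.app_surjective U hU
  refine Iff.trans (b := pullRes i (ClSub.idealMod (i.ker ^ n)) (le_refl (i ⁻¹ᵁ U)) s = 0)
    ⟨fun h => (grSect_eq_pullRes i n U s).symm.trans h,
      fun h => (grSect_eq_pullRes i n U s).trans h⟩ ?_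
  refine (PbSurj.pullRes_eq_zero_iff i (ClSub.idealMod (i.ker ^ n)) hU (hU.preimage i) le_rfl
    hρ s).trans ?_
  rw [Conorm.appLE_refl]
  set I := RingHom.ker (i.app U).hom with hI
  constructor
  · intro h
    refine Submodule.smul_induction_on h (fun a ha m _ => ?_) (fun x y hx hy => ?_)
    · rw [IdealMod.val_smul, pow_succ']
      exact Ideal.mul_mem_mul ha (val_mem_pow i n hU m)
    · rw [IdealMod.val_add]
      exact Ideal.add_mem _ hx hy
  · intro h
    rw [pow_succ'] at h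
    have key : ∀ b ∈ I * I ^ n, ∃ t ∈ I • (⊤ : Submodule Γ(X, U) Γ(ClSub.idealMod (i.ker ^ n), U)),
        IdealMod.val (i.ker ^ n) t = b := by
      intro b hb
      refine Submodule.mul_induction_on hb (fun a ha b' hb' => ?_) (fun x y hx hy => ?_)
      · obtain ⟨t, ht⟩ := exists_val_eq_pow i n hU b' hb'
        exact ⟨a • t, Submodule.smul_mem_smul ha trivial, by rw [IdealMod.val_smul, ht]⟩
      · obtain ⟨t₁, ht₁, h₁⟩ := hx
        obtain ⟨t₂, ht₂, h₂⟩ := hy
        exact ⟨t₁ + t₂, Submodule.add_mem _ ht₁ ht₂, by rw [IdealMod.val_add, h₁, h₂]⟩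
    obtain ⟨t, ht, htv⟩ := key _ h
    have : t = s := IdealMod.val_injective (i.ker ^ n) U htv
    rwa [this] at ht

omit [IsClosedImmersion i] in
theorem grSect_smul (U : X.Opens) (b : Γ(X, U)) (s : Γ(ClSub.idealMod (i.ker ^ n), U)) :
    PrinPart.grSect i n U (b • s) = i.app U b • PrinPart.grSect i n U s :=
  OmegaSh.pullSect_smul i _ U b s

instance isQuasicoherent_grMod : (PrinPart.grMod i n).IsQuasicoherent :=
  Groth.Agent.Lib.Helper17.PbStalk.isQuasicoherent_pullback i _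

end Groth.Agent.Lib.Helper1.GrSect

namespace Groth.Agent.Lib.Helper1.GrSect

open Groth.Agent.Lib.Helper3

variable {X : Scheme.{u}} (K : X.IdealSheafData)

/-- a function which lies in the ideal on the members of an affine cover of `W` is a section of
the ideal sheaf over `W`. -/
theorem exists_val_eq_of_cover (W : X.Opens) (g : Γ(X, W))
    (h : ∀ x ∈ W, ∃ (U : X.Opens) (hU : IsAffineOpen U) (hUW : U ≤ W), x ∈ U ∧
      X.presheaf.map (homOfLE hUW).op g ∈ K.ideal ⟨U, hU⟩) :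
    ∃ s : Γ(ClSub.idealMod K, W), IdealMod.val K s = g := by
  apply IdealMod.exists_val_eq
  let T : Scheme.{u} := K.subscheme
  let ι : T ⟶ X := K.subschemeι
  change ι.app W g = 0
  refine T.sheaf.eq_of_locally_eq'
    (fun U : {U : X.Opens // ∃ (hU : IsAffineOpen U) (hUW : U ≤ W),
      X.presheaf.map (homOfLE hUW).op g ∈ K.ideal ⟨U, hU⟩} => ι ⁻¹ᵁ U.1) (ι ⁻¹ᵁ W)
    (fun U => homOfLE (ι.preimage_mono U.2.2.1)) ?_ _ _ ?_
  · intro x hx
    obtain ⟨U, hU, hUW, hxU, hmem⟩ := h (ι x) hx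
    exact Opens.mem_iSup.mpr ⟨⟨U, hU, hUW, hmem⟩, hxU⟩
  · rintro ⟨U, hU, hUW, hmem⟩
    have h0 : (ConcreteCategory.hom (T.presheaf.map (homOfLE (ι.preimage_mono hUW)).op)) 0 = 0 :=
      map_zero _
    refine Eq.trans ?_ h0.symm
    have h1 : T.presheaf.map (homOfLE (ι.preimage_mono hUW)).op (ι.app W g) =
        ι.app U (X.presheaf.map (homOfLE hUW).op g) := by
      have := ι.naturality (homOfLE hUW).op
      exact congr($this g).symm
    refine h1.trans ?_
    rw [← Scheme.IdealSheafData.ker_subschemeι_app K ⟨U, hU⟩] at hmem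
    exact hmem

end Groth.Agent.Lib.Helper1.GrSect
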