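import Mathlib
import Groth.Prelude.Def_OmegaPn

set_option autoImplicit false
set_option linter.style.haveILetI false
universe u
open CategoryTheory CategoryTheory.Limits AlgebraicGeometry TopologicalSpace Opposite

namespace Groth.Agent.Lib.Helper1.KerBC

section Ring

variable {A Q A' P : CommRingCat.{u}} {q : A ⟶ Q} {g : A ⟶ A'} {inl : Q ⟶ P} {inr : A' ⟶ P}
  (hpo : IsPushout q g inl inr) (hq : Function.Surjective q)

include hpo hq in
theorem ker_inr : RingHom.ker inr.hom = Ideal.map g.hom (RingHom.ker q.hom) := by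
  apply le_antisymm
  · set J := Ideal.map g.hom (RingHom.ker q.hom) with hJ
    let mk : A' ⟶ CommRingCat.of (A' ⧸ J) := CommRingCat.ofHom (Ideal.Quotient.mk J)
    have hle : RingHom.ker q.hom ≤ RingHom.ker ((Ideal.Quotient.mk J).comp g.hom) := by
      intro x hx
      rw [RingHom.mem_ker, RingHom.comp_apply, Ideal.Quotient.eq_zero_iff_mem]
      exact Ideal.mem_map_of_mem _ hx
    let k : Q ⟶ CommRingCat.of (A' ⧸ J) := CommRingCat.ofHom
      (q.hom.liftOfSurjective hq ⟨(Ideal.Quotient.mk J).comp g.hom, hle⟩)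
    have hk : q ≫ k = g ≫ mk := by
      ext x
      exact q.hom.liftOfRightInverse_comp_apply _ (Function.rightInverse_surjInv hq)
        ⟨(Ideal.Quotient.mk J).comp g.hom, hle⟩ x
    let d := hpo.desc k mk hk
    have hd : inr ≫ d = mk := hpo.inr_desc _ _ _
    intro x hx
    have h1 : mk x = 0 := by
      rw [← hd]
      change d (inr x) = 0
      have : inr x = 0 := hx
      rw [this, map_zero]
    exact Ideal.Quotient.eq_zero_iff_mem.mp h1
  · rw [Ideal.map_le_iff_le_comap]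
    intro x hx
    rw [Ideal.mem_comap, RingHom.mem_ker]
    have h1 : inr (g x) = inl (q x) := congr($(hpo.w.symm) x)
    change inr (g x) = 0
    have h2 : q x = 0 := hx
    rw [h1, h2, map_zero]

end Ring

section Sch

variable {Y X Y' X' : Scheme.{u}} {f : Y ⟶ X} [IsClosedImmersion f]
  {v : X' ⟶ X} {u : Y' ⟶ Y} {f' : Y' ⟶ X'} (hsq : IsPullback u f' f v)
  {U : X.Opens} (hU : IsAffineOpen U) {U' : X'.Opens} (hU' : IsAffineOpen U') (hUU' : U' ≤ v ⁻¹ᵁ U)

include hsq hU hU' hUU' in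
/-- the kernel of a base-changed closed immersion, on affine opens -/
theorem ker_app_baseChange :
    RingHom.ker (f'.app U').hom = Ideal.map (v.appLE U U' hUU').hom (RingHom.ker (f.app U).hom) := by
  have hle : f' ⁻¹ᵁ U' ≤ u ⁻¹ᵁ (f ⁻¹ᵁ U) := by
    intro y hy
    have h1 : v (f' y) ∈ U := hUU' hy
    have h2 : f (u y) = v (f' y) := by
      rw [← Scheme.Hom.comp_apply, ← Scheme.Hom.comp_apply, hsq.w]
    change f (u y) ∈ U
    rw [h2]; exact h1
  have hUY : f' ⁻¹ᵁ U' = u ⁻¹ᵁ (f ⁻¹ᵁ U) ⊓ f' ⁻¹ᵁ U' := (inf_eq_right.mpr hle).symm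
  have hiso := isIso_pushoutSection_of_isAffineOpen hsq hUU' (le_refl (f ⁻¹ᵁ U)) hUY hU hU'
    (hU.preimage f)
  have hpo := (isIso_pushoutSection_iff hsq hUU' (le_refl (f ⁻¹ᵁ U)) hUY).mp hiso
  have hq : Function.Surjective (f.appLE U (f ⁻¹ᵁ U) le_rfl) := by
    have : f.appLE U (f ⁻¹ᵁ U) le_rfl = f.app U := by
      rw [Scheme.Hom.appLE]
      have : (homOfLE (le_refl (f ⁻¹ᵁ U))).op = 𝟙 _ := rfl
      rw [this, CategoryTheory.Functor.map_id, Category.comp_id]
    rw [this]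
    exact f.app_surjective U hU
  have h1 := ker_inr hpo hq
  have e1 : f'.appLE U' (f' ⁻¹ᵁ U') le_rfl = f'.app U' := by
    rw [Scheme.Hom.appLE]
    have : (homOfLE (le_refl (f' ⁻¹ᵁ U'))).op = 𝟙 _ := rfl
    rw [this, CategoryTheory.Functor.map_id, Category.comp_id]
  have e2 : f.appLE U (f ⁻¹ᵁ U) le_rfl = f.app U := by
    rw [Scheme.Hom.appLE]
    have : (homOfLE (le_refl (f ⁻¹ᵁ U))).op = 𝟙 _ := rfl
    rw [this, CategoryTheory.Functor.map_id, Category.comp_id]
  rw [e1, e2] at h1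
  exact h1

end Sch

end Groth.Agent.Lib.Helper1.KerBC
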