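import Mathlib
import Groth.Prelude.Def_OmegaPn
import Groth.Agent.Lib.Helper1.GrSect
import Groth.Agent.Lib.Helper1.KerBC
import Groth.Agent.Lib.Helper3.ModBasic
import Groth.Agent.Lib.Helper1.ConormMap

set_option autoImplicit false
set_option linter.style.haveILetI false
universe u
open CategoryTheory CategoryTheory.Limits AlgebraicGeometry TopologicalSpace Opposite

namespace Groth.Agent.Lib.Helper1.GrBC

open Groth.Agent.Lib.Helper3 Groth.Agent.Lib.Helper1.PbSect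

variable {Y X Y' X' : Scheme.{u}} {f : Y ⟶ X} [IsClosedImmersion f]
  {v : X' ⟶ X} {u : Y' ⟶ Y} {f' : Y' ⟶ X'} (hsq : IsPullback u f' f v)

include hsq in
theorem isClosedImmersion_snd : IsClosedImmersion f' :=
  MorphismProperty.of_isPullback hsq inferInstance

omit [IsClosedImmersion f] in
include hsq in
theorem preimage_le {U : X.Opens} {U' : X'.Opens} (hUU' : U' ≤ v ⁻¹ᵁ U) :
    f' ⁻¹ᵁ U' ≤ u ⁻¹ᵁ (f ⁻¹ᵁ U) := by
  intro y hy
  have h1 : v (f' y) ∈ U := hUU' hy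
  have h2 : f (u y) = v (f' y) := by
    rw [← Scheme.Hom.comp_apply, ← Scheme.Hom.comp_apply, hsq.w]
  change f (u y) ∈ U
  rw [h2]; exact h1

variable (n : ℕ) {U : X.Opens} (hU : IsAffineOpen U) {U' : X'.Opens} (hU' : IsAffineOpen U')
  (hUU' : U' ≤ v ⁻¹ᵁ U)

include hsq hU hU' hUU' in
/-- the ideal of `f'` on `U'` is generated by the image of the ideal of `f` on `U`, and the same
for powers. -/
theorem ker_pow_baseChange :
    RingHom.ker (f'.app U').hom ^ n =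
      Ideal.map (v.appLE U U' hUU').hom (RingHom.ker (f.app U).hom ^ n) := by
  rw [Ideal.map_pow, KerBC.ker_app_baseChange hsq hU hU' hUU']

include hsq hU in
/-- sections of `f'.ker ^ n` over the (possibly non-affine) open `v⁻¹ U` lifting `v♯ x`. -/
theorem exists_lift (x : Γ(ClSub.idealMod (f.ker ^ n), U)) :
    ∃ s : Γ(ClSub.idealMod (f'.ker ^ n), v ⁻¹ᵁ U),
      IdealMod.val (f'.ker ^ n) s = v.app U (IdealMod.val (f.ker ^ n) x) := by
  haveI := isClosedImmersion_snd hsq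
  apply GrSect.exists_val_eq_of_cover
  intro x' hx'
  obtain ⟨_, ⟨U'' : X'.Opens, hU'', rfl⟩, hxU'', hle⟩ :=
    X'.isBasis_affineOpens.exists_subset_of_mem_open hx' (v ⁻¹ᵁ U).2
  refine ⟨U'', hU'', hle, hxU'', ?_⟩
  rw [GrSect.ideal_pow_eq f' n hU'', ker_pow_baseChange hsq n hU hU'' hle]
  exact Ideal.mem_map_of_mem _ (GrSect.val_mem_pow f n hU x)

variable (φ : (Scheme.Modules.pullback u).obj (PrinPart.grMod f n) ⟶ PrinPart.grMod f' n)
  (hφ : PrinPart.IsGrMap f' f v u n φ)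

include hsq hU hφ in
theorem key (x : Γ(ClSub.idealMod (f.ker ^ n), U)) (s : Γ(ClSub.idealMod (f'.ker ^ n), U'))
    (hs : IdealMod.val (f'.ker ^ n) s = (v.appLE U U' hUU').hom (IdealMod.val (f.ker ^ n) x)) :
    φ.app (f' ⁻¹ᵁ U') (pullRes u (PrinPart.grMod f n) (preimage_le hsq hUU')
      (PrinPart.grSect f n U x)) = PrinPart.grSect f' n U' s := by
  haveI := isClosedImmersion_snd hsq
  obtain ⟨š, hš⟩ := exists_lift hsq n hU x
  have h1 := hφ.2 U x š hš (f' ⁻¹ᵁ U') (preimage_le hsq hUU') (f'.preimage_mono hUU')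
  have h2 : (PrinPart.grMod f' n).presheaf.map (homOfLE (f'.preimage_mono hUU')).op
      (PrinPart.grSect f' n (v ⁻¹ᵁ U) š) = PrinPart.grSect f' n U' s := by
    have e := OmegaSh.pullSect_map f' (ClSub.idealMod (f'.ker ^ n)) hUU' š
    refine e.symm.trans ?_
    congr 1
    apply IdealMod.val_injective
    rw [IdealMod.val_res, hš, hs]
    rfl
  rw [← h2, ← h1, pullRes_apply]
  exact ModBasic.app_res φ _ _

end Groth.Agent.Lib.Helper1.GrBC

namespace Groth.Agent.Lib.Helper1.GrBC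

open Groth.Agent.Lib.Helper3 Groth.Agent.Lib.Helper1.PbSect

variable {Y X Y' X' : Scheme.{u}} {f : Y ⟶ X} [IsClosedImmersion f]
  {v : X' ⟶ X} {u : Y' ⟶ Y} {f' : Y' ⟶ X'} (hsq : IsPullback u f' f v)
  (n : ℕ) {U : X.Opens} (hU : IsAffineOpen U) {U' : X'.Opens} (hU' : IsAffineOpen U')
  (hUU' : U' ≤ v ⁻¹ᵁ U)
  (φ : (Scheme.Modules.pullback u).obj (PrinPart.grMod f n) ⟶ PrinPart.grMod f' n)
  (hφ : PrinPart.IsGrMap f' f v u n φ)

include hsq hU hU' hUU' hφ in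
theorem app_surjective : Function.Surjective (φ.app (f' ⁻¹ᵁ U')) := by
  haveI := isClosedImmersion_snd hsq
  intro z
  obtain ⟨s, rfl⟩ := GrSect.grSect_surjective f' n hU' z
  have hmem := GrSect.val_mem_pow f' n hU' s
  rw [ker_pow_baseChange hsq n hU hU' hUU', Ideal.map] at hmem
  -- induction over the span
  suffices H : ∀ b ∈ Ideal.span ((v.appLE U U' hUU').hom '' ((RingHom.ker (f.app U).hom ^ n : Ideal _) : Set Γ(X, U))),
      ∀ s : Γ(ClSub.idealMod (f'.ker ^ n), U'), IdealMod.val (f'.ker ^ n) s = b →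
        ∃ w, φ.app (f' ⁻¹ᵁ U') w = PrinPart.grSect f' n U' s from H _ hmem s rfl
  intro b hb
  induction hb using Submodule.span_induction with
  | mem b hb =>
    obtain ⟨x, hx, rfl⟩ := hb
    intro s hs
    obtain ⟨x₀, hx₀⟩ := GrSect.exists_val_eq_pow f n hU x hx
    exact ⟨_, key hsq n hU hUU' φ hφ x₀ s (by rw [hs, hx₀])⟩
  | zero =>
    intro s hs
    have : s = 0 := IdealMod.val_injective _ _ (by rw [hs]; exact (ConormMap.val_zero _ _).symm)
    exact ⟨0, by rw [this, map_zero, map_zero]⟩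
  | add b₁ b₂ hb₁ hb₂ ih₁ ih₂ =>
    intro s hs
    have hsub : Ideal.span ((v.appLE U U' hUU').hom '' ((RingHom.ker (f.app U).hom ^ n : Ideal _) : Set Γ(X, U))) =
        RingHom.ker (f'.app U').hom ^ n := by
      rw [ker_pow_baseChange hsq n hU hU' hUU', Ideal.map]
    obtain ⟨s₁, hs₁⟩ := GrSect.exists_val_eq_pow f' n hU' b₁ (hsub ▸ hb₁)
    obtain ⟨s₂, hs₂⟩ := GrSect.exists_val_eq_pow f' n hU' b₂ (hsub ▸ hb₂)
    obtain ⟨w₁, hw₁⟩ := ih₁ s₁ hs₁
    obtain ⟨w₂, hw₂⟩ := ih₂ s₂ hs₂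
    have : s = s₁ + s₂ := IdealMod.val_injective _ _ (by rw [hs, IdealMod.val_add, hs₁, hs₂])
    exact ⟨w₁ + w₂, by rw [this, map_add, map_add, hw₁, hw₂]⟩
  | smul a b hb ih =>
    intro s hs
    have hsub : Ideal.span ((v.appLE U U' hUU').hom '' ((RingHom.ker (f.app U).hom ^ n : Ideal _) : Set Γ(X, U))) =
        RingHom.ker (f'.app U').hom ^ n := by
      rw [ker_pow_baseChange hsq n hU hU' hUU', Ideal.map]
    obtain ⟨s₁, hs₁⟩ := GrSect.exists_val_eq_pow f' n hU' b (hsub ▸ hb)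
    obtain ⟨w₁, hw₁⟩ := ih s₁ hs₁
    have : s = a • s₁ := IdealMod.val_injective _ _ (by rw [hs, IdealMod.val_smul, hs₁]; rfl)
    refine ⟨f'.app U' a • w₁, ?_⟩
    rw [this, GrSect.grSect_smul, ← hw₁]
    exact Scheme.Modules.Hom.app_smul φ _ _

end Groth.Agent.Lib.Helper1.GrBC

namespace Groth.Agent.Lib.Helper1.GrBC

variable {Y X Y' X' : Scheme.{u}} {f : Y ⟶ X} [IsClosedImmersion f]
  {v : X' ⟶ X} {u : Y' ⟶ Y} {f' : Y' ⟶ X'} (hsq : IsPullback u f' f v)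

/-- the ideal of the pullback of a closed subscheme, on affine opens -/
theorem ideal_comap (K : X.IdealSheafData) (v : X' ⟶ X) {U : X.Opens} (hU : IsAffineOpen U)
    {U' : X'.Opens} (hU' : IsAffineOpen U') (hUU' : U' ≤ v ⁻¹ᵁ U) :
    (K.comap v).ideal ⟨U', hU'⟩ = Ideal.map (v.appLE U U' hUU').hom (K.ideal ⟨U, hU⟩) := by
  have h1 : (K.comap v).ideal ⟨U', hU'⟩ =
      RingHom.ker ((pullback.fst v K.subschemeι).app U').hom :=
    Scheme.Hom.ker_apply _ ⟨U', hU'⟩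
  rw [h1, KerBC.ker_app_baseChange (IsPullback.of_hasPullback v K.subschemeι).flip hU hU' hUU',
    Scheme.IdealSheafData.ker_subschemeι_app K ⟨U, hU⟩]

include hsq in
theorem comap_ker_pow (n : ℕ) : (f.ker ^ n).comap v = f'.ker ^ n := by
  haveI := isClosedImmersion_snd hsq
  apply Scheme.IdealSheafData.ext_of_iSup_eq_top
    (fun W : {U' : X'.affineOpens // ∃ (U : X.Opens), IsAffineOpen U ∧ U'.1 ≤ v ⁻¹ᵁ U} => W.1)
  · rw [eq_top_iff]
    intro x' _
    obtain ⟨_, ⟨U : X.Opens, hU, rfl⟩, hxU, -⟩ := X.isBasis_affineOpens.exists_subset_of_mem_open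
      (Set.mem_univ (v x')) isOpen_univ
    obtain ⟨_, ⟨U' : X'.Opens, hU', rfl⟩, hxU', hUU'⟩ :=
      X'.isBasis_affineOpens.exists_subset_of_mem_open
        (show x' ∈ ((v ⁻¹ᵁ U : X'.Opens) : Set X') from hxU) (v ⁻¹ᵁ U).2
    exact Opens.mem_iSup.mpr ⟨⟨⟨U', hU'⟩, U, hU, hUU'⟩, hxU'⟩
  · rintro ⟨⟨U', hU'⟩, U, hU, hUU'⟩
    change ((f.ker ^ n).comap v).ideal ⟨U', hU'⟩ = (f'.ker ^ n).ideal ⟨U', hU'⟩
    rw [ideal_comap (f.ker ^ n) v hU hU' hUU', GrSect.ideal_pow_eq f n hU,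
      GrSect.ideal_pow_eq f' n hU', ker_pow_baseChange hsq n hU hU' hUU']

end Groth.Agent.Lib.Helper1.GrBC
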