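import Mathlib
import Groth.Prelude.Def_OmegaPn
import Groth.Agent.Lib.Helper1.GrBC
import Groth.Agent.Lib.Helper1.FlatVanish

set_option autoImplicit false
set_option linter.style.haveILetI false
universe u
open CategoryTheory CategoryTheory.Limits AlgebraicGeometry TopologicalSpace Opposite

namespace Groth.Agent.Lib.Helper1.GrFlat

open Groth.Agent.Lib.Helper3 Groth.Agent.Lib.Helper1.PbSect Groth.Agent.Lib.Helper1.GrBC

variable {Y X Y' X' : Scheme.{u}} {f : Y ⟶ X} [IsClosedImmersion f]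
  {v : X' ⟶ X} {u : Y' ⟶ Y} {f' : Y' ⟶ X'} (hsq : IsPullback u f' f v)
  (n : ℕ) {U : X.Opens} (hU : IsAffineOpen U) {U' : X'.Opens} (hU' : IsAffineOpen U')
  (hUU' : U' ≤ v ⁻¹ᵁ U)
  (φ : (Scheme.Modules.pullback u).obj (PrinPart.grMod f n) ⟶ PrinPart.grMod f' n)
  (hφ : PrinPart.IsGrMap f' f v u n φ)

theorem appLE_congr {N Z : Scheme.{u}} {p q : N ⟶ Z} (hpq : p = q) (U : Z.Opens) (W : N.Opens)
    (hp : W ≤ p ⁻¹ᵁ U) (hq : W ≤ q ⁻¹ᵁ U) : p.appLE U W hp = q.appLE U W hq := by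
  subst hpq; rfl

include hsq in
omit [IsClosedImmersion f] in
theorem comm_appLE (a : Γ(X, U)) :
    (u.appLE (f ⁻¹ᵁ U) (f' ⁻¹ᵁ U') (preimage_le hsq hUU')).hom (f.app U a) =
      f'.app U' ((v.appLE U U' hUU').hom a) := by
  have h1 : f.appLE U (f ⁻¹ᵁ U) le_rfl ≫ u.appLE (f ⁻¹ᵁ U) (f' ⁻¹ᵁ U') (preimage_le hsq hUU') =
      v.appLE U U' hUU' ≫ f'.appLE U' (f' ⁻¹ᵁ U') le_rfl := by
    rw [Scheme.Hom.appLE_comp_appLE, Scheme.Hom.appLE_comp_appLE]
    exact appLE_congr hsq.w _ _ _ _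
  have h2 := congr($h1 a)
  rw [Conorm.appLE_refl, Conorm.appLE_refl] at h2
  exact h2

/-- the vanishing principle used for injectivity -/
def Vanish (hsq : IsPullback u f' f v) (n : ℕ) (U : X.Opens) (U' : X'.Opens)
    (hUU' : U' ≤ v ⁻¹ᵁ U) : Prop :=
  ∀ (m : ℕ) (a' : Fin m → Γ(X', U')) (x : Fin m → Γ(ClSub.idealMod (f.ker ^ n), U)),
    ∑ k, a' k * (v.appLE U U' hUU').hom (IdealMod.val (f.ker ^ n) (x k)) ∈
      Ideal.map (v.appLE U U' hUU').hom (RingHom.ker (f.app U).hom ^ (n + 1)) →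
    ∑ k, f'.app U' (a' k) • pullRes u (PrinPart.grMod f n) (preimage_le hsq hUU')
      (PrinPart.grSect f n U (x k)) = 0

include hU hU' hφ in
theorem app_injective_of_vanish (H : Vanish hsq n U U' hUU') :
    Function.Injective (φ.app (f' ⁻¹ᵁ U')) := by
  haveI := isClosedImmersion_snd hsq
  have hW : IsAffineOpen (f ⁻¹ᵁ U) := hU.preimage f
  have hW' : IsAffineOpen (f' ⁻¹ᵁ U') := hU'.preimage f'
  have hle := preimage_le hsq hUU'
  rw [injective_iff_map_eq_zero]
  intro w hw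
  have hspan := span_range_pullRes u (PrinPart.grMod f n) hW hW' hle
  have hwm : w ∈ Submodule.span Γ(Y', f' ⁻¹ᵁ U')
      (Set.range (pullRes u (PrinPart.grMod f n) hle)) := by rw [hspan]; trivial
  rw [Submodule.mem_span_set'] at hwm
  obtain ⟨m, c, g, hg⟩ := hwm
  choose g₀ hg₀ using fun k => (g k).2
  choose x hx using fun k => GrSect.grSect_surjective f n hU (g₀ k)
  choose a' ha' using fun k => f'.app_surjective U' hU' (c k)
  have hmem : ∀ k, (v.appLE U U' hUU').hom (IdealMod.val (f.ker ^ n) (x k)) ∈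
      RingHom.ker (f'.app U').hom ^ n := by
    intro k
    rw [ker_pow_baseChange hsq n hU hU' hUU']
    exact Ideal.mem_map_of_mem _ (GrSect.val_mem_pow f n hU (x k))
  choose s hs using fun k => GrSect.exists_val_eq_pow f' n hU' _ (hmem k)
  have hwsum : w = ∑ k, f'.app U' (a' k) • pullRes u (PrinPart.grMod f n) hle
      (PrinPart.grSect f n U (x k)) := by
    rw [← hg]
    refine Finset.sum_congr rfl (fun k _ => ?_)
    rw [ha', hx, hg₀]
  have hφw : φ.app (f' ⁻¹ᵁ U') w = PrinPart.grSect f' n U' (∑ k, a' k • s k) := by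
    rw [hwsum, map_sum, map_sum]
    refine Finset.sum_congr rfl (fun k _ => ?_)
    rw [GrSect.grSect_smul]
    refine (Scheme.Modules.Hom.app_smul φ _ _).trans ?_
    congr 1
    exact key hsq n hU hUU' φ hφ (x k) (s k) (hs k)
  rw [hφw, GrSect.grSect_eq_zero_iff f' n hU'] at hw
  have hsumval : IdealMod.val (f'.ker ^ n) (∑ k, a' k • s k) =
      ∑ k, a' k * (v.appLE U U' hUU').hom (IdealMod.val (f.ker ^ n) (x k)) := by
    have : ∀ (t : Finset (Fin m)), IdealMod.val (f'.ker ^ n) (∑ k ∈ t, a' k • s k) =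
        ∑ k ∈ t, a' k * (v.appLE U U' hUU').hom (IdealMod.val (f.ker ^ n) (x k)) := by
      intro t
      classical
      induction t using Finset.induction_on with
      | empty => simp [ConormMap.val_zero]
      | insert k t hk ih =>
        rw [Finset.sum_insert hk, Finset.sum_insert hk, IdealMod.val_add, ih,
          IdealMod.val_smul, hs k]
    exact this _
  rw [hsumval, ker_pow_baseChange hsq (n + 1) hU hU' hUU'] at hw
  rw [hwsum]
  exact H m a' x hw

include hU in
theorem vanish_of_flat (hflat : (v.appLE U U' hUU').hom.Flat) : Vanish hsq n U U' hUU' := by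
  intro m a' x hw
  have hle := preimage_le hsq hUU'
  letI : Algebra Γ(X, U) Γ(X', U') := (v.appLE U U' hUU').hom.toAlgebra
  haveI : Module.Flat Γ(X, U) Γ(X', U') := hflat
  letI : Module Γ(X', U') Γ((Scheme.Modules.pullback u).obj (PrinPart.grMod f n), f' ⁻¹ᵁ U') :=
    Module.compHom _ (f'.app U').hom
  let val : Γ(ClSub.idealMod (f.ker ^ n), U) →ₗ[Γ(X, U)] Γ(X, U) :=
    { toFun := IdealMod.val (f.ker ^ n)
      map_add' := IdealMod.val_add _
      map_smul' := fun a s => IdealMod.val_smul _ a s }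
  let P : Γ(ClSub.idealMod (f.ker ^ n), U) →+
      Γ((Scheme.Modules.pullback u).obj (PrinPart.grMod f n), f' ⁻¹ᵁ U') :=
    (pullRes u (PrinPart.grMod f n) hle).comp (PrinPart.grSect f n U).hom
  have hP : ∀ (a : Γ(X, U)) (s : Γ(ClSub.idealMod (f.ker ^ n), U)),
      P (a • s) = algebraMap Γ(X, U) Γ(X', U') a • P s := by
    intro a s
    change pullRes u (PrinPart.grMod f n) hle (PrinPart.grSect f n U (a • s)) =
      f'.app U' ((v.appLE U U' hUU').hom a) • pullRes u (PrinPart.grMod f n) hle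
        (PrinPart.grSect f n U s)
    rw [GrSect.grSect_smul, pullRes_smul, comm_appLE hsq hUU']
  have hP0 : ∀ s : Γ(ClSub.idealMod (f.ker ^ n), U),
      val s ∈ RingHom.ker (f.app U).hom ^ (n + 1) → P s = 0 := by
    intro s hs
    change pullRes u (PrinPart.grMod f n) hle (PrinPart.grSect f n U s) = 0
    rw [(GrSect.grSect_eq_zero_iff f n hU s).mpr hs, map_zero]
  exact FlatVanish.sum_smul_eq_zero val (RingHom.ker (f.app U).hom ^ (n + 1)) P hP hP0 a' x hw

include hsq hU hU' hUU' hφ in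
theorem app_injective_of_flat (hflat : (v.appLE U U' hUU').hom.Flat) :
    Function.Injective (φ.app (f' ⁻¹ᵁ U')) :=
  app_injective_of_vanish hsq n hU hU' hUU' φ hφ (vanish_of_flat hsq n hU hUU' hflat)

end Groth.Agent.Lib.Helper1.GrFlat
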