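import Mathlib
import Groth.Agent.Lib.Helper1.OmSect

set_option autoImplicit false
set_option linter.style.haveILetI false
universe u
open CategoryTheory CategoryTheory.Limits

namespace Groth.Agent.Lib.Helper1.SplitVanish

section SqZ

variable {C C' : Type u} [CommRing C] [CommRing C'] (ρ : C →+* C')
  (T : Type u) [AddCommGroup T] [Module C' T]

/-- `c ↦ (ρ c, δ c)` as a ring hom into the trivial square zero extension, for a `ρ`-derivation. -/
noncomputable def derHom (δ : C →+ T) (hδ : ∀ a b, δ (a * b) = ρ a • δ b + ρ b • δ a) :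
    letI := OmSect.opModule (B := C') T
    haveI := OmSect.isCentral (B := C') T
    C →+* TrivSqZeroExt C' T :=
  letI := OmSect.opModule (B := C') T
  haveI := OmSect.isCentral (B := C') T
  { toFun := fun b => TrivSqZeroExt.inl (ρ b) + TrivSqZeroExt.inr (δ b)
    map_one' := by
      have : δ 1 = 0 := by
        have := hδ 1 1
        simp at this
        exact this
      rw [this]; simp
    map_mul' := fun a b => by
      ext
      · simp
      · simp [hδ, add_comm]
    map_zero' := by simp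
    map_add' := fun a b => by
      ext
      · simp
      · simp }

end SqZ

variable {A C A' C' : CommRingCat.{u}} {ι : A ⟶ C} {a : A ⟶ A'} {ρ : C ⟶ C'} {γ : A' ⟶ C'}
  (hpo : IsPushout ι a ρ γ)

section D

variable (T : Type u) [AddCommGroup T] [Module C' T] (δ : C →+ T)
  (hδ : ∀ x y, δ (x * y) = ρ x • δ y + ρ y • δ x) (hδι : ∀ x, δ (ι x) = 0)

include hpo hδ hδι in
/-- a `ρ`-derivation of `C` vanishing on `A` extends to a derivation of the pushout `C'`. -/
theorem exists_D : ∃ D : C' →+ T, (∀ c, D (ρ c) = δ c) ∧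
    ∀ r s, D (r * s) = r • D s + s • D r := by
  letI := OmSect.opModule (B := C') T
  haveI := OmSect.isCentral (B := C') T
  let E : CommRingCat.{u} := CommRingCat.of (TrivSqZeroExt C' T)
  let i₁ : C ⟶ E := CommRingCat.ofHom (derHom ρ.hom T δ hδ)
  let i₂ : A' ⟶ E := CommRingCat.ofHom ((TrivSqZeroExt.inlHom C' T).comp γ.hom)
  have hi : ι ≫ i₁ = a ≫ i₂ := by
    refine CommRingCat.hom_ext (RingHom.ext fun x => ?_)
    change TrivSqZeroExt.inl (ρ (ι x)) + TrivSqZeroExt.inr (δ (ι x)) = TrivSqZeroExt.inl (γ (a x))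
    have e : ρ (ι x) = γ (a x) := congr($(hpo.w) x)
    rw [hδι, e]; simp
  let χ : C' ⟶ E := hpo.desc i₁ i₂ hi
  have hχ₁ : ∀ c, χ (ρ c) = TrivSqZeroExt.inl (ρ c) + TrivSqZeroExt.inr (δ c) :=
    fun c => congr($(hpo.inl_desc i₁ i₂ hi) c)
  have hχ₂ : ∀ c, χ (γ c) = TrivSqZeroExt.inl (γ c) := fun c => congr($(hpo.inr_desc i₁ i₂ hi) c)
  let fstE : E ⟶ C' := CommRingCat.ofHom (TrivSqZeroExt.fstHom C' C' T).toRingHom
  have hfst : χ ≫ fstE = 𝟙 C' := by
    apply hpo.hom_ext
    · rw [← Category.assoc, hpo.inl_desc, Category.comp_id]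
      ext c
      change TrivSqZeroExt.fst (TrivSqZeroExt.inl (ρ c) + TrivSqZeroExt.inr (δ c) :
        TrivSqZeroExt C' T) = ρ c
      simp
    · rw [← Category.assoc, hpo.inr_desc, Category.comp_id]
      ext c
      change TrivSqZeroExt.fst (TrivSqZeroExt.inl (γ c) : TrivSqZeroExt C' T) = γ c
      simp
  have hfst' : ∀ r, TrivSqZeroExt.fst (χ r) = r := fun r => congr($hfst r)
  refine ⟨⟨⟨fun r => TrivSqZeroExt.snd (χ r), ?_⟩, fun r s => ?_⟩, fun c => ?_, fun r s => ?_⟩
  · rw [map_zero]; exact TrivSqZeroExt.snd_zero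
  · change TrivSqZeroExt.snd (χ (r + s)) = _
    rw [map_add]; exact TrivSqZeroExt.snd_add _ _
  · change TrivSqZeroExt.snd (χ (ρ c)) = δ c
    rw [hχ₁, TrivSqZeroExt.snd_add, TrivSqZeroExt.snd_inl, TrivSqZeroExt.snd_inr, zero_add]
  · change TrivSqZeroExt.snd (χ (r * s)) = r • TrivSqZeroExt.snd (χ s) + s • TrivSqZeroExt.snd (χ r)
    rw [map_mul, TrivSqZeroExt.snd_mul, hfst', hfst']
    rfl

end D

section Main

variable {ε : C ⟶ A} (hε : ι ≫ ε = 𝟙 A)
  {Mn : Type u} [AddCommGroup Mn] [Module C Mn] (val : Mn →ₗ[C] C)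
  (hinj : Function.Injective val)
  (hrange : ∀ c, ε c = 0 → ∃ s, val s = c) (hmem : ∀ s, ε (val s) = 0)
  (T : Type u) [AddCommGroup T] [Module C' T]
  (hT : ∀ c, ε c = 0 → ∀ t : T, ρ c • t = 0)
  (P : Mn →+ T) (hP : ∀ (c : C) (s : Mn), P (c • s) = ρ c • P s)
  (hP0 : ∀ s : Mn, val s ∈ RingHom.ker ε.hom ^ 2 → P s = 0)

include hpo hε hinj hrange hmem hT hP hP0 in
theorem sum_smul_eq_zero {m : ℕ} (a' : Fin m → C') (x : Fin m → Mn)
    (h : ∑ k, a' k * ρ (val (x k)) ∈ Ideal.map ρ.hom (RingHom.ker ε.hom ^ 2)) :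
    ∑ k, a' k • P (x k) = 0 := by
  have hει : ∀ y, ε (ι y) = y := fun y => congr($hε y)
  -- the projection onto the ideal
  have hpr : ∀ c : C, ε (c - ι (ε c)) = 0 := fun c => by rw [map_sub, hει, sub_self]
  choose σ hσ using fun c : C => hrange (c - ι (ε c)) (hpr c)
  have hσval : ∀ s : Mn, σ (val s) = s := by
    intro s
    apply hinj
    rw [hσ, hmem, map_zero, sub_zero]
  have hσadd : ∀ c d, σ (c + d) = σ c + σ d := by
    intro c d
    apply hinj
    rw [map_add, hσ, hσ, hσ, map_add, map_add]; ring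
  have hσ0 : σ 0 = 0 := by
    apply hinj
    rw [hσ, map_zero, map_zero, map_zero, sub_zero]
  let δ : C →+ T := P.comp ⟨⟨σ, hσ0⟩, hσadd⟩
  have hδdef : ∀ c, δ c = P (σ c) := fun c => rfl
  have hδι : ∀ y, δ (ι y) = 0 := by
    intro y
    rw [hδdef]
    have : σ (ι y) = 0 := by
      apply hinj
      rw [hσ, hει, sub_self, map_zero]
    rw [this, map_zero]
  have hδ : ∀ c d, δ (c * d) = ρ c • δ d + ρ d • δ c := by
    intro c d
    rw [hδdef, hδdef, hδdef]
    -- decompose
    have key : σ (c * d) = ι (ε c) • σ d + ι (ε d) • σ c + (val (σ c)) • σ d := by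
      apply hinj
      rw [map_add, map_add, map_smul, map_smul, map_smul, hσ, hσ, hσ, map_mul, map_mul]
      simp only [smul_eq_mul]
      ring
    rw [key, map_add, map_add, hP, hP, hP]
    have h0 : P (val (σ c) • σ d) = 0 := by
      apply hP0
      rw [map_smul, smul_eq_mul, pow_two]
      exact Ideal.mul_mem_mul (hmem _) (hmem _)
    rw [hP] at h0
    rw [h0, add_zero]
    have e1 : ρ c • P (σ d) = ρ (ι (ε c)) • P (σ d) := by
      have : c = ι (ε c) + (c - ι (ε c)) := by ring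
      conv_lhs => rw [this, map_add, add_smul, hT _ (hpr c), add_zero]
    have e2 : ρ d • P (σ c) = ρ (ι (ε d)) • P (σ c) := by
      have : d = ι (ε d) + (d - ι (ε d)) := by ring
      conv_lhs => rw [this, map_add, add_smul, hT _ (hpr d), add_zero]
    rw [e1, e2]
  obtain ⟨D, hD₁, hD₂⟩ := exists_D hpo T δ hδ hδι
  -- `D` kills `map ρ (I^2)`
  have hI2 : ∀ r ∈ Ideal.map ρ.hom (RingHom.ker ε.hom ^ 2), D r = 0 ∧ ∀ t : T, r • t = 0 := by
    intro r hr
    rw [Ideal.map] at hr
    induction hr using Submodule.span_induction with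
    | mem r hr =>
      obtain ⟨y, hy, rfl⟩ := hr
      have hy1 : ε y = 0 := by
        have : y ∈ RingHom.ker ε.hom := Ideal.pow_le_self (two_ne_zero) hy
        exact this
      refine ⟨?_, fun t => hT y hy1 t⟩
      change D (ρ y) = 0
      rw [hD₁, hδdef]
      apply hP0
      rw [hσ, hy1, map_zero, sub_zero]
      exact hy
    | zero => exact ⟨map_zero _, fun t => zero_smul _ _⟩
    | add r s _ _ hr hs =>
      exact ⟨by rw [map_add, hr.1, hs.1, add_zero], fun t => by rw [add_smul, hr.2, hs.2, add_zero]⟩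
    | smul b r _ hr =>
      refine ⟨?_, fun t => ?_⟩
      · rw [smul_eq_mul, hD₂, hr.1, smul_zero, hr.2, add_zero]
      · rw [smul_eq_mul, mul_smul, hr.2, smul_zero]
  have h1 := (hI2 _ h).1
  rw [map_sum] at h1
  rw [← h1]
  refine Finset.sum_congr rfl (fun k _ => ?_)
  rw [hD₂, hD₁, hδdef, hσval, hT _ (hmem _), add_zero]

end Main

end Groth.Agent.Lib.Helper1.SplitVanish
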