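import Mathlib
import Groth.Prelude.Def_OmegaPn
import Groth.Agent.Lib.Helper1.GrFlat
import Groth.Agent.Lib.Helper1.SplitVanish

set_option autoImplicit false
set_option linter.style.haveILetI false
universe u
open CategoryTheory CategoryTheory.Limits AlgebraicGeometry TopologicalSpace Opposite

namespace Groth.Agent.Lib.Helper1.GrSplit

open Groth.Agent.Lib.Helper3 Groth.Agent.Lib.Helper1.PbSect Groth.Agent.Lib.Helper1.GrBC
  Groth.Agent.Lib.Helper1.GrFlat

variable {X Y X' Y' : Scheme.{u}} {g : X ⟶ Y} {f : Y ⟶ X} (hf : f ≫ g = 𝟙 Y)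
  {u : Y' ⟶ Y} {v : X' ⟶ X} {g' : X' ⟶ Y'} (hsq : IsPullback v g' g u)
  {f' : Y' ⟶ X'} (hf' : f' ≫ g' = 𝟙 Y') (hf'v : f' ≫ v = u ≫ f)

include hf hsq hf' hf'v in
/-- the square of sections is cartesian -/
theorem isPullback_sections : IsPullback u f' f v := by
  have hbig : IsPullback (f' ≫ g') u u (f ≫ g) := by
    rw [hf, hf']
    exact IsPullback.of_id_fst
  exact (IsPullback.of_right hbig hf'v hsq.flip).flip

variable [IsClosedImmersion f]

include hsq in
omit [IsClosedImmersion f] in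
theorem isAffineOpen_inf {V : Y.Opens} (hV : IsAffineOpen V) {U : X.Opens} (hU : IsAffineOpen U)
    (hUV : U ≤ g ⁻¹ᵁ V) {V' : Y'.Opens} (hV' : IsAffineOpen V') (hVV' : V' ≤ u ⁻¹ᵁ V) :
    IsAffineOpen (v ⁻¹ᵁ U ⊓ g' ⁻¹ᵁ V') := by
  have : IsAffine _ := hU
  have : IsAffine _ := hV
  have : IsAffine _ := hV'
  exact .of_isIso (Scheme.Hom.isPullback_resLE hsq hVV' hUV rfl).isoPullback.hom

include hf hsq hf' hf'v in
/-- the vanishing principle for the conormal sheaf of a section. -/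
theorem vanish_of_section {U : X.Opens} (hU : IsAffineOpen U) (hUle : U ≤ g ⁻¹ᵁ (f ⁻¹ᵁ U))
    (hret : ∀ s, (f.app U).hom ((g.appLE (f ⁻¹ᵁ U) U hUle).hom s) = s)
    {V' : Y'.Opens} (hV' : IsAffineOpen V') (hVV' : V' ≤ u ⁻¹ᵁ (f ⁻¹ᵁ U)) :
    Vanish (isPullback_sections hf hsq hf' hf'v) 1 U (v ⁻¹ᵁ U ⊓ g' ⁻¹ᵁ V') inf_le_left := by
  have hsq' := isPullback_sections hf hsq hf' hf'v
  have hV : IsAffineOpen (f ⁻¹ᵁ U) := hU.preimage f
  set U' : X'.Opens := v ⁻¹ᵁ U ⊓ g' ⁻¹ᵁ V' with hU'def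
  have hUU' : U' ≤ v ⁻¹ᵁ U := inf_le_left
  have hiso := isIso_pushoutSection_of_isAffineOpen hsq hVV' hUle (UY := U') rfl hV hV' hU
  have hpo := (isIso_pushoutSection_iff hsq hVV' hUle (UY := U') rfl).mp hiso
  intro m a' x hw
  have hle := preimage_le hsq' hUU'
  letI : Module Γ(X', U') Γ((Scheme.Modules.pullback u).obj (PrinPart.grMod f 1), f' ⁻¹ᵁ U') :=
    Module.compHom _ (f'.app U').hom
  let val : Γ(ClSub.idealMod (f.ker ^ 1), U) →ₗ[Γ(X, U)] Γ(X, U) :=
    { toFun := IdealMod.val (f.ker ^ 1)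
      map_add' := IdealMod.val_add _
      map_smul' := fun a s => IdealMod.val_smul _ a s }
  let P : Γ(ClSub.idealMod (f.ker ^ 1), U) →+
      Γ((Scheme.Modules.pullback u).obj (PrinPart.grMod f 1), f' ⁻¹ᵁ U') :=
    (pullRes u (PrinPart.grMod f 1) hle).comp (PrinPart.grSect f 1 U).hom
  have hP : ∀ (a : Γ(X, U)) (s : Γ(ClSub.idealMod (f.ker ^ 1), U)),
      P (a • s) = (v.appLE U U' hUU') a • P s := by
    intro a s
    change pullRes u (PrinPart.grMod f 1) hle (PrinPart.grSect f 1 U (a • s)) =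
      f'.app U' ((v.appLE U U' hUU').hom a) • pullRes u (PrinPart.grMod f 1) hle
        (PrinPart.grSect f 1 U s)
    rw [GrSect.grSect_smul, pullRes_smul, comm_appLE hsq' hUU']
  have hP0 : ∀ s : Γ(ClSub.idealMod (f.ker ^ 1), U),
      val s ∈ RingHom.ker (f.app U).hom ^ 2 → P s = 0 := by
    intro s hs
    change pullRes u (PrinPart.grMod f 1) hle (PrinPart.grSect f 1 U s) = 0
    rw [(GrSect.grSect_eq_zero_iff f 1 hU s).mpr hs, map_zero]
  have hε : g.appLE (f ⁻¹ᵁ U) U hUle ≫ f.app U = 𝟙 _ := by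
    ext s; exact hret s
  refine SplitVanish.sum_smul_eq_zero hpo hε val (IdealMod.val_injective _ _) ?_ ?_
    Γ((Scheme.Modules.pullback u).obj (PrinPart.grMod f 1), f' ⁻¹ᵁ U') ?_ P hP hP0 a' x hw
  · intro c hc
    exact GrSect.exists_val_eq_pow f 1 hU c (by rw [pow_one]; exact hc)
  · intro s
    have := GrSect.val_mem_pow f 1 hU s
    rw [pow_one] at this
    exact this
  · intro c hc t
    change f'.app U' ((v.appLE U U' hUU').hom c) • t = 0
    rw [← comm_appLE hsq' hUU']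
    have : f.app U c = 0 := hc
    rw [this, map_zero, zero_smul]

end Groth.Agent.Lib.Helper1.GrSplit
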