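import Mathlib
import Groth.Agent.Lib.Helper1.FlatFilt

set_option autoImplicit false
set_option linter.style.haveILetI false
universe u
open CategoryTheory CategoryTheory.Limits TensorProduct

namespace Groth.Agent.Lib.Helper1.SplitFlatVanish

open Groth.Agent.Lib.Helper1.FlatFilt

variable {A C A' C' : CommRingCat.{u}} {ι : A ⟶ C} {a : A ⟶ A'} {ρ : C ⟶ C'} {γ : A' ⟶ C'}
  (hpo : IsPushout ι a ρ γ)

include hpo in
theorem sum_smul_eq_zero (I : Ideal C) (n : ℕ)
    (hflat : letI : Algebra A C := ι.hom.toAlgebra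
      ∀ j < n, Module.Flat A (Nj (A := A) I j ⧸ Sub (A := A) I j))
    {Mn : Type u} [AddCommGroup Mn] [Module C Mn] (val : Mn →ₗ[C] C)
    (hinj : Function.Injective val)
    (hrange : ∀ c ∈ I ^ n, ∃ s, val s = c) (hmem : ∀ s, val s ∈ I ^ n)
    (T : Type u) [AddCommGroup T] [Module C' T]
    (P : Mn →+ T) (hP : ∀ (c : C) (s : Mn), P (c • s) = ρ c • P s)
    (hP0 : ∀ s : Mn, val s ∈ I ^ (n + 1) → P s = 0)
    {m : ℕ} (a' : Fin m → C') (x : Fin m → Mn)
    (h : ∑ k, a' k * ρ (val (x k)) ∈ Ideal.map ρ.hom (I ^ (n + 1))) :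
    ∑ k, a' k • P (x k) = 0 := by
  letI algC : Algebra A C := ι.hom.toAlgebra
  letI algA' : Algebra A A' := a.hom.toAlgebra
  letI modA' : Module A' T := Module.compHom T γ.hom
  letI modA : Module A T := Module.compHom T (algebraMap A A')
  haveI : IsScalarTower A A' T := IsScalarTower.of_algebraMap_smul (fun r x => rfl)
  have hpo' : IsPushout (CommRingCat.ofHom (algebraMap A C))
      (CommRingCat.ofHom (algebraMap A A')) ρ γ := hpo
  let θ := (CommRingCat.isPushout_tensorProduct A C A').isoIsPushout _ _ hpo'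
  have hθ₁ : CommRingCat.ofHom (S := C ⊗[A] A') Algebra.TensorProduct.includeLeftRingHom ≫ θ.hom
      = ρ := IsPushout.inl_isoIsPushout_hom _ _ _ _
  have hθ₂ : CommRingCat.ofHom (S := C ⊗[A] A') Algebra.TensorProduct.includeRight.toRingHom ≫
      θ.hom = γ := IsPushout.inr_isoIsPushout_hom _ _ _ _
  have hθ₁' : ρ ≫ θ.inv =
      CommRingCat.ofHom (S := C ⊗[A] A') Algebra.TensorProduct.includeLeftRingHom :=
    IsPushout.inl_isoIsPushout_inv _ _ _ _
  have hθ : ∀ (c : C) (α : A'), θ.hom (c ⊗ₜ[A] α) = ρ c * γ α := by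
    intro c α
    have e1 : (c ⊗ₜ[A] α : C ⊗[A] A') = (Algebra.TensorProduct.includeLeftRingHom c) *
        (Algebra.TensorProduct.includeRight.toRingHom α) := by
      change _ = (c ⊗ₜ[A] (1 : A')) * ((1 : C) ⊗ₜ[A] α)
      rw [Algebra.TensorProduct.tmul_mul_tmul, mul_one, one_mul]
    rw [e1, map_mul]
    exact congrArg₂ _ congr($hθ₁ c) congr($hθ₂ α)
  have hθinv : ∀ c : C, θ.inv (ρ c) = c ⊗ₜ[A] (1 : A') := fun c => congr($hθ₁' c)
  have hθhi : ∀ r : C', θ.hom (θ.inv r) = r := fun r => congr($(θ.inv_hom_id) r)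
  -- the section
  choose σ hσ using fun y : Nj (A := A) I n => hrange y.1 y.2
  have hσsmul : ∀ (c : C) (s : Mn), σ ⟨c * val s, Ideal.mul_mem_left _ _ (hmem s)⟩ = c • s := by
    intro c s
    apply hinj
    rw [hσ, map_smul, smul_eq_mul]
  have hw : ∀ r : A, ρ (ι r) = γ (a r) := fun r => congr($(hpo.w) r)
  let Pn : Nj (A := A) I n →ₗ[A] T :=
    { toFun := fun y => P (σ y)
      map_add' := fun y z => by
        have : σ (y + z) = σ y + σ z := by
          apply hinj
          rw [map_add, hσ, hσ, hσ]; rfl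
        rw [this, map_add]
      map_smul' := fun r y => by
        have : σ (r • y) = (algebraMap A C r) • σ y := by
          apply hinj
          rw [map_smul, hσ, hσ, smul_eq_mul]
          change r • y.1 = _
          rw [Algebra.smul_def]
        rw [this, hP]
        change ρ (ι r) • P (σ y) = γ (a r) • P (σ y)
        rw [hw] }
  have hPn0 : ∀ y : Nj (A := A) I n, y.1 ∈ I ^ (n + 1) → Pn y = 0 := by
    intro y hy
    change P (σ y) = 0
    apply hP0
    rw [hσ]; exact hy
  have hΨm : ∀ (s : Mn) (e : C ⊗[A] A'),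
      Psi I n Pn (mY (A := A) (A' := A') I n ⟨val s, hmem s⟩ e) = θ.hom e • P s := by
    intro s e
    induction e using TensorProduct.induction_on with
    | zero => simp
    | tmul c α =>
      change Psi I n Pn ((⟨c * val s, Ideal.mul_mem_left _ _ (hmem s)⟩ : Nj (A := A) I n) ⊗ₜ[A] α)
        = _
      rw [Psi_tmul, hθ]
      change γ α • P (σ ⟨c * val s, _⟩) = _
      rw [hσsmul, hP, ← mul_smul, mul_comm]
    | add e₁ e₂ h₁ h₂ => rw [map_add, map_add, h₁, h₂, map_add, add_smul]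
  let τ : Nj (A := A) I n ⊗[A] A' := ∑ k, mY (A := A) (A' := A') I n ⟨val (x k), hmem (x k)⟩ (θ.inv (a' k))
  have hΨτ : Psi I n Pn τ = ∑ k, a' k • P (x k) := by
    change Psi I n Pn (∑ k, _) = _
    rw [map_sum]
    refine Finset.sum_congr rfl fun k _ => ?_
    rw [hΨm, hθhi]
  have hjτ : jk I n τ = θ.inv (∑ k, a' k * ρ (val (x k))) := by
    change jk I n (∑ k, _) = _
    rw [map_sum, map_sum]
    refine Finset.sum_congr rfl fun k _ => ?_
    rw [jk_mY, map_mul, hθinv]
  have hmemE : θ.inv (∑ k, a' k * ρ (val (x k))) ∈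
      Ideal.map (Algebra.TensorProduct.includeLeftRingHom : C →+* C ⊗[A] A') (I ^ (n + 1)) := by
    have h1 := Ideal.mem_map_of_mem θ.inv.hom h
    rw [Ideal.map_map] at h1
    have h2 : θ.inv.hom.comp ρ.hom =
        (Algebra.TensorProduct.includeLeftRingHom : C →+* C ⊗[A] A') := by
      ext c
      exact hθinv c
    rw [h2] at h1
    exact h1
  obtain ⟨τ', hτ'⟩ := exists_jk_eq_of_mem I (n + 1) _ hmemE
  rw [← hΨτ]
  exact Psi_eq_zero I n hflat Pn hPn0 τ τ' (hjτ.trans hτ'.symm)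

end Groth.Agent.Lib.Helper1.SplitFlatVanish
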