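import Mathlib
import Groth.Prelude.Def_OmegaPn
import Groth.Prelude.Def_FlatMod2
import Groth.Agent.Lib.Helper1.GrSplit
import Groth.Agent.Lib.Helper1.SplitFlatVanish
import Groth.Agent.Lib.Helper17.FlatSections

set_option autoImplicit false
set_option linter.style.haveILetI false
universe u
open CategoryTheory CategoryTheory.Limits AlgebraicGeometry TopologicalSpace Opposite

namespace Groth.Agent.Lib.Helper1.GrSplitFlat

open Groth.Agent.Lib.Helper3 Groth.Agent.Lib.Helper1.PbSect Groth.Agent.Lib.Helper1.GrBC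
  Groth.Agent.Lib.Helper1.GrFlat Groth.Agent.Lib.Helper1.FlatFilt

section Quot

variable {X Y : Scheme.{u}} {g : X ⟶ Y} {f : Y ⟶ X} [IsClosedImmersion f]
  {U : X.Opens} (hU : IsAffineOpen U) (hUle : U ≤ g ⁻¹ᵁ (f ⁻¹ᵁ U))
  (hret : ∀ s, (f.app U).hom ((g.appLE (f ⁻¹ᵁ U) U hUle).hom s) = s)

include hU hret in
/-- the graded pieces of the ideal of a section, computed on a good affine open. -/
theorem flat_quot (j : ℕ) (hflat : FlatMod.IsFlat (PrinPart.grMod f j)) :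
    letI : Algebra Γ(Y, f ⁻¹ᵁ U) Γ(X, U) := (g.appLE (f ⁻¹ᵁ U) U hUle).hom.toAlgebra
    Module.Flat Γ(Y, f ⁻¹ᵁ U)
      (Nj (A := Γ(Y, f ⁻¹ᵁ U)) (RingHom.ker (f.app U).hom) j ⧸
        Sub (A := Γ(Y, f ⁻¹ᵁ U)) (RingHom.ker (f.app U).hom) j) := by
  letI : Algebra Γ(Y, f ⁻¹ᵁ U) Γ(X, U) := (g.appLE (f ⁻¹ᵁ U) U hUle).hom.toAlgebra
  set I := RingHom.ker (f.app U).hom with hI
  haveI : Module.Flat Γ(Y, f ⁻¹ᵁ U) Γ(PrinPart.grMod f j, f ⁻¹ᵁ U) :=
    Groth.Agent.Lib.Helper17.FlatSections.flat_sections_of_isFlat _ hflat (hU.preimage f)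
  choose σ hσ using fun y : Nj (A := Γ(Y, f ⁻¹ᵁ U)) I j => GrSect.exists_val_eq_pow f j hU y.1 y.2
  let L : Nj (A := Γ(Y, f ⁻¹ᵁ U)) I j →ₗ[Γ(Y, f ⁻¹ᵁ U)] Γ(PrinPart.grMod f j, f ⁻¹ᵁ U) :=
    { toFun := fun y => PrinPart.grSect f j U (σ y)
      map_add' := fun y z => by
        have : σ (y + z) = σ y + σ z := by
          apply IdealMod.val_injective _ U
          rw [IdealMod.val_add, hσ, hσ, hσ]; rfl
        rw [this, map_add]
      map_smul' := fun r y => by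
        have : σ (r • y) = ((g.appLE (f ⁻¹ᵁ U) U hUle).hom r) • σ y := by
          apply IdealMod.val_injective _ U
          rw [IdealMod.val_smul, hσ, hσ]
          change r • y.1 = _
          rw [Algebra.smul_def]; rfl
        rw [this, GrSect.grSect_smul]
        change f.app U ((g.appLE (f ⁻¹ᵁ U) U hUle).hom r) • _ = r • _
        rw [hret] }
  have hLsurj : Function.Surjective L := by
    intro q
    obtain ⟨s, rfl⟩ := GrSect.grSect_surjective f j hU q
    refine ⟨⟨IdealMod.val _ s, GrSect.val_mem_pow f j hU s⟩, ?_⟩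
    change PrinPart.grSect f j U (σ _) = _
    congr 1
    apply IdealMod.val_injective _ U
    rw [hσ]
  have hker : Sub (A := Γ(Y, f ⁻¹ᵁ U)) I j = LinearMap.ker L := by
    ext y
    rw [LinearMap.mem_ker]
    change y.1 ∈ I ^ (j + 1) ↔ PrinPart.grSect f j U (σ y) = 0
    rw [GrSect.grSect_eq_zero_iff f j hU, hσ]
  exact Module.Flat.of_linearEquiv
    ((Submodule.quotEquivOfEq _ _ hker).trans (L.quotKerEquivOfSurjective hLsurj))

end Quot

variable {X Y X' Y' : Scheme.{u}} {g : X ⟶ Y} {f : Y ⟶ X} (hf : f ≫ g = 𝟙 Y)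
  {u : Y' ⟶ Y} {v : X' ⟶ X} {g' : X' ⟶ Y'} (hsq : IsPullback v g' g u)
  {f' : Y' ⟶ X'} (hf' : f' ≫ g' = 𝟙 Y') (hf'v : f' ≫ v = u ≫ f)

variable [IsClosedImmersion f]

include hf hsq hf' hf'v in
/-- the vanishing principle for the graded pieces of a section with flat graded pieces. -/
theorem vanish_of_section_flat (n : ℕ) {U : X.Opens} (hU : IsAffineOpen U)
    (hUle : U ≤ g ⁻¹ᵁ (f ⁻¹ᵁ U))
    (hret : ∀ s, (f.app U).hom ((g.appLE (f ⁻¹ᵁ U) U hUle).hom s) = s)
    (hflat : ∀ j < n, FlatMod.IsFlat (PrinPart.grMod f j))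
    {V' : Y'.Opens} (hV' : IsAffineOpen V') (hVV' : V' ≤ u ⁻¹ᵁ (f ⁻¹ᵁ U)) :
    Vanish (GrSplit.isPullback_sections hf hsq hf' hf'v) n U (v ⁻¹ᵁ U ⊓ g' ⁻¹ᵁ V')
      inf_le_left := by
  have hsq' := GrSplit.isPullback_sections hf hsq hf' hf'v
  have hV : IsAffineOpen (f ⁻¹ᵁ U) := hU.preimage f
  set U' : X'.Opens := v ⁻¹ᵁ U ⊓ g' ⁻¹ᵁ V' with hU'def
  have hUU' : U' ≤ v ⁻¹ᵁ U := inf_le_left
  have hiso := isIso_pushoutSection_of_isAffineOpen hsq hVV' hUle (UY := U') rfl hV hV' hU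
  have hpo := (isIso_pushoutSection_iff hsq hVV' hUle (UY := U') rfl).mp hiso
  intro m a' x hw
  have hle := preimage_le hsq' hUU'
  letI : Module Γ(X', U') Γ((Scheme.Modules.pullback u).obj (PrinPart.grMod f n), f' ⁻¹ᵁ U') :=
    Module.compHom _ (f'.app U').hom
  let val : Γ(ClSub.idealMod (f.ker ^ n), U) →ₗ[Γ(X, U)] Γ(X, U) :=
    { toFun := IdealMod.val (f.ker ^ n)
      map_add' := IdealMod.val_add _
      map_smul' := fun a s => IdealMod.val_smul _ a s }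
  let P : Γ(ClSub.idealMod (f.ker ^ n), U) →+
      Γ((Scheme.Modules.pullback u).obj (PrinPart.grMod f n), f' ⁻¹ᵁ U') :=
    (pullRes u (PrinPart.grMod f n) hle).comp (PrinPart.grSect f n U).hom
  have hP : ∀ (a : Γ(X, U)) (s : Γ(ClSub.idealMod (f.ker ^ n), U)),
      P (a • s) = (v.appLE U U' hUU') a • P s := by
    intro a s
    change pullRes u (PrinPart.grMod f n) hle (PrinPart.grSect f n U (a • s)) =
      f'.app U' ((v.appLE U U' hUU').hom a) • pullRes u (PrinPart.grMod f n) hle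
        (PrinPart.grSect f n U s)
    rw [GrSect.grSect_smul, pullRes_smul, comm_appLE hsq' hUU']
  have hP0 : ∀ s : Γ(ClSub.idealMod (f.ker ^ n), U),
      val s ∈ RingHom.ker (f.app U).hom ^ (n + 1) → P s = 0 := by
    intro s hs
    change pullRes u (PrinPart.grMod f n) hle (PrinPart.grSect f n U s) = 0
    rw [(GrSect.grSect_eq_zero_iff f n hU s).mpr hs, map_zero]
  refine SplitFlatVanish.sum_smul_eq_zero hpo (RingHom.ker (f.app U).hom) n
    (fun j hj => flat_quot hU hUle hret j (hflat j hj)) val (IdealMod.val_injective _ _)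
    (fun c hc => GrSect.exists_val_eq_pow f n hU c hc) (fun s => GrSect.val_mem_pow f n hU s)
    Γ((Scheme.Modules.pullback u).obj (PrinPart.grMod f n), f' ⁻¹ᵁ U') P hP hP0 a' x hw

end Groth.Agent.Lib.Helper1.GrSplitFlat
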