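import Mathlib

/-!
# The graph of a compatible pair of morphisms is cartesian over a monomorphism (helper1)
-/
set_option autoImplicit false
universe v u
open CategoryTheory CategoryTheory.Limits

namespace Groth.Agent.Lib.Helper1.GraphPullback

/-- abstract form: `P`, `P'` any objects with "projections" that are jointly monic on `P`. -/
theorem isPullback_graph_aux {C : Type u} [Category.{v} C] {X X' Y Y' P P' : C}
    (f : X ⟶ Y) (f' : X' ⟶ Y') (iX : X ⟶ X') (iY : Y ⟶ Y') [Mono iY]
    (hf : f ≫ iY = iX ≫ f')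
    (Γ : X ⟶ P) (Γ' : X' ⟶ P') (iP : P ⟶ P') (fst : P ⟶ X) (snd : P ⟶ Y) (fst' : P' ⟶ X')
    (snd' : P' ⟶ Y')
    (h1 : Γ ≫ fst = 𝟙 _) (h2 : Γ ≫ snd = f) (h1' : Γ' ≫ fst' = 𝟙 _) (h2' : Γ' ≫ snd' = f')
    (h3 : iP ≫ fst' = fst ≫ iX) (h4 : iP ≫ snd' = snd ≫ iY)
    (hext : ∀ {T : C} (a b : T ⟶ P), a ≫ fst = b ≫ fst → a ≫ snd = b ≫ snd → a = b)
    (hcomm : Γ ≫ iP = iX ≫ Γ') : IsPullback iX Γ Γ' iP := by
  refine ⟨⟨hcomm.symm⟩, ⟨?_⟩⟩
  refine PullbackCone.IsLimit.mk _ (fun s => s.snd ≫ fst) ?_ ?_ ?_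
  · intro s
    have h5 := congrArg (· ≫ fst') s.condition
    simp only [Category.assoc] at h5
    rw [h1', h3, Category.comp_id] at h5
    rw [Category.assoc]
    exact h5.symm
  · intro s
    have h5 := congrArg (· ≫ fst') s.condition
    have h6 := congrArg (· ≫ snd') s.condition
    simp only [Category.assoc] at h5 h6
    rw [h1', h3, Category.comp_id] at h5
    rw [h2', h4] at h6
    apply hext
    · rw [Category.assoc, h1, Category.comp_id]
    · rw [Category.assoc, h2, ← cancel_mono iY, Category.assoc, Category.assoc, hf,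
        Category.assoc, ← h6, h5]
      simp only [Category.assoc]
  · intro s m _ hm2
    have h7 := congrArg (· ≫ fst) hm2
    simp only [Category.assoc] at h7
    rw [h1, Category.comp_id] at h7
    exact h7

end Groth.Agent.Lib.Helper1.GraphPullback
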