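import Mathlib

set_option autoImplicit false
universe u
open Polynomial

namespace Groth.Agent.Lib.Helper1.GrpLawAlg

variable {k : Type u} [Field k]

/-- substitution `s ↦ a, t ↦ b` on `k[t][s]`. -/
noncomputable def sub₂ {A : Type*} [CommRing A] (f : k →+* A) (a b : A) : k[X][X] →+* A :=
  eval₂RingHom (eval₂RingHom f b) a

/-- substitution inside `k[t][s]`. -/
noncomputable abbrev σ (P Q : k[X][X]) : k[X][X] →+* k[X][X] := sub₂ (C.comp C) P Q

lemma σ_X (P Q : k[X][X]) : σ P Q X = P := by simp [σ, sub₂]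
lemma σ_CX (P Q : k[X][X]) : σ P Q (C X) = Q := by simp [σ, sub₂]
lemma σ_CC (P Q : k[X][X]) (r : k) : σ P Q (C (C r)) = C (C r) := by simp [σ, sub₂]

lemma ringHom_ext₂ {A : Type*} [Semiring A] (f g : k[X][X] →+* A)
    (h0 : ∀ r, f (C (C r)) = g (C (C r))) (h1 : f (C X) = g (C X)) (h2 : f X = g X) : f = g := by
  apply Polynomial.ringHom_ext
  · intro a
    have : f.comp C = g.comp C := by
      apply Polynomial.ringHom_ext
      · intro r; exact h0 r
      · exact h1
    exact congr($this a)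
  · exact h2

lemma σ_comp (P Q P' Q' : k[X][X]) :
    (σ P' Q').comp (σ P Q) = σ (σ P' Q' P) (σ P' Q' Q) := by
  apply ringHom_ext₂
  · intro r
    rw [RingHom.comp_apply, σ_CC, σ_CC, σ_CC]
  · rw [RingHom.comp_apply, σ_CX, σ_CX]
  · rw [RingHom.comp_apply, σ_X, σ_X]

lemma σ_id : σ (X : k[X][X]) (C X) = RingHom.id _ := by
  apply ringHom_ext₂
  · intro r; rw [σ_CC]; rfl
  · rw [σ_CX]; rfl
  · rw [σ_X]; rfl

lemma σ_comp_apply (P Q P' Q' F : k[X][X]) :
    σ P' Q' (σ P Q F) = σ (σ P' Q' P) (σ P' Q' Q) F := congr($(σ_comp P Q P' Q') F)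

/-- `σ 0 t` is the constant coefficient. -/
lemma σ_zero (F : k[X][X]) : σ 0 (C X) F = C (F.coeff 0) := by
  have : σ (0 : k[X][X]) (C X) = C.comp (constantCoeff) := by
    apply ringHom_ext₂
    · intro r; rw [σ_CC]; simp
    · rw [σ_CX]; simp
    · rw [σ_X]; simp
  rw [this]
  rfl

/-- `σ s (C i₀)` is `map (aeval i₀)`. -/
lemma σ_X_C (i₀ : k[X]) (F : k[X][X]) :
    σ X (C i₀) F = F.map (eval₂RingHom C i₀) := by
  have : σ (X : k[X][X]) (C i₀) = mapRingHom (eval₂RingHom C i₀) := by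
    apply ringHom_ext₂
    · intro r; rw [σ_CC]; simp
    · rw [σ_CX]; simp
    · rw [σ_X]; simp
  rw [this]
  rfl

/-- `σ m (C i₀) F = (F.map ψ).comp m`. -/
lemma σ_m_C (m : k[X][X]) (i₀ : k[X]) (F : k[X][X]) :
    σ m (C i₀) F = (F.map (eval₂RingHom C i₀)).comp m := by
  have : σ m (C i₀) = (compRingHom m).comp (mapRingHom (eval₂RingHom C i₀)) := by
    apply ringHom_ext₂
    · intro r; rw [σ_CC]; simp
    · rw [σ_CX]; simp
    · rw [σ_X]; simp
  rw [this]
  rfl

/-- Step 1–3: the law is linear in `s` with constant invertible slope. -/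
theorem linear_in_s (m : k[X][X]) (e : k) (star : k[X][X] → k[X][X] → k[X][X])
    (h_sub : ∀ P Q, star P Q = σ P Q m)
    (h_assoc : ∀ P Q R, star (star P Q) R = star P (star Q R))
    (h_id_r : ∀ P, star P (C (C e)) = P) (h_id_l : ∀ P, star (C (C e)) P = P)
    (h_inv : ∀ P, ∃ Q, star P Q = C (C e) ∧ star Q P = C (C e)) :
    ∃ (α : k) (b : k[X]), m = C (C α) * X + C b := by
  obtain ⟨i, hi1, hi2⟩ := h_inv (C X)
  -- τ-compatibility
  have hτ : ∀ P Q, σ 0 (C X) (star P Q) = star (σ 0 (C X) P) (σ 0 (C X) Q) := by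
    intro P Q
    rw [h_sub, h_sub, σ_comp_apply]
  have hi3 : σ 0 (C X) i = i := by
    have h1 : star (C X) (σ 0 (C X) i) = C (C e) := by
      have := hτ (C X) i
      rw [hi1, σ_CX, σ_CC] at this
      exact this.symm
    calc σ 0 (C X) i = star (C (C e)) (σ 0 (C X) i) := (h_id_l _).symm
      _ = star (star i (C X)) (σ 0 (C X) i) := by rw [hi2]
      _ = star i (star (C X) (σ 0 (C X) i)) := h_assoc _ _ _
      _ = star i (C (C e)) := by rw [h1]
      _ = i := h_id_r _
  rw [σ_zero] at hi3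
  set i₀ : k[X] := i.coeff 0 with hi₀
  -- Q ∘ P = X
  have hm : star X (C X) = m := by rw [h_sub, σ_id]; rfl
  have hQP : ((m.map (eval₂RingHom C i₀)).comp m) = X := by
    have h1 : star (star X (C X)) (C i₀) = X := by
      rw [h_assoc, hi3, hi1, h_id_r]
    rw [hm, h_sub, σ_m_C] at h1
    exact h1
  have hdeg : (m.map (eval₂RingHom C i₀)).natDegree * m.natDegree = 1 := by
    rw [← natDegree_comp, hQP, natDegree_X]
  have hdm : m.natDegree = 1 := Nat.eq_one_of_mul_eq_one_left hdeg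
  have hmform : m = C (m.coeff 1) * X + C (m.coeff 0) :=
    eq_X_add_C_of_natDegree_le_one hdm.le
  -- the slope is a unit
  have hunit : IsUnit (m.coeff 1) := by
    set a := m.coeff 1
    set b := m.coeff 0
    have hmap : m.map (eval₂RingHom C i₀) =
        C (eval₂RingHom C i₀ a) * X + C (eval₂RingHom C i₀ b) := by
      conv_lhs => rw [hmform]
      simp only [Polynomial.map_add, Polynomial.map_mul, map_C, map_X]
    have hcomp : (m.map (eval₂RingHom C i₀)).comp m =
        C (eval₂RingHom C i₀ a) * m + C (eval₂RingHom C i₀ b) := by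
      rw [hmap]
      simp only [add_comp, mul_comp, C_comp, X_comp]
    have h2 := congrArg (fun p => p.coeff 1) hQP
    simp only [coeff_X_one] at h2
    rw [hcomp, coeff_add, coeff_C_mul, coeff_C] at h2
    simp only [one_ne_zero, if_false, add_zero] at h2
    exact IsUnit.of_mul_eq_one _ (by rw [mul_comm]; exact h2)
  obtain ⟨α, hα, hαe⟩ := Polynomial.isUnit_iff.mp hunit
  exact ⟨α, m.coeff 0, by rw [hαe]; exact hmform⟩

lemma σ_swap_C (b : k[X]) : σ (C X) X (C b) = b.map C := by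
  have : (σ (C X : k[X][X]) X).comp C = mapRingHom C := by
    apply Polynomial.ringHom_ext
    · intro r
      rw [RingHom.comp_apply, σ_CC]; simp
    · rw [RingHom.comp_apply, σ_CX]; simp
  exact congr($this b)

lemma σ_C (P Q : k[X][X]) (b : k[X]) : σ P Q (C b) = eval₂ (C.comp C) Q b := by
  simp [σ, sub₂]

theorem law_eq (m : k[X][X]) (e : k) (star : k[X][X] → k[X][X] → k[X][X])
    (h_sub : ∀ P Q, star P Q = σ P Q m)
    (h_assoc : ∀ P Q R, star (star P Q) R = star P (star Q R))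
    (h_id_r : ∀ P, star P (C (C e)) = P) (h_id_l : ∀ P, star (C (C e)) P = P)
    (h_inv : ∀ P, ∃ Q, star P Q = C (C e) ∧ star Q P = C (C e)) :
    m = X + C X - C (C e) := by
  obtain ⟨α, b, hm⟩ := linear_in_s m e star h_sub h_assoc h_id_r h_id_l h_inv
  -- swapped law
  have h_sub' : ∀ P Q, star Q P = σ P Q (σ (C X) X m) := by
    intro P Q
    rw [h_sub, σ_comp_apply, σ_CX, σ_X]
  obtain ⟨α', b', hm'⟩ := linear_in_s (σ (C X) X m) e (fun P Q => star Q P) h_sub'
    (fun P Q R => (h_assoc R Q P).symm) h_id_l h_id_r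
    (fun P => by obtain ⟨Q, h1, h2⟩ := h_inv P; exact ⟨Q, h2, h1⟩)
  have hsw : σ (C X) X m = C (C α) * C X + b.map C := by
    rw [hm, map_add, map_mul, σ_CC, σ_X, σ_swap_C]
  rw [hsw] at hm'
  have hb : b.natDegree ≤ 1 := by
    rw [natDegree_le_iff_coeff_eq_zero]
    intro j hj
    have h2 := congrArg (fun p => p.coeff j) hm'
    simp only [coeff_add, coeff_map] at h2
    rw [← C_mul, coeff_C, coeff_C_mul, coeff_X, coeff_C] at h2
    have hj0 : j ≠ 0 := by omega
    have hj1 : ¬ (1 = j) := by omega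
    simp only [hj0, hj1, if_false, zero_add, mul_zero, add_zero] at h2
    exact C_eq_zero.mp h2
  obtain ⟨β₁, β₀, hbform⟩ : ∃ β₁ β₀ : k, b = C β₁ * X + C β₀ :=
    ⟨_, _, eq_X_add_C_of_natDegree_le_one hb⟩
  -- identities
  have hr := h_id_r X
  rw [h_sub, hm, map_add, map_mul, σ_CC, σ_X, σ_C, hbform] at hr
  simp only [eval₂_add, eval₂_mul, eval₂_C, eval₂_X, RingHom.comp_apply] at hr
  have hr1 := congrArg (fun p => p.coeff 1) hr
  have hr0 := congrArg (fun p => p.coeff 0) hr
  simp only [coeff_add, coeff_C_mul, coeff_X_one, coeff_X_zero, coeff_C_zero, ← C_mul, ← C_add,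
    coeff_C, one_ne_zero, if_false, mul_one, mul_zero, add_zero, zero_add] at hr1 hr0
  have hl := h_id_l (C X)
  rw [h_sub, hm, map_add, map_mul, σ_CC, σ_X, σ_C, hbform] at hl
  simp only [eval₂_add, eval₂_mul, eval₂_C, eval₂_X, RingHom.comp_apply] at hl
  have hl0 := congrArg (fun p => p.coeff 0) hl
  simp only [coeff_add, coeff_C_mul, coeff_C_zero, ← C_mul, ← C_add] at hl0
  have hl01 := congrArg (fun p => p.coeff 1) hl0
  have hl00 := congrArg (fun p => p.coeff 0) hl0
  simp only [coeff_add, coeff_C_mul, coeff_X_one, coeff_X_zero, coeff_C_zero, ← C_mul, ← C_add,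
    coeff_C, one_ne_zero, if_false, mul_one, mul_zero, add_zero, zero_add] at hl01 hl00
  simp only [if_true] at hl00
  have hα : α = 1 := by
    have : (C α : k[X]) = C 1 := by rw [hr1, C_1]
    exact C_injective this
  subst hα
  subst hl01
  have hβ₀ : β₀ = -e := by
    rw [_root_.one_mul] at hl00
    exact eq_neg_of_add_eq_zero_right hl00
  rw [hm, hbform, hβ₀]
  simp only [C_1, _root_.one_mul, C_neg, map_add, map_neg]
  ring

end Groth.Agent.Lib.Helper1.GrpLawAlg
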