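import Mathlib
import Groth.Agent.Lib.Helper1.KummerSeq
import Groth.Agent.Lib.Helper1.GrpLawAlg

set_option autoImplicit false
set_option linter.style.haveILetI false
universe u
open CategoryTheory MonoidalCategory CartesianMonoidalCategory MonObj GrpObj AlgebraicGeometry CategoryTheory.Limits
open Red
open Groth.Agent.Lib.Helper13 Groth.Agent.Lib.Helper1.DiagGa Groth.Agent.Lib.Helper1.GrpLawAlg

namespace Groth.Agent.Lib.Helper1.GrpLaw

variable (k : Type u) [Field k]

/-- the base. -/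
noncomputable abbrev Sk : Scheme.{u} := Spec (CommRingCat.of k)

/-- the affine test object attached to a `k`-algebra. -/
noncomputable def XB (B : Type u) [CommRing B] [Algebra k B] : Over (Sk k) :=
  Over.mk (Spec.map (CommRingCat.ofHom (algebraMap k B)))

/-- global sections of the affine test object. -/
noncomputable def eB (B : Type u) [CommRing B] [Algebra k B] : B ≃+* Γ((XB k B).left, ⊤) :=
  (Scheme.ΓSpecIso (CommRingCat.of B)).symm.commRingCatIsoToRingEquiv

variable {k}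

/-- the structure ring hom `k → Γ(X)`. -/
noncomputable def strHom (X : Over (Sk k)) : k →+* Γ(X.left, ⊤) :=
  ((Scheme.ΓSpecIso (CommRingCat.of k)).inv ≫ X.hom.appTop).hom

/-- the morphism to an affine test object attached to a ring hom compatible with the structure maps. -/
noncomputable def toXB {X : Over (Sk k)} {B : Type u} [CommRing B] [Algebra k B]
    (φ : B →+* Γ(X.left, ⊤)) (hφ : φ.comp (algebraMap k B) = strHom X) : X ⟶ XB k B :=
  Over.homMk (X.left.toSpecΓ ≫ Spec.map (CommRingCat.ofHom φ)) (by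
    apply ext_to_Spec
    ext r
    change ((X.left.toSpecΓ ≫ Spec.map (CommRingCat.ofHom φ)) ≫
      Spec.map (CommRingCat.ofHom (algebraMap k B))).appTop ((Scheme.ΓSpecIso (CommRingCat.of k)).inv r) =
      X.hom.appTop ((Scheme.ΓSpecIso (CommRingCat.of k)).inv r)
    rw [Category.assoc, ← Spec.map_comp, ← CommRingCat.ofHom_comp, hφ, Scheme.Hom.comp_appTop,
      CommRingCat.comp_apply, specMap_appTop_ΓSpecIso_inv, Scheme.toSpecΓ_appTop]
    exact congr($((Scheme.ΓSpecIso Γ(X.left, ⊤)).inv_hom_id) (strHom X r)))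

lemma toXB_appTop {X : Over (Sk k)} {B : Type u} [CommRing B] [Algebra k B]
    (φ : B →+* Γ(X.left, ⊤)) (hφ : φ.comp (algebraMap k B) = strHom X) (b : B) :
    (toXB φ hφ).left.appTop (eB k B b) = φ b := by
  change (X.left.toSpecΓ ≫ Spec.map (CommRingCat.ofHom φ)).appTop
    ((Scheme.ΓSpecIso (CommRingCat.of B)).inv b) = _
  rw [Scheme.Hom.comp_appTop, CommRingCat.comp_apply, specMap_appTop_ΓSpecIso_inv,
    Scheme.toSpecΓ_appTop]
  exact congr($((Scheme.ΓSpecIso Γ(X.left, ⊤)).inv_hom_id) (φ b))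



section Law

open Polynomial

variable {G' : Over (Sk k)} [GrpObj G'] (θ : G' ≅ Ga (Sk k))

/-- the coordinate of a point. -/
noncomputable def cFn {X : Over (Sk k)} (x : X ⟶ G') : Γ(X.left, ⊤) := gaFn (x ≫ θ.hom)

lemma cFn_injective {X : Over (Sk k)} : Function.Injective (cFn θ (X := X)) := by
  intro x y h
  have := gaFn_injective h
  exact (cancel_mono θ.hom).mp this

omit [GrpObj G'] in
lemma cFn_comp {X X' : Over (Sk k)} (g : X' ⟶ X) (x : X ⟶ G') :
    cFn θ (g ≫ x) = g.left.appTop (cFn θ x) := by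
  unfold cFn
  rw [Category.assoc, gaFn_comp]

omit [GrpObj G'] in
lemma exists_cFn_eq {X : Over (Sk k)} (a : Γ(X.left, ⊤)) : ∃ x : X ⟶ G', cFn θ x = a := by
  obtain ⟨x, hx⟩ := exists_gaFn_eq (S := Sk k) (X := X) a
  refine ⟨x ≫ θ.inv, ?_⟩
  unfold cFn
  rw [Category.assoc, Iso.inv_hom_id, Category.comp_id, hx]

/-- the point with given coordinate. -/
noncomputable def pt {X : Over (Sk k)} (a : Γ(X.left, ⊤)) : X ⟶ G' := (exists_cFn_eq θ a).choose

omit [GrpObj G'] in
lemma cFn_pt {X : Over (Sk k)} (a : Γ(X.left, ⊤)) : cFn θ (pt θ a) = a :=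
  (exists_cFn_eq θ a).choose_spec

lemma pt_cFn {X : Over (Sk k)} (x : X ⟶ G') : pt θ (cFn θ x) = x :=
  cFn_injective θ (cFn_pt θ _)

/-- the unit constant. -/
noncomputable def eConst : k := (Scheme.ΓSpecIso (CommRingCat.of k)).hom (cFn θ η[G'])

lemma cFn_one {X : Over (Sk k)} : cFn θ (1 : X ⟶ G') = strHom X (eConst θ) := by
  rw [Hom.one_def, cFn_comp]
  have h1 : (toUnit X).left = X.hom := by
    have := Over.w (toUnit X)
    have h2 : (𝟙_ (Over (Sk k))).hom = 𝟙 _ := rfl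
    rw [h2, Category.comp_id] at this
    exact this
  unfold strHom eConst
  rw [h1]
  change _ = X.hom.appTop ((Scheme.ΓSpecIso (CommRingCat.of k)).inv _)
  congr 1
  exact (congr($((Scheme.ΓSpecIso (CommRingCat.of k)).hom_inv_id) (cFn θ η[G']))).symm

/-- the evaluation ring hom. -/
noncomputable def ev {X : Over (Sk k)} (a b : Γ(X.left, ⊤)) : k[X][X] →+* Γ(X.left, ⊤) :=
  sub₂ (strHom X) a b

omit [GrpObj G'] in
lemma ev_comp_algebraMap {X : Over (Sk k)} (a b : Γ(X.left, ⊤)) :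
    (ev a b).comp (algebraMap k k[X][X]) = strHom X := by
  ext r
  simp [ev, sub₂, Polynomial.algebraMap_apply]

/-- the universal object. -/
noncomputable abbrev X₂ : Over (Sk k) := XB k k[X][X]

/-- the universal product. -/
noncomputable def mUniv : k[X][X] :=
  (eB k k[X][X]).symm
    (cFn θ (pt θ (X := X₂) (eB k k[X][X] X) * pt θ (eB k k[X][X] (C X))))

theorem cFn_mul_eq_ev {W : Over (Sk k)} (x y : W ⟶ G') :
    cFn θ (x * y) = ev (cFn θ x) (cFn θ y) (mUniv θ) := by
  let g : W ⟶ X₂ := toXB (ev (cFn θ x) (cFn θ y)) (ev_comp_algebraMap _ _)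
  have hx : g ≫ pt θ (X := X₂) (eB k k[X][X] X) = x := by
    apply cFn_injective θ
    rw [cFn_comp, cFn_pt, toXB_appTop]
    simp [ev, sub₂]
  have hy : g ≫ pt θ (X := X₂) (eB k k[X][X] (C X)) = y := by
    apply cFn_injective θ
    rw [cFn_comp, cFn_pt, toXB_appTop]
    simp [ev, sub₂]
  conv_lhs => rw [← hx, ← hy, ← MonObj.comp_mul, cFn_comp]
  rw [← toXB_appTop (ev (cFn θ x) (cFn θ y)) (ev_comp_algebraMap _ _) (mUniv θ)]
  congr 1
  unfold mUniv
  rw [RingEquiv.apply_symm_apply]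

/-- the transported group law on `k[t][s]`. -/
noncomputable def star (P Q : k[X][X]) : k[X][X] :=
  (eB k k[X][X]).symm (cFn θ (pt θ (X := X₂) (eB k k[X][X] P) * pt θ (eB k k[X][X] Q)))

lemma strHom_X₂ (r : k) : strHom (X₂ (k := k)) r = eB k k[X][X] (C (C r)) := by
  unfold strHom
  change (Spec.map (CommRingCat.ofHom (algebraMap k k[X][X]))).appTop
    ((Scheme.ΓSpecIso (CommRingCat.of k)).inv r) = _
  rw [specMap_appTop_ΓSpecIso_inv]
  rfl

lemma eB_symm_ev (P Q : k[X][X]) (F : k[X][X]) :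
    (eB k k[X][X]).symm (ev (X := X₂) (eB k k[X][X] P) (eB k k[X][X] Q) F) =
      sub₂ (C.comp C) P Q F := by
  have : ((eB k k[X][X]).symm : Γ((X₂ (k := k)).left, ⊤) →+* k[X][X]).comp
      (ev (X := X₂) (eB k k[X][X] P) (eB k k[X][X] Q)) = sub₂ (C.comp C) P Q := by
    apply Polynomial.ringHom_ext
    · intro a
      have h2 : ((eB k k[X][X]).symm : Γ((X₂ (k := k)).left, ⊤) →+* k[X][X]).comp
          ((ev (X := X₂) (eB k k[X][X] P) (eB k k[X][X] Q)).comp C) =
          (sub₂ (C.comp C) P Q).comp C := by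
        apply Polynomial.ringHom_ext
        · intro r
          simp [ev, sub₂, strHom_X₂]
        · simp [ev, sub₂]
      exact congr($h2 a)
    · simp [ev, sub₂]
  exact congr($this F)

lemma star_eq_sub (P Q : k[X][X]) : star θ P Q = sub₂ (C.comp C) P Q (mUniv θ) := by
  unfold star
  rw [cFn_mul_eq_ev, cFn_pt, cFn_pt, eB_symm_ev]

lemma star_assoc (P Q R : k[X][X]) : star θ (star θ P Q) R = star θ P (star θ Q R) := by
  unfold star
  rw [RingEquiv.apply_symm_apply, RingEquiv.apply_symm_apply, pt_cFn, pt_cFn, _root_.mul_assoc]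

lemma pt_E : pt θ (X := X₂) (eB k k[X][X] (C (C (eConst θ)))) = 1 := by
  apply cFn_injective θ
  rw [cFn_pt, cFn_one, strHom_X₂]

lemma star_id_r (P : k[X][X]) : star θ P (C (C (eConst θ))) = P := by
  unfold star
  rw [pt_E, _root_.mul_one, cFn_pt, RingEquiv.symm_apply_apply]

lemma star_id_l (P : k[X][X]) : star θ (C (C (eConst θ))) P = P := by
  unfold star
  rw [pt_E, _root_.one_mul, cFn_pt, RingEquiv.symm_apply_apply]

lemma star_inv (P : k[X][X]) : ∃ Q, star θ P Q = C (C (eConst θ)) ∧ star θ Q P = C (C (eConst θ)) := by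
  refine ⟨(eB k k[X][X]).symm (cFn θ (pt θ (X := X₂) (eB k k[X][X] P))⁻¹), ?_, ?_⟩
  · unfold star
    rw [RingEquiv.apply_symm_apply, pt_cFn, mul_inv_cancel, cFn_one, strHom_X₂,
      RingEquiv.symm_apply_apply]
  · unfold star
    rw [RingEquiv.apply_symm_apply, pt_cFn, inv_mul_cancel, cFn_one, strHom_X₂,
      RingEquiv.symm_apply_apply]

theorem mUniv_eq : mUniv θ = X + C X - C (C (eConst θ)) :=
  law_eq (mUniv θ) (eConst θ) (star θ) (star_eq_sub θ) (star_assoc θ) (star_id_r θ) (star_id_l θ)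
    (star_inv θ)

theorem cFn_mul {W : Over (Sk k)} (x y : W ⟶ G') :
    cFn θ (x * y) = cFn θ x + cFn θ y - strHom W (eConst θ) := by
  rw [cFn_mul_eq_ev, mUniv_eq]
  simp [ev, sub₂]

end Law

section Final

theorem mul_eq_of_one_eq (h₁ h₂ : GrpObj (Ga (Sk k))) (e : h₁.one = h₂.one) : h₁.mul = h₂.mul := by
  have f1 := @cFn_mul k _ (Ga (Sk k)) h₁ (Iso.refl _) (Ga (Sk k) ⊗ Ga (Sk k)) (fst _ _) (snd _ _)
  have f2 := @cFn_mul k _ (Ga (Sk k)) h₂ (Iso.refl _) (Ga (Sk k) ⊗ Ga (Sk k)) (fst _ _) (snd _ _)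
  have he : @eConst k _ (Ga (Sk k)) h₁ (Iso.refl _) = @eConst k _ (Ga (Sk k)) h₂ (Iso.refl _) := by
    unfold eConst
    rw [e]
  rw [he] at f1
  have h3 := f1.trans f2.symm
  have h4 := cFn_injective (Iso.refl (Ga (Sk k))) h3
  have m : ∀ (h : GrpObj (Ga (Sk k))),
      (letI := h; (fst (Ga (Sk k)) (Ga (Sk k)) * snd (Ga (Sk k)) (Ga (Sk k)) :
        Ga (Sk k) ⊗ Ga (Sk k) ⟶ Ga (Sk k))) = h.mul := by
    intro h
    letI := h
    rw [Hom.mul_def]
    simp
  rw [← m h₁, ← m h₂]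
  exact h4

end Final

end Groth.Agent.Lib.Helper1.GrpLaw
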