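import Mathlib

set_option autoImplicit false
universe u
open LaurentPolynomial

namespace Groth.Agent.Lib.Helper1.GrpLawGmAlg

section Ext

variable {R : Type*} [CommRing R] {A : Type*} [CommRing A]

lemma ringHom_extL (f g : R[T;T⁻¹] →+* A) (hC : ∀ r, f (C r) = g (C r))
    (hT : f (T 1) = g (T 1)) : f = g := by
  apply IsLocalization.ringHom_ext (Submonoid.powers (Polynomial.X : Polynomial R))
  apply Polynomial.ringHom_ext
  · intro r
    simp only [RingHom.comp_apply, algebraMap_eq_toLaurent, Polynomial.toLaurent_C]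
    exact hC r
  · simp only [RingHom.comp_apply, algebraMap_eq_toLaurent, Polynomial.toLaurent_X]
    exact hT

end Ext

section Units

variable {R : Type*} [CommRing R] [IsDomain R]

/-- Units of a Laurent polynomial ring over a domain are monomials. -/
theorem exists_eq_C_mul_T_of_isUnit (u : R[T;T⁻¹]) (hu : IsUnit u) :
    ∃ (r : R) (n : ℤ), IsUnit r ∧ u = C r * T n := by
  obtain ⟨v, huv⟩ := hu.exists_right_inv
  obtain ⟨n, f', hf⟩ := exists_T_pow u
  obtain ⟨m, g', hg⟩ := exists_T_pow v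
  have h1 : f' * g' = Polynomial.X ^ (n + m) := by
    apply Polynomial.toLaurent_injective
    rw [map_mul, hf, hg, Polynomial.toLaurent_X_pow]
    calc u * T n * (v * T m) = (u * v) * (T n * T m) := by ring
      _ = T ((n + m : ℕ) : ℤ) := by rw [huv, _root_.one_mul, ← T_add]; push_cast; rfl
  have h2 : f' ∣ Polynomial.X ^ (n + m) := ⟨g', h1.symm⟩
  obtain ⟨i, -, hi⟩ := (dvd_prime_pow Polynomial.prime_X _).mp h2
  obtain ⟨w, hw⟩ := hi.symm
  obtain ⟨r, hr, hrw⟩ := Polynomial.isUnit_iff.mp w.isUnit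
  refine ⟨r, (i : ℤ) - n, hr, ?_⟩
  have h3 : u * T n = C r * T i := by
    rw [← hf, ← hw, ← hrw, map_mul, Polynomial.toLaurent_X_pow, Polynomial.toLaurent_C, mul_comm]
  calc u = u * T n * T (-n) := by rw [mul_T_assoc, add_neg_cancel, T_zero, _root_.mul_one]
    _ = C r * T i * T (-n) := by rw [h3]
    _ = C r * T (i - n) := by rw [mul_T_assoc, sub_eq_add_neg]

end Units

section Law

variable {k : Type u} [Field k]

/-- `T 1` as a unit. -/
noncomputable def TU (R : Type*) [CommRing R] : (R[T;T⁻¹])ˣ where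
  val := T 1
  inv := T (-1)
  val_inv := by rw [← T_add]; simp
  inv_val := by rw [← T_add]; simp

lemma TU_zpow (R : Type*) [CommRing R] (a : ℤ) : ((TU R) ^ a).val = T a := by
  induction a using Int.induction_on with
  | zero => simp
  | succ n ih =>
    rw [zpow_add_one, Units.val_mul, ih]
    change T (n : ℤ) * T 1 = _
    rw [← T_add]
  | pred n ih =>
    rw [zpow_sub_one, Units.val_mul, ih]
    change T (-(n : ℤ)) * T (-1) = _
    rw [← T_add]; rfl

/-- substitution on the two-variable Laurent polynomial ring. -/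
noncomputable def sub₂ {A : Type*} [CommRing A] (f : k →+* A) (a b : Aˣ) :
    (k[T;T⁻¹])[T;T⁻¹] →+* A :=
  eval₂ (eval₂ f b) a

lemma C_mul_T_eq_T_one {R : Type*} [CommRing R] [Nontrivial R] (r : R) (hr : r ≠ 0) (a : ℤ)
    (h : C r * T a = (T 1 : R[T;T⁻¹])) : a = 1 ∧ r = 1 := by
  have h1 : a = 1 := by
    have := congrArg degree h
    rw [degree_C_mul_T a r hr, degree_T] at this
    exact_mod_cast this
  subst h1
  refine ⟨rfl, ?_⟩
  have h2 : C r = (1 : R[T;T⁻¹]) := by
    have := congrArg (· * T (-1)) h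
    simp only [mul_T_assoc, add_neg_cancel, T_zero, _root_.mul_one] at this
    rw [this, ← T_add]; simp
  have h3 : (C r : R[T;T⁻¹]) = C 1 := by rw [h2, map_one]
  have hinj : Function.Injective (C : R → R[T;T⁻¹]) := by
    intro x y hxy
    have := congrArg (fun p : R[T;T⁻¹] => p.coeff 0) hxy
    rw [← single_eq_C, ← single_eq_C] at this
    simpa using this
  exact hinj h3

/-- the constant unit. -/
noncomputable def EU (e : kˣ) : ((k[T;T⁻¹])[T;T⁻¹])ˣ :=
  Units.map (C.comp C : k →+* (k[T;T⁻¹])[T;T⁻¹]).toMonoidHom e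

/-- the inner variable as a unit. -/
noncomputable def tU (k : Type u) [Field k] : ((k[T;T⁻¹])[T;T⁻¹])ˣ :=
  Units.map (C : k[T;T⁻¹] →+* (k[T;T⁻¹])[T;T⁻¹]).toMonoidHom (TU k)

lemma EU_zpow (e : kˣ) (j : ℤ) : ((EU e) ^ j).val = C (C (((e ^ j : kˣ) : k))) := by
  unfold EU
  rw [← map_zpow]
  rfl

lemma tU_zpow (j : ℤ) : ((tU k) ^ j).val = C (T j) := by
  unfold tU
  rw [← map_zpow]
  change C ((TU k ^ j).val) = _
  rw [TU_zpow]

theorem law_eq_gm (m : (k[T;T⁻¹])[T;T⁻¹]) (hm : IsUnit m) (e : kˣ)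
    (h_r : sub₂ (C.comp C) (TU (k[T;T⁻¹])) (EU e) m = T 1)
    (h_l : sub₂ (C.comp C) (EU e) (tU k) m = C (T 1)) :
    m = C (C ((e⁻¹ : kˣ) : k) * T 1) * T 1 := by
  obtain ⟨q, a, hq, rfl⟩ := exists_eq_C_mul_T_of_isUnit m hm
  obtain ⟨c, b, hc, rfl⟩ := exists_eq_C_mul_T_of_isUnit q hq
  have hc0 : c ≠ 0 := hc.ne_zero
  -- right identity
  unfold sub₂ at h_r h_l
  rw [eval₂_C_mul_T, eval₂_C_mul_T, TU_zpow, EU_zpow] at h_r
  simp only [RingHom.comp_apply] at h_r
  rw [← map_mul, ← map_mul] at h_r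
  obtain ⟨ha, hr1⟩ := C_mul_T_eq_T_one _ (by
    intro h0
    have hinj : Function.Injective (C : k → k[T;T⁻¹]) := by
      intro x y hxy
      have := congrArg (fun p : k[T;T⁻¹] => p.coeff 0) hxy
      rw [← single_eq_C, ← single_eq_C] at this
      simpa using this
    have : c * ((e ^ b : kˣ) : k) = 0 := hinj (by rw [h0, map_zero])
    exact (mul_ne_zero hc0 (Units.ne_zero _)) this) a h_r
  subst ha
  -- left identity
  rw [eval₂_C_mul_T, eval₂_C_mul_T, tU_zpow, EU_zpow] at h_l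
  simp only [RingHom.comp_apply, zpow_one] at h_l
  rw [← map_mul, ← map_mul] at h_l
  have hinj2 : Function.Injective (C : k[T;T⁻¹] → (k[T;T⁻¹])[T;T⁻¹]) := by
    intro x y hxy
    have := congrArg (fun p : (k[T;T⁻¹])[T;T⁻¹] => p.coeff 0) hxy
    rw [← single_eq_C, ← single_eq_C] at this
    simpa using this
  have h_l' := hinj2 h_l
  have h_l'' : C (c * (e : k)) * T b = (T 1 : k[T;T⁻¹]) := by
    rw [← h_l', map_mul]; ring
  obtain ⟨hb, hce⟩ := C_mul_T_eq_T_one _ (mul_ne_zero hc0 (Units.ne_zero _)) b h_l''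
  subst hb
  have hc' : c = ((e⁻¹ : kˣ) : k) := by
    rw [Units.val_inv_eq_inv_val]
    exact eq_inv_of_mul_eq_one_left hce
  rw [hc']

end Law

end Groth.Agent.Lib.Helper1.GrpLawGmAlg
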