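import Mathlib
import Groth.Agent.Lib.Helper1.GrpLaw
import Groth.Agent.Lib.Helper1.GrpLawGmAlg

set_option autoImplicit false
set_option linter.style.haveILetI false
set_option linter.unusedSectionVars false
universe u
open CategoryTheory MonoidalCategory CartesianMonoidalCategory MonObj GrpObj AlgebraicGeometry CategoryTheory.Limits
open Red
open Groth.Agent.Lib.Helper13 Groth.Agent.Lib.Helper1.DiagGa Groth.Agent.Lib.Helper1.GrpLaw
open Groth.Agent.Lib.Helper1.GrpLawGmAlg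
open LaurentPolynomial

namespace Groth.Agent.Lib.Helper1.GrpLawGm

variable {k : Type u} [Field k]

section Law

variable {G' : Over (Sk k)} [GrpObj G'] (θ : G' ≅ Gm (Sk k))

/-- the coordinate of a point. -/
noncomputable def cFn {W : Over (Sk k)} (x : W ⟶ G') : Γ(W.left, ⊤) := gmFn (x ≫ θ.hom)

lemma isUnit_cFn {W : Over (Sk k)} (x : W ⟶ G') : IsUnit (cFn θ x) := isUnit_gmFn _

/-- the coordinate as a unit. -/
noncomputable def cU {W : Over (Sk k)} (x : W ⟶ G') : Γ(W.left, ⊤)ˣ := (isUnit_cFn θ x).unit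

lemma cU_val {W : Over (Sk k)} (x : W ⟶ G') : (cU θ x).val = cFn θ x := rfl

lemma cFn_injective {W : Over (Sk k)} : Function.Injective (cFn θ (W := W)) := by
  intro x y h
  have := gmFn_injective h
  exact (cancel_mono θ.hom).mp this

lemma cU_injective {W : Over (Sk k)} : Function.Injective (cU θ (W := W)) := by
  intro x y h
  exact cFn_injective θ (congrArg Units.val h)

lemma cFn_comp {W W' : Over (Sk k)} (g : W' ⟶ W) (x : W ⟶ G') :
    cFn θ (g ≫ x) = g.left.appTop (cFn θ x) := by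
  unfold cFn
  rw [Category.assoc, gmFn_comp]

lemma exists_cU_eq {W : Over (Sk k)} (a : Γ(W.left, ⊤)ˣ) : ∃ x : W ⟶ G', cU θ x = a := by
  obtain ⟨x, hx⟩ := exists_gmFn_eq (S := Sk k) (X := W) a.val a.isUnit
  refine ⟨x ≫ θ.inv, Units.ext ?_⟩
  rw [cU_val]
  unfold cFn
  rw [Category.assoc, Iso.inv_hom_id, Category.comp_id, hx]

/-- the point with given coordinate. -/
noncomputable def pt {W : Over (Sk k)} (a : Γ(W.left, ⊤)ˣ) : W ⟶ G' := (exists_cU_eq θ a).choose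

lemma cU_pt {W : Over (Sk k)} (a : Γ(W.left, ⊤)ˣ) : cU θ (pt θ a) = a :=
  (exists_cU_eq θ a).choose_spec

lemma cFn_pt {W : Over (Sk k)} (a : Γ(W.left, ⊤)ˣ) : cFn θ (pt θ a) = a.val := by
  rw [← cU_val, cU_pt]

lemma pt_cU {W : Over (Sk k)} (x : W ⟶ G') : pt θ (cU θ x) = x :=
  cU_injective θ (cU_pt θ _)

/-- the unit constant. -/
noncomputable def eConst : kˣ :=
  Units.map ((Scheme.ΓSpecIso (CommRingCat.of k)).hom.hom : _ →+* k).toMonoidHom (cU θ η[G'])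

lemma cFn_one {W : Over (Sk k)} : cFn θ (1 : W ⟶ G') = strHom W (eConst θ) := by
  rw [Hom.one_def, cFn_comp]
  have h1 : (toUnit W).left = W.hom := by
    have := Over.w (toUnit W)
    have h2 : (𝟙_ (Over (Sk k))).hom = 𝟙 _ := rfl
    rw [h2, Category.comp_id] at this
    exact this
  unfold strHom eConst
  rw [h1]
  change _ = W.hom.appTop ((Scheme.ΓSpecIso (CommRingCat.of k)).inv _)
  congr 1
  exact (congr($((Scheme.ΓSpecIso (CommRingCat.of k)).hom_inv_id) (cFn θ η[G']))).symm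

/-- the evaluation ring hom. -/
noncomputable def ev {W : Over (Sk k)} (a b : Γ(W.left, ⊤)ˣ) :
    (k[T;T⁻¹])[T;T⁻¹] →+* Γ(W.left, ⊤) :=
  sub₂ (strHom W) a b

lemma ev_comp_algebraMap {W : Over (Sk k)} (a b : Γ(W.left, ⊤)ˣ) :
    (ev a b).comp (algebraMap k (k[T;T⁻¹])[T;T⁻¹]) = strHom W := by
  ext r
  simp [ev, sub₂, LaurentPolynomial.algebraMap_apply]

/-- the universal object. -/
noncomputable abbrev X₂ : Over (Sk k) := XB k (k[T;T⁻¹])[T;T⁻¹]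

/-- transport of units along `eB`. -/
noncomputable def uB (a : ((k[T;T⁻¹])[T;T⁻¹])ˣ) : Γ((X₂ (k := k)).left, ⊤)ˣ :=
  Units.map ((eB k (k[T;T⁻¹])[T;T⁻¹]) : _ →+* _).toMonoidHom a

lemma uB_val (a : ((k[T;T⁻¹])[T;T⁻¹])ˣ) : (uB a).val = eB k (k[T;T⁻¹])[T;T⁻¹] a.val := rfl

/-- the universal product. -/
noncomputable def mUniv : (k[T;T⁻¹])[T;T⁻¹] :=
  (eB k (k[T;T⁻¹])[T;T⁻¹]).symm
    (cFn θ (pt θ (W := X₂) (uB (TU (k[T;T⁻¹]))) * pt θ (uB (tU k))))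

lemma isUnit_mUniv : IsUnit (mUniv θ) := by
  unfold mUniv
  exact (isUnit_cFn θ _).map (eB k (k[T;T⁻¹])[T;T⁻¹]).symm

theorem cFn_mul_eq_ev {W : Over (Sk k)} (x y : W ⟶ G') :
    cFn θ (x * y) = ev (cU θ x) (cU θ y) (mUniv θ) := by
  let g : W ⟶ X₂ := toXB (ev (cU θ x) (cU θ y)) (ev_comp_algebraMap _ _)
  have hx : g ≫ pt θ (W := X₂) (uB (TU (k[T;T⁻¹]))) = x := by
    apply cFn_injective θ
    rw [cFn_comp, cFn_pt, uB_val, toXB_appTop]
    simp [ev, sub₂, TU, cU_val]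
  have hy : g ≫ pt θ (W := X₂) (uB (tU k)) = y := by
    apply cFn_injective θ
    rw [cFn_comp, cFn_pt, uB_val, toXB_appTop]
    simp [ev, sub₂, tU, TU, cU_val]
  conv_lhs => rw [← hx, ← hy, ← MonObj.comp_mul, cFn_comp]
  rw [← toXB_appTop (ev (cU θ x) (cU θ y)) (ev_comp_algebraMap _ _) (mUniv θ)]
  congr 1
  unfold mUniv
  rw [RingEquiv.apply_symm_apply]

lemma strHom_X₂ (r : k) : strHom (X₂ (k := k)) r = eB k (k[T;T⁻¹])[T;T⁻¹] (C (C r)) := by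
  unfold strHom
  change (Spec.map (CommRingCat.ofHom (algebraMap k (k[T;T⁻¹])[T;T⁻¹]))).appTop
    ((Scheme.ΓSpecIso (CommRingCat.of k)).inv r) = _
  rw [specMap_appTop_ΓSpecIso_inv]
  rfl

lemma eB_symm_ev (a b : ((k[T;T⁻¹])[T;T⁻¹])ˣ) (F : (k[T;T⁻¹])[T;T⁻¹]) :
    (eB k (k[T;T⁻¹])[T;T⁻¹]).symm (ev (W := X₂) (uB a) (uB b) F) = sub₂ (C.comp C) a b F := by
  have : ((eB k (k[T;T⁻¹])[T;T⁻¹]).symm : Γ((X₂ (k := k)).left, ⊤) →+* _).comp
      (ev (W := X₂) (uB a) (uB b)) = sub₂ (C.comp C) a b := by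
    apply ringHom_extL
    · intro q
      have h2 : ((eB k (k[T;T⁻¹])[T;T⁻¹]).symm : Γ((X₂ (k := k)).left, ⊤) →+* _).comp
          ((ev (W := X₂) (uB a) (uB b)).comp C) = (sub₂ (C.comp C) a b).comp C := by
        apply ringHom_extL
        · intro r
          simp [ev, sub₂, strHom_X₂]
        · simp [ev, sub₂, uB_val]
      exact congr($h2 q)
    · simp [ev, sub₂, uB_val]
  exact congr($this F)

lemma pt_E : pt θ (W := X₂) (uB (EU (eConst θ))) = 1 := by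
  apply cFn_injective θ
  rw [cFn_pt, cFn_one, strHom_X₂]
  rfl

theorem mUniv_eq : mUniv θ = C (C (((eConst θ)⁻¹ : kˣ) : k) * T 1) * T 1 := by
  apply law_eq_gm (mUniv θ) (isUnit_mUniv θ) (eConst θ)
  · rw [← eB_symm_ev, ← cU_pt θ (uB (TU (k[T;T⁻¹]))), ← cU_pt θ (uB (EU (eConst θ))),
      ← cFn_mul_eq_ev, pt_E, _root_.mul_one, cFn_pt, uB_val, RingEquiv.symm_apply_apply]
    rfl
  · rw [← eB_symm_ev, ← cU_pt θ (uB (tU k)), ← cU_pt θ (uB (EU (eConst θ))),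
      ← cFn_mul_eq_ev, pt_E, _root_.one_mul, cFn_pt, uB_val, RingEquiv.symm_apply_apply]
    rfl

end Law

section Final

theorem mul_eq_of_one_eq (h₁ h₂ : GrpObj (Gm (Sk k))) (e : h₁.one = h₂.one) : h₁.mul = h₂.mul := by
  have f1 := @cFn_mul_eq_ev k _ (Gm (Sk k)) h₁ (Iso.refl _) (Gm (Sk k) ⊗ Gm (Sk k)) (fst _ _) (snd _ _)
  have f2 := @cFn_mul_eq_ev k _ (Gm (Sk k)) h₂ (Iso.refl _) (Gm (Sk k) ⊗ Gm (Sk k)) (fst _ _) (snd _ _)
  have he : @eConst k _ (Gm (Sk k)) h₁ (Iso.refl _) = @eConst k _ (Gm (Sk k)) h₂ (Iso.refl _) := by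
    unfold eConst
    rw [e]
    rfl
  rw [@mUniv_eq k _ (Gm (Sk k)) h₁ (Iso.refl _), he, ← @mUniv_eq k _ (Gm (Sk k)) h₂ (Iso.refl _)] at f1
  have h3 := f1.trans f2.symm
  have h4 := cFn_injective (Iso.refl (Gm (Sk k))) h3
  have m : ∀ (h : GrpObj (Gm (Sk k))),
      (letI := h; (fst (Gm (Sk k)) (Gm (Sk k)) * snd (Gm (Sk k)) (Gm (Sk k)) :
        Gm (Sk k) ⊗ Gm (Sk k) ⟶ Gm (Sk k))) = h.mul := by
    intro h
    letI := h
    rw [Hom.mul_def]
    simp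
  rw [← m h₁, ← m h₂]
  exact h4

end Final

end Groth.Agent.Lib.Helper1.GrpLawGm
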