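import Mathlib.CategoryTheory.Monoidal.Grp
import Mathlib.CategoryTheory.Monoidal.Cartesian.Over
import Mathlib.AlgebraicGeometry.Morphisms.UniversallyOpen

/-!
# Group objects: shear isomorphism, and group schemes over a field
-/

set_option autoImplicit false
universe u v

open CategoryTheory MonoidalCategory CartesianMonoidalCategory MonObj GrpObj

namespace Groth.Agent.Lib.Helper1.GrpSchLib

section shear

variable {C : Type*} [Category C] [CartesianMonoidalCategory C] (G : C) [GrpObj G]

/-- The shear isomorphism `(g, h) ↦ (g, g * h)`. -/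
def shear : G ⊗ G ≅ G ⊗ G where
  hom := lift (fst G G) μ
  inv := lift (fst G G) (lift (fst G G ≫ ι) (snd G G) ≫ μ)
  hom_inv_id := by
    rw [comp_lift, lift_fst, comp_lift_assoc, lift_fst_assoc, lift_snd]
    have : lift (fst G G ≫ ι) μ ≫ μ = snd G G := by
      rw [lift_inv_left_eq, lift_fst_snd, Category.id_comp]
    rw [this, lift_fst_snd]
  inv_hom_id := by
    rw [comp_lift, lift_fst]
    have : lift (fst G G) (lift (fst G G ≫ ι) (snd G G) ≫ μ) ≫ μ = snd G G := by
      rw [← eq_lift_inv_left]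
    rw [this, lift_fst_snd]

@[reassoc (attr := simp)]
lemma shear_hom_snd : (shear G).hom ≫ snd G G = μ := by
  simp [shear]

@[reassoc (attr := simp)]
lemma shear_hom_fst : (shear G).hom ≫ fst G G = fst G G := by
  simp [shear]

end shear

section diag

open Limits

variable {C : Type*} [Category C] [CartesianMonoidalCategory C] (G : C) [GrpObj G]

/-- The division map `(g, h) ↦ g⁻¹ * h`. -/
def ldiv : G ⊗ G ⟶ G := lift (fst G G ≫ ι) (snd G G) ≫ μ

lemma lift_comp_ldiv {T : C} (a b : T ⟶ G) : lift a b ≫ ldiv G = lift (a ≫ ι) b ≫ μ := by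
  simp [ldiv, comp_lift_assoc]

lemma lift_comp_ldiv_eq_one_iff {T : C} (a b : T ⟶ G) (t : T ⟶ 𝟙_ C) :
    lift a b ≫ ldiv G = t ≫ η ↔ a = b := by
  rw [lift_comp_ldiv, lift_inv_left_eq, lift_comp_one_right, eq_comm]

/-- The diagonal of a group object is the base change of the unit along the division map. -/
theorem isPullback_diag :
    IsPullback (lift (𝟙 G) (𝟙 G)) (toUnit G) (ldiv G) η[G] where
  w := by
    rw [lift_comp_ldiv_eq_one_iff]
  isLimit' := ⟨PullbackCone.IsLimit.mk _ (fun s => s.fst ≫ fst G G)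
    (by
      intro s
      have h1 : s.fst ≫ fst G G = s.fst ≫ snd G G := by
        rw [← lift_comp_ldiv_eq_one_iff G _ _ s.snd, lift_comp_fst_snd]
        exact s.condition
      apply CartesianMonoidalCategory.hom_ext
      · simp
      · simp [h1])
    (by intro s; exact toUnit_unique _ _)
    (by
      intro s m hm _
      rw [← hm]
      simp)⟩

end diag

section div

variable {C : Type*} [Category C] [CartesianMonoidalCategory C] (G : C) [GrpObj G]

/-- The division map `(g, h) ↦ g * h⁻¹`. -/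
def rdiv : G ⊗ G ⟶ G := lift (fst G G) (snd G G ≫ ι) ≫ μ

lemma lift_comp_rdiv {T : C} (a b : T ⟶ G) : lift a b ≫ rdiv G = lift a (b ≫ ι) ≫ μ := by
  simp [rdiv, comp_lift_assoc]

/-- `h * (g⁻¹ * h)⁻¹ = g`. -/
lemma lift_snd_ldiv_comp_rdiv : lift (snd G G) (ldiv G) ≫ rdiv G = fst G G := by
  rw [lift_comp_rdiv, lift_inv_right_eq, ldiv]
  exact ((eq_lift_inv_left _ _ _).1 rfl).symm

variable {G} {H : C} [GrpObj H] (ψ : H ⟶ G) [IsMonHom ψ]

lemma tensorHom_comp_ldiv : (ψ ⊗ₘ ψ) ≫ ldiv G = ldiv H ≫ ψ := by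
  simp only [ldiv, Category.assoc, IsMonHom.mul_hom]
  rw [← Category.assoc, ← Category.assoc]
  congr 1
  apply CartesianMonoidalCategory.hom_ext <;> simp

lemma tensorHom_comp_rdiv : (ψ ⊗ₘ ψ) ≫ rdiv G = rdiv H ≫ ψ := by
  simp only [rdiv, Category.assoc, IsMonHom.mul_hom]
  rw [← Category.assoc, ← Category.assoc]
  congr 1
  apply CartesianMonoidalCategory.hom_ext <;> simp

end div

end Groth.Agent.Lib.Helper1.GrpSchLib
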