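import Mathlib
import Groth.Agent.Lib.Helper1.PbSect
import Groth.Agent.Lib.Helper3.TwistMul

set_option autoImplicit false
set_option linter.style.haveILetI false
universe u
open CategoryTheory CategoryTheory.Limits AlgebraicGeometry TopologicalSpace Opposite

namespace Groth.Agent.Lib.Helper1.QcIso

open Groth.Agent.Lib.Helper1.PbSect

variable {X : Scheme.{u}} {M N : X.Modules}

theorem bijective_congr (φ : M ⟶ N) {W₁ W₂ : X.Opens} (h : W₁ = W₂)
    (hb : Function.Bijective (φ.app W₁)) : Function.Bijective (φ.app W₂) := by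
  subst h; exact hb

/-- over `Spec R`: a morphism of quasi-coherent modules bijective on global sections is an iso -/
theorem isIso_of_bijective_top {R : CommRingCat.{u}} {G G' : (Spec R).Modules}
    [G.IsQuasicoherent] [G'.IsQuasicoherent] (φ : G ⟶ G')
    (h : Function.Bijective (φ.app ⊤)) : IsIso φ := by
  have h1 : IsIso (moduleSpecΓFunctor.map φ) :=
    (ConcreteCategory.isIso_iff_bijective _).mpr h
  obtain ⟨ψ, hψ'⟩ := (Γmap_bijective G' G).2 (inv (moduleSpecΓFunctor.map φ))
  have hψ : moduleSpecΓFunctor.map ψ = inv (moduleSpecΓFunctor.map φ) := hψ'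
  refine ⟨ψ, ?_, ?_⟩
  · apply (Γmap_bijective G G).1
    change moduleSpecΓFunctor.map (φ ≫ ψ) = moduleSpecΓFunctor.map (𝟙 G)
    rw [Functor.map_comp, CategoryTheory.Functor.map_id]
    change _ ≫ moduleSpecΓFunctor.map ψ = _
    rw [hψ, IsIso.hom_inv_id]
  · apply (Γmap_bijective G' G').1
    change moduleSpecΓFunctor.map (ψ ≫ φ) = moduleSpecΓFunctor.map (𝟙 G')
    rw [Functor.map_comp, CategoryTheory.Functor.map_id]
    change moduleSpecΓFunctor.map ψ ≫ _ = _
    rw [hψ, IsIso.inv_hom_id]

variable [M.IsQuasicoherent] [N.IsQuasicoherent]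

/-- bijective on an affine open implies bijective on every smaller open -/
theorem bijective_of_le (φ : M ⟶ N) {U : X.Opens} (hU : IsAffineOpen U)
    (h : Function.Bijective (φ.app U)) {W : X.Opens} (hW : W ≤ U) :
    Function.Bijective (φ.app W) := by
  let j := hU.fromSpec
  let φ' := (Scheme.Modules.restrictFunctor j).map φ
  have htop : j ''ᵁ ⊤ = U := by
    rw [Scheme.Hom.image_top_eq_opensRange, hU.opensRange_fromSpec]
  have h1 : Function.Bijective (φ'.app ⊤) := bijective_congr φ htop.symm h
  haveI : IsIso φ' := isIso_of_bijective_top φ' h1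
  have h2 : Function.Bijective (φ'.app (j ⁻¹ᵁ W)) :=
    (ConcreteCategory.isIso_iff_bijective _).mp inferInstance
  have hW' : j ''ᵁ (j ⁻¹ᵁ W) = W := by
    rw [Scheme.Hom.image_preimage_eq_opensRange_inf, hU.opensRange_fromSpec]
    exact inf_eq_right.mpr hW
  exact bijective_congr φ hW' h2

/-- a morphism of quasi-coherent modules which is bijective on the sections over the members of an
affine open cover is an isomorphism. -/
theorem isIso_of_bijective_on_affine_cover (φ : M ⟶ N)
    (h : ∀ x : X, ∃ U : X.Opens, IsAffineOpen U ∧ x ∈ U ∧ Function.Bijective (φ.app U)) :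
    IsIso φ := by
  apply Groth.Agent.Lib.Helper3.TwistMul.isIso_of_locally_bijective
  intro x
  obtain ⟨U, hU, hxU, hb⟩ := h x
  exact ⟨U, hxU, fun V hV => bijective_of_le φ hU hb hV⟩

end Groth.Agent.Lib.Helper1.QcIso
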