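import Mathlib
import Groth.Agent.Lib.Helper1.ConormDiff
import Groth.Agent.S9384
import Groth.Agent.S9386
set_option autoImplicit false
set_option linter.style.haveILetI false
universe u
open CategoryTheory CategoryTheory.Limits AlgebraicGeometry TopologicalSpace Opposite
open Groth.Agent.Lib.Helper1.PbSect Groth.Agent.Lib.Helper3 Groth.Agent.Lib.Helper1.ConormMap
open Groth.Agent.Lib.Helper1

namespace Groth.Agent.Lib.Helper1.OmTransl

/-- the conormal sheaf of a section `ε` of `p` is `ε^*Ω_p` -/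
theorem conormal_iso_of_section {X B : Scheme.{u}} (p : X ⟶ B) (ε : B ⟶ X) (hε : ε ≫ p = 𝟙 B)
    [IsImmersion ε] [QuasiCompact ε]
    (Ω : X.Modules) (d : OmegaSh.Der p Ω) (hd : OmegaSh.IsUniversal d) :
    Nonempty (Omega.conormal ε ≅ (Scheme.Modules.pullback ε).obj Ω) := by
  obtain ⟨φ, hφ⟩ := ConormDiff.exists_isConormalDiff ε d
  have hZ := DerExists.isUniversal_dsh (ε ≫ p)
  obtain ⟨c, hc, -⟩ := DerCompat.existsUnique_isDiffCompat p (ε ≫ p) ε (𝟙 B)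
    (by rw [Category.comp_id]) d (DerExists.dsh (ε ≫ p)) hd
  obtain ⟨w, hex, ⟨r, hr⟩, -⟩ := Groth.Agent.S9384.result p ε p hε
    (by rw [hε, Category.comp_id]) Ω d hd _
    (DerExists.dsh (ε ≫ p)) hZ φ hφ c hc
  haveI : Mono φ := mono_of_mono_fac hr
  haveI : FormallyUnramified (ε ≫ p) := by rw [hε]; infer_instance
  haveI : Epi φ := ConormMap.epi_conormalDiff p ε d φ hφ hd
  haveI : IsIso φ := isIso_of_mono_of_epi φ
  exact ⟨asIso φ⟩

/-- translation invariance of differentials, abstract form -/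
theorem iso_pullback_conormal {X B P : Scheme.{u}} (p : X ⟶ B) (ε : B ⟶ X) (hε : ε ≫ p = 𝟙 B)
    [IsImmersion ε] [QuasiCompact ε]
    (π q₁ q₂ : P ⟶ X) (b₁ b₂ : X ⟶ B) (h₁ : IsPullback q₁ π p b₁) (h₂ : IsPullback q₂ π p b₂)
    (σ : X ⟶ P) (hσ₁ : σ ≫ q₁ = b₁ ≫ ε) (hσ₂ : σ ≫ q₂ = 𝟙 X)
    (Ω : X.Modules) (d : OmegaSh.Der p Ω) (hd : OmegaSh.IsUniversal d) :
    Nonempty (Ω ≅ (Scheme.Modules.pullback b₁).obj (Omega.conormal ε)) := by
  have hP := DerExists.isUniversal_dsh π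
  obtain ⟨c₁, hc₁, -⟩ := DerCompat.existsUnique_isDiffCompat p π q₁ b₁ h₁.w.symm d
    (DerExists.dsh π) hd
  obtain ⟨c₂, hc₂, -⟩ := DerCompat.existsUnique_isDiffCompat p π q₂ b₂ h₂.w.symm d
    (DerExists.dsh π) hd
  haveI i₁ : IsIso c₁ := Groth.Agent.Lib.Helper1.OmBCApp.isIso_of_isPullback p b₁ q₁ π h₁ Ω d hd _
    (DerExists.dsh π) hP c₁ hc₁
  haveI i₂ : IsIso c₂ := Groth.Agent.Lib.Helper1.OmBCApp.isIso_of_isPullback p b₂ q₂ π h₂ Ω d hd _
    (DerExists.dsh π) hP c₂ hc₂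
  obtain ⟨eC⟩ := conormal_iso_of_section p ε hε Ω d hd
  -- `q₂^*Ω ≅ q₁^*Ω`
  let e₀ : (Scheme.Modules.pullback q₂).obj Ω ≅ (Scheme.Modules.pullback q₁).obj Ω :=
    asIso c₂ ≪≫ (asIso c₁).symm
  let e₁ : (Scheme.Modules.pullback σ).obj ((Scheme.Modules.pullback q₂).obj Ω) ≅
      (Scheme.Modules.pullback σ).obj ((Scheme.Modules.pullback q₁).obj Ω) :=
    (Scheme.Modules.pullback σ).mapIso e₀
  let e₂ : (Scheme.Modules.pullback σ).obj ((Scheme.Modules.pullback q₂).obj Ω) ≅ Ω :=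
    (Scheme.Modules.pullbackComp σ q₂).app Ω ≪≫ (Scheme.Modules.pullbackCongr hσ₂).app Ω ≪≫
      (Scheme.Modules.pullbackId X).app Ω
  let e₃ : (Scheme.Modules.pullback σ).obj ((Scheme.Modules.pullback q₁).obj Ω) ≅
      (Scheme.Modules.pullback b₁).obj ((Scheme.Modules.pullback ε).obj Ω) :=
    (Scheme.Modules.pullbackComp σ q₁).app Ω ≪≫ (Scheme.Modules.pullbackCongr hσ₁).app Ω ≪≫
      ((Scheme.Modules.pullbackComp b₁ ε).app Ω).symm
  exact ⟨e₂.symm ≪≫ e₁ ≪≫ e₃ ≪≫ (Scheme.Modules.pullback b₁).mapIso eC.symm⟩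

end Groth.Agent.Lib.Helper1.OmTransl
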