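import Mathlib
import Groth.Agent.Lib.Helper1.OmTransl
import Groth.Agent.Lib.Helper1.GrpSchLib
import Groth.Agent.S5005
set_option autoImplicit false
set_option linter.style.haveILetI false
universe u
open CategoryTheory CategoryTheory.Limits AlgebraicGeometry TopologicalSpace Opposite
open MonoidalCategory CartesianMonoidalCategory MonObj GrpObj
open Groth.Agent.Lib.Helper1

namespace Groth.Agent.Lib.Helper1.GrpOmega

variable (S : Scheme.{u}) (G : Over S) [GrpObj G]


theorem unit_comp_hom : η[G].left ≫ G.hom = 𝟙 S := by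
  have := Over.w η[G]
  exact this

theorem isPullback_snd_fst : IsPullback (snd G G).left (fst G G).left G.hom G.hom := by
  have := (IsPullback.of_hasPullback G.hom G.hom).flip
  exact this

theorem isPullback_mul_fst : IsPullback μ[G].left (fst G G).left G.hom G.hom := by
  have h := isPullback_snd_fst S G
  let e : (G ⊗ G).left ≅ (G ⊗ G).left := (Over.forget S).mapIso (GrpSchLib.shear G).symm
  refine h.of_iso e (Iso.refl _) (Iso.refl _) (Iso.refl _) ?_ ?_ ?_ ?_
  · change (snd G G).left ≫ 𝟙 _ = (GrpSchLib.shear G).inv.left ≫ μ[G].left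
    rw [Category.comp_id, ← Over.comp_left, ← GrpSchLib.shear_hom_snd, Iso.inv_hom_id_assoc]
  · change (fst G G).left ≫ 𝟙 _ = (GrpSchLib.shear G).inv.left ≫ (fst G G).left
    rw [Category.comp_id, ← Over.comp_left]
    congr 1
    have h1 : (GrpSchLib.shear G).hom ≫ fst G G = fst G G := GrpSchLib.shear_hom_fst G
    rw [← h1, Iso.inv_hom_id_assoc, h1]
  · simp
  · simp

/-- the section `(1, e)` -/
noncomputable def sec : G.left ⟶ (G ⊗ G).left := (lift (𝟙 G) (toUnit G ≫ η[G])).left

theorem sec_snd : sec S G ≫ (snd G G).left = G.hom ≫ η[G].left := by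
  rw [sec, ← Over.comp_left, lift_snd, Over.comp_left]
  congr 1

theorem sec_mul : sec S G ≫ μ[G].left = 𝟙 G.left := by
  rw [sec, ← Over.comp_left, lift_comp_one_right]
  rfl

/-- `Ω_{G/S} ≅ f^* C_{S/G}` for a group scheme -/
theorem omega_iso [QuasiSeparated G.hom] :
    Nonempty (Omega.sheaf G.hom ≅
      (Scheme.Modules.pullback G.hom).obj (Omega.conormal η[G].left)) := by
  have hε := unit_comp_hom S G
  haveI : IsImmersion (η[G].left ≫ G.hom) := by
    rw [hε]; exact (inferInstance : @IsImmersion S S (𝟙 S))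
  haveI : IsImmersion η[G].left := IsImmersion.of_comp η[G].left G.hom
  haveI : QuasiCompact (η[G].left ≫ G.hom) := by
    rw [hε]; exact (inferInstance : @QuasiCompact S S (𝟙 S))
  haveI : QuasiCompact η[G].left := QuasiCompact.of_comp η[G].left G.hom
  exact OmTransl.iso_pullback_conormal G.hom η[G].left hε (fst G G).left (snd G G).left μ[G].left
    G.hom G.hom (isPullback_snd_fst S G) (isPullback_mul_fst S G) (sec S G) (sec_snd S G)
    (sec_mul S G) (Omega.sheaf G.hom) (OmegaSh.dOmega G.hom) (Groth.Agent.S5005.result G.hom)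

end Groth.Agent.Lib.Helper1.GrpOmega
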