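import Groth.Agent.Lib.Helper1.GrpSchLib
import Mathlib.AlgebraicGeometry.PullbackCarrier
import Mathlib.AlgebraicGeometry.ResidueField
import Mathlib.AlgebraicGeometry.Morphisms.UniversallyOpen

/-!
# Group schemes over a field: locally closed images of homomorphisms are closed
-/

set_option autoImplicit false
universe u

open CategoryTheory MonoidalCategory CartesianMonoidalCategory MonObj GrpObj AlgebraicGeometry

namespace Groth.Agent.Lib.Helper1.GrpSchLib

section range

variable {S : Scheme.{u}} {A B A' B' : Over S}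

lemma range_tensorHom_left (f : A ⟶ B) (g : A' ⟶ B') :
    Set.range (f ⊗ₘ g).left =
      (fst B B').left ⁻¹' Set.range f.left ∩ (snd B B').left ⁻¹' Set.range g.left := by
  rw [Over.tensorHom_left]
  exact Scheme.Pullback.range_map A.hom A'.hom B.hom B'.hom f.left g.left (𝟙 S) (by simp) (by simp)

end range

variable {K : Type u} [Field K] {H G : Over (Spec (CommRingCat.of K))} [GrpObj H] [GrpObj G]
  (ψ : H ⟶ G) [IsMonHom ψ]

include ψ in
lemma exists_tensorHom_eq (b : (G ⊗ G).left) (h1 : (fst G G).left b ∈ Set.range ψ.left)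
    (h2 : (snd G G).left b ∈ Set.range ψ.left) : ∃ c : (H ⊗ H).left, (ψ ⊗ₘ ψ).left c = b := by
  have : b ∈ Set.range (ψ ⊗ₘ ψ).left := by
    rw [range_tensorHom_left]
    exact ⟨h1, h2⟩
  exact this

lemma ldiv_mem_range (b : (G ⊗ G).left) (h1 : (fst G G).left b ∈ Set.range ψ.left)
    (h2 : (snd G G).left b ∈ Set.range ψ.left) : (ldiv G).left b ∈ Set.range ψ.left := by
  obtain ⟨c, rfl⟩ := exists_tensorHom_eq ψ b h1 h2
  refine ⟨(ldiv H).left c, ?_⟩
  rw [← Scheme.Hom.comp_apply, ← Scheme.Hom.comp_apply, ← Over.comp_left, ← Over.comp_left,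
    tensorHom_comp_ldiv]

lemma rdiv_mem_range (b : (G ⊗ G).left) (h1 : (fst G G).left b ∈ Set.range ψ.left)
    (h2 : (snd G G).left b ∈ Set.range ψ.left) : (rdiv G).left b ∈ Set.range ψ.left := by
  obtain ⟨c, rfl⟩ := exists_tensorHom_eq ψ b h1 h2
  refine ⟨(rdiv H).left c, ?_⟩
  rw [← Scheme.Hom.comp_apply, ← Scheme.Hom.comp_apply, ← Over.comp_left, ← Over.comp_left,
    tensorHom_comp_rdiv]

lemma isOpenMap_fst_left (A B : Over (Spec (CommRingCat.of K))) : IsOpenMap (fst A B).left := by
  haveI : UniversallyOpen B.hom := inferInstance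
  haveI : UniversallyOpen (fst A B).left := by
    rw [Over.fst_left]
    infer_instance
  exact (fst A B).left.isOpenMap

lemma isOpenMap_snd_left (A B : Over (Spec (CommRingCat.of K))) : IsOpenMap (snd A B).left := by
  haveI : UniversallyOpen A.hom := inferInstance
  haveI : UniversallyOpen (snd A B).left := by
    rw [Over.snd_left]
    infer_instance
  exact (snd A B).left.isOpenMap

/-- `T̄⁻¹ · T ⊆ T̄` for `T` the image of a homomorphism. -/
lemma ldiv_mem_closure_range (a : (G ⊗ G).left)
    (h1 : (fst G G).left a ∈ closure (Set.range ψ.left))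
    (h2 : (snd G G).left a ∈ Set.range ψ.left) :
    (ldiv G).left a ∈ closure (Set.range ψ.left) := by
  have ha : a ∈ Set.range (𝟙 G ⊗ₘ ψ).left := by
    rw [range_tensorHom_left]
    exact ⟨⟨(fst G G).left a, rfl⟩, h2⟩
  obtain ⟨a', rfl⟩ := ha
  have hfst : (fst G G).left ((𝟙 G ⊗ₘ ψ).left a') = (fst G H).left a' := by
    rw [← Scheme.Hom.comp_apply, ← Over.comp_left, tensorHom_fst, Category.comp_id]
  rw [hfst] at h1
  have h3 : a' ∈ closure ((fst G H).left ⁻¹' Set.range ψ.left) := by
    rw [← (isOpenMap_fst_left G H).preimage_closure_eq_closure_preimage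
      (fst G H).left.continuous]
    exact h1
  have hcont : Continuous ((𝟙 G ⊗ₘ ψ) ≫ ldiv G).left := Scheme.Hom.continuous _
  have h4 := image_closure_subset_closure_image hcont ⟨a', h3, rfl⟩
  rw [Over.comp_left, Scheme.Hom.comp_apply] at h4
  refine closure_mono ?_ h4
  rintro _ ⟨s, hs, rfl⟩
  rw [Scheme.Hom.comp_apply]
  apply ldiv_mem_range ψ
  · rw [← Scheme.Hom.comp_apply, ← Over.comp_left, tensorHom_fst, Category.comp_id]
    exact hs
  · rw [← Scheme.Hom.comp_apply, ← Over.comp_left, tensorHom_snd, Over.comp_left,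
      Scheme.Hom.comp_apply]
    exact ⟨_, rfl⟩

/-- The image of a homomorphism of group schemes over a field is closed as soon as it is locally
closed. -/
theorem isClosed_range_of_eq_closure_inter (V : Set G.left) (hV : IsOpen V)
    (hT : Set.range ψ.left = closure (Set.range ψ.left) ∩ V) : IsClosed (Set.range ψ.left) := by
  rw [← closure_subset_iff_isClosed]
  intro x hx
  let X : Over (Spec (CommRingCat.of K)) := Over.mk (G.left.fromSpecResidueField x ≫ G.hom)
  let xt : X ⟶ G := Over.homMk (G.left.fromSpecResidueField x)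
  let δ : X ⊗ G ⟶ G := (xt ▷ G) ≫ ldiv G
  have hxt : ∀ p : X.left, xt.left p = x := fun p => Scheme.fromSpecResidueField_apply x p
  let W : Set G.left := (snd X G).left '' (δ.left ⁻¹' V)
  have hWopen : IsOpen W := isOpenMap_snd_left X G _ (hV.preimage δ.left.continuous)
  -- the unit is in the range
  have hone : ∀ p : X.left, (toUnit X ≫ η[G]).left p ∈ Set.range ψ.left := by
    intro p
    rw [← IsMonHom.one_hom (f := ψ), Over.comp_left, Over.comp_left, Scheme.Hom.comp_apply,
      Scheme.Hom.comp_apply]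
    exact ⟨_, rfl⟩
  -- the diagonal point
  let pt : X.left := IsLocalRing.closedPoint (G.left.residueField x)
  let z : (X ⊗ G).left := (lift (𝟙 X) xt).left pt
  have hz1 : (snd X G).left z = x := by
    change (snd X G).left ((lift (𝟙 X) xt).left pt) = x
    rw [← Scheme.Hom.comp_apply, ← Over.comp_left, lift_snd]
    exact hxt pt
  have hz2 : δ.left z ∈ Set.range ψ.left := by
    change δ.left ((lift (𝟙 X) xt).left pt) ∈ _
    rw [← Scheme.Hom.comp_apply, ← Over.comp_left]
    have : lift (𝟙 X) xt ≫ δ = toUnit X ≫ η[G] := by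
      change lift (𝟙 X) xt ≫ (xt ▷ G) ≫ ldiv G = _
      rw [lift_whiskerRight_assoc, Category.id_comp, lift_comp_ldiv_eq_one_iff]
    rw [this]
    exact hone pt
  have hxW : x ∈ W := ⟨z, (hT ▸ hz2 : δ.left z ∈ closure _ ∩ V).2, hz1⟩
  obtain ⟨y, hyW, hyT⟩ := mem_closure_iff.1 hx W hWopen hxW
  obtain ⟨w, hwV, rfl⟩ := hyW
  -- the point `a` of `G × G`
  have ha1 : (fst G G).left ((xt ▷ G).left w) = x := by
    rw [← Scheme.Hom.comp_apply, ← Over.comp_left, whiskerRight_fst, Over.comp_left,
      Scheme.Hom.comp_apply]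
    exact hxt _
  have ha2 : (snd G G).left ((xt ▷ G).left w) = (snd X G).left w := by
    rw [← Scheme.Hom.comp_apply, ← Over.comp_left, whiskerRight_snd]
  have ha3 : (ldiv G).left ((xt ▷ G).left w) = δ.left w := by
    rw [← Scheme.Hom.comp_apply, ← Over.comp_left]
  have ha4 : (ldiv G).left ((xt ▷ G).left w) ∈ closure (Set.range ψ.left) :=
    ldiv_mem_closure_range ψ _ (ha1 ▸ hx) (ha2 ▸ hyT)
  have ha5 : (ldiv G).left ((xt ▷ G).left w) ∈ Set.range ψ.left := by
    rw [hT]
    exact ⟨ha4, ha3 ▸ hwV⟩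
  -- conclude
  have hb := rdiv_mem_range ψ ((lift (snd G G) (ldiv G)).left ((xt ▷ G).left w))
    (by
      rw [← Scheme.Hom.comp_apply, ← Over.comp_left, lift_fst, ha2]
      exact hyT)
    (by
      rw [← Scheme.Hom.comp_apply, ← Over.comp_left, lift_snd]
      exact ha5)
  rw [← Scheme.Hom.comp_apply, ← Over.comp_left, lift_snd_ldiv_comp_rdiv, ha1] at hb
  exact hb

end Groth.Agent.Lib.Helper1.GrpSchLib
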