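import Mathlib
import Groth.Prelude.Def_Grpd
import Groth.Agent.Lib.Helper1.OmTransl
import Groth.Agent.S5005
set_option autoImplicit false
set_option linter.style.haveILetI false
universe u
open CategoryTheory CategoryTheory.Limits AlgebraicGeometry TopologicalSpace Opposite
open Groth.Agent.Lib.Helper1

namespace Groth.Agent.Lib.Helper1.GrpdOmega

variable {S : Scheme.{u}} (G : Grpd.GroupoidScheme S)

/-- composition of `T`-points -/
noncomputable def cmp {T : Scheme.{u}} (α β : T ⟶ G.R) (h : α ≫ G.s = β ≫ G.t) : T ⟶ G.R :=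
  pullback.lift α β h ≫ G.c

theorem cmp_congr {T : Scheme.{u}} {α α' β β' : T ⟶ G.R} (hα : α = α') (hβ : β = β')
    (h : α ≫ G.s = β ≫ G.t) :
    cmp G α β h = cmp G α' β' (by rw [← hα, ← hβ]; exact h) := by
  subst hα; subst hβ; rfl

theorem cmp_s {T : Scheme.{u}} (α β : T ⟶ G.R) (h : α ≫ G.s = β ≫ G.t) :
    cmp G α β h ≫ G.s = β ≫ G.s := G.comp_s α β h

theorem cmp_t {T : Scheme.{u}} (α β : T ⟶ G.R) (h : α ≫ G.s = β ≫ G.t) :
    cmp G α β h ≫ G.t = α ≫ G.t := G.comp_t α β h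

theorem cmp_assoc {T : Scheme.{u}} (α β γ : T ⟶ G.R) (h₁ : α ≫ G.s = β ≫ G.t)
    (h₂ : β ≫ G.s = γ ≫ G.t) :
    cmp G (cmp G α β h₁) γ ((cmp_s G α β h₁).trans h₂) =
      cmp G α (cmp G β γ h₂) (h₁.trans (cmp_t G β γ h₂).symm) := G.assoc α β γ h₁ h₂

theorem precomp_cmp {T T' : Scheme.{u}} (l : T' ⟶ T) (α β : T ⟶ G.R) (h : α ≫ G.s = β ≫ G.t) :
    l ≫ cmp G α β h = cmp G (l ≫ α) (l ≫ β) (by rw [Category.assoc, Category.assoc, h]) := by
  unfold cmp
  rw [← Category.assoc]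
  congr 1
  apply pullback.hom_ext
  · rw [Category.assoc, pullback.lift_fst, pullback.lift_fst]
  · rw [Category.assoc, pullback.lift_snd, pullback.lift_snd]

/-- `α⁻¹ ∘ (α ∘ β) = β` -/
theorem inv_cmp_cmp {T : Scheme.{u}} (α β : T ⟶ G.R) (h : α ≫ G.s = β ≫ G.t) :
    cmp G (α ≫ G.i) (cmp G α β h) (by rw [Category.assoc, G.i_s, cmp_t]) = β := by
  have h1 : (α ≫ G.i) ≫ G.s = α ≫ G.t := by rw [Category.assoc, G.i_s]
  have h2 := cmp_assoc G (α ≫ G.i) α β h1 h
  rw [← h2]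
  have h3 : cmp G (α ≫ G.i) α h1 = α ≫ G.s ≫ G.e := G.i_comp α
  have h4 : (α ≫ G.s ≫ G.e) ≫ G.s = β ≫ G.t := by
    rw [Category.assoc, Category.assoc, G.e_s, Category.comp_id, h]
  rw [cmp_congr G h3 rfl]
  have h5 : α ≫ G.s ≫ G.e = β ≫ G.t ≫ G.e := by rw [← Category.assoc, h, Category.assoc]
  rw [cmp_congr G h5 rfl]
  exact G.e_comp β

/-- `α ∘ (α⁻¹ ∘ γ) = γ` -/
theorem cmp_inv_cmp {T : Scheme.{u}} (α γ : T ⟶ G.R) (h : α ≫ G.t = γ ≫ G.t) :
    cmp G α (cmp G (α ≫ G.i) γ (by rw [Category.assoc, G.i_s, h]))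
      (by rw [cmp_t, Category.assoc, G.i_t]) = γ := by
  have h1 : (α ≫ G.i) ≫ G.s = γ ≫ G.t := by rw [Category.assoc, G.i_s, h]
  have h0 : α ≫ G.s = (α ≫ G.i) ≫ G.t := by rw [Category.assoc, G.i_t]
  have h2 := cmp_assoc G α (α ≫ G.i) γ h0 h1
  rw [← h2]
  have h3 : cmp G α (α ≫ G.i) h0 = α ≫ G.t ≫ G.e := G.comp_i α
  rw [cmp_congr G h3 rfl]
  have h5 : α ≫ G.t ≫ G.e = γ ≫ G.t ≫ G.e := by rw [← Category.assoc, h, Category.assoc]
  rw [cmp_congr G h5 rfl]
  exact G.e_comp γ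

theorem fst_snd_cmp : cmp G (pullback.fst G.s G.t) (pullback.snd G.s G.t) pullback.condition =
    G.c := by
  unfold cmp
  have : pullback.lift (pullback.fst G.s G.t) (pullback.snd G.s G.t) pullback.condition = 𝟙 _ := by
    apply pullback.hom_ext <;> simp
  rw [this, Category.id_comp]

theorem isPullback_c : IsPullback G.c (pullback.fst G.s G.t) G.t G.t := by
  have w : G.c ≫ G.t = pullback.fst G.s G.t ≫ G.t := by
    rw [← fst_snd_cmp G, cmp_t]
  refine ⟨⟨w⟩, ⟨PullbackCone.IsLimit.mk _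
    (fun k => pullback.lift k.snd (cmp G (k.snd ≫ G.i) k.fst
      (by rw [Category.assoc, G.i_s, k.condition]))
      (by rw [cmp_t, Category.assoc, G.i_t])) ?_ ?_ ?_⟩⟩
  · intro k
    have h1 := precomp_cmp G (pullback.lift k.snd (cmp G (k.snd ≫ G.i) k.fst
      (by rw [Category.assoc, G.i_s, k.condition]))
      (by rw [cmp_t, Category.assoc, G.i_t])) (pullback.fst G.s G.t) (pullback.snd G.s G.t)
      pullback.condition
    rw [fst_snd_cmp] at h1
    rw [h1]
    rw [cmp_congr G (pullback.lift_fst _ _ _) (pullback.lift_snd _ _ _)]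
    exact cmp_inv_cmp G k.snd k.fst k.condition.symm
  · intro k
    exact pullback.lift_fst _ _ _
  · intro k m hm₁ hm₂
    apply pullback.hom_ext
    · rw [pullback.lift_fst]; exact hm₂
    · rw [pullback.lift_snd]
      have h1 := precomp_cmp G m (pullback.fst G.s G.t) (pullback.snd G.s G.t) pullback.condition
      rw [fst_snd_cmp, hm₁] at h1
      have h2 : (m ≫ pullback.fst G.s G.t) ≫ G.s = (m ≫ pullback.snd G.s G.t) ≫ G.t := by
        rw [Category.assoc, Category.assoc, pullback.condition]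
      have h3 := inv_cmp_cmp G (m ≫ pullback.fst G.s G.t) (m ≫ pullback.snd G.s G.t) h2
      rw [← h3]
      have h4 : (m ≫ pullback.fst G.s G.t) ≫ G.i = k.snd ≫ G.i := by rw [hm₂]
      have h5 := cmp_congr G h4 h1.symm
        (by rw [Category.assoc, G.i_s, cmp_t])
      exact h5

/-- the section `α ↦ (α, e(s α))` -/
noncomputable def sec : G.R ⟶ pullback G.s G.t :=
  pullback.lift (𝟙 G.R) (G.s ≫ G.e) (by rw [Category.id_comp, Category.assoc, G.e_t,
    Category.comp_id])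

theorem sec_snd : sec G ≫ pullback.snd G.s G.t = G.s ≫ G.e := pullback.lift_snd _ _ _

theorem sec_c : sec G ≫ G.c = 𝟙 G.R := by
  have h := G.comp_e (𝟙 G.R)
  have h1 : cmp G (𝟙 G.R) (G.s ≫ G.e) (by rw [Category.id_comp, Category.assoc, G.e_t,
    Category.comp_id]) = cmp G (𝟙 G.R) (𝟙 G.R ≫ G.s ≫ G.e) (by rw [Category.assoc, Category.assoc,
      G.e_t, Category.comp_id]) := cmp_congr G rfl (Category.id_comp _).symm _
  exact h1.trans h

/-- `Ω_{R/U} ≅ s^* C_{U/R}` for a groupoid scheme (with `R` over `U` via `t`) -/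
theorem omega_iso [QuasiSeparated G.t] :
    Nonempty (Omega.sheaf G.t ≅ (Scheme.Modules.pullback G.s).obj (Omega.conormal G.e)) := by
  have hε := G.e_t
  haveI : IsImmersion (G.e ≫ G.t) := by rw [hε]; infer_instance
  haveI : IsImmersion G.e := IsImmersion.of_comp G.e G.t
  haveI : QuasiCompact (G.e ≫ G.t) := by rw [hε]; infer_instance
  haveI : QuasiCompact G.e := QuasiCompact.of_comp G.e G.t
  exact OmTransl.iso_pullback_conormal G.t G.e hε (pullback.fst G.s G.t) (pullback.snd G.s G.t)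
    G.c G.s G.t (IsPullback.of_hasPullback G.s G.t).flip (isPullback_c G) (sec G) (sec_snd G)
    (sec_c G) (Omega.sheaf G.t) (OmegaSh.dOmega G.t) (Groth.Agent.S5005.result G.t)

end Groth.Agent.Lib.Helper1.GrpdOmega
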