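import Groth.Agent.Lib.Helper3.InvRestrict
import Groth.Agent.Lib.Helper17.EffCartMod
import Groth.Agent.Lib.Helper7.AmpleRes2

/-!
# The canonical section of `O(D)` and closed subsets missing an ample divisor (helper1)

* `secOfIdeal`: for `L ⊗ I ≅ O` the canonical section `1_D : O ⟶ L`; its generating locus is the
  complement of the support of `I` (copied from `AmpleConn2`, with light imports).
* `isQuasiAffine_genLocus`: the generating locus of a section of an ample module is quasi-affine.
* `isFinite_subschemeι_comp`: a closed subscheme of a proper scheme over an affine base which is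
  contained in a quasi-affine open is finite over the base.
* `eq_of_specializes_of_disjoint_support`: no specializations inside the fibres on closed sets
  missing an ample divisor.
-/

set_option autoImplicit false
set_option linter.unusedSectionVars false
set_option linter.style.haveILetI false
universe u
open CategoryTheory CategoryTheory.Limits AlgebraicGeometry TopologicalSpace Opposite
open Scheme.Modules

noncomputable section

namespace Groth.Agent.Lib.Helper1.IdealSec

open Groth.Agent.Lib.Helper3 Groth.Agent.Lib.Helper3.QCSec Groth.Agent.Lib.Helper3.InvGen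
  Groth.Agent.Lib.Helper3.InvTensor Groth.Agent.Lib.Helper3.InvMonoidal
  Groth.Agent.Lib.Helper3.InvAmple Groth.Agent.Lib.Helper3.InvRestrict

section Ideal

variable {X : Scheme.{u}} {L : X.Modules} (I : X.IdealSheafData)
  (e : CohB1.tensorMod L (ClSub.idealMod I) ≅ Coh.structureModule X)

/-- the canonical section `1_D` of `L = O(D)` for `L ⊗ I_D ≅ O` -/
def secOfIdeal : Coh.structureModule X ⟶ L :=
  e.inv ≫ tensorMap (𝟙 L) (ClSub.idealModι I) ≫ (SecTwist.unitorR L).hom

theorem sec_secOfIdeal {U : X.Opens} {ε : Γ(L, U)} {μ : Γ(ClSub.idealMod I, U)}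
    (r : Γ(X, U)) (hr : r • tm L (ClSub.idealMod I) U ε μ = e.inv.app U (ofFun U 1)) :
    sec (secOfIdeal I e) U = (r * IdealMod.val I μ) • ε := by
  change (SecTwist.unitorR L).hom.app U ((tensorMap (𝟙 L) (ClSub.idealModι I)).app U
    (e.inv.app U (ofFun U 1))) = _
  rw [← hr, Scheme.Modules.Hom.app_smul, Scheme.Modules.Hom.app_smul, tensorMap_tm]
  have h1 : (ClSub.idealModι I).app U μ = ofFun U (IdealMod.val I μ) := rfl
  have h2 : (𝟙 L : L ⟶ L).app U ε = ε := rfl
  rw [h1, h2, unitorR_hom_tm, mul_smul]

include e in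
theorem compl_genLocus_secOfIdeal (hLi : PicF.IsInvertible L)
    (hMi : PicF.IsInvertible (ClSub.idealMod I)) :
    ((CohB1.genLocus L (secOfIdeal I e) : X.Opens) : Set X)ᶜ = (I.support : Set X) := by
  ext x
  obtain ⟨U₁, ε₁, hxU₁, hε₁⟩ := exists_isGen hLi x
  obtain ⟨U, μ, hU, hxU, hUle, hμ⟩ := exists_affine_isGen_le hMi x U₁ hxU₁
  have hε : IsGen L U (res L hUle ε₁) := hε₁.mono hUle
  set ε := res L hUle ε₁ with hεdef
  obtain ⟨r, hr⟩ := (isGen_tm hε hμ).self.exists_coord (e.inv.app U (ofFun U 1))
  have hru : r * toFun U (e.hom.app U (tm L (ClSub.idealMod I) U ε μ)) = 1 := by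
    have h1 := congrArg (e.hom.app U) hr
    rw [Scheme.Modules.Hom.app_smul, iso_hom_inv_app] at h1
    exact h1
  have hunit : IsUnit r := IsUnit.of_mul_eq_one _ hru
  have hsec := sec_secOfIdeal I e r hr
  have h1 : CohB1.genLocus L (secOfIdeal I e) ⊓ U = X.basicOpen (r * IdealMod.val I μ) :=
    genLocus_inf_eq_basicOpen _ hε _ hsec
  rw [Scheme.basicOpen_mul, X.basicOpen_of_isUnit hunit,
    inf_eq_right.mpr (X.basicOpen_le (IdealMod.val I μ))] at h1
  obtain ⟨-, hspan⟩ := Groth.Agent.Lib.Helper17.EffCartMod.span_of_isGenAt I ⟨U, hU⟩ μ hμ.self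
  simp only [Set.mem_compl_iff, SetLike.mem_coe]
  rw [Scheme.IdealSheafData.mem_support_iff_of_mem (U := ⟨U, hU⟩) hxU, hspan,
    Scheme.mem_zeroLocus_iff]
  constructor
  · intro hx g hg hxg
    apply hx
    obtain ⟨b, rfl⟩ := Ideal.mem_span_singleton'.mp hg
    have h3 : x ∈ X.basicOpen b ⊓ X.basicOpen (IdealMod.val I μ) := by
      rw [← Scheme.basicOpen_mul]; exact hxg
    have h4 : x ∈ CohB1.genLocus L (secOfIdeal I e) ⊓ U := by rw [h1]; exact h3.2
    exact h4.1
  · intro h hx
    apply h (IdealMod.val I μ) (Ideal.subset_span rfl)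
    rw [← h1]
    exact ⟨hx, hxU⟩

end Ideal

section QA

variable {X : Scheme.{u}}

/-- the generating locus of a section of an ample module is quasi-affine (when quasi-compact). -/
theorem isQuasiAffine_genLocus {L : X.Modules} (hA : CohB1.IsAmple L)
    (s : Coh.structureModule X ⟶ L) [CompactSpace ↥(CohB1.genLocus L s : Scheme.{u})] :
    (CohB1.genLocus L s : Scheme.{u}).IsQuasiAffine := by
  haveI : IsIso ((restrictFunctor (CohB1.genLocus L s).ι).map s) :=
    (isIso_restrict_iff s (CohB1.genLocus L s)).mpr (isGen_genLocus s)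
  have e : Coh.structureModule (CohB1.genLocus L s : Scheme.{u}) ≅
      L.restrict (CohB1.genLocus L s).ι :=
    (restrictUnitIso (CohB1.genLocus L s).ι).symm ≪≫
      asIso ((restrictFunctor (CohB1.genLocus L s).ι).map s)
  rw [isQuasiAffine_iff_isAmple_unit]
  exact isAmple_of_iso e.symm (isAmple_restrict (CohB1.genLocus L s).ι hA)

end QA

section Fin

variable {X S : Scheme.{u}}

/-- a closed subscheme of a proper `S`-scheme (`S` affine) contained in a quasi-affine open is
finite over `S`. -/
theorem isFinite_subschemeι_comp (f : X ⟶ S) [IsProper f] [IsAffine S] (U : X.Opens)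
    [(U : Scheme.{u}).IsQuasiAffine] (I : X.IdealSheafData)
    (hI : (I.support : Set X) ⊆ (U : Set X)) : IsFinite (I.subschemeι ≫ f) := by
  have hrange : Set.range I.subschemeι ⊆ Set.range U.ι := by
    rw [Scheme.IdealSheafData.range_subschemeι, Scheme.Opens.range_ι]; exact hI
  let j : I.subscheme ⟶ (U : Scheme.{u}) := IsOpenImmersion.lift U.ι I.subschemeι hrange
  have hj : j ≫ U.ι = I.subschemeι := IsOpenImmersion.lift_fac _ _ _
  haveI : IsClosedImmersion (j ≫ U.ι) := by rw [hj]; infer_instance
  haveI : IsClosedImmersion j := IsClosedImmersion.of_comp j U.ι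
  haveI : I.subscheme.IsQuasiAffine := Scheme.IsQuasiAffine.of_isAffineHom j
  set g := I.subschemeι ≫ f with hg
  haveI : IsProper g := by rw [hg]; infer_instance
  have hnat : g ≫ S.toSpecΓ = I.subscheme.toSpecΓ ≫ Spec.map g.appTop :=
    Scheme.toSpecΓ_naturality g
  haveI : IsProper (I.subscheme.toSpecΓ ≫ Spec.map g.appTop) := by
    rw [← hnat]; infer_instance
  haveI : IsProper I.subscheme.toSpecΓ := IsProper.of_comp _ (Spec.map g.appTop)
  haveI : IsFinite I.subscheme.toSpecΓ := IsFinite.of_isProper_of_locallyQuasiFinite _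
  haveI : IsAffine I.subscheme := isAffine_of_isAffineHom I.subscheme.toSpecΓ
  exact IsFinite.iff_isProper_and_isAffineHom.mpr ⟨inferInstance, inferInstance⟩

/-- for a finite morphism, there are no nontrivial specializations inside a fibre. -/
theorem eq_of_specializes_of_locallyQuasiFinite {T : Scheme.{u}} (g : T ⟶ S)
    [LocallyQuasiFinite g] {a b : T} (hab : a ⤳ b) (h : g a = g b) : a = b := by
  haveI : DiscreteTopology ↥(g ⁻¹' {g b}) := (g.isDiscrete_preimage_singleton (g b)).to_subtype
  have h1 : (⟨a, h⟩ : ↥(g ⁻¹' {g b})) ⤳ ⟨b, rfl⟩ :=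
    Topology.IsInducing.subtypeVal.specializes_iff.mp hab
  exact congrArg Subtype.val h1.eq

end Fin

section Main

variable {X S : Scheme.{u}}

/-- no specializations inside the fibres of a proper morphism to a Noetherian affine scheme on a
closed set disjoint from the generating locus complement of a section of an ample module. -/
theorem eq_of_specializes_of_subset_genLocus (f : X ⟶ S) [IsProper f] [IsAffine S]
    [IsNoetherian S] {L : X.Modules} (hA : CohB1.IsAmple L) (s : Coh.structureModule X ⟶ L)
    (Z : Set X) (hZ : IsClosed Z) (hZU : Z ⊆ (CohB1.genLocus L s : Set X))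
    {z x : X} (hz : z ∈ Z) (hzx : z ⤳ x) (hf : f z = f x) : z = x := by
  haveI : IsLocallyNoetherian X := LocallyOfFiniteType.isLocallyNoetherian f
  haveI : CompactSpace X := QuasiCompact.compactSpace_of_compactSpace f
  haveI : IsNoetherian X := {}
  haveI : CompactSpace ↥(CohB1.genLocus L s : Scheme.{u}) :=
    isCompact_iff_compactSpace.mp (NoetherianSpace.isCompact (CohB1.genLocus L s : Set X))
  haveI := isQuasiAffine_genLocus hA s
  let I := Scheme.IdealSheafData.vanishingIdeal ⟨Z, hZ⟩
  have hsupp : (I.support : Set X) = Z := by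
    rw [Scheme.IdealSheafData.coe_support_vanishingIdeal]
    rfl
  haveI := isFinite_subschemeι_comp f (CohB1.genLocus L s) I (hsupp ▸ hZU)
  have hx : x ∈ Z := hZ.closure_subset_iff.mpr (Set.singleton_subset_iff.mpr hz)
    (specializes_iff_mem_closure.mp hzx)
  have hr : Set.range I.subschemeι = Z := by rw [Scheme.IdealSheafData.range_subschemeι, hsupp]
  obtain ⟨z', rfl⟩ : z ∈ Set.range I.subschemeι := hr ▸ hz
  obtain ⟨x', rfl⟩ : x ∈ Set.range I.subschemeι := hr ▸ hx
  have h1 : z' ⤳ x' := I.subschemeι.isEmbedding.toIsInducing.specializes_iff.mp hzx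
  rw [eq_of_specializes_of_locallyQuasiFinite (I.subschemeι ≫ f) h1 hf]

end Main

end Groth.Agent.Lib.Helper1.IdealSec
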