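import Mathlib
import Groth.Prelude.Def_OmegaPn

set_option autoImplicit false
set_option linter.style.haveILetI false
universe u
open CategoryTheory CategoryTheory.Limits AlgebraicGeometry TopologicalSpace Opposite

namespace Groth.Agent.Lib.Helper1.InfNbhd

variable {X Y : Scheme.{u}} (i : Y ⟶ X) (n : ℕ)

instance : IsClosedImmersion (PrinPart.infNbhdι i n) := by
  unfold PrinPart.infNbhdι; infer_instance

theorem isAffineOpen_preimage {U : X.Opens} (hU : IsAffineOpen U) :
    IsAffineOpen (PrinPart.infNbhdι i n ⁻¹ᵁ U) := hU.preimage _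

theorem app_surjective {U : X.Opens} (hU : IsAffineOpen U) :
    Function.Surjective ((PrinPart.infNbhdι i n).app U) :=
  (i.ker ^ (n + 1)).subschemeι_app_surjective ⟨U, hU⟩

theorem ker_app [QuasiCompact i] {U : X.Opens} (hU : IsAffineOpen U) :
    RingHom.ker ((PrinPart.infNbhdι i n).app U).hom = RingHom.ker (i.app U).hom ^ (n + 1) := by
  have h1 := (i.ker ^ (n + 1)).ker_subschemeι_app ⟨U, hU⟩
  have h2 : (i.ker ^ (n + 1)).ideal ⟨U, hU⟩ = (i.ker.ideal ⟨U, hU⟩) ^ (n + 1) := rfl
  rw [h2, Scheme.Hom.ker_apply] at h1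
  exact h1

theorem map_bijective_of_eq {Z : Scheme.{u}} {A B : Z.Opens} (hAB : A ≤ B) (hBA : B ≤ A) :
    Function.Bijective (Z.presheaf.map (homOfLE hAB).op) := by
  have e : A = B := le_antisymm hAB hBA
  subst e
  have : homOfLE hAB = 𝟙 _ := rfl
  rw [this, op_id, CategoryTheory.Functor.map_id]
  exact Function.bijective_id

section Imm

variable {P : Scheme.{u}} (j : Y ⟶ P) [IsImmersion j]

/-- `infNbhd` of the closed immersion `liftCoborder`, mapped to `P`. -/
noncomputable abbrev immι : PrinPart.infNbhd j.liftCoborder n ⟶ P :=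
  PrinPart.infNbhdι j.liftCoborder n ≫ j.coborderRange.ι

variable {W : P.Opens} (hW : IsAffineOpen W) (hWle : W ≤ j.coborderRange)

include hW hWle in
theorem isAffineOpen_preimage_ι : IsAffineOpen (j.coborderRange.ι ⁻¹ᵁ W) :=
  hW.preimage_of_isOpenImmersion _ (by rwa [Scheme.Opens.opensRange_ι])

include hW hWle in
theorem immι_isAffineOpen : IsAffineOpen (immι n j ⁻¹ᵁ W) :=
  isAffineOpen_preimage j.liftCoborder n (isAffineOpen_preimage_ι j hW hWle)

include hWle in
theorem ι_app_bijective : Function.Bijective (j.coborderRange.ι.app W) := by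
  have e : j.coborderRange.ι ''ᵁ (j.coborderRange.ι ⁻¹ᵁ W) = W := by
    rw [Scheme.Hom.image_preimage_eq_opensRange_inf, Scheme.Opens.opensRange_ι]
    exact inf_eq_right.mpr hWle
  have h1 : j.coborderRange.ι.app W =
      P.presheaf.map (homOfLE e.le).op := by
    rw [Scheme.Opens.ι_app]
  rw [h1]
  exact map_bijective_of_eq e.le e.ge

include hW hWle in
theorem immι_app_surjective : Function.Surjective ((immι n j).app W) := by
  have h1 : (immι n j).app W = j.coborderRange.ι.app W ≫
      (PrinPart.infNbhdι j.liftCoborder n).app (j.coborderRange.ι ⁻¹ᵁ W) := rfl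
  rw [h1]
  intro y
  obtain ⟨z, hz⟩ := app_surjective j.liftCoborder n (isAffineOpen_preimage_ι j hW hWle) y
  obtain ⟨w, hw⟩ := (ι_app_bijective j hWle).2 z
  exact ⟨w, (congrArg _ hw).trans hz⟩

theorem liftCoborder_app_eq_zero_iff (r : Γ(P, W)) :
    j.liftCoborder.app (j.coborderRange.ι ⁻¹ᵁ W) (j.coborderRange.ι.app W r) = 0 ↔
      j.app W r = 0 := by
  have h := Scheme.Hom.congr_app (j.liftCoborder_ι) W
  have h2 : j.liftCoborder.app (j.coborderRange.ι ⁻¹ᵁ W) (j.coborderRange.ι.app W r) =
      Y.presheaf.map (eqToHom (show (j.liftCoborder ≫ j.coborderRange.ι) ⁻¹ᵁ W = j ⁻¹ᵁ W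
        from by rw [j.liftCoborder_ι])).op
        (j.app W r) := congr($h r)
  rw [h2]
  constructor
  · intro h0
    have hinj : Function.Injective (Y.presheaf.map (eqToHom (show (j.liftCoborder ≫ j.coborderRange.ι) ⁻¹ᵁ W = j ⁻¹ᵁ W
        from by rw [j.liftCoborder_ι])).op) :=
      ((ConcreteCategory.isIso_iff_bijective _).mp inferInstance).1
    apply hinj
    rw [map_zero]
    exact h0
  · intro h0; rw [h0, map_zero]; rfl

include hW hWle in
theorem ker_immι_app :
    RingHom.ker ((immι n j).app W).hom = RingHom.ker (j.app W).hom ^ (n + 1) := by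
  set e := (j.coborderRange.ι.app W).hom with he
  have hbij : Function.Bijective e := ι_app_bijective j hWle
  set K := RingHom.ker (j.liftCoborder.app (j.coborderRange.ι ⁻¹ᵁ W)).hom with hK
  have h1 : RingHom.ker ((immι n j).app W).hom = Ideal.comap e (K ^ (n + 1)) := by
    have := ker_app j.liftCoborder n (isAffineOpen_preimage_ι j hW hWle)
    rw [← hK] at this
    rw [← this]
    rfl
  have h2 : RingHom.ker (j.app W).hom = Ideal.comap e K := by
    ext r
    rw [RingHom.mem_ker, Ideal.mem_comap, hK, RingHom.mem_ker]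
    exact (liftCoborder_app_eq_zero_iff j r).symm
  rw [h1, h2]
  have h3 : Ideal.map e ((Ideal.comap e K) ^ (n + 1)) = K ^ (n + 1) := by
    rw [Ideal.map_pow, Ideal.map_comap_of_surjective e hbij.2]
  rw [← h3, Ideal.comap_map_of_bijective e hbij]

end Imm

end Groth.Agent.Lib.Helper1.InfNbhd
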