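import Mathlib
import Groth.Prelude.Def_OmegaPn
import Groth.Agent.Lib.Helper1.InfNbhd
import Groth.Agent.Lib.Helper1.Conorm

set_option autoImplicit false
set_option linter.style.haveILetI false
universe u
open CategoryTheory CategoryTheory.Limits AlgebraicGeometry TopologicalSpace Opposite

namespace Groth.Agent.Lib.Helper1.InfSect

variable {X Y : Scheme.{u}} (g : X ⟶ Y) (f : Y ⟶ X) [IsClosedImmersion f] (hf : f ≫ g = 𝟙 Y)
  (n : ℕ)

include hf in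
theorem preimage_eq {U : X.Opens} (hle : U ≤ g ⁻¹ᵁ (f ⁻¹ᵁ U)) :
    (PrinPart.infNbhdι f n ≫ g) ⁻¹ᵁ (f ⁻¹ᵁ U) = PrinPart.infNbhdι f n ⁻¹ᵁ U := by
  apply le_antisymm
  · intro z hz
    obtain ⟨y, rfl⟩ := PrinPart.toInfNbhd_surjective f n z
    have h1 : (PrinPart.infNbhdι f n) (PrinPart.toInfNbhd f n y) = f y := by
      rw [← Scheme.Hom.comp_apply, PrinPart.toInfNbhd_ι]
    have h2 : g (f y) = y := by
      rw [← Scheme.Hom.comp_apply, hf]; rfl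
    change f (g ((PrinPart.infNbhdι f n) (PrinPart.toInfNbhd f n y))) ∈ U at hz
    rw [h1, h2] at hz
    change (PrinPart.infNbhdι f n) (PrinPart.toInfNbhd f n y) ∈ U
    rw [h1]; exact hz
  · intro z hz
    exact hle hz

include hf in
theorem isAffineOpen_preimage {U : X.Opens} (hU : IsAffineOpen U)
    (hle : U ≤ g ⁻¹ᵁ (f ⁻¹ᵁ U)) :
    IsAffineOpen ((PrinPart.infNbhdι f n ≫ g) ⁻¹ᵁ (f ⁻¹ᵁ U)) := by
  rw [preimage_eq g f hf n hle]
  exact InfNbhd.isAffineOpen_preimage f n hU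

include hf in
theorem isIntegral_app {U : X.Opens} (hU : IsAffineOpen U) (hle : U ≤ g ⁻¹ᵁ (f ⁻¹ᵁ U))
    (hret : ∀ s, (f.app U).hom ((g.appLE (f ⁻¹ᵁ U) U hle).hom s) = s) :
    ((PrinPart.infNbhdι f n ≫ g).app (f ⁻¹ᵁ U)).hom.IsIntegral := by
  set Z := PrinPart.infNbhd f n
  set ιn := PrinPart.infNbhdι f n with hιn
  have heq := preimage_eq g f hf n hle
  have hb := InfNbhd.map_bijective_of_eq (Z := Z) heq.ge heq.le
  intro z
  -- restrict to `ιn⁻¹ U`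
  obtain ⟨c, hc⟩ := InfNbhd.app_surjective f n hU (Z.presheaf.map (homOfLE heq.ge).op z)
  set a : Γ(Y, f ⁻¹ᵁ U) := (f.app U).hom c with ha
  have hker : c - (g.appLE (f ⁻¹ᵁ U) U hle).hom a ∈ RingHom.ker (f.app U).hom := by
    rw [RingHom.mem_ker, map_sub, hret, ha, sub_self]
  have hpow : (c - (g.appLE (f ⁻¹ᵁ U) U hle).hom a) ^ (n + 1) ∈
      RingHom.ker (ιn.app U).hom := by
    rw [InfNbhd.ker_app f n hU]
    exact Ideal.pow_mem_pow hker _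
  -- the relation downstairs
  have hres : Z.presheaf.map (homOfLE heq.ge).op ((ιn ≫ g).app (f ⁻¹ᵁ U) a) =
      ιn.app U ((g.appLE (f ⁻¹ᵁ U) U hle).hom a) := by
    have h1 : (ιn ≫ g).appLE (f ⁻¹ᵁ U) (ιn ⁻¹ᵁ U) heq.ge =
        g.appLE (f ⁻¹ᵁ U) U hle ≫ ιn.appLE U (ιn ⁻¹ᵁ U) le_rfl :=
      (Scheme.Hom.appLE_comp_appLE _ _ _ _ _ _ _).symm
    rw [Conorm.appLE_refl] at h1
    exact congr($h1 a)
  have hzero : (z - (ιn ≫ g).app (f ⁻¹ᵁ U) a) ^ (n + 1) = 0 := by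
    apply hb.1
    rw [map_zero, map_pow, map_sub, hres, ← hc, ← map_sub, ← map_pow]
    exact hpow
  -- monic polynomial `(T - a)^(n+1)`
  refine ⟨(Polynomial.X - Polynomial.C a) ^ (n + 1),
    (Polynomial.monic_X_sub_C a).pow _, ?_⟩
  rw [Polynomial.eval₂_pow, Polynomial.eval₂_sub, Polynomial.eval₂_X, Polynomial.eval₂_C]
  exact hzero

end Groth.Agent.Lib.Helper1.InfSect
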