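-- Helper library (helper1): integrality of ring maps descends along faithfully flat maps.
import Mathlib.RingTheory.Finiteness.Descent
import Mathlib.RingTheory.RingHom.Integral
import Mathlib.RingTheory.RingHom.FaithfullyFlat
import Mathlib.RingTheory.IntegralClosure.IsIntegralClosure.Basic

set_option autoImplicit false
universe u

namespace Groth.Agent.Lib.Helper1

open TensorProduct

theorem isIntegral_of_tensorProduct_of_faithfullyFlat (R S T : Type u) [CommRing R] [CommRing S]
    [CommRing T] [Algebra R S] [Algebra R T] [Module.FaithfullyFlat R S]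
    [Algebra.IsIntegral S (S ⊗[R] T)] : Algebra.IsIntegral R T := by
  constructor
  intro t
  let A : Subalgebra R T := Algebra.adjoin R {t}
  have hfg : A.FG := by
    have := Subalgebra.fg_adjoin_finset (R := R) ({t} : Finset T)
    simpa using this
  have hft : Algebra.FiniteType R A := (Subalgebra.fg_iff_finiteType _).mp hfg
  let ι : S ⊗[R] A →ₐ[S] S ⊗[R] T := Algebra.TensorProduct.map (AlgHom.id S S) A.val
  have hι : Function.Injective ι :=
    Module.Flat.lTensor_preserves_injective_linearMap (M := S) A.val.toLinearMap
      Subtype.val_injective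
  have hint : Algebra.IsIntegral S (S ⊗[R] A) := Algebra.IsIntegral.of_injective ι hι
  have hfin : Module.Finite S (S ⊗[R] A) := Algebra.IsIntegral.finite
  have : Module.Finite R A := Module.Finite.of_finite_tensorProduct_of_faithfullyFlat S
  have ht : IsIntegral R (⟨t, Algebra.subset_adjoin (Set.mem_singleton t)⟩ : A) :=
    IsIntegral.of_finite R _
  exact ht.map A.val

theorem isIntegral_codescendsAlong_faithfullyFlat :
    RingHom.CodescendsAlong (fun f => f.IsIntegral) RingHom.FaithfullyFlat := by
  refine .mk _ RingHom.isIntegral_respectsIso fun R S T _ _ _ _ _ h h' ↦ ?_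
  rw [RingHom.faithfullyFlat_algebraMap_iff] at h
  have : Algebra.IsIntegral S (S ⊗[R] T) := ⟨h'⟩
  exact (isIntegral_of_tensorProduct_of_faithfullyFlat R S T).isIntegral

end Groth.Agent.Lib.Helper1
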