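import Mathlib
import Groth.Prelude.Def_KZero
import Groth.Agent.Lib.Helper17.DevEngine
import Groth.Agent.Lib.Helper17.DevKey
import Groth.Agent.Lib.Helper10.SerreK0

/-!
# K_0 of coherent modules with supports is generated by modules of generic length one
(via helper17's devissage engine)
-/

set_option autoImplicit false
set_option linter.style.haveILetI false
universe u
open CategoryTheory CategoryTheory.Limits AlgebraicGeometry Opposite

namespace Groth.Agent.Lib.Helper1.K0Dev

open Groth.Agent.Lib.Helper17 H10K0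

theorem key14003 (X : Scheme.{u}) [IsNoetherian X]
    (Y' : Set X) (hY' : IsClosed Y') {ι : Type u} (F : ι → X.Modules)
    (hF : ∀ a : ι, Coh.IsCoh (F a) ∧ CohB1.support (F a) ⊆ Y')
    (hgen : ∀ (Z : Set X), IsClosed Z → IsIrreducible Z → Z ⊆ Y' → ∀ y : X, closure ({y} : Set X) = Z →
      ∃ a : ι, CohB1.support (F a) ⊆ Z ∧ Module.length (X.presheaf.stalk y) ((F a).presheaf.stalk y) = 1) :
    AddSubgroup.closure (Set.range fun a : ι =>
        KZero.clSub (fun G : X.Modules => Coh.IsCoh G ∧ CohB1.support G ⊆ Y') (F a)) = ⊤ := by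
  set Q : ObjectProperty X.Modules := fun G : X.Modules => Coh.IsCoh G ∧ CohB1.support G ⊆ Y' with hQ
  set H := AddSubgroup.closure (Set.range fun a : ι => KZero.clSub Q (F a)) with hH
  let P : X.Modules → Prop := fun M => KZero.clSub Q M ∈ H
  -- properties of `P`
  have hPiso : ∀ M N : X.Modules, Nonempty (M ≅ N) → P M → P N := by
    rintro M N ⟨e⟩ hM
    by_cases hN : Q N
    · have hM' : Q M := ⟨DevBasic.isCoh_of_iso e.symm hN.1, by
        rw [DevBasic.support_eq_of_iso e]; exact hN.2⟩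
      have hC : Q (cokernel e.hom) := by
        have hz : IsZero (cokernel e.hom) := isZero_cokernel_of_epi e.hom
        exact ⟨DevBasic.isCoh_of_isZero hz, by
          rw [DevBasic.support_eq_empty_of_isZero hz]; exact Set.empty_subset _⟩
      have h2 : KZero.clSub Q N = KZero.clSub Q M + KZero.clSub Q (cokernel e.hom) :=
        clSub_ses Q _ (ses_of_iso e) hM' hN hC
      show KZero.clSub Q N ∈ H
      rw [h2, clSub_isZero Q (isZero_cokernel_of_epi e.hom) hC, add_zero]
      exact hM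
    · show KZero.clSub Q N ∈ H
      unfold KZero.clSub
      rw [dif_neg hN]
      exact H.zero_mem
  have hP0 : ∀ M : X.Modules, IsZero M → P M := by
    intro M hz
    have hM : Q M := ⟨DevBasic.isCoh_of_isZero hz, by
      rw [DevBasic.support_eq_empty_of_isZero hz]; exact Set.empty_subset _⟩
    show KZero.clSub Q M ∈ H
    rw [clSub_isZero Q hz hM]
    exact H.zero_mem
  have hses : ∀ S : ShortComplex X.Modules, S.ShortExact → Coh.IsCoh S.X₁ → Coh.IsCoh S.X₂ →
      Coh.IsCoh S.X₃ → CohB1.support S.X₂ ⊆ Y' →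
      KZero.clSub Q S.X₂ = KZero.clSub Q S.X₁ + KZero.clSub Q S.X₃ := by
    intro S hS h1 h2 h3 hs
    haveI := hS.mono_f
    haveI := hS.epi_g
    exact clSub_ses Q S hS ⟨h1, (DevBasic.support_subset_of_mono S.f).trans hs⟩ ⟨h2, hs⟩
      ⟨h3, (DevBasic.support_subset_of_epi S.g).trans hs⟩
  have h23 : ∀ S : ShortComplex X.Modules, S.ShortExact → Coh.IsCoh S.X₁ → Coh.IsCoh S.X₂ →
      Coh.IsCoh S.X₃ → CohB1.support S.X₂ ⊆ Y' →
      (P S.X₁ → P S.X₂ → P S.X₃) ∧ (P S.X₁ → P S.X₃ → P S.X₂) ∧ (P S.X₂ → P S.X₃ → P S.X₁) := by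
    intro S hS h1 h2 h3 hs
    have he := hses S hS h1 h2 h3 hs
    refine ⟨fun p1 p2 => ?_, fun p1 p3 => ?_, fun p2 p3 => ?_⟩
    · show KZero.clSub Q S.X₃ ∈ H
      have : KZero.clSub Q S.X₃ = KZero.clSub Q S.X₂ - KZero.clSub Q S.X₁ := by rw [he]; abel
      rw [this]
      exact H.sub_mem p2 p1
    · show KZero.clSub Q S.X₂ ∈ H
      rw [he]
      exact H.add_mem p1 p3
    · show KZero.clSub Q S.X₁ ∈ H
      have : KZero.clSub Q S.X₁ = KZero.clSub Q S.X₂ - KZero.clSub Q S.X₃ := by rw [he]; abel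
      rw [this]
      exact H.sub_mem p2 p3
  have hall : ∀ M : X.Modules, Coh.IsCoh M → CohB1.support M ⊆ Y' → P M := by
    intro M hM hs
    refine DevEngine.engine X P hPiso Y' hP0 (fun S hS h1 h2 h3 hs' p1 p3 => (h23 S hS h1 h2 h3 hs').2.1 p1 p3)
      ?_ M hM hs
    intro Z hZ hirr hZY IH G hG hGs _
    obtain ⟨y, hy⟩ := QuasiSober.sober hirr hZ
    have hy' : closure {y} = Z := hy
    obtain ⟨a, has, hal⟩ := hgen Z hZ hirr hZY y hy'
    have hyZ : y ∈ Z := hy' ▸ subset_closure (Set.mem_singleton y)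
    have hgenZ : ∀ x ∈ Z, y ⤳ x := fun x hx => specializes_iff_mem_closure.mpr (hy'.symm ▸ hx)
    refine DevKey.key23 P Y' h23 Z hZY y hgenZ ?_ (F a) (hF a).1 has ?_ hal G hG hGs
    · intro F' hF' hs' hyF'
      exact IH F' hF' hs' (fun heq => hyF' (heq ▸ hyZ))
    · exact AddSubgroup.subset_closure ⟨a, rfl⟩
  rw [eq_top_iff]
  intro x _
  refine K0sub_induction (motive := fun x => x ∈ H) Q x H.zero_mem ?_ ?_ ?_
  · intro G hG
    exact hall G hG.1 hG.2
  · intro G hG
    exact H.neg_mem (hall G hG.1 hG.2)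
  · intro a b ha hb
    exact H.add_mem ha hb

end Groth.Agent.Lib.Helper1.K0Dev
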