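import Mathlib
import Groth.Prelude.Def_KZero
import Groth.Prelude.Def_SGA6
import Groth.Agent.Lib.Helper10.SerreK0

/-!
# An abstract two-step dévissage for `K0sub`

Let `A` be an abelian category, `q : A ⥤ A` a right exact additive functor with a natural
transformation `η : 𝟭 ⟶ q`, and `B ⊆ C` object properties with `B` closed under kernels, cokernels,
isomorphisms and zero objects, such that for `M ∈ C`: `η_M` is epi and `ker η_M`, `q M` lie in `B`.
Then `[M] ↦ [ker η_M] + [q M]` is a well defined retraction `K0sub C → K0sub B` of the map induced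
by the inclusion.
-/

set_option autoImplicit false
set_option linter.style.haveILetI false
universe v u
open CategoryTheory CategoryTheory.Limits KZero H10K0

namespace Groth.Agent.Lib.Helper1.K0Dv

variable {A : Type u} [Category.{v} A] [Abelian A]

structure Closed (B : ObjectProperty A) : Prop where
  iso : ∀ {X Y : A}, (X ≅ Y) → B X → B Y
  zero : ∀ X : A, IsZero X → B X
  ker : ∀ {X Y : A} (u : X ⟶ Y), B X → B Y → B (kernel u)
  coker : ∀ {X Y : A} (u : X ⟶ Y), B X → B Y → B (cokernel u)

section Basic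

variable {B : ObjectProperty A} (hB : Closed B)
include hB

theorem clSub_iso {X Y : A} (e : X ≅ Y) (hX : B X) : clSub B X = clSub B Y := by
  have hY : B Y := hB.iso e hX
  have hC : B (cokernel e.hom) := hB.zero _ (isZero_cokernel_of_epi e.hom)
  have h2 : clSub B Y = clSub B X + clSub B (cokernel e.hom) :=
    clSub_ses B _ (ses_of_iso e) hX hY hC
  rw [h2, clSub_isZero B (isZero_cokernel_of_epi e.hom) hC, add_zero]

theorem clSub_ker_coker {X Y : A} (f : X ⟶ Y) (hX : B X) (hY : B Y) :
    clSub B X + clSub B (cokernel f) = clSub B Y + clSub B (kernel f) := by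
  have hk : B (kernel f) := hB.ker f hX hY
  have hc : B (cokernel f) := hB.coker f hX hY
  have hci : B (Abelian.coimage f) := hB.coker (kernel.ι f) hk hX
  have him : B (Abelian.image f) := hB.ker (cokernel.π f) hY hc
  have h1 : clSub B X = clSub B (kernel f) + clSub B (Abelian.coimage f) :=
    clSub_ses B (ShortComplex.mk (kernel.ι f) (cokernel.π (kernel.ι f)) (cokernel.condition _))
      (ShortComplex.ShortExact.mk' (ShortComplex.exact_cokernel _)
        (by dsimp; infer_instance) (by dsimp; infer_instance)) hk hX hci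
  have h2 : clSub B Y = clSub B (Abelian.image f) + clSub B (cokernel f) :=
    clSub_ses B (ShortComplex.mk (kernel.ι (cokernel.π f)) (cokernel.π f) (kernel.condition _))
      (ShortComplex.ShortExact.mk' (ShortComplex.exact_kernel _)
        (by dsimp; infer_instance) (by dsimp; infer_instance)) him hY hc
  have h3 : clSub B (Abelian.coimage f) = clSub B (Abelian.image f) :=
    clSub_iso hB (Abelian.coimageIsoImage f) hci
  rw [h1, h2, h3]
  abel

end Basic

section Step

variable (q : A ⥤ A) [q.Additive] [PreservesFiniteColimits q] (η : 𝟭 A ⟶ q)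
  {B C : ObjectProperty A} (hB : Closed B)
  (hepi : ∀ M, C M → Epi (η.app M))
  (hs : ∀ M, C M → B (kernel (η.app M)))
  (hq : ∀ M, C M → B (q.obj M))

/-- the row `0 → ker η_M → M → q M → 0`. -/
noncomputable abbrev row (M : A) : ShortComplex A :=
  ShortComplex.mk (kernel.ι (η.app M)) (η.app M) (kernel.condition _)

theorem row_exact (M : A) : (row q η M).Exact := ShortComplex.exact_kernel _

/-- the induced map on kernels. -/
noncomputable abbrev smap {M N : A} (f : M ⟶ N) : kernel (η.app M) ⟶ kernel (η.app N) :=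
  kernel.map (η.app M) (η.app N) f (q.map f) (η.naturality f).symm

/-- the morphism of rows induced by `f`. -/
noncomputable def rowMap {M N : A} (f : M ⟶ N) : row q η M ⟶ row q η N where
  τ₁ := smap q η f
  τ₂ := f
  τ₃ := q.map f
  comm₁₂ := by simp [smap]
  comm₂₃ := η.naturality f

include hB hepi hs hq in
theorem key_rel (S : ShortComplex A) (hS : S.ShortExact) (h₁ : C S.X₁) (h₂ : C S.X₂) (h₃ : C S.X₃) :
    clSub B (kernel (η.app S.X₂)) + clSub B (q.obj S.X₂) =
      (clSub B (kernel (η.app S.X₁)) + clSub B (q.obj S.X₁)) +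
        (clSub B (kernel (η.app S.X₃)) + clSub B (q.obj S.X₃)) := by
  haveI := hS.mono_f
  haveI := hS.epi_g
  haveI := hepi _ h₁
  haveI := hepi _ h₂
  haveI := hepi _ h₃
  -- the bottom row
  have hc0 : smap q η S.f ≫ kernel.ι (η.app S.X₂) ≫ S.g = 0 := by
    simp [smap]
  let c : cokernel (smap q η S.f) ⟶ S.X₃ :=
    cokernel.desc (smap q η S.f) (kernel.ι (η.app S.X₂) ≫ S.g) hc0
  have hc : c ≫ η.app S.X₃ = 0 := by
    rw [← cancel_epi (cokernel.π (smap q η S.f))]
    have : kernel.ι (η.app S.X₂) ≫ S.g ≫ η.app S.X₃ = 0 := by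
      have h := η.naturality S.g
      simp only [Functor.id_map] at h
      rw [h, kernel.condition_assoc, zero_comp]
    simpa [c] using this
  let L₃ : ShortComplex A := ShortComplex.mk c (η.app S.X₃) hc
  let v₂₃ : row q η S.X₂ ⟶ L₃ :=
    { τ₁ := cokernel.π (smap q η S.f)
      τ₂ := S.g
      τ₃ := q.map S.g
      comm₁₂ := by simp [L₃, c]
      comm₂₃ := η.naturality S.g }
  have w₁₃ : rowMap q η S.f ≫ v₂₃ = 0 := by
    ext
    · simp [rowMap, v₂₃]
    · simp [rowMap, v₂₃]
    · simp only [ShortComplex.comp_τ₃, ShortComplex.zero_τ₃, rowMap, v₂₃]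
      rw [← q.map_comp, S.zero, q.map_zero]
  let SI : ShortComplex.SnakeInput A :=
    { L₀ := kernel (rowMap q η S.f)
      L₁ := row q η S.X₁
      L₂ := row q η S.X₂
      L₃ := L₃
      v₀₁ := kernel.ι (rowMap q η S.f)
      v₁₂ := rowMap q η S.f
      v₂₃ := v₂₃
      w₀₂ := kernel.condition _
      w₁₃ := w₁₃
      h₀ := kernelIsKernel (rowMap q η S.f)
      h₃ := by
        apply ShortComplex.isColimitOfIsColimitπ <;>
          apply (CokernelCofork.isColimitMapCoconeEquiv _ _).2
        · exact cokernelIsCokernel (smap q η S.f)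
        · exact hS.gIsCokernel
        · exact isColimitCoforkMapOfIsColimit' q S.zero hS.gIsCokernel
      L₁_exact := row_exact q η _
      epi_L₁_g := hepi _ h₁
      L₂_exact := row_exact q η _
      mono_L₂_f := inferInstanceAs (Mono (kernel.ι _)) }
  -- `L₀.X₂` is zero
  have hz2 : IsZero SI.L₀.X₂ := by
    have h : SI.v₀₁.τ₂ ≫ S.f = 0 := SI.w₀₂_τ₂
    have h0 : SI.v₀₁.τ₂ = 0 := (cancel_mono S.f).1 (h.trans zero_comp.symm)
    haveI : Mono SI.v₀₁.τ₂ := SI.mono_v₀₁_τ₂
    exact IsZero.of_mono_eq_zero _ h0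
  haveI : Mono SI.δ := SI.mono_δ hz2
  -- memberships
  have hqf : B (kernel (q.map S.f)) := hB.ker _ (hq _ h₁) (hq _ h₂)
  have eK : SI.L₀.X₃ ≅ kernel (q.map S.f) :=
    IsLimit.conePointUniqueUpToIso SI.h₀τ₃ (limit.isLimit _)
  have hK : B SI.L₀.X₃ := hB.iso eK.symm hqf
  have hCk : B (cokernel (smap q η S.f)) := hB.coker _ (hs _ h₁) (hs _ h₂)
  -- the short exact sequence `0 → K → coker(s f) → ker η_{M''} → 0`
  have hT0 : SI.δ ≫ kernel.lift (η.app S.X₃) c hc = 0 := by
    rw [← cancel_mono (kernel.ι (η.app S.X₃)), Category.assoc, kernel.lift_ι, zero_comp]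
    exact SI.δ_L₃_f
  let T : ShortComplex A := ShortComplex.mk SI.δ (kernel.lift (η.app S.X₃) c hc) hT0
  have hTex : T.Exact := by
    let φ : T ⟶ SI.L₂' :=
      { τ₁ := 𝟙 _
        τ₂ := 𝟙 _
        τ₃ := kernel.ι (η.app S.X₃)
        comm₁₂ := (Category.id_comp SI.δ).trans (Category.comp_id SI.δ).symm
        comm₂₃ := (Category.id_comp c).trans (kernel.lift_ι (η.app S.X₃) c hc).symm }
    haveI : Epi φ.τ₁ := inferInstanceAs (Epi (𝟙 _))
    haveI : IsIso φ.τ₂ := inferInstanceAs (IsIso (𝟙 _))
    haveI : Mono φ.τ₃ := inferInstanceAs (Mono (kernel.ι _))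
    exact (ShortComplex.exact_iff_of_epi_of_isIso_of_mono φ).2 SI.L₂'_exact
  have hTepi : Epi T.g := by
    have hL₃ : L₃.Exact := SI.L₃_exact
    exact hL₃.epi_kernelLift
  have hTses : T.ShortExact := ShortComplex.ShortExact.mk' hTex (inferInstanceAs (Mono SI.δ)) hTepi
  have R3 : clSub B (cokernel (smap q η S.f)) =
      clSub B SI.L₀.X₃ + clSub B (kernel (η.app S.X₃)) :=
    clSub_ses B T hTses hK hCk (hs _ h₃)
  -- `[sM'] + [coker s f] = [sM] + [ker s f] = [sM]`
  have R1 := clSub_ker_coker hB (smap q η S.f) (hs _ h₁) (hs _ h₂)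
  have hks : IsZero (kernel (smap q η S.f)) := by
    haveI : Mono (smap q η S.f) := by
      have : Mono (smap q η S.f ≫ kernel.ι (η.app S.X₂)) := by
        have e : smap q η S.f ≫ kernel.ι (η.app S.X₂) = kernel.ι (η.app S.X₁) ≫ S.f := by
          simp [smap]
        rw [e]
        infer_instance
      exact mono_of_mono (smap q η S.f) (kernel.ι (η.app S.X₂))
    exact isZero_kernel_of_mono _
  rw [clSub_isZero B hks (hB.zero _ hks), add_zero] at R1
  -- `[qM'] + [coker q f] = [qM] + [ker q f]`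
  have R2 := clSub_ker_coker hB (q.map S.f) (hq _ h₁) (hq _ h₂)
  have eQ : cokernel (q.map S.f) ≅ q.obj S.X₃ :=
    IsColimit.coconePointUniqueUpToIso (cokernelIsCokernel (q.map S.f))
      (isColimitCoforkMapOfIsColimit' q S.zero hS.gIsCokernel)
  rw [clSub_iso hB eQ (hB.coker _ (hq _ h₁) (hq _ h₂)), ← clSub_iso hB eK hK] at R2
  -- combine
  rw [← R1, R3]
  have R2' : clSub B (q.obj S.X₂) = clSub B (q.obj S.X₁) + clSub B (q.obj S.X₃) -
      clSub B SI.L₀.X₃ := by
    rw [R2]; abel
  rw [R2']
  abel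

noncomputable def psiAux : FreeAbelianGroup (Subtype C) →+ K0sub B :=
  FreeAbelianGroup.lift (fun M => clSub B (kernel (η.app M.1)) + clSub B (q.obj M.1))

include hB hepi hs hq in
theorem relSub_le_psi : relSub C ≤ (psiAux q η (B := B) (C := C)).ker := by
  refine (AddSubgroup.closure_le _).2 ?_
  rintro x ⟨S, h₁, h₂, h₃, hS, rfl⟩
  rw [SetLike.mem_coe, AddMonoidHom.mem_ker]
  simp only [psiAux, map_sub, FreeAbelianGroup.lift_apply_of]
  rw [key_rel q η hB hepi hs hq S hS h₁ h₂ h₃]
  abel

/-- the retraction `[M] ↦ [ker η_M] + [q M]`. -/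
noncomputable def psi : K0sub C →+ K0sub B :=
  QuotientAddGroup.lift (relSub C) (psiAux q η) (relSub_le_psi q η hB hepi hs hq)

theorem psi_clSub (M : A) (hM : C M) :
    psi q η hB hepi hs hq (clSub C M) = clSub B (kernel (η.app M)) + clSub B (q.obj M) := by
  rw [clSub_of C hM]
  show QuotientAddGroup.lift _ (psiAux q η) _ (QuotientAddGroup.mk _) = _
  rw [QuotientAddGroup.lift_mk]
  exact FreeAbelianGroup.lift_apply_of _ _

theorem psi_of_mem (hBC : ∀ M, B M → C M) (M : A) (hM : B M) :
    psi q η hB hepi hs hq (clSub C M) = clSub B M := by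
  rw [psi_clSub q η hB hepi hs hq M (hBC M hM)]
  haveI := hepi M (hBC M hM)
  have hS : (row q η M).ShortExact :=
    ShortComplex.ShortExact.mk' (row_exact q η M) (inferInstanceAs (Mono (kernel.ι _)))
      (inferInstanceAs (Epi (η.app M)))
  exact (clSub_ses B (row q η M) hS (hs M (hBC M hM)) hM (hq M (hBC M hM))).symm

theorem mapSub_clSub' {A' : Type*} [Category A'] [Abelian A'] (F : A ⥤ A') [F.Additive]
    [PreservesFiniteLimits F] [PreservesFiniteColimits F]
    (P : ObjectProperty A) (Q : ObjectProperty A') (h : ∀ X, P X → Q (F.obj X)) (X : A) (hX : P X) :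
    SGA6.mapSub F P Q h (clSub P X) = clSub Q (F.obj X) := by
  rw [clSub_of P hX, clSub_of Q (h X hX)]
  show QuotientAddGroup.map _ _ _ _ (QuotientAddGroup.mk _) = _
  rw [QuotientAddGroup.map_mk, FreeAbelianGroup.map_of_apply]
  rfl

include hB hepi hs hq in
theorem injective_mapSub_id (hBC : ∀ M, B M → C M) :
    Function.Injective (SGA6.mapSub (𝟭 A) B C hBC) := by
  have hleft : ∀ x, psi q η hB hepi hs hq (SGA6.mapSub (𝟭 A) B C hBC x) = x := by
    intro x
    refine K0sub_induction (motive := fun x =>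
      psi q η hB hepi hs hq (SGA6.mapSub (𝟭 A) B C hBC x) = x) B x ?_ ?_ ?_ ?_
    · rw [map_zero, map_zero]
    · intro M hM
      rw [mapSub_clSub' _ _ _ hBC M hM]
      exact psi_of_mem q η hB hepi hs hq hBC M hM
    · intro M hM
      rw [map_neg, map_neg, mapSub_clSub' _ _ _ hBC M hM]
      exact congrArg _ (psi_of_mem q η hB hepi hs hq hBC M hM)
    · intro a b ha hb
      rw [map_add, map_add, ha, hb]
  exact Function.LeftInverse.injective hleft

end Step

end Groth.Agent.Lib.Helper1.K0Dv
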