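import Mathlib
import Groth.Prelude.Def_KZero
import Groth.Prelude.Def_SGA6
import Groth.Agent.Lib.Helper1.K0Dv1

/-!
# `K0sub` along an exact fully faithful functor with prescribed essential image
-/

set_option autoImplicit false
set_option linter.style.haveILetI false
universe v v' u u'
open CategoryTheory CategoryTheory.Limits KZero H10K0

namespace Groth.Agent.Lib.Helper1.K0Dv

section FF

variable {A : Type u} [Category.{v} A] [Abelian A] {A' : Type u'} [Category.{v'} A'] [Abelian A']
  (F : A' ⥤ A) [F.Additive] [PreservesFiniteLimits F] [PreservesFiniteColimits F] [F.Full]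
  [F.Faithful]
  {P' : ObjectProperty A'} {P : ObjectProperty A}
  (hF : ∀ N, P' N → P (F.obj N))
  (hz : ∀ N : A', IsZero N → P' N)
  (G : A → A') (hG : ∀ M, P M → P' (G M)) (e : ∀ M, P M → (F.obj (G M) ≅ M))

theorem shortExact_of_map (S' : ShortComplex A') (h : (S'.map F).ShortExact) : S'.ShortExact := by
  haveI : Mono (F.map S'.f) := h.mono_f
  haveI : Epi (F.map S'.g) := h.epi_g
  haveI : Mono S'.f := F.mono_of_mono_map inferInstance
  haveI : Epi S'.g := F.epi_of_epi_map inferInstance
  exact ShortComplex.ShortExact.mk ((ShortComplex.exact_map_iff_of_faithful S' F).1 h.exact)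

noncomputable def thetaAux : FreeAbelianGroup (Subtype P) →+ K0sub P' :=
  FreeAbelianGroup.lift (fun M => clSub P' (G M.1))

include hG e in
theorem relSub_le_theta : relSub P ≤ (thetaAux (P' := P') (P := P) G).ker := by
  refine (AddSubgroup.closure_le _).2 ?_
  rintro x ⟨S, h₁, h₂, h₃, hS, rfl⟩
  rw [SetLike.mem_coe, AddMonoidHom.mem_ker]
  simp only [thetaAux, map_sub, FreeAbelianGroup.lift_apply_of]
  let f' : G S.X₁ ⟶ G S.X₂ := F.preimage ((e _ h₁).hom ≫ S.f ≫ (e _ h₂).inv)
  let g' : G S.X₂ ⟶ G S.X₃ := F.preimage ((e _ h₂).hom ≫ S.g ≫ (e _ h₃).inv)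
  have w : f' ≫ g' = 0 := by
    apply F.map_injective
    simp [f', g']
  let S' : ShortComplex A' := ShortComplex.mk f' g' w
  have c1 : (e _ h₁).hom ≫ S.f = F.map f' ≫ (e _ h₂).hom := by simp [f']
  have c2 : (e _ h₂).hom ≫ S.g = F.map g' ≫ (e _ h₃).hom := by simp [g']
  have iso : S'.map F ≅ S :=
    ShortComplex.isoMk (e _ h₁) (e _ h₂) (e _ h₃) c1 c2
  have hS' : S'.ShortExact :=
    shortExact_of_map F S' (ShortComplex.shortExact_of_iso iso.symm hS)
  have h' := clSub_ses P' S' hS' (hG _ h₁) (hG _ h₂) (hG _ h₃)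
  show clSub P' S'.X₂ - clSub P' S'.X₁ - clSub P' S'.X₃ = 0
  rw [h']
  abel

/-- the retraction `[M] ↦ [G M]`. -/
noncomputable def theta : K0sub P →+ K0sub P' :=
  QuotientAddGroup.lift (relSub P) (thetaAux G) (relSub_le_theta F G hG e)

theorem theta_clSub (M : A) (hM : P M) : theta F G hG e (clSub P M) = clSub P' (G M) := by
  rw [clSub_of P hM]
  show QuotientAddGroup.lift _ (thetaAux G) _ (QuotientAddGroup.mk _) = _
  rw [QuotientAddGroup.lift_mk]
  exact FreeAbelianGroup.lift_apply_of _ _

include hz hG e in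
theorem injective_mapSub_of_ff : Function.Injective (SGA6.mapSub F P' P hF) := by
  have hcl : ∀ N (hN : P' N), theta F G hG e (SGA6.mapSub F P' P hF (clSub P' N)) = clSub P' N := by
    intro N hN
    rw [mapSub_clSub' _ _ _ hF N hN, theta_clSub F G hG e _ (hF N hN)]
    let i : G (F.obj N) ≅ N := F.preimageIso (e _ (hF N hN))
    have hC : P' (cokernel i.hom) := hz _ (isZero_cokernel_of_epi i.hom)
    have h2 : clSub P' N = clSub P' (G (F.obj N)) + clSub P' (cokernel i.hom) :=
      clSub_ses P' _ (ses_of_iso i) (hG _ (hF N hN)) hN hC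
    rw [h2, clSub_isZero P' (isZero_cokernel_of_epi i.hom) hC, add_zero]
  have hleft : ∀ x, theta F G hG e (SGA6.mapSub F P' P hF x) = x := by
    intro x
    refine K0sub_induction (motive := fun x =>
      theta F G hG e (SGA6.mapSub F P' P hF x) = x) P' x ?_ hcl ?_ ?_
    · rw [map_zero, map_zero]
    · intro M hM
      rw [map_neg, map_neg, hcl M hM]
    · intro a b ha hb
      rw [map_add, map_add, ha, hb]
  exact Function.LeftInverse.injective hleft

end FF

end Groth.Agent.Lib.Helper1.K0Dv
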