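import Mathlib
import Groth.Prelude
import Groth.Agent.Lib.Helper1.AssOpen
import Groth.Agent.Lib.Helper17.DevTest

/-!
# Stalks, supports and lengths of the pushforward along a closed immersion
-/

set_option autoImplicit false
set_option linter.style.haveILetI false
universe u
open CategoryTheory CategoryTheory.Limits AlgebraicGeometry TopologicalSpace Opposite

namespace Groth.Agent.Lib.Helper1.K0Loc

open Groth.Agent.Lib.Helper17 Groth.Agent.Lib.Helper1.AssOpen

theorem length_eq_of_semilinear {R R' N N' : Type*} [CommRing R] [CommRing R']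
    [AddCommGroup N] [AddCommGroup N'] [Module R N] [Module R' N']
    (σ : R →+* R') (hσ : Function.Surjective σ) (e : N →+ N') (he : Function.Bijective e)
    (h : ∀ r n, e (r • n) = σ r • e n) :
    Module.length R N = Module.length R' N' := by
  haveI : RingHomSurjective σ := ⟨hσ⟩
  let f : N →ₛₗ[σ] N' := { toFun := e, map_add' := e.map_add, map_smul' := h }
  have hf : Function.Bijective f := he
  rw [Module.length, Module.length, WithBot.unbot_inj,
    Order.krullDim_eq_of_orderIso (Submodule.orderIsoMapComapOfBijective f hf)]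

variable {X X' : Scheme.{u}} (i : X' ⟶ X) [IsClosedImmersion i] (N : X'.Modules)

theorem stalkPush_bijective_closed (x : X') : Function.Bijective (stalkPush i N x) := by
  haveI : IsIso (N.presheaf.stalkPushforward Ab i.base x) :=
    TopCat.Presheaf.stalkPushforward.stalkPushforward_iso_of_isInducing (C := Ab)
      i.isClosedEmbedding.isInducing N.presheaf x
  exact ConcreteCategory.bijective_of_isIso (N.presheaf.stalkPushforward Ab i.base x)

theorem subsingleton_stalk_push (z : X) (hz : z ∉ Set.range i.base) :
    Subsingleton (((Scheme.Modules.pushforward i).obj N).presheaf.stalk z) := by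
  refine ⟨fun a b => ?_⟩
  suffices H : ∀ a : ((Scheme.Modules.pushforward i).obj N).presheaf.stalk z, a = 0 by
    rw [H a, H b]
  intro a
  obtain ⟨V, hzV, s, rfl⟩ := ((Scheme.Modules.pushforward i).obj N).presheaf.exists_germ_eq a
  let W : X.Opens := ⟨(Set.range i.base)ᶜ, i.isClosedEmbedding.isClosed_range.isOpen_compl⟩
  have hzW : z ∈ W := hz
  have hle : V ⊓ W ≤ V := inf_le_left
  rw [← TopCat.Presheaf.germ_res_apply _ (homOfLE hle) z ⟨hzV, hzW⟩ s]
  have hemp : i ⁻¹ᵁ (V ⊓ W) = ⊥ := by
    ext x
    simp only [Scheme.Hom.mem_preimage, Opens.mem_inf, Opens.coe_bot, Set.mem_empty_iff_false,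
      iff_false, not_and, SetLike.mem_coe]
    intro _ hx
    exact hx ⟨x, rfl⟩
  haveI : Subsingleton Γ((Scheme.Modules.pushforward i).obj N, V ⊓ W) := by
    show Subsingleton Γ(N, i ⁻¹ᵁ (V ⊓ W))
    rw [hemp]
    exact Module.subsingleton Γ(X', (⊥ : X'.Opens)) Γ(N, (⊥ : X'.Opens))
  rw [Subsingleton.elim (((Scheme.Modules.pushforward i).obj N).presheaf.map (homOfLE hle).op s) 0]
  exact map_zero _

theorem support_push :
    CohB1.support ((Scheme.Modules.pushforward i).obj N) = i.base '' CohB1.support N := by
  ext z
  constructor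
  · intro hz
    by_cases hr : z ∈ Set.range i.base
    · obtain ⟨x, rfl⟩ := hr
      refine ⟨x, ?_, rfl⟩
      intro hs
      apply hz
      haveI := hs
      exact (stalkPush_bijective_closed i N x).injective.subsingleton
    · exact absurd (subsingleton_stalk_push i N z hr) hz
  · rintro ⟨x, hx, rfl⟩ hs
    apply hx
    haveI := hs
    exact (stalkPush_bijective_closed i N x).surjective.subsingleton

theorem length_push (x : X') :
    Module.length (X.presheaf.stalk (i.base x))
        (((Scheme.Modules.pushforward i).obj N).presheaf.stalk (i.base x)) =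
      Module.length (X'.presheaf.stalk x) (N.presheaf.stalk x) :=
  length_eq_of_semilinear (i.stalkMap x).hom (i.stalkMap_surjective x) (stalkPush i N x)
    (stalkPush_bijective_closed i N x) (stalkPush_smul i N x)

theorem exists_test (Z : Set X) (hZr : Z ⊆ Set.range i.base) (y : X) (hy : closure {y} = Z) :
    ∃ N : X'.Modules, Coh.IsCoh N ∧ CohB1.support ((Scheme.Modules.pushforward i).obj N) ⊆ Z ∧
      Module.length (X.presheaf.stalk y)
        (((Scheme.Modules.pushforward i).obj N).presheaf.stalk y) = 1 := by
  have hyZ : y ∈ Z := hy ▸ subset_closure (Set.mem_singleton y)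
  obtain ⟨y', rfl⟩ := hZr hyZ
  let Z₀ : Closeds X' := ⟨closure {y'}, isClosed_closure⟩
  refine ⟨DevTest.A (Scheme.IdealSheafData.vanishingIdeal Z₀), DevTest.isCoh_A _, ?_, ?_⟩
  · rw [support_push, DevTest.support_A, Scheme.IdealSheafData.coe_support_vanishingIdeal]
    show i.base '' closure {y'} ⊆ Z
    rw [← i.isClosedEmbedding.closure_image_eq, Set.image_singleton, hy]
  · rw [length_push]
    exact DevTest.length_stalk_A Z₀ y' rfl

end Groth.Agent.Lib.Helper1.K0Loc
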