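import Mathlib
import Groth.Prelude
import Groth.Agent.Lib.Helper1.K0Loc1
import Groth.Agent.Lib.Helper17.DevEngine
import Groth.Agent.Lib.Helper17.DevKey
import Groth.Agent.Lib.Helper10.SerreK0

/-!
# Classes of coherent modules supported on a closed subscheme come from the subscheme
-/

set_option autoImplicit false
set_option linter.style.haveILetI false
universe u
open CategoryTheory CategoryTheory.Limits AlgebraicGeometry TopologicalSpace Opposite

namespace Groth.Agent.Lib.Helper1.K0Loc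

open Groth.Agent.Lib.Helper17 H10K0

section General

variable {A : Type*} [Category A] [Abelian A] {B : Type*} [Category B] [Abelian B]

theorem mapSub_clSub (F : A ⥤ B) [F.Additive] [PreservesFiniteLimits F] [PreservesFiniteColimits F]
    (P : ObjectProperty A) (Q : ObjectProperty B) (h : ∀ X, P X → Q (F.obj X)) (X : A) (hX : P X) :
    SGA6.mapSub F P Q h (KZero.clSub P X) = KZero.clSub Q (F.obj X) := by
  rw [clSub_of P hX, clSub_of Q (h X hX)]
  show QuotientAddGroup.map _ _ _ _ (QuotientAddGroup.mk _) = _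
  rw [QuotientAddGroup.map_mk, FreeAbelianGroup.map_of_apply]
  rfl

theorem clSub_iso' (P : ObjectProperty A) {X Y : A} (e : X ≅ Y) (hX : P X) (hY : P Y)
    (hC : P (cokernel e.hom)) : KZero.clSub P X = KZero.clSub P Y := by
  have h2 : KZero.clSub P Y = KZero.clSub P X + KZero.clSub P (cokernel e.hom) :=
    clSub_ses P _ (ses_of_iso e) hX hY hC
  rw [h2, clSub_isZero P (isZero_cokernel_of_epi e.hom) hC, add_zero]

end General

abbrev CohQ (X : Scheme.{u}) : ObjectProperty X.Modules := fun M : X.Modules => Coh.IsCoh M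

theorem clSub_coh_iso {X : Scheme.{u}} {M N : X.Modules} (e : M ≅ N) (hM : Coh.IsCoh M) :
    KZero.clSub (CohQ X) M = KZero.clSub (CohQ X) N :=
  clSub_iso' (CohQ X) e hM (DevBasic.isCoh_of_iso e hM)
    (DevBasic.isCoh_of_isZero (isZero_cokernel_of_epi e.hom))

/-- two-out-of-three etc. for membership of classes in a subgroup. -/
theorem mem_of_support {X : Scheme.{u}} [IsNoetherian X] (H : AddSubgroup (KZero.K0sub (CohQ X)))
    (Y' : Set X)
    (htest : ∀ (Z : Set X), IsClosed Z → IsIrreducible Z → Z ⊆ Y' → ∀ y : X, closure ({y} : Set X) = Z →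
      ∃ G : X.Modules, Coh.IsCoh G ∧ CohB1.support G ⊆ Z ∧
        Module.length (X.presheaf.stalk y) (G.presheaf.stalk y) = 1 ∧ KZero.clSub (CohQ X) G ∈ H)
    (M : X.Modules) (hM : Coh.IsCoh M) (hs : CohB1.support M ⊆ Y') :
    KZero.clSub (CohQ X) M ∈ H := by
  let P : X.Modules → Prop := fun M => KZero.clSub (CohQ X) M ∈ H
  have hPiso : ∀ M N : X.Modules, Nonempty (M ≅ N) → P M → P N := by
    rintro M N ⟨e⟩ hM
    by_cases hN : (CohQ X) N
    · have hM' : (CohQ X) M := DevBasic.isCoh_of_iso e.symm hN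
      show KZero.clSub (CohQ X) N ∈ H
      rw [← clSub_coh_iso e hM']
      exact hM
    · show KZero.clSub (CohQ X) N ∈ H
      unfold KZero.clSub
      rw [dif_neg hN]
      exact H.zero_mem
  have hP0 : ∀ M : X.Modules, IsZero M → P M := by
    intro M hz
    show KZero.clSub (CohQ X) M ∈ H
    rw [clSub_isZero (CohQ X) hz (DevBasic.isCoh_of_isZero hz)]
    exact H.zero_mem
  have h23 : ∀ S : ShortComplex X.Modules, S.ShortExact → Coh.IsCoh S.X₁ → Coh.IsCoh S.X₂ →
      Coh.IsCoh S.X₃ → CohB1.support S.X₂ ⊆ Y' →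
      (P S.X₁ → P S.X₂ → P S.X₃) ∧ (P S.X₁ → P S.X₃ → P S.X₂) ∧ (P S.X₂ → P S.X₃ → P S.X₁) := by
    intro S hS h1 h2 h3 _
    have he : KZero.clSub (CohQ X) S.X₂ = KZero.clSub (CohQ X) S.X₁ + KZero.clSub (CohQ X) S.X₃ :=
      clSub_ses (CohQ X) S hS h1 h2 h3
    refine ⟨fun p1 p2 => ?_, fun p1 p3 => ?_, fun p2 p3 => ?_⟩
    · show KZero.clSub (CohQ X) S.X₃ ∈ H
      have : KZero.clSub (CohQ X) S.X₃ = KZero.clSub (CohQ X) S.X₂ - KZero.clSub (CohQ X) S.X₁ := by rw [he]; abel
      rw [this]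
      exact H.sub_mem p2 p1
    · show KZero.clSub (CohQ X) S.X₂ ∈ H
      rw [he]
      exact H.add_mem p1 p3
    · show KZero.clSub (CohQ X) S.X₁ ∈ H
      have : KZero.clSub (CohQ X) S.X₁ = KZero.clSub (CohQ X) S.X₂ - KZero.clSub (CohQ X) S.X₃ := by rw [he]; abel
      rw [this]
      exact H.sub_mem p2 p3
  refine DevEngine.engine X P hPiso Y' hP0
    (fun S hS h1 h2 h3 hs' p1 p3 => (h23 S hS h1 h2 h3 hs').2.1 p1 p3) ?_ M hM hs
  intro Z hZ hirr hZY IH G hG hGs _
  obtain ⟨y, hy⟩ := QuasiSober.sober hirr hZ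
  have hy' : closure {y} = Z := hy
  obtain ⟨T, hT, hTs, hTl, hTH⟩ := htest Z hZ hirr hZY y hy'
  have hyZ : y ∈ Z := hy' ▸ subset_closure (Set.mem_singleton y)
  have hgenZ : ∀ x ∈ Z, y ⤳ x := fun x hx => specializes_iff_mem_closure.mpr (hy'.symm ▸ hx)
  refine DevKey.key23 P Y' h23 Z hZY y hgenZ ?_ T hT hTs hTH hTl G hG hGs
  intro F' hF' hs' hyF'
  exact IH F' hF' hs' (fun heq => hyF' (heq ▸ hyZ))

theorem hall {X X' : Scheme.{u}} [IsNoetherian X] (i : X' ⟶ X) [IsClosedImmersion i]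
    [(Scheme.Modules.pushforward i).Additive] [PreservesFiniteLimits (Scheme.Modules.pushforward i)]
    [PreservesFiniteColimits (Scheme.Modules.pushforward i)]
    (hi : ∀ M : X'.Modules, Coh.IsCoh M → Coh.IsCoh ((Scheme.Modules.pushforward i).obj M))
    (M : X.Modules) (hM : Coh.IsCoh M) (hs : CohB1.support M ⊆ Set.range i.base) :
    KZero.clSub (CohQ X) M ∈
      (SGA6.mapSub (Scheme.Modules.pushforward i) (CohQ X') (CohQ X) hi).range := by
  refine mem_of_support _ (Set.range i.base) ?_ M hM hs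
  intro Z _ _ hZr y hy
  obtain ⟨N, hN, hNs, hNl⟩ := exists_test i Z hZr y hy
  refine ⟨(Scheme.Modules.pushforward i).obj N, hi N hN, hNs, hNl, ?_⟩
  exact ⟨KZero.clSub (CohQ X') N, mapSub_clSub _ _ _ hi N hN⟩

end Groth.Agent.Lib.Helper1.K0Loc
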