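import Mathlib
import Groth.Prelude
import Groth.Agent.Lib.Helper1.K0Loc2
import Groth.Agent.Lib.Helper1.GabLoc5
import Groth.Agent.Lib.Helper3.QCProps

/-!
# K_0 of the abelian category of coherent modules versus `K0sub`, and the localization sequence
for an open subscheme
-/

set_option autoImplicit false
set_option linter.style.haveILetI false
universe u
open CategoryTheory CategoryTheory.Limits AlgebraicGeometry TopologicalSpace Opposite
open Scheme.Modules

namespace Groth.Agent.Lib.Helper1.K0Loc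

open Groth.Agent.Lib.Helper17 H10K0 Groth.Agent.Lib.Helper1.GabLoc KZero

section Compare

variable (X : Scheme.{u}) [IsLocallyNoetherian X]

noncomputable def betaAux : FreeAbelianGroup (CohP X).FullSubcategory →+ K0sub (CohQ X) :=
  FreeAbelianGroup.lift (fun A => clSub (CohQ X) A.obj)

theorem relAb_le_beta : relAb (CohP X).FullSubcategory ≤ (betaAux X).ker := by
  refine (AddSubgroup.closure_le _).2 ?_
  rintro x ⟨S, hS, rfl⟩
  rw [SetLike.mem_coe, AddMonoidHom.mem_ker]
  simp only [betaAux, map_sub, FreeAbelianGroup.lift_apply_of]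
  have hS' : (S.map (CohP X).ι).ShortExact := hS.map_of_exact (CohP X).ι
  have h' : clSub (CohQ X) S.X₂.obj = clSub (CohQ X) S.X₁.obj + clSub (CohQ X) S.X₃.obj :=
    clSub_ses (CohQ X) (S.map (CohP X).ι) hS' S.X₁.property S.X₂.property S.X₃.property
  rw [h']
  abel

noncomputable def beta : K0 (CohP X).FullSubcategory →+ K0sub (CohQ X) :=
  QuotientAddGroup.lift (relAb _) (betaAux X) (relAb_le_beta X)

theorem beta_cl (A : (CohP X).FullSubcategory) : beta X (cl A) = clSub (CohQ X) A.obj := by
  show QuotientAddGroup.lift _ (betaAux X) (relAb_le_beta X) (QuotientAddGroup.mk _) = _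
  rw [QuotientAddGroup.lift_mk]
  exact FreeAbelianGroup.lift_apply_of _ _

noncomputable def alphaAux : FreeAbelianGroup (Subtype (CohQ X)) →+ K0 (CohP X).FullSubcategory :=
  FreeAbelianGroup.lift (fun M => cl (⟨M.1, M.2⟩ : (CohP X).FullSubcategory))

theorem relSub_le_alpha : relSub (CohQ X) ≤ (alphaAux X).ker := by
  refine (AddSubgroup.closure_le _).2 ?_
  rintro x ⟨S, h₁, h₂, h₃, hS, rfl⟩
  rw [SetLike.mem_coe, AddMonoidHom.mem_ker]
  simp only [alphaAux, map_sub, FreeAbelianGroup.lift_apply_of]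
  let S' : ShortComplex (CohP X).FullSubcategory :=
    ShortComplex.mk (X₁ := ⟨S.X₁, h₁⟩) (X₂ := ⟨S.X₂, h₂⟩) (X₃ := ⟨S.X₃, h₃⟩)
      (ObjectProperty.homMk S.f) (ObjectProperty.homMk S.g)
      (by apply ObjectProperty.hom_ext; exact S.zero)
  have hmap : (S'.map (CohP X).ι).ShortExact := hS
  have hS' : S'.ShortExact := by
    haveI : Mono ((CohP X).ι.map S'.f) := hmap.mono_f
    haveI : Epi ((CohP X).ι.map S'.g) := hmap.epi_g
    haveI : Mono S'.f := (CohP X).ι.mono_of_mono_map inferInstance
    haveI : Epi S'.g := (CohP X).ι.epi_of_epi_map inferInstance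
    exact ShortComplex.ShortExact.mk ((ShortComplex.exact_map_iff_of_faithful S' (CohP X).ι).1 hmap.exact)
  have h' := cl_ses S' hS'
  show cl S'.X₂ - cl S'.X₁ - cl S'.X₃ = 0
  rw [h']
  abel

noncomputable def alpha : K0sub (CohQ X) →+ K0 (CohP X).FullSubcategory :=
  QuotientAddGroup.lift (relSub _) (alphaAux X) (relSub_le_alpha X)

theorem alpha_clSub (M : X.Modules) (hM : Coh.IsCoh M) :
    alpha X (clSub (CohQ X) M) = cl (⟨M, hM⟩ : (CohP X).FullSubcategory) := by
  rw [clSub_of (CohQ X) hM]
  show QuotientAddGroup.lift _ (alphaAux X) (relSub_le_alpha X) (QuotientAddGroup.mk _) = _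
  rw [QuotientAddGroup.lift_mk]
  exact FreeAbelianGroup.lift_apply_of _ _

theorem beta_alpha (x : K0sub (CohQ X)) : beta X (alpha X x) = x := by
  refine K0sub_induction (motive := fun x => beta X (alpha X x) = x) (CohQ X) x ?_ ?_ ?_ ?_
  · simp
  · intro M hM
    rw [alpha_clSub X M hM, beta_cl]
  · intro M hM
    rw [map_neg, map_neg, alpha_clSub X M hM, beta_cl]
  · intro a b ha hb
    rw [map_add, map_add, ha, hb]

end Compare

section Opens

variable (X : Scheme.{u}) [IsNoetherian X] (V : X.Opens)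
  (hres : ∀ M : X.Modules, Coh.IsCoh M → Coh.IsCoh ((restrictFunctor V.ι).obj M))

instance : (L1 X V hres).Additive :=
  haveI : (L1 X V hres ⋙ (CohP (V : Scheme.{u})).ι).Additive :=
    inferInstanceAs ((CohP X).ι ⋙ restrictFunctor V.ι).Additive
  Functor.additive_of_comp_faithful (L1 X V hres) (CohP (V : Scheme.{u})).ι

instance : PreservesFiniteLimits (L1 X V hres) := by
  haveI : PreservesFiniteLimits (L1 X V hres ⋙ (CohP (V : Scheme.{u})).ι) :=
    inferInstanceAs (PreservesFiniteLimits ((CohP X).ι ⋙ restrictFunctor V.ι))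
  exact ⟨fun J _ _ => preservesLimitsOfShape_of_reflects_of_preserves (L1 X V hres)
    (CohP (V : Scheme.{u})).ι⟩

instance : PreservesFiniteColimits (L1 X V hres) := by
  haveI : PreservesFiniteColimits (L1 X V hres ⋙ (CohP (V : Scheme.{u})).ι) :=
    inferInstanceAs (PreservesFiniteColimits ((CohP X).ι ⋙ restrictFunctor V.ι))
  exact ⟨fun J _ _ => preservesColimitsOfShape_of_reflects_of_preserves (L1 X V hres)
    (CohP (V : Scheme.{u})).ι⟩

theorem isLocalization_L1 : (L1 X V hres).IsLocalization (Q X V).isoModSerre := by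
  have hW : (fun (A B : (CohP X).FullSubcategory) (f : A ⟶ B) =>
        CohB1.support (kernel f.hom) ⊆ (↑V : Set X)ᶜ ∧
          CohB1.support (cokernel f.hom) ⊆ (↑V : Set X)ᶜ) = (Q X V).isoModSerre := by
    funext A B f
    exact propext (isoModSerre_iff V f).symm
  have := key13987 X V hres
  rwa [hW] at this

theorem naturality (x : K0sub (CohQ X)) :
    lam (L1 X V hres) (alpha X x) =
      alpha (V : Scheme.{u}) (SGA6.mapSub (restrictFunctor V.ι) (CohQ X) (CohQ (V : Scheme.{u})) hres x) := by
  refine K0sub_induction (motive := fun x => lam (L1 X V hres) (alpha X x) =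
      alpha (V : Scheme.{u}) (SGA6.mapSub (restrictFunctor V.ι) (CohQ X) (CohQ (V : Scheme.{u})) hres x))
    (CohQ X) x ?_ ?_ ?_ ?_
  · simp
  · intro M hM
    rw [alpha_clSub X M hM, lam_cl, mapSub_clSub _ _ _ hres M hM, alpha_clSub _ _ (hres M hM)]
    rfl
  · intro M hM
    rw [map_neg, map_neg, map_neg, map_neg, alpha_clSub X M hM, lam_cl,
      mapSub_clSub _ _ _ hres M hM, alpha_clSub _ _ (hres M hM)]
    rfl
  · intro a b ha hb
    rw [map_add, map_add, map_add, map_add, ha, hb]

theorem main_opens {X' : Scheme.{u}} (i : X' ⟶ X) [IsClosedImmersion i]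
    (hV : (V : Set X) = (Set.range i.base)ᶜ)
    [(pushforward i).Additive] [PreservesFiniteLimits (pushforward i)]
    [PreservesFiniteColimits (pushforward i)]
    (hi : ∀ M : X'.Modules, Coh.IsCoh M → Coh.IsCoh ((pushforward i).obj M)) :
    Function.Surjective (SGA6.mapSub (restrictFunctor V.ι) (CohQ X) (CohQ (V : Scheme.{u})) hres) ∧
      (SGA6.mapSub (restrictFunctor V.ι) (CohQ X) (CohQ (V : Scheme.{u})) hres).ker =
        (SGA6.mapSub (pushforward i) (CohQ X') (CohQ X) hi).range := by
  haveI := isLocalization_L1 X V hres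
  haveI : (L1 X V hres).EssSurj := Localization.essSurj (L1 X V hres) (Q X V).isoModSerre
  have hVc : (V : Set X)ᶜ = Set.range i.base := by rw [hV, compl_compl]
  refine ⟨?_, le_antisymm ?_ ?_⟩
  · intro y
    refine K0sub_induction (motive := fun y => ∃ x, SGA6.mapSub (restrictFunctor V.ι) (CohQ X)
      (CohQ (V : Scheme.{u})) hres x = y) (CohQ (V : Scheme.{u})) y ⟨0, map_zero _⟩ ?_ ?_ ?_
    · intro N hN
      obtain ⟨M, ⟨e⟩⟩ := ess X V hres ⟨N, hN⟩
      refine ⟨clSub (CohQ X) M.obj, ?_⟩
      rw [mapSub_clSub _ _ _ hres M.obj M.property]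
      exact clSub_coh_iso ((CohP (V : Scheme.{u})).ι.mapIso e) (hres M.obj M.property)
    · intro N hN
      obtain ⟨M, ⟨e⟩⟩ := ess X V hres ⟨N, hN⟩
      refine ⟨- clSub (CohQ X) M.obj, ?_⟩
      rw [map_neg, mapSub_clSub _ _ _ hres M.obj M.property]
      exact congrArg _ (clSub_coh_iso ((CohP (V : Scheme.{u})).ι.mapIso e) (hres M.obj M.property))
    · rintro _ _ ⟨a, rfl⟩ ⟨b, rfl⟩
      exact ⟨a + b, map_add _ _ _⟩
  · intro x hx
    rw [AddMonoidHom.mem_ker] at hx
    have h1 : alpha X x ∈ (lam (L1 X V hres)).ker := by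
      rw [AddMonoidHom.mem_ker, naturality X V hres x, hx, map_zero]
    have h2 : alpha X x ∈ R (Q X V) := ker_lam_le (Q X V) (L1 X V hres) h1
    have h3 : ∀ z ∈ R (Q X V), beta X z ∈
        (SGA6.mapSub (pushforward i) (CohQ X') (CohQ X) hi).range := by
      intro z hz
      refine AddSubgroup.closure_induction (p := fun z _ => beta X z ∈
        (SGA6.mapSub (pushforward i) (CohQ X') (CohQ X) hi).range) ?_ ?_ ?_ ?_ hz
      · rintro _ ⟨A, hA, rfl⟩
        rw [beta_cl]
        exact hall i hi A.obj A.property (hVc ▸ hA)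
      · rw [map_zero]; exact AddSubgroup.zero_mem _
      · intro a b _ _ ha hb
        rw [map_add]; exact AddSubgroup.add_mem _ ha hb
      · intro a _ ha
        rw [map_neg]; exact AddSubgroup.neg_mem _ ha
    have h4 := h3 _ h2
    rwa [beta_alpha] at h4
  · rintro _ ⟨w, rfl⟩
    rw [AddMonoidHom.mem_ker]
    refine K0sub_induction (motive := fun w => SGA6.mapSub (restrictFunctor V.ι) (CohQ X)
      (CohQ (V : Scheme.{u})) hres (SGA6.mapSub (pushforward i) (CohQ X') (CohQ X) hi w) = 0)
      (CohQ X') w (by simp) ?_ ?_ ?_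
    · intro N hN
      have hA : Q X V ⟨(pushforward i).obj N, hi N hN⟩ := by
        show CohB1.support ((pushforward i).obj N) ⊆ (V : Set X)ᶜ
        rw [support_push, hVc]
        exact Set.image_subset_range _ _
      have h5 : cl (⟨(pushforward i).obj N, hi N hN⟩ : (CohP X).FullSubcategory) ∈
          (lam (L1 X V hres)).ker := R_le_ker (Q X V) (L1 X V hres) (cl_mem_R _ hA)
      rw [AddMonoidHom.mem_ker, ← alpha_clSub X _ (hi N hN), naturality X V hres] at h5
      have h6 := congrArg (beta (V : Scheme.{u})) h5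
      rw [beta_alpha, map_zero] at h6
      rw [mapSub_clSub _ _ _ hi N hN]
      exact h6
    · intro N hN
      have hA : Q X V ⟨(pushforward i).obj N, hi N hN⟩ := by
        show CohB1.support ((pushforward i).obj N) ⊆ (V : Set X)ᶜ
        rw [support_push, hVc]
        exact Set.image_subset_range _ _
      have h5 : cl (⟨(pushforward i).obj N, hi N hN⟩ : (CohP X).FullSubcategory) ∈
          (lam (L1 X V hres)).ker := R_le_ker (Q X V) (L1 X V hres) (cl_mem_R _ hA)
      rw [AddMonoidHom.mem_ker, ← alpha_clSub X _ (hi N hN), naturality X V hres] at h5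
      have h6 := congrArg (beta (V : Scheme.{u})) h5
      rw [beta_alpha, map_zero] at h6
      rw [map_neg, map_neg, mapSub_clSub _ _ _ hi N hN, h6, neg_zero]
    · intro a b ha hb
      rw [map_add, map_add, ha, hb, add_zero]

end Opens

end Groth.Agent.Lib.Helper1.K0Loc
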