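import Mathlib
import Groth.Prelude
import Groth.Agent.Lib.Helper1.K0Loc3

/-!
# The localization sequence `K_0(Coh X') → K_0(Coh X) → K_0(Coh U) → 0` for a general open immersion
-/

set_option autoImplicit false
set_option linter.style.haveILetI false
universe u
open CategoryTheory CategoryTheory.Limits AlgebraicGeometry TopologicalSpace Opposite
open Scheme.Modules

namespace Groth.Agent.Lib.Helper1.K0Loc

open Groth.Agent.Lib.Helper17 H10K0 Groth.Agent.Lib.Helper1.GabLoc KZero Groth.Agent.Lib.Helper3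

theorem K0sub_hom_ext {A : Type*} [Category A] [Abelian A] (P : ObjectProperty A)
    {G : Type*} [AddCommGroup G] (f g : K0sub P →+ G)
    (h : ∀ (X : A) (_ : P X), f (clSub P X) = g (clSub P X)) : f = g := by
  apply DFunLike.ext
  intro x
  refine K0sub_induction (motive := fun x => f x = g x) P x ?_ h ?_ ?_
  · rw [map_zero, map_zero]
  · intro X hX
    rw [map_neg, map_neg, h X hX]
  · intro a b ha hb
    rw [map_add, map_add, ha, hb]

theorem isCoh_restrict' {X Y : Scheme.{u}} (j : Y ⟶ X) [IsOpenImmersion j] (M : X.Modules)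
    (hM : Coh.IsCoh M) : Coh.IsCoh ((restrictFunctor j).obj M) := by
  haveI : M.IsQuasicoherent := hM.1
  haveI : M.IsFiniteType := hM.2
  exact ⟨Scheme.Modules.isQuasicoherent_restrictFunctor j M, QCProps.isFiniteType_restrict j M⟩

/-- `mapSub` of a composite of restrictions. -/
theorem mapSub_restrict_comp {X Y Z : Scheme.{u}} (f : X ⟶ Y) (g : Y ⟶ Z) (k : X ⟶ Z)
    [IsOpenImmersion f] [IsOpenImmersion g] [IsOpenImmersion k] (hk : f ≫ g = k)
    [PreservesFiniteLimits (restrictFunctor f)] [PreservesFiniteLimits (restrictFunctor g)]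
    [PreservesFiniteLimits (restrictFunctor k)]
    (hf : ∀ M : Y.Modules, Coh.IsCoh M → Coh.IsCoh ((restrictFunctor f).obj M))
    (hg : ∀ M : Z.Modules, Coh.IsCoh M → Coh.IsCoh ((restrictFunctor g).obj M))
    (hk' : ∀ M : Z.Modules, Coh.IsCoh M → Coh.IsCoh ((restrictFunctor k).obj M)) :
    (SGA6.mapSub (restrictFunctor f) (CohQ Y) (CohQ X) hf).comp
      (SGA6.mapSub (restrictFunctor g) (CohQ Z) (CohQ Y) hg) =
      SGA6.mapSub (restrictFunctor k) (CohQ Z) (CohQ X) hk' := by
  apply K0sub_hom_ext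
  intro M hM
  rw [AddMonoidHom.comp_apply, mapSub_clSub _ _ _ hg M hM, mapSub_clSub _ _ _ hf _ (hg M hM),
    mapSub_clSub _ _ _ hk' M hM]
  subst hk
  exact clSub_coh_iso ((restrictFunctorComp f g).app M).symm (hf _ (hg M hM))

theorem main {X X' U : Scheme.{u}} [IsNoetherian X] (i : X' ⟶ X) [IsClosedImmersion i]
    (j : U ⟶ X) [IsOpenImmersion j] (hU : Set.range j = (Set.range i)ᶜ)
    [(Scheme.Modules.pushforward i).Additive] [PreservesFiniteLimits (Scheme.Modules.pushforward i)]
    [PreservesFiniteColimits (Scheme.Modules.pushforward i)]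
    [PreservesFiniteLimits (Scheme.Modules.restrictFunctor j)]
    (hi : ∀ M : X'.Modules, Coh.IsCoh M → Coh.IsCoh ((Scheme.Modules.pushforward i).obj M))
    (hj : ∀ M : X.Modules, Coh.IsCoh M → Coh.IsCoh ((Scheme.Modules.restrictFunctor j).obj M)) :
    Function.Surjective (SGA6.mapSub (Scheme.Modules.restrictFunctor j)
        (fun M : (X).Modules => Coh.IsCoh M) (fun M : (U).Modules => Coh.IsCoh M) hj) ∧
      (SGA6.mapSub (Scheme.Modules.restrictFunctor j) (fun M : (X).Modules => Coh.IsCoh M)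
        (fun M : (U).Modules => Coh.IsCoh M) hj).ker =
        (SGA6.mapSub (Scheme.Modules.pushforward i) (fun M : (X').Modules => Coh.IsCoh M)
          (fun M : (X).Modules => Coh.IsCoh M) hi).range := by
  let V : X.Opens := j.opensRange
  let e : U ≅ (V : Scheme.{u}) := j.isoOpensRange
  have hV : (V : Set X) = (Set.range i.base)ᶜ := by
    rw [← hU]
    exact Scheme.Hom.coe_opensRange j
  have hres : ∀ M : X.Modules, Coh.IsCoh M → Coh.IsCoh ((restrictFunctor V.ι).obj M) :=
    fun M hM => isCoh_restrict' V.ι M hM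
  have he : ∀ M : (V : Scheme.{u}).Modules, Coh.IsCoh M →
      Coh.IsCoh ((restrictFunctor e.hom).obj M) := fun M hM => isCoh_restrict' e.hom M hM
  have he' : ∀ M : U.Modules, Coh.IsCoh M →
      Coh.IsCoh ((restrictFunctor e.inv).obj M) := fun M hM => isCoh_restrict' e.inv M hM
  have hid : ∀ M : U.Modules, Coh.IsCoh M →
      Coh.IsCoh ((restrictFunctor (𝟙 U)).obj M) := fun M hM => isCoh_restrict' (𝟙 U) M hM
  obtain ⟨hs, hk⟩ := main_opens X V hres i hV hi
  have I2 := mapSub_restrict_comp e.hom V.ι j (Scheme.Hom.isoOpensRange_hom_ι j) he hres hj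
  have I1 := mapSub_restrict_comp e.inv j V.ι (Scheme.Hom.isoOpensRange_inv_comp j) he' hj hres
  have I3 := mapSub_restrict_comp e.hom e.inv (𝟙 U) e.hom_inv_id he he' hid
  have hidm : ∀ y, SGA6.mapSub (restrictFunctor (𝟙 U)) (CohQ U) (CohQ U) hid y = y := by
    intro y
    refine K0sub_induction (motive := fun y =>
      SGA6.mapSub (restrictFunctor (𝟙 U)) (CohQ U) (CohQ U) hid y = y) (CohQ U) y ?_ ?_ ?_ ?_
    · rw [map_zero]
    · intro N hN
      rw [mapSub_clSub _ _ _ hid N hN]
      exact clSub_coh_iso (restrictFunctorId.app N) (hid N hN)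
    · intro N hN
      rw [map_neg, mapSub_clSub _ _ _ hid N hN]
      exact congrArg _ (clSub_coh_iso (restrictFunctorId.app N) (hid N hN))
    · intro a b ha hb
      rw [map_add, ha, hb]
  refine ⟨?_, ?_⟩
  · intro y
    obtain ⟨x, hx⟩ := hs (SGA6.mapSub (restrictFunctor e.inv) (CohQ U) (CohQ (V : Scheme.{u})) he' y)
    refine ⟨x, ?_⟩
    have h1 := DFunLike.congr_fun I2 x
    rw [AddMonoidHom.comp_apply, hx] at h1
    have h3 := DFunLike.congr_fun I3 y
    rw [AddMonoidHom.comp_apply, hidm] at h3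
    exact h1.symm.trans h3
  · rw [← hk]
    ext x
    rw [AddMonoidHom.mem_ker, AddMonoidHom.mem_ker]
    constructor
    · intro hx
      have h1 := DFunLike.congr_fun I1 x
      rw [AddMonoidHom.comp_apply] at h1
      rw [← h1]
      show SGA6.mapSub (restrictFunctor e.inv) (CohQ U) (CohQ (V : Scheme.{u})) he'
        (SGA6.mapSub (restrictFunctor j) (CohQ X) (CohQ U) hj x) = 0
      have hx' : SGA6.mapSub (restrictFunctor j) (CohQ X) (CohQ U) hj x = 0 := hx
      rw [hx', map_zero]
    · intro hx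
      have h1 := DFunLike.congr_fun I2 x
      rw [AddMonoidHom.comp_apply, hx, map_zero] at h1
      exact h1.symm

end Groth.Agent.Lib.Helper1.K0Loc
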