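import Mathlib
import Groth.Prelude
import Groth.Agent.Lib.Helper1.K0Dv2
import Groth.Agent.Lib.Helper1.K0Loc4
import Groth.Agent.Lib.Helper17.DevStep
import Groth.Agent.Lib.Helper17.DevNilp
import Groth.Agent.Lib.Helper13.ClImmPush

/-!
# Dévissage of `K0sub` along the powers of an ideal sheaf
-/

set_option autoImplicit false
set_option linter.style.haveILetI false
universe u
open CategoryTheory CategoryTheory.Limits AlgebraicGeometry TopologicalSpace Opposite KZero H10K0

namespace Groth.Agent.Lib.Helper1.K0Dv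

open Groth.Agent.Lib.Helper17 Groth.Agent.Lib.Helper17.DevBasic Groth.Agent.Lib.Helper3
  Groth.Agent.Lib.Helper1.K0Loc

variable {X : Scheme.{u}} (J : X.IdealSheafData)

/-- coherent modules killed by `J ^ k`. -/
def Bk (k : ℕ) : ObjectProperty X.Modules :=
  fun M => Coh.IsCoh M ∧ ClSub.KilledByIdeal (J ^ k) M

theorem pow_le_pow {k l : ℕ} (h : k ≤ l) : J ^ l ≤ J ^ k := by
  rw [Scheme.IdealSheafData.le_def]
  intro U
  rw [Scheme.IdealSheafData.ideal_pow, Scheme.IdealSheafData.ideal_pow]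
  exact Ideal.pow_le_pow_right h

theorem pow_le_self {k : ℕ} (h : k ≠ 0) : J ^ k ≤ J := by
  rw [Scheme.IdealSheafData.le_def]
  intro U
  rw [Scheme.IdealSheafData.ideal_pow]
  exact Ideal.pow_le_self h

theorem Bk_mono {k l : ℕ} (h : k ≤ l) (M : X.Modules) (hM : Bk J k M) : Bk J l M :=
  ⟨hM.1, DevNilp.killed_mono (pow_le_pow J h) hM.2⟩

theorem closed_Bk [IsLocallyNoetherian X] (k : ℕ) : Closed (Bk J k) where
  iso e h := ⟨isCoh_of_iso e h.1, killed_of_iso _ e h.2⟩
  zero M hz := ⟨isCoh_of_isZero hz, killed_of_isZero _ hz⟩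
  ker u hM hN := by
    haveI := hN.1.1
    exact ⟨isCoh_kernel u hM.1 hN.1.1, killed_of_mono _ (kernel.ι u) hM.2⟩
  coker {M N} u hM hN := by
    haveI := hM.1.1
    haveI := hN.1.1
    have hc : Coh.IsCoh (cokernel u) := isCoh_cokernel u hM.1.1 hN.1
    haveI := hc.1
    refine ⟨hc, killed_of_surjective _ (cokernel.π u) (fun U => ?_) hN.2⟩
    exact (QCExact.epi_iff_surjective_on_affines (cokernel.π u)).1 inferInstance U.1 U.2

/-- `q = i_* i^*` for `i` the closed immersion cut out by `J`. -/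
noncomputable abbrev qF : X.Modules ⥤ X.Modules :=
  Scheme.Modules.pullback J.subschemeι ⋙ Scheme.Modules.pushforward J.subschemeι

noncomputable abbrev etaF : 𝟭 X.Modules ⟶ qF J :=
  (Scheme.Modules.pullbackPushforwardAdjunction J.subschemeι).unit

instance : PreservesFiniteColimits (Scheme.Modules.pushforward J.subschemeι) := by
  haveI := Groth.Agent.Lib.Helper13.ClImmPush.preservesHomology_pushforward J.subschemeι
  exact (Scheme.Modules.pushforward J.subschemeι).preservesFiniteColimits_of_preservesHomology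

theorem injective_step [IsLocallyNoetherian X] (k : ℕ) (hk : k ≠ 0) :
    Function.Injective (SGA6.mapSub (𝟭 X.Modules) (Bk J k) (Bk J (k + 1))
      (Bk_mono J (Nat.le_succ k))) := by
  refine injective_mapSub_id (qF J) (etaF J) (closed_Bk J k) ?_ ?_ ?_ _
  · intro M hM
    haveI := hM.1.1
    exact DevStep.epi_proj J M
  · intro M hM
    haveI := hM.1.1
    exact ⟨isCoh_kernel (DevStep.proj J M) hM.1 inferInstance, DevStep.killed_kernel J M k hM.2⟩
  · intro M hM
    haveI := hM.1.1
    exact ⟨DevStep.isCoh_quot J M hM.1,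
      DevNilp.killed_mono (pow_le_self J hk) (DevStep.killed_quot J M)⟩

theorem mapSub_id_comp {P Q R : ObjectProperty X.Modules} (hPQ : ∀ M, P M → Q M)
    (hQR : ∀ M, Q M → R M) :
    (SGA6.mapSub (𝟭 X.Modules) Q R hQR).comp (SGA6.mapSub (𝟭 X.Modules) P Q hPQ) =
      SGA6.mapSub (𝟭 X.Modules) P R (fun M h => hQR M (hPQ M h)) := by
  apply K0sub_hom_ext
  intro M hM
  rw [AddMonoidHom.comp_apply, mapSub_clSub' _ _ _ hPQ M hM]
  have e1 := mapSub_clSub' (𝟭 X.Modules) Q R hQR M (hPQ M hM)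
  have e2 := mapSub_clSub' (𝟭 X.Modules) P R (fun M h => hQR M (hPQ M h)) M hM
  exact e1.trans e2.symm

theorem mapSub_id_self {P : ObjectProperty X.Modules} (h : ∀ M, P M → P M) (x : K0sub P) :
    SGA6.mapSub (𝟭 X.Modules) P P h x = x := by
  have : SGA6.mapSub (𝟭 X.Modules) P P h = AddMonoidHom.id _ := by
    apply K0sub_hom_ext
    intro M hM
    rw [mapSub_clSub' _ _ _ h M hM]
    rfl
  rw [this]
  rfl

theorem injective_chain [IsLocallyNoetherian X] (n : ℕ) :
    Function.Injective (SGA6.mapSub (𝟭 X.Modules) (Bk J 1) (Bk J (n + 1))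
      (Bk_mono J (Nat.succ_le_succ (Nat.zero_le n)))) := by
  induction n with
  | zero =>
    intro a b hab
    rwa [mapSub_id_self, mapSub_id_self] at hab
  | succ n ih =>
    have hcomp := mapSub_id_comp (P := Bk J 1) (Q := Bk J (n + 1)) (R := Bk J (n + 1 + 1))
      (Bk_mono J (Nat.succ_le_succ (Nat.zero_le n))) (Bk_mono J (Nat.le_succ (n + 1)))
    have hinj : Function.Injective ((SGA6.mapSub (𝟭 X.Modules) (Bk J (n + 1)) (Bk J (n + 1 + 1))
        (Bk_mono J (Nat.le_succ (n + 1)))).comp (SGA6.mapSub (𝟭 X.Modules) (Bk J 1) (Bk J (n + 1))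
        (Bk_mono J (Nat.succ_le_succ (Nat.zero_le n))))) := by
      rw [AddMonoidHom.coe_comp]
      exact (injective_step J (n + 1) (Nat.succ_ne_zero n)).comp ih
    rw [hcomp] at hinj
    exact hinj

end Groth.Agent.Lib.Helper1.K0Dv
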