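import Mathlib
import Groth.Prelude
import Groth.Agent.Lib.Helper1.K0Dv3
import Groth.Agent.Lib.Helper17.ClImmUnit
import Groth.Agent.Lib.Helper17.PbFinite
import Groth.Agent.Lib.Helper2.ClImm.FF

/-!
# `K_0(Coh X') → K_0(Coh X)` is bijective for a surjective closed immersion into a Noetherian scheme
-/

set_option autoImplicit false
set_option linter.style.haveILetI false
universe u
open CategoryTheory CategoryTheory.Limits AlgebraicGeometry TopologicalSpace Opposite KZero H10K0

namespace Groth.Agent.Lib.Helper1.K0Dv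

open Groth.Agent.Lib.Helper17 Groth.Agent.Lib.Helper17.DevBasic Groth.Agent.Lib.Helper3
  Groth.Agent.Lib.Helper1.K0Loc Groth.Agent.Lib.Helper3.InvGen

variable {X X' : Scheme.{u}} (i : X' ⟶ X) [IsClosedImmersion i]

theorem killed_push (N : X'.Modules) :
    ClSub.KilledByIdeal i.ker ((Scheme.Modules.pushforward i).obj N) := by
  rw [killed_iff]
  intro U a ha m
  have ha' : (i.app U.1).hom a = 0 := by
    rw [Scheme.Hom.ker_apply] at ha
    exact ha
  have h1 : a • m = (((i.app U.1).hom a) • (show Γ(N, i ⁻¹ᵁ U.1) from m) : Γ(N, i ⁻¹ᵁ U.1)) := rfl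
  rw [h1, ha', zero_smul]
  rfl

theorem exists_pow_killed_all [IsNoetherian X] (hsurj : Function.Surjective i.base) :
    ∃ n : ℕ, ∀ M : X.Modules, ClSub.KilledByIdeal (i.ker ^ (n + 1)) M := by
  have hO : Coh.IsCoh (Coh.structureModule X) := ⟨inferInstance, inferInstance⟩
  obtain ⟨n, hn⟩ := DevNilp.exists_pow_killed (Coh.structureModule X) hO ⊤ (Set.subset_univ _)
  have hle : i.ker ≤ Scheme.IdealSheafData.vanishingIdeal (⊤ : Closeds X) := by
    rw [← Scheme.IdealSheafData.le_support_iff_le_vanishingIdeal]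
    intro x _
    obtain ⟨x', rfl⟩ := hsurj x
    exact i.range_subset_ker_support ⟨x', rfl⟩
  have hle2 : i.ker ^ (n + 1) ≤ Scheme.IdealSheafData.vanishingIdeal (⊤ : Closeds X) ^ n := by
    refine (pow_le_pow i.ker (Nat.le_succ n)).trans ?_
    rw [Scheme.IdealSheafData.le_def]
    intro U
    rw [Scheme.IdealSheafData.ideal_pow, Scheme.IdealSheafData.ideal_pow]
    exact Ideal.pow_right_mono (hle U) n
  have hkO := DevNilp.killed_mono hle2 hn
  refine ⟨n, fun M => ?_⟩
  rw [killed_iff] at hkO ⊢
  intro U a ha m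
  have h0 : a • ofFun U.1 (1 : Γ(X, U.1)) = 0 := hkO U a ha (ofFun U.1 1)
  rw [smul_ofFun, mul_one] at h0
  have ha0 : a = 0 := ofFun_injective U.1 h0
  rw [ha0, zero_smul]

theorem main16236 [IsNoetherian X] [Surjective i]
    [(Scheme.Modules.pushforward i).Additive] [PreservesFiniteLimits (Scheme.Modules.pushforward i)]
    [PreservesFiniteColimits (Scheme.Modules.pushforward i)]
    (hi : ∀ M : X'.Modules, Coh.IsCoh M → Coh.IsCoh ((Scheme.Modules.pushforward i).obj M)) :
    Function.Bijective (SGA6.mapSub (Scheme.Modules.pushforward i)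
      (fun M : (X').Modules => Coh.IsCoh M) (fun M : (X).Modules => Coh.IsCoh M) hi) := by
  have hsurj : Function.Surjective i.base := i.surjective
  refine ⟨?_, ?_⟩
  · set J := i.ker with hJ
    obtain ⟨n, hn⟩ := exists_pow_killed_all i hsurj
    have hF1 : ∀ N : X'.Modules, CohQ X' N → Bk J 1 ((Scheme.Modules.pushforward i).obj N) :=
      fun N hN => ⟨hi N hN, by rw [pow_one]; exact killed_push i N⟩
    have hG : ∀ M : X.Modules, Bk J 1 M → CohQ X' ((Scheme.Modules.pullback i).obj M) := by
      intro M hM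
      haveI := hM.1.1
      haveI := hM.1.2
      exact ⟨PbStalk.isQuasicoherent_pullback i M, PbFinite.isFiniteType_pullback i M⟩
    have hunit : ∀ M : X.Modules, Bk J 1 M →
        IsIso ((Scheme.Modules.pullbackPushforwardAdjunction i).unit.app M) := by
      intro M hM
      haveI := hM.1.1
      rw [ClImmUnit.isIso_unit_iff]
      have h := hM.2
      rw [pow_one] at h
      exact h
    let e : ∀ M : X.Modules, Bk J 1 M →
        ((Scheme.Modules.pushforward i).obj ((Scheme.Modules.pullback i).obj M) ≅ M) :=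
      fun M hM => haveI := hunit M hM
        (asIso ((Scheme.Modules.pullbackPushforwardAdjunction i).unit.app M)).symm
    have inj₁ : Function.Injective (SGA6.mapSub (Scheme.Modules.pushforward i) (CohQ X') (Bk J 1) hF1) :=
      injective_mapSub_of_ff (Scheme.Modules.pushforward i) hF1
        (fun N hz => isCoh_of_isZero hz) (fun M => (Scheme.Modules.pullback i).obj M) hG e
    have inj₂ := injective_chain J n
    have h3 : ∀ M : X.Modules, Bk J (n + 1) M → CohQ X M := fun M h => h.1
    have h3' : ∀ M : X.Modules, CohQ X M → Bk J (n + 1) M := fun M h => ⟨h, hn M⟩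
    have inj₃ : Function.Injective (SGA6.mapSub (𝟭 X.Modules) (Bk J (n + 1)) (CohQ X) h3) := by
      have hleft : ∀ x, SGA6.mapSub (𝟭 X.Modules) (CohQ X) (Bk J (n + 1)) h3'
          (SGA6.mapSub (𝟭 X.Modules) (Bk J (n + 1)) (CohQ X) h3 x) = x := by
        intro x
        have := DFunLike.congr_fun (mapSub_id_comp h3 h3') x
        rw [AddMonoidHom.comp_apply, mapSub_id_self] at this
        exact this
      exact Function.LeftInverse.injective hleft
    have htot : SGA6.mapSub (Scheme.Modules.pushforward i) (CohQ X') (CohQ X) hi =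
        ((SGA6.mapSub (𝟭 X.Modules) (Bk J (n + 1)) (CohQ X) h3).comp
          (SGA6.mapSub (𝟭 X.Modules) (Bk J 1) (Bk J (n + 1))
            (Bk_mono J (Nat.succ_le_succ (Nat.zero_le n))))).comp
          (SGA6.mapSub (Scheme.Modules.pushforward i) (CohQ X') (Bk J 1) hF1) := by
      apply K0sub_hom_ext
      intro N hN
      rw [AddMonoidHom.comp_apply, AddMonoidHom.comp_apply, mapSub_clSub' _ _ _ hF1 N hN,
        mapSub_clSub' _ _ _ hi N hN]
      have e1 := mapSub_clSub' (𝟭 X.Modules) (Bk J 1) (Bk J (n + 1))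
        (Bk_mono J (Nat.succ_le_succ (Nat.zero_le n))) _ (hF1 N hN)
      rw [e1]
      have e2 := mapSub_clSub' (𝟭 X.Modules) (Bk J (n + 1)) (CohQ X) h3 _
        (Bk_mono J (Nat.succ_le_succ (Nat.zero_le n)) _ (hF1 N hN))
      exact e2.symm
    show Function.Injective (SGA6.mapSub (Scheme.Modules.pushforward i) (CohQ X') (CohQ X) hi)
    rw [htot, AddMonoidHom.coe_comp, AddMonoidHom.coe_comp]
    exact (inj₃.comp inj₂).comp inj₁
  · intro y
    refine K0sub_induction (motive := fun y => ∃ x, SGA6.mapSub (Scheme.Modules.pushforward i)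
      (CohQ X') (CohQ X) hi x = y) (CohQ X) y ⟨0, map_zero _⟩ ?_ ?_ ?_
    · intro M hM
      exact hall i hi M hM (fun x _ => hsurj x)
    · intro M hM
      obtain ⟨x, hx⟩ := hall i hi M hM (fun x _ => hsurj x)
      exact ⟨-x, by rw [map_neg, hx]⟩
    · rintro _ _ ⟨a, rfl⟩ ⟨b, rfl⟩
      exact ⟨a + b, map_add _ _ _⟩

end Groth.Agent.Lib.Helper1.K0Dv
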