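import Mathlib
import Groth.Prelude
import Groth.Agent.Lib.Helper13.RegK0
import Groth.Agent.Lib.Helper26.RegularSch
import Groth.Agent.Lib.Helper3.QProj
import Groth.Agent.Lib.Helper1.CohDimReg
import Groth.Agent.S2357
import Groth.Agent.S1109

/-!
# `K^0(X) ≅ K_0(X)` for a smooth quasi-projective scheme over a field (S14430)

Assembly of helper13's `RegK0.poincare_bijective` (regular Noetherian + enough locally frees) with the
resolution property of regular schemes with affine diagonal (landed S1109) and regularity of schemes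
smooth over a field (helper26 `RegularSch`).
-/

set_option autoImplicit false

universe u

open CategoryTheory CategoryTheory.Limits AlgebraicGeometry

namespace Groth.Agent.Lib.Helper1.K0Smooth

theorem main (k : Type u) [Field k] (N : ℕ)
    (X : Scheme.{u}) [X.Over (Spec (CommRingCat.of k))] [Smooth (X ↘ Spec (CommRingCat.of k))]
    (ι : X ⟶ CohB1.ProjSpace N k) [IsImmersion ι]
    (hι : ι ≫ CohB1.ProjSpace.toSpec N k = X ↘ Spec (CommRingCat.of k)) :
    ∃ α : KZero.K0sub (fun M : X.Modules => FlatMod.IsFinLocFree M) →+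
        KZero.K0sub (fun M : X.Modules => Coh.IsCoh M),
      (∀ E : X.Modules, FlatMod.IsFinLocFree E →
        α (KZero.clSub (fun M : X.Modules => FlatMod.IsFinLocFree M) E) =
          KZero.clSub (fun M : X.Modules => Coh.IsCoh M) E) ∧
      Function.Bijective α := by
  haveI : IsProper (CohB1.ProjSpace.toSpec N k) := Groth.Agent.Lib.Helper3.QProj.isProper_toSpec k N
  haveI : IsNoetherian (CohB1.ProjSpace N k) := Groth.Agent.S2357.result (CohB1.polyGrading N k)
  haveI : IsSeparated (X ↘ Spec (CommRingCat.of k)) := by rw [← hι]; infer_instance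
  haveI : LocallyOfFiniteType (X ↘ Spec (CommRingCat.of k)) := inferInstance
  haveI : IsLocallyNoetherian X :=
    LocallyOfFiniteType.isLocallyNoetherian (X ↘ Spec (CommRingCat.of k))
  haveI : CompactSpace X := by
    haveI : TopologicalSpace.NoetherianSpace (CohB1.ProjSpace N k) := inferInstance
    haveI : TopologicalSpace.NoetherianSpace X :=
      ι.isEmbedding.isInducing.noetherianSpace
    exact TopologicalSpace.NoetherianSpace.compactSpace X
  haveI : IsNoetherian X := {}
  have hreg : ∀ x : X, IsRegularLocalRing (X.presheaf.stalk x) := fun x =>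
    Groth.Agent.Lib.Helper26.RegularSch.isRegularLocalRing_stalk_of_smooth_field k
      (X ↘ Spec (CommRingCat.of k)) x
  have hres : PerfAux.HasResolutionProperty X :=
    Groth.Agent.S1109.result X hreg (Groth.Agent.Lib.Helper1.CohDimReg.isAffineOpen_inf k X)
  have hX : KRR.HasEnoughLocFree X := fun F hF => hres F hF.1 hF.2
  have h : ∀ M : X.Modules, FlatMod.IsFinLocFree M → Coh.IsCoh M := fun M hM =>
    Groth.Agent.Lib.Helper1.CohDimReg.isCoh_of_isFinLocFree hM
  refine ⟨SGA6.mapSub (𝟭 X.Modules) (KRR.vbP X) (fun M : X.Modules => Coh.IsCoh M) h, ?_,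
    Groth.Agent.Lib.Helper13.RegK0.poincare_bijective X hreg hX h⟩
  intro E hE
  rw [KZero.clSub, KZero.clSub, dif_pos hE, dif_pos (h E hE)]
  rfl

end Groth.Agent.Lib.Helper1.K0Smooth
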