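import Mathlib
import Groth.Agent.Lib.Helper1.KoszulConcat
import Groth.Agent.Lib.Helper14.ConeLES
import Groth.Agent.Lib.Helper4.Koszul

set_option autoImplicit false
set_option linter.style.haveILetI false
set_option linter.unusedSimpArgs false
universe u
open CategoryTheory CategoryTheory.Limits CochainComplex HomComplex

namespace Groth.Agent.Lib.Helper1.KoszulSwap

variable {A : Type u} [CommRing A] (a b : A) (X : CochainComplex (ModuleCat.{u} A) ℤ)

/-- the components of the swap `T_a T_b X ⟶ T_b T_a X` -/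
noncomputable def swapF (n n₁ n₂ : ℤ) (h₁ : n + 1 = n₁) (h₂ : n₁ + 1 = n₂) :
    (mappingCone (a • 𝟙 (mappingCone (b • 𝟙 X)))).X n ⟶
      (mappingCone (b • 𝟙 (mappingCone (a • 𝟙 X)))).X n :=
  - ((mappingCone.fst (a • 𝟙 (mappingCone (b • 𝟙 X)))).1.v n n₁ h₁ ≫
      (mappingCone.fst (b • 𝟙 X)).1.v n₁ n₂ h₂ ≫
      (mappingCone.inl (a • 𝟙 X)).v n₂ n₁ (by omega) ≫
      (mappingCone.inl (b • 𝟙 (mappingCone (a • 𝟙 X)))).v n₁ n (by omega))
  + ((mappingCone.snd (a • 𝟙 (mappingCone (b • 𝟙 X)))).v n n (add_zero n) ≫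
      (mappingCone.fst (b • 𝟙 X)).1.v n n₁ h₁ ≫
      (mappingCone.inr (a • 𝟙 X)).f n₁ ≫
      (mappingCone.inl (b • 𝟙 (mappingCone (a • 𝟙 X)))).v n₁ n (by omega))
  + ((mappingCone.fst (a • 𝟙 (mappingCone (b • 𝟙 X)))).1.v n n₁ h₁ ≫
      (mappingCone.snd (b • 𝟙 X)).v n₁ n₁ (add_zero n₁) ≫
      (mappingCone.inl (a • 𝟙 X)).v n₁ n (by omega) ≫
      (mappingCone.inr (b • 𝟙 (mappingCone (a • 𝟙 X)))).f n)
  + ((mappingCone.snd (a • 𝟙 (mappingCone (b • 𝟙 X)))).v n n (add_zero n) ≫
      (mappingCone.snd (b • 𝟙 X)).v n n (add_zero n) ≫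
      (mappingCone.inr (a • 𝟙 X)).f n ≫
      (mappingCone.inr (b • 𝟙 (mappingCone (a • 𝟙 X)))).f n)

@[reassoc]
lemma swapF_fst_fst (n n₁ n₂ : ℤ) (h₁ : n + 1 = n₁) (h₂ : n₁ + 1 = n₂) :
    swapF a b X n n₁ n₂ h₁ h₂ ≫ (mappingCone.fst (b • 𝟙 (mappingCone (a • 𝟙 X)))).1.v n n₁ h₁ ≫
      (mappingCone.fst (a • 𝟙 X)).1.v n₁ n₂ h₂ =
    - ((mappingCone.fst (a • 𝟙 (mappingCone (b • 𝟙 X)))).1.v n n₁ h₁ ≫
      (mappingCone.fst (b • 𝟙 X)).1.v n₁ n₂ h₂) := by
  simp [swapF]

@[reassoc]
lemma swapF_fst_snd (n n₁ n₂ : ℤ) (h₁ : n + 1 = n₁) (h₂ : n₁ + 1 = n₂) :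
    swapF a b X n n₁ n₂ h₁ h₂ ≫ (mappingCone.fst (b • 𝟙 (mappingCone (a • 𝟙 X)))).1.v n n₁ h₁ ≫
      (mappingCone.snd (a • 𝟙 X)).v n₁ n₁ (add_zero n₁) =
    (mappingCone.snd (a • 𝟙 (mappingCone (b • 𝟙 X)))).v n n (add_zero n) ≫
      (mappingCone.fst (b • 𝟙 X)).1.v n n₁ h₁ := by
  simp [swapF]

@[reassoc]
lemma swapF_snd_fst (n n₁ n₂ : ℤ) (h₁ : n + 1 = n₁) (h₂ : n₁ + 1 = n₂) :
    swapF a b X n n₁ n₂ h₁ h₂ ≫ (mappingCone.snd (b • 𝟙 (mappingCone (a • 𝟙 X)))).v n n (add_zero n) ≫
      (mappingCone.fst (a • 𝟙 X)).1.v n n₁ h₁ =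
    (mappingCone.fst (a • 𝟙 (mappingCone (b • 𝟙 X)))).1.v n n₁ h₁ ≫
      (mappingCone.snd (b • 𝟙 X)).v n₁ n₁ (add_zero n₁) := by
  simp [swapF]

@[reassoc]
lemma swapF_snd_snd (n n₁ n₂ : ℤ) (h₁ : n + 1 = n₁) (h₂ : n₁ + 1 = n₂) :
    swapF a b X n n₁ n₂ h₁ h₂ ≫ (mappingCone.snd (b • 𝟙 (mappingCone (a • 𝟙 X)))).v n n (add_zero n) ≫
      (mappingCone.snd (a • 𝟙 X)).v n n (add_zero n) =
    (mappingCone.snd (a • 𝟙 (mappingCone (b • 𝟙 X)))).v n n (add_zero n) ≫
      (mappingCone.snd (b • 𝟙 X)).v n n (add_zero n) := by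
  simp [swapF]

lemma swapF_d (n n₁ n₂ n₃ : ℤ) (h₁ : n + 1 = n₁) (h₂ : n₁ + 1 = n₂) (h₃ : n₂ + 1 = n₃) :
    swapF a b X n n₁ n₂ h₁ h₂ ≫ (mappingCone (b • 𝟙 (mappingCone (a • 𝟙 X)))).d n n₁ =
      (mappingCone (a • 𝟙 (mappingCone (b • 𝟙 X)))).d n n₁ ≫ swapF a b X n₁ n₂ n₃ h₂ h₃ := by
  have e1 := mappingCone.d_fst_v (b • 𝟙 (mappingCone (a • 𝟙 X))) n n₁ n₂ h₁ h₂
  have e2 := mappingCone.d_fst_v (a • 𝟙 X) n₁ n₂ n₃ h₂ h₃
  have e3 := mappingCone.d_fst_v (a • 𝟙 (mappingCone (b • 𝟙 X))) n n₁ n₂ h₁ h₂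
  have e4 := mappingCone.d_fst_v (b • 𝟙 X) n₁ n₂ n₃ h₂ h₃
  have f1 := mappingCone.d_snd_v (b • 𝟙 (mappingCone (a • 𝟙 X))) n n₁ h₁
  have f2 := mappingCone.d_snd_v (a • 𝟙 X) n₁ n₂ h₂
  have f2' := mappingCone.d_snd_v (a • 𝟙 X) n n₁ h₁
  have f3 := mappingCone.d_snd_v (a • 𝟙 (mappingCone (b • 𝟙 X))) n n₁ h₁
  have f4 := mappingCone.d_snd_v (b • 𝟙 X) n₁ n₂ h₂
  have f4' := mappingCone.d_snd_v (b • 𝟙 X) n n₁ h₁
  have e2' := mappingCone.d_fst_v (a • 𝟙 X) n n₁ n₂ h₁ h₂
  have e4' := mappingCone.d_fst_v (b • 𝟙 X) n n₁ n₂ h₁ h₂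
  apply mappingCone.ext_to _ n₁ n₂ h₂
  · apply mappingCone.ext_to _ n₂ n₃ h₃
    · simp only [Category.assoc, swapF_fst_fst, swapF_fst_fst_assoc, swapF_fst_snd,
        swapF_fst_snd_assoc, swapF_snd_fst, swapF_snd_fst_assoc, swapF_snd_snd,
        swapF_snd_snd_assoc, e1, e2, e3, e4, reassoc_of% e1, reassoc_of% e2, reassoc_of% e3,
        reassoc_of% e4, f1, f2, f3, f4, reassoc_of% f1, reassoc_of% f2, reassoc_of% f3,
        reassoc_of% f4, f2', f4', e2', e4', reassoc_of% f2', reassoc_of% f4', reassoc_of% e2',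
        reassoc_of% e4', Preadditive.comp_neg, Preadditive.neg_comp, Preadditive.comp_add,
        Preadditive.add_comp, neg_neg, HomologicalComplex.smul_f_apply, HomologicalComplex.id_f,
        Linear.smul_comp, Linear.comp_smul, Category.comp_id, Category.id_comp]
    · simp only [Category.assoc, swapF_fst_fst, swapF_fst_fst_assoc, swapF_fst_snd,
        swapF_fst_snd_assoc, swapF_snd_fst, swapF_snd_fst_assoc, swapF_snd_snd,
        swapF_snd_snd_assoc, e1, e2, e3, e4, reassoc_of% e1, reassoc_of% e2, reassoc_of% e3,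
        reassoc_of% e4, f1, f2, f3, f4, reassoc_of% f1, reassoc_of% f2, reassoc_of% f3,
        reassoc_of% f4, f2', f4', e2', e4', reassoc_of% f2', reassoc_of% f4', reassoc_of% e2',
        reassoc_of% e4', Preadditive.comp_neg, Preadditive.neg_comp, Preadditive.comp_add,
        Preadditive.add_comp, neg_neg, HomologicalComplex.smul_f_apply, HomologicalComplex.id_f,
        Linear.smul_comp, Linear.comp_smul, Category.comp_id, Category.id_comp]
      try simp only [smul_neg, neg_add_rev, neg_neg]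
      abel
  · apply mappingCone.ext_to _ n₁ n₂ h₂
    · simp only [Category.assoc, swapF_fst_fst, swapF_fst_fst_assoc, swapF_fst_snd,
        swapF_fst_snd_assoc, swapF_snd_fst, swapF_snd_fst_assoc, swapF_snd_snd,
        swapF_snd_snd_assoc, e1, e2, e3, e4, reassoc_of% e1, reassoc_of% e2, reassoc_of% e3,
        reassoc_of% e4, f1, f2, f3, f4, reassoc_of% f1, reassoc_of% f2, reassoc_of% f3,
        reassoc_of% f4, f2', f4', e2', e4', reassoc_of% f2', reassoc_of% f4', reassoc_of% e2',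
        reassoc_of% e4', Preadditive.comp_neg, Preadditive.neg_comp, Preadditive.comp_add,
        Preadditive.add_comp, neg_neg, HomologicalComplex.smul_f_apply, HomologicalComplex.id_f,
        Linear.smul_comp, Linear.comp_smul, Category.comp_id, Category.id_comp]
      try simp only [smul_neg, neg_add_rev, neg_neg]
      abel
    · simp only [Category.assoc, swapF_fst_fst, swapF_fst_fst_assoc, swapF_fst_snd,
        swapF_fst_snd_assoc, swapF_snd_fst, swapF_snd_fst_assoc, swapF_snd_snd,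
        swapF_snd_snd_assoc, e1, e2, e3, e4, reassoc_of% e1, reassoc_of% e2, reassoc_of% e3,
        reassoc_of% e4, f1, f2, f3, f4, reassoc_of% f1, reassoc_of% f2, reassoc_of% f3,
        reassoc_of% f4, f2', f4', e2', e4', reassoc_of% f2', reassoc_of% f4', reassoc_of% e2',
        reassoc_of% e4', Preadditive.comp_neg, Preadditive.neg_comp, Preadditive.comp_add,
        Preadditive.add_comp, neg_neg, HomologicalComplex.smul_f_apply, HomologicalComplex.id_f,
        Linear.smul_comp, Linear.comp_smul, Category.comp_id, Category.id_comp]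
      try simp only [smul_neg, neg_add_rev, neg_neg]
      abel

/-- the swap `T_a T_b X ⟶ T_b T_a X` -/
noncomputable def swapHom : mappingCone (a • 𝟙 (mappingCone (b • 𝟙 X))) ⟶
    mappingCone (b • 𝟙 (mappingCone (a • 𝟙 X))) where
  f n := swapF a b X n (n + 1) (n + 1 + 1) rfl rfl
  comm' i j hij := by
    have h : i + 1 = j := hij
    subst h
    exact swapF_d a b X i (i + 1) (i + 1 + 1) (i + 1 + 1 + 1) rfl rfl rfl

theorem swapHom_comp : swapHom a b X ≫ swapHom b a X = 𝟙 _ := by
  ext n : 1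
  change swapF a b X n (n + 1) (n + 1 + 1) rfl rfl ≫ swapF b a X n (n + 1) (n + 1 + 1) rfl rfl = 𝟙 _
  apply mappingCone.ext_to _ n (n + 1) rfl
  · apply mappingCone.ext_to _ (n + 1) (n + 1 + 1) rfl
    · simp only [Category.assoc, swapF_fst_fst, swapF_fst_fst_assoc, swapF_fst_snd,
        swapF_fst_snd_assoc, swapF_snd_fst, swapF_snd_fst_assoc, swapF_snd_snd,
        swapF_snd_snd_assoc, Preadditive.comp_neg, Preadditive.neg_comp, neg_neg,
        Category.id_comp]
    · simp only [Category.assoc, swapF_fst_fst, swapF_fst_fst_assoc, swapF_fst_snd,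
        swapF_fst_snd_assoc, swapF_snd_fst, swapF_snd_fst_assoc, swapF_snd_snd,
        swapF_snd_snd_assoc, Preadditive.comp_neg, Preadditive.neg_comp, neg_neg,
        Category.id_comp]
  · apply mappingCone.ext_to _ n (n + 1) rfl
    · simp only [Category.assoc, swapF_fst_fst, swapF_fst_fst_assoc, swapF_fst_snd,
        swapF_fst_snd_assoc, swapF_snd_fst, swapF_snd_fst_assoc, swapF_snd_snd,
        swapF_snd_snd_assoc, Preadditive.comp_neg, Preadditive.neg_comp, neg_neg,
        Category.id_comp]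
    · simp only [Category.assoc, swapF_fst_fst, swapF_fst_fst_assoc, swapF_fst_snd,
        swapF_fst_snd_assoc, swapF_snd_fst, swapF_snd_fst_assoc, swapF_snd_snd,
        swapF_snd_snd_assoc, Preadditive.comp_neg, Preadditive.neg_comp, neg_neg,
        Category.id_comp]

instance : IsIso (swapHom a b X) :=
  ⟨⟨swapHom b a X, swapHom_comp a b X, swapHom_comp b a X⟩⟩

section Perm

attribute [local instance] HasDerivedCategory.standard

open Groth.Agent.Lib.Helper1.KoszulConcat

/-- functoriality of the cone of a multiplication -/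
noncomputable def tMap (c : A) {Y Z : CochainComplex (ModuleCat.{u} A) ℤ} (ψ : Y ⟶ Z) :
    mappingCone (c • 𝟙 Y) ⟶ mappingCone (c • 𝟙 Z) :=
  mappingCone.map _ _ ψ ψ (smul_comm_hom c ψ)

instance (c : A) {Y Z : CochainComplex (ModuleCat.{u} A) ℤ} (ψ : Y ⟶ Z) [QuasiIso ψ] :
    QuasiIso (tMap c ψ) := quasiIso_map _ _ _ _ _

theorem exists_quasiIso_cone_iterCone (s : List A) (c : A)
    (Y : CochainComplex (ModuleCat.{u} A) ℤ) :
    ∃ φ : mappingCone (c • 𝟙 (iterCone s Y)) ⟶ iterCone s (mappingCone (c • 𝟙 Y)),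
      QuasiIso φ := by
  induction s with
  | nil =>
    change ∃ φ : mappingCone (c • 𝟙 Y) ⟶ mappingCone (c • 𝟙 Y), QuasiIso φ
    exact ⟨𝟙 _, inferInstance⟩
  | cons d s ih =>
    obtain ⟨φ, hφ⟩ := ih
    haveI := hφ
    change ∃ φ : mappingCone (c • 𝟙 (mappingCone (d • 𝟙 (iterCone s Y)))) ⟶
      mappingCone (d • 𝟙 (iterCone s (mappingCone (c • 𝟙 Y)))), QuasiIso φ
    exact ⟨swapHom c d (iterCone s Y) ≫ tMap d φ, inferInstance⟩

theorem exists_quasiIso_iterCone_comm (s t : List A) (Y : CochainComplex (ModuleCat.{u} A) ℤ) :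
    ∃ φ : iterCone s (iterCone t Y) ⟶ iterCone t (iterCone s Y), QuasiIso φ := by
  induction s with
  | nil =>
    change ∃ φ : iterCone t Y ⟶ iterCone t Y, QuasiIso φ
    exact ⟨𝟙 _, inferInstance⟩
  | cons c s ih =>
    obtain ⟨φ, hφ⟩ := ih
    haveI := hφ
    obtain ⟨ψ, hψ⟩ := exists_quasiIso_cone_iterCone t c (iterCone s Y)
    haveI := hψ
    change ∃ φ : mappingCone (c • 𝟙 (iterCone s (iterCone t Y))) ⟶
      iterCone t (mappingCone (c • 𝟙 (iterCone s Y))), QuasiIso φ
    exact ⟨tMap c φ ≫ ψ, inferInstance⟩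

theorem isZero_homology_koszul_append_comm (s t : List A) (n : ℤ) :
    IsZero ((Koszul.koszul A (s ++ t)).homology n) ↔
      IsZero ((Koszul.koszul A (t ++ s)).homology n) := by
  have h1 : Koszul.koszul A (s ++ t) = iterCone s (iterCone t (Koszul.koszul A [])) := by
    rw [koszul_append, ← koszul_append t [], List.append_nil]
  have h2 : Koszul.koszul A (t ++ s) = iterCone t (iterCone s (Koszul.koszul A [])) := by
    rw [koszul_append, ← koszul_append s [], List.append_nil]
  rw [h1, h2]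
  obtain ⟨φ, hφ⟩ := exists_quasiIso_iterCone_comm s t (Koszul.koszul A [])
  haveI := hφ
  exact isZero_homology_iff_of_quasiIso φ n

end Perm

section Claims

open Groth.Agent.Lib.Helper1.KoszulConcat Groth.Agent.Lib.Helper14.KoszulFun

theorem ofList_le_append_right (s l : List A) : Ideal.ofList l ≤ Ideal.ofList (s ++ l) := by
  apply Ideal.span_mono
  intro x hx
  exact List.mem_append_right s hx

theorem homologyMap_smul_eq_zero (l : List A) (c : A) (hc : c ∈ Ideal.ofList l) (n : ℤ) :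
    HomologicalComplex.homologyMap (c • 𝟙 (Koszul.koszul A l)) n = 0 := by
  obtain ⟨h⟩ : Nonempty (Homotopy (c • 𝟙 (Koszul.koszul A l)) 0) := by
    rw [koszul_eq_koszulCx]
    exact Groth.Agent.Lib.Helper4.koszulCx_smul_homotopic_zero (ModuleCat.of A A) l c hc
  rw [h.homologyMap_eq, HomologicalComplex.homologyMap_zero]

/-- Claim A: if the elements of `s` lie in the ideal of `l`, vanishing of the Koszul homology of
`s ++ l` in degree `n` forces that of `l` in degree `n + |s|` -/
theorem isZero_homology_of_append (s l : List A) (hs : ∀ c ∈ s, c ∈ Ideal.ofList l) :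
    ∀ n : ℤ, IsZero ((Koszul.koszul A (s ++ l)).homology n) →
      IsZero ((Koszul.koszul A l).homology (n + s.length)) := by
  induction s with
  | nil =>
    intro n h
    simpa using h
  | cons c s ih =>
    intro n hz
    have hc : c ∈ Ideal.ofList (s ++ l) :=
      ofList_le_append_right s l (hs c (List.mem_cons_self))
    have hφ := homologyMap_smul_eq_zero (s ++ l) c hc (n + 1)
    have h1 : IsZero ((Koszul.koszul A (s ++ l)).homology (n + 1)) := by
      by_contra hne
      exact Groth.Agent.Lib.Helper14.ConeLES.not_isZero_cone_of_homologyMap_eq_zero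
        (c • 𝟙 (Koszul.koszul A (s ++ l))) n (n + 1) rfl hφ hne hz
    have h2 := ih (fun d hd => hs d (List.mem_cons_of_mem c hd)) (n + 1) h1
    have h3 : n + ((c :: s).length : ℤ) = n + 1 + (s.length : ℤ) := by
      rw [List.length_cons]; push_cast; ring
    rw [h3]
    exact h2

/-- Claim B -/
theorem isZero_homology_append_of (s l : List A) :
    ∀ n : ℤ, (∀ j : ℕ, j ≤ s.length → IsZero ((Koszul.koszul A l).homology (n + j))) →
      IsZero ((Koszul.koszul A (s ++ l)).homology n) := by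
  induction s with
  | nil =>
    intro n h
    simpa using h 0 le_rfl
  | cons c s ih =>
    intro n h
    have hK : IsZero ((Koszul.koszul A (s ++ l)).homology (n + 1)) := by
      apply ih (n + 1)
      intro j hj
      have := h (j + 1) (by rw [List.length_cons]; omega)
      have e : n + ((j + 1 : ℕ) : ℤ) = n + 1 + (j : ℤ) := by push_cast; ring
      rwa [e] at this
    have hL : IsZero ((Koszul.koszul A (s ++ l)).homology n) := by
      apply ih n
      intro j hj
      exact h j (by rw [List.length_cons]; omega)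
    have hepi := Groth.Agent.Lib.Helper14.ConeLES.epi_homologyMap_inr
      (c • 𝟙 (Koszul.koszul A (s ++ l))) n (n + 1) rfl hK
    exact @IsZero.of_epi _ _ _ _ _ _ hepi hL

theorem mem_ofList_of_mem {l : List A} {c : A} (h : c ∈ l) : c ∈ Ideal.ofList l :=
  Ideal.subset_span h

/-- **Invariance**: a generating sequence of the same length as a Koszul-regular generating
sequence of the same ideal is Koszul-regular. -/
theorem isKoszulRegularSeq_of_ofList_eq (f g : List A) (hlen : f.length = g.length)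
    (hI : Ideal.ofList f = Ideal.ofList g) (hg : LCI.IsKoszulRegularSeq A g) :
    LCI.IsKoszulRegularSeq A f := by
  intro i hi
  rcases lt_or_gt_of_ne hi with hneg | hpos
  · -- negative degrees
    have h1 : IsZero ((Koszul.koszul A (f ++ g)).homology (i - f.length)) := by
      apply isZero_homology_append_of f g
      intro j hj
      apply hg
      have : (j : ℤ) ≤ f.length := by exact_mod_cast hj
      omega
    have h2 := (isZero_homology_koszul_append_comm f g _).mp h1
    have h3 := isZero_homology_of_append g f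
      (fun c hc => by rw [hI]; exact mem_ofList_of_mem hc) _ h2
    have e : i - (f.length : ℤ) + (g.length : ℤ) = i := by rw [hlen]; ring
    rwa [e] at h3
  · -- positive degrees
    have tr : ∀ (K K' : CochainComplex (ModuleCat.{u} A) ℤ) (_ : K = K'),
        IsZero (K'.homology i) → IsZero (K.homology i) := by
      intro K K' h; subst h; exact id
    apply tr _ _ (koszul_eq_koszulCx A f)
    haveI := isStrictlyLE_koszulCx (ModuleCat.of A A) f
    exact ((CohIII.koszulCx (ModuleCat.of A A) f).exactAt_of_isLE 0 i hpos).isZero_homology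

/-- a generating sequence of a proper ideal generated by a Koszul-regular sequence `g` has
length at least that of `g` -/
theorem length_le_of_ofList_eq (f g : List A) (hI : Ideal.ofList f = Ideal.ofList g)
    (hne : Ideal.ofList g ≠ ⊤) (hg : LCI.IsKoszulRegularSeq A g) : g.length ≤ f.length := by
  by_contra hlt
  push_neg at hlt
  have h1 : IsZero ((Koszul.koszul A (f ++ g)).homology (-(g.length : ℤ))) := by
    apply isZero_homology_append_of f g
    intro j hj
    apply hg
    have : (j : ℤ) ≤ f.length := by exact_mod_cast hj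
    have : (f.length : ℤ) < g.length := by exact_mod_cast hlt
    omega
  have h2 := (isZero_homology_koszul_append_comm f g _).mp h1
  have h3 := isZero_homology_of_append g f
    (fun c hc => by rw [hI]; exact mem_ofList_of_mem hc) _ h2
  rw [neg_add_cancel] at h3
  have tr : ∀ (K K' : CochainComplex (ModuleCat.{u} A) ℤ) (_ : K = K'),
      IsZero (K.homology 0) → IsZero (K'.homology 0) := by
    intro K K' h; subst h; exact id
  have h3' := tr _ _ (koszul_eq_koszulCx A f) h3
  obtain ⟨e⟩ := nonempty_h0_iso f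
  have h4 : IsZero (ModuleCat.of A (A ⧸ Ideal.ofList f)) := IsZero.of_iso h3' e
  have h5 : Subsingleton (A ⧸ Ideal.ofList f) := ModuleCat.subsingleton_of_isZero h4
  rw [Ideal.Quotient.subsingleton_iff] at h5
  exact hne (hI ▸ h5)

end Claims

end Groth.Agent.Lib.Helper1.KoszulSwap
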