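import Mathlib
import Groth.Agent.Lib.Helper1.KoszulSwap
import Groth.Agent.Lib.Helper1.RegComp
import Groth.Agent.Lib.Helper1.UTKoszul

set_option autoImplicit false
set_option linter.style.haveILetI false
universe u

namespace Groth.Agent.Lib.Helper1.KRegIdeal

open Groth.Agent.Lib.Helper1

section Basic

variable {R : Type u} [CommRing R]

/-- `K` is generated by a Koszul-regular sequence of length `N` after inverting `G` -/
def IsKRegNear (K : Ideal R) (G : R) (N : ℕ) : Prop :=
  ∃ (R' : Type u) (_ : CommRing R') (_ : Algebra R R') (_ : IsLocalization.Away G R')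
    (l : List R'), l.length = N ∧ LCI.IsKoszulRegularSeq R' l ∧
      K.map (algebraMap R R') = Ideal.ofList l

theorem IsKRegNear.forall_loc {K : Ideal R} {G : R} {N : ℕ} (h : IsKRegNear K G N)
    (S : Type u) [CommRing S] [Algebra R S] [IsLocalization.Away G S] :
    ∃ l : List S, l.length = N ∧ LCI.IsKoszulRegularSeq S l ∧
      K.map (algebraMap R S) = Ideal.ofList l := by
  obtain ⟨R', _, _, _, l, hlen, hl, hK⟩ := h
  let e : R' ≃ₐ[R] S := IsLocalization.algEquiv (Submonoid.powers G) R' S
  refine ⟨l.map e, by simpa using hlen,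
    RegComp.isKoszulRegularSeq_map_ringEquiv e.toRingEquiv l hl, ?_⟩
  have h1 : (algebraMap R S) = (e.toRingEquiv : R' →+* S).comp (algebraMap R R') := by
    ext r
    exact (e.commutes r).symm
  rw [h1, ← Ideal.map_map, hK]
  exact (RegComp.ofList_map _ l).symm

theorem isKoszulRegularIdeal_iff (K : Ideal R) :
    LCI.IsKoszulRegularIdeal K ↔
      ∀ p : PrimeSpectrum R, K ≤ p.asIdeal → ∃ G : R, G ∉ p.asIdeal ∧ ∃ N, IsKRegNear K G N := by
  constructor
  · intro h p hp
    obtain ⟨g, hg, l, hl, hK⟩ := h p hp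
    exact ⟨g, hg, l.length, Localization.Away g, inferInstance, inferInstance, inferInstance, l,
      rfl, hl, hK⟩
  · intro h p hp
    obtain ⟨G, hG, N, hN⟩ := h p hp
    refine ⟨G, hG, ?_⟩
    obtain ⟨l, -, hl, hK⟩ := hN.forall_loc (Localization.Away G)
    exact ⟨l, hl, hK⟩

/-- converse of `isKoszulRegularSeq_append_of_surjective` -/
theorem isKoszulRegularSeq_map_of_append {A B : Type u} [CommRing A] [CommRing B] (π : A →+* B)
    (hπ : Function.Surjective π)
    (l : List A) (hl : LCI.IsKoszulRegularSeq A l) (hker : RingHom.ker π = Ideal.ofList l)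
    (s : List A) (hs : LCI.IsKoszulRegularSeq A (s ++ l)) :
    LCI.IsKoszulRegularSeq B (s.map π) := by
  have h0 := KoszulConcat.isKoszulRegularSeq_quotient l s hl hs
  let e : (A ⧸ Ideal.ofList l) ≃+* B :=
    (Ideal.quotEquivOfEq hker.symm).trans (RingHom.quotientKerEquivOfSurjective hπ)
  have he : ∀ a : A, e (Ideal.Quotient.mk _ a) = π a := fun a => rfl
  have h1 := RegComp.isKoszulRegularSeq_map_ringEquiv e _ h0
  have h2 : (s.map (Ideal.Quotient.mk (Ideal.ofList l))).map e = s.map π := by
    rw [List.map_map]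
    apply List.map_congr_left
    intro a _
    exact he a
  rwa [h2] at h1

end Basic

section Exchange

variable {R : Type u} [CommRing R] {K : Ideal R}

/-- the list `L` of elements of `K` generates `K` after inverting `G` -/
def GenAway (K : Ideal R) (G : R) (L : List K) : Prop :=
  ∀ x : K, ∃ N : ℕ, G ^ N • x ∈ Submodule.span R {y | y ∈ L}

theorem GenAway.mul {G : R} {L : List K} (h : GenAway K G L) (c : R) : GenAway K (G * c) L := by
  intro x
  obtain ⟨N, hN⟩ := h x
  refine ⟨N, ?_⟩
  rw [mul_pow, mul_comm, mul_smul]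
  exact Submodule.smul_mem _ _ hN

/-- one exchange step -/
theorem exchange (q : Ideal R) [q.IsPrime] (hKq : K ≤ q) (G : R) (hG : G ∉ q) (E k : List K)
    (hgen : GenAway K G (E ++ k)) (e : K) (lam : K →ₗ[R] R ⧸ K) (hE : ∀ x ∈ E, lam x = 0)
    (he : lam e ∉ q.map (Ideal.Quotient.mk K)) :
    ∃ (c : R) (k' : List K), G * c ∉ q ∧ k'.length + 1 = k.length ∧
      GenAway K (G * c) (E ++ [e] ++ k') := by
  classical
  obtain ⟨N, hN⟩ := hgen e
  have hset : {y | y ∈ E ++ k} = {y | y ∈ E} ∪ Set.range k.get := by
    ext y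
    simp only [Set.mem_ofPred_eq, List.mem_append, Set.mem_union, Set.mem_range]
    rw [List.mem_iff_get (l := k)]
  rw [hset, Submodule.span_union, Submodule.mem_sup] at hN
  obtain ⟨y, hy, z, hz, hyz⟩ := hN
  obtain ⟨cf, hcf⟩ := (Submodule.mem_span_range_iff_exists_fun R).mp hz
  -- `lam y = 0`
  have hlamy : lam y = 0 := by
    have : Submodule.span R {y | y ∈ E} ≤ LinearMap.ker lam := by
      rw [Submodule.span_le]
      intro x hx
      exact hE x hx
    exact this hy
  -- some coefficient is outside `q`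
  have hq' : (q.map (Ideal.Quotient.mk K)).IsPrime :=
    Ideal.map_isPrime_of_surjective Ideal.Quotient.mk_surjective (by rwa [Ideal.mk_ker])
  have hex : ∃ j, cf j ∉ q := by
    by_contra hall
    push_neg at hall
    have h1 : lam (G ^ N • e) = ∑ j, cf j • lam (k.get j) := by
      rw [← hyz, map_add, hlamy, zero_add, ← hcf, map_sum]
      simp only [map_smul]
    have h2 : ∑ j, cf j • lam (k.get j) ∈ q.map (Ideal.Quotient.mk K) := by
      apply Ideal.sum_mem
      intro j _
      rw [Algebra.smul_def]
      exact Ideal.mul_mem_right _ _ (Ideal.mem_map_of_mem _ (hall j))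
    rw [← h1, map_smul, Algebra.smul_def] at h2
    rcases hq'.mem_or_mem h2 with h3 | h3
    · have h4 : G ^ N ∈ q := by
        have h5 : Ideal.Quotient.mk K (G ^ N) ∈ q.map (Ideal.Quotient.mk K) := h3
        obtain ⟨w, hw, hwe⟩ := (Ideal.mem_map_iff_of_surjective _ Ideal.Quotient.mk_surjective).mp h5
        have h6 : w - G ^ N ∈ K := Ideal.Quotient.eq.mp hwe
        have h7 : G ^ N = w - (w - G ^ N) := by ring
        rw [h7]
        exact Ideal.sub_mem _ hw (hKq h6)
      exact hG (Ideal.IsPrime.mem_of_pow_mem inferInstance N h4)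
    · exact he h3
  obtain ⟨j₀, hj₀⟩ := hex
  refine ⟨cf j₀, k.eraseIdx j₀, ?_, ?_, ?_⟩
  · intro h
    rcases Ideal.IsPrime.mem_or_mem inferInstance h with h | h
    · exact hG h
    · exact hj₀ h
  · rw [List.length_eraseIdx, if_pos j₀.2]
    have := j₀.2
    omega
  · -- generation
    set V := Submodule.span R {y | y ∈ E ++ [e] ++ k.eraseIdx j₀} with hV
    have hEV : ∀ x ∈ E, x ∈ V := fun x hx =>
      Submodule.subset_span (by simp [hx])
    have heV : e ∈ V := Submodule.subset_span (by simp)
    have hkV : ∀ j : Fin k.length, j ≠ j₀ → k.get j ∈ V := by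
      intro j hj
      apply Submodule.subset_span
      simp only [Set.mem_ofPred_eq, List.mem_append, List.mem_singleton]
      right
      rw [List.mem_eraseIdx_iff_getElem]
      refine ⟨j.1, j.2, ?_, rfl⟩
      intro h
      exact hj (Fin.ext h)
    have hyV : y ∈ V := by
      have : Submodule.span R {y | y ∈ E} ≤ V := by
        rw [Submodule.span_le]
        exact hEV
      exact this hy
    have hkey : cf j₀ • k.get j₀ ∈ V := by
      have h1 : cf j₀ • k.get j₀ = G ^ N • e - y - ∑ j ∈ Finset.univ.erase j₀, cf j • k.get j := by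
        rw [← hyz, ← hcf, ← Finset.add_sum_erase Finset.univ _ (Finset.mem_univ j₀)]
        abel
      rw [h1]
      refine Submodule.sub_mem _ (Submodule.sub_mem _ (Submodule.smul_mem _ _ heV) hyV) ?_
      apply Submodule.sum_mem
      intro j hj
      exact Submodule.smul_mem _ _ (hkV j (Finset.ne_of_mem_erase hj))
    have hsmul : ∀ w ∈ Submodule.span R {y | y ∈ E ++ k}, cf j₀ • w ∈ V := by
      intro w hw
      induction hw using Submodule.span_induction with
      | mem x hx =>
        simp only [Set.mem_ofPred_eq, List.mem_append] at hx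
        rcases hx with hx | hx
        · exact Submodule.smul_mem _ _ (hEV x hx)
        · obtain ⟨j, rfl⟩ := List.mem_iff_get.mp hx
          by_cases hj : j = j₀
          · rw [hj]; exact hkey
          · exact Submodule.smul_mem _ _ (hkV j hj)
      | zero => rw [smul_zero]; exact Submodule.zero_mem _
      | add a b _ _ ha hb => rw [smul_add]; exact Submodule.add_mem _ ha hb
      | smul r a _ ha => rw [smul_comm]; exact Submodule.smul_mem _ _ ha
    intro x
    obtain ⟨N₁, hN₁⟩ := hgen x
    refine ⟨N₁ + 1, ?_⟩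
    have h2 : (G * cf j₀) ^ (N₁ + 1) • x = (G * cf j₀ ^ N₁) • (cf j₀ • (G ^ N₁ • x)) := by
      rw [smul_smul, smul_smul]
      congr 1
      ring
    rw [h2]
    exact Submodule.smul_mem _ _ (hsmul _ hN₁)

end Exchange

end Groth.Agent.Lib.Helper1.KRegIdeal
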