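import Mathlib
import Groth.Agent.Lib.Helper1.KRegIdeal

set_option autoImplicit false
set_option linter.style.haveILetI false
universe u

namespace Groth.Agent.Lib.Helper1.KRegIdeal

open Groth.Agent.Lib.Helper1

section More

variable {R : Type u} [CommRing R] {K : Ideal R}

theorem IsKRegNear.mul {G : R} {N : ℕ} (h : IsKRegNear K G N) (c : R) :
    IsKRegNear K (G * c) N := by
  obtain ⟨R', _, _, _, l, hlen, hl, hK⟩ := h
  let R'' := Localization.Away (algebraMap R R' c)
  haveI : IsScalarTower R R' R'' := inferInstanceAs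
    (IsScalarTower R R' (Localization.Away (algebraMap R R' c)))
  haveI : IsLocalization.Away (G * c) R'' := IsLocalization.Away.mul' R' R'' G c
  haveI : Module.Flat R' R'' := IsLocalization.flat R'' (Submonoid.powers (algebraMap R R' c))
  refine ⟨R'', inferInstance, inferInstance, inferInstance, l.map (algebraMap R' R''),
    by simpa using hlen, KoszulConcat.isKoszulRegularSeq_map_of_flat l hl, ?_⟩
  rw [RegComp.ofList_map, ← hK, Ideal.map_map, ← IsScalarTower.algebraMap_eq]

/-- Steinitz exchange, iterated -/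
theorem exchange_all (q : Ideal R) [q.IsPrime] (hKq : K ≤ q) (G : R) (hG : G ∉ q) (k : List K)
    (hgen : GenAway K G k) :
    ∀ (n : ℕ) (e : Fin n → K) (lam : Fin n → (K →ₗ[R] R ⧸ K)),
      (∀ i j : Fin n, j < i → lam i (e j) = 0) →
      (∀ i, lam i (e i) ∉ q.map (Ideal.Quotient.mk K)) →
      ∃ (c : R) (k' : List K), G * c ∉ q ∧ k'.length + n = k.length ∧
        GenAway K (G * c) (List.ofFn e ++ k') := by
  intro n
  induction n with
  | zero =>
    intro e lam _ _
    refine ⟨1, k, by rwa [mul_one], rfl, ?_⟩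
    rw [mul_one]
    simpa using hgen
  | succ n ih =>
    intro e lam h0 h1
    obtain ⟨c, k', hc, hlen, hgen'⟩ := ih (fun i => e i.castSucc) (fun i => lam i.castSucc)
      (fun i j hij => h0 _ _ (by simpa using hij)) (fun i => h1 _)
    obtain ⟨c', k'', hc', hlen', hgen''⟩ := exchange q hKq (G * c) hc
      (List.ofFn fun i => e (Fin.castSucc i)) k' hgen' (e (Fin.last n)) (lam (Fin.last n))
      (by
        intro x hx
        rw [List.mem_ofFn] at hx
        obtain ⟨i, rfl⟩ := hx
        exact h0 _ _ (Fin.castSucc_lt_last i))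
      (h1 _)
    refine ⟨c * c', k'', by rwa [← mul_assoc], by omega, ?_⟩
    rw [← mul_assoc, List.ofFn_succ' e, List.concat_eq_append]
    exact hgen''

/-- translate `GenAway` to ideals -/
theorem genAway_iff (G : R) (L : List K) :
    GenAway K G L ↔ ∀ x ∈ K, ∃ N : ℕ, G ^ N * x ∈ Ideal.ofList (L.map Subtype.val) := by
  have hmap : Submodule.map (Submodule.subtype K) (Submodule.span R {y | y ∈ L}) =
      Ideal.ofList (L.map Subtype.val) := by
    rw [Submodule.map_span, Ideal.ofList, Ideal.span]
    congr 1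
    ext x
    simp
  have hiff : ∀ (x : K) (N : ℕ), G ^ N • x ∈ Submodule.span R {y | y ∈ L} ↔
      G ^ N * (x : R) ∈ Ideal.ofList (L.map Subtype.val) := by
    intro x N
    rw [← hmap, Submodule.mem_map]
    constructor
    · intro h
      exact ⟨_, h, rfl⟩
    · rintro ⟨y, hy, hyx⟩
      have : y = G ^ N • x := Subtype.ext hyx
      rwa [← this]
  constructor
  · intro h x hx
    obtain ⟨N, hN⟩ := h ⟨x, hx⟩
    exact ⟨N, (hiff _ N).mp hN⟩
  · intro h x
    obtain ⟨N, hN⟩ := h x x.2
    exact ⟨N, (hiff x N).mpr hN⟩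

/-- if `L` generates `K` away from `G`, then it generates `K` in every `R`-algebra in which `G`
is invertible -/
theorem GenAway.map_eq {G : R} {L : List K} (h : GenAway K G L) (S : Type u) [CommRing S]
    [Algebra R S] (hG : IsUnit (algebraMap R S G)) :
    K.map (algebraMap R S) = Ideal.ofList ((L.map Subtype.val).map (algebraMap R S)) := by
  rw [genAway_iff] at h
  rw [RegComp.ofList_map]
  apply le_antisymm
  · rw [Ideal.map_le_iff_le_comap]
    intro x hx
    obtain ⟨N, hN⟩ := h x hx
    rw [Ideal.mem_comap]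
    have h1 := Ideal.mem_map_of_mem (algebraMap R S) hN
    rw [map_mul, map_pow] at h1
    exact (Ideal.unit_mul_mem_iff_mem _ (hG.pow N)).mp h1
  · apply Ideal.map_mono
    rw [Ideal.ofList, Ideal.span_le]
    intro x hx
    simp only [List.mem_map, Set.mem_ofPred_eq] at hx
    obtain ⟨y, _, rfl⟩ := hx
    exact y.2

/-- if ideals `I ≤ K` agree after inverting `G`, then every element of `K` is in `I` up to a
power of `G` -/
theorem exists_pow_mul_mem_of_map_eq (G : R) (S : Type u) [CommRing S] [Algebra R S]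
    [IsLocalization.Away G S] (I : Ideal R) (x : R)
    (hx : algebraMap R S x ∈ I.map (algebraMap R S)) : ∃ N : ℕ, G ^ N * x ∈ I := by
  obtain ⟨⟨y, ⟨_, a, rfl⟩⟩, hy⟩ :=
    (IsLocalization.mem_map_algebraMap_iff (Submonoid.powers G) S).mp hx
  simp only at hy
  rw [← map_mul] at hy
  obtain ⟨⟨_, b, rfl⟩, hb⟩ := (IsLocalization.eq_iff_exists (Submonoid.powers G) S).mp hy
  simp only at hb
  refine ⟨b + a, ?_⟩
  have : G ^ (b + a) * x = G ^ b * (y : R) := by
    rw [← hb]; ring
  rw [this]
  exact Ideal.mul_mem_left _ _ y.2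

/-- Lemma N': generators in `K` -/
theorem IsKRegNear.exists_genAway {G : R} {N : ℕ} (h : IsKRegNear K G N) :
    ∃ k : List K, k.length = N ∧ GenAway K G k := by
  obtain ⟨S, _, _, _, l, hlen, -, hK⟩ := h
  -- choose lifts
  have hl : ∀ x ∈ l, x ∈ K.map (algebraMap R S) := by
    intro x hx
    rw [hK]
    exact Ideal.subset_span hx
  have key : ∀ l : List S, (∀ x ∈ l, x ∈ K.map (algebraMap R S)) →
      ∃ k : List K, k.length = l.length ∧
        Ideal.ofList ((k.map Subtype.val).map (algebraMap R S)) = Ideal.ofList l := by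
    intro l
    induction l with
    | nil => intro _; exact ⟨[], rfl, rfl⟩
    | cons a l ih =>
      intro h
      obtain ⟨k, hk, hkl⟩ := ih (fun x hx => h x (List.mem_cons_of_mem _ hx))
      obtain ⟨⟨y, ⟨_, n, rfl⟩⟩, hy⟩ :=
        (IsLocalization.mem_map_algebraMap_iff (Submonoid.powers G) S).mp (h a List.mem_cons_self)
      simp only at hy
      refine ⟨y :: k, by simp [hk], ?_⟩
      rw [List.map_cons, List.map_cons, Ideal.ofList_cons, Ideal.ofList_cons, hkl, ← hy]
      congr 1
      apply Ideal.span_singleton_mul_right_unit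
      rw [map_pow]
      exact (IsLocalization.Away.algebraMap_isUnit G).pow n
  obtain ⟨k, hk, hkl⟩ := key l hl
  refine ⟨k, hk.trans hlen, ?_⟩
  rw [genAway_iff]
  intro x hx
  apply exists_pow_mul_mem_of_map_eq G S
  rw [← RegComp.ofList_map, hkl, ← hK]
  exact Ideal.mem_map_of_mem _ hx

end More

end Groth.Agent.Lib.Helper1.KRegIdeal
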