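import Mathlib
import Groth.Agent.Lib.Helper1.KRegIdeal2

set_option autoImplicit false
set_option linter.style.haveILetI false
universe u

namespace Groth.Agent.Lib.Helper1.KRegIdeal

open Groth.Agent.Lib.Helper1

section Ext

variable {R P : Type u} [CommRing R] [CommRing P]

/-- localization data for a surjection -/
theorem loc_data (π : R →+* P) (hπ : Function.Surjective π) (G : R)
    (R'' P'' : Type u) [CommRing R''] [CommRing P''] [Algebra R R''] [Algebra P P'']
    [IsLocalization.Away G R''] [IsLocalization.Away (π G) P''] :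
    ∃ π'' : R'' →+* P'', (∀ a, π'' (algebraMap R R'' a) = algebraMap P P'' (π a)) ∧
      Function.Surjective π'' ∧ RingHom.ker π'' = (RingHom.ker π).map (algebraMap R R'') := by
  refine ⟨IsLocalization.Away.map R'' P'' π G, ?_, ?_⟩
  · intro a
    exact IsLocalization.map_eq _ a
  · exact UTKoszul.loc_surj_ker π hπ G _ (fun a => IsLocalization.map_eq _ a)

/-- Theorem E, local form -/
theorem IsKRegNear.comap (π : R →+* P) (hπ : Function.Surjective π) (es : List R)
    (hes : LCI.IsKoszulRegularSeq R es) (hker : RingHom.ker π = Ideal.ofList es) (I : Ideal P)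
    (G : R) (N : ℕ) (h : IsKRegNear I (π G) N) : IsKRegNear (I.comap π) G (N + es.length) := by
  let R'' := Localization.Away G
  let P'' := Localization.Away (π G)
  obtain ⟨π'', hcomm, hsurj, hker''⟩ := loc_data π hπ G R'' P''
  obtain ⟨l, hlen, hl, hI⟩ := h.forall_loc P''
  obtain ⟨s, rfl⟩ := List.map_surjective_iff.mpr hsurj l
  haveI : Module.Flat R R'' := IsLocalization.flat R'' (Submonoid.powers G)
  have hes'' := KoszulConcat.isKoszulRegularSeq_map_of_flat (B := R'') es hes
  rw [hker, ← RegComp.ofList_map] at hker''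
  have hreg := RegComp.isKoszulRegularSeq_append_of_surjective π'' hsurj _ hes'' hker'' s hl
  refine ⟨R'', inferInstance, inferInstance, inferInstance, s ++ es.map (algebraMap R R''), ?_,
    hreg, ?_⟩
  · rw [List.length_append, List.length_map, ← hlen, List.length_map]
  · have hcomp : π''.comp (algebraMap R R'') = (algebraMap P P'').comp π := RingHom.ext hcomm
    have hle : RingHom.ker π'' ≤ (I.comap π).map (algebraMap R R'') := by
      rw [hker'', RegComp.ofList_map, ← hker]
      exact Ideal.map_mono (Ideal.comap_mono bot_le)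
    have h1 : ((I.comap π).map (algebraMap R R'')).map π'' = (Ideal.ofList s).map π'' := by
      rw [Ideal.map_map, hcomp, ← Ideal.map_map, Ideal.map_comap_of_surjective π hπ, hI,
        RegComp.ofList_map]
    have h2 := congrArg (Ideal.comap π'') h1
    rw [Ideal.comap_map_of_surjective π'' hsurj, Ideal.comap_map_of_surjective π'' hsurj,
      ← RingHom.ker_eq_comap_bot, sup_eq_left.mpr hle, hker''] at h2
    rw [h2, Ideal.ofList_append]

/-- Theorem E: the preimage of a Koszul-regular ideal under a surjection with Koszul-regular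
kernel is Koszul-regular -/
theorem isKoszulRegularIdeal_comap (π : R →+* P) (hπ : Function.Surjective π) (es : List R)
    (hes : LCI.IsKoszulRegularSeq R es) (hker : RingHom.ker π = Ideal.ofList es) (I : Ideal P)
    (hI : LCI.IsKoszulRegularIdeal I) : LCI.IsKoszulRegularIdeal (I.comap π) := by
  rw [isKoszulRegularIdeal_iff] at hI ⊢
  intro q hq
  have hkq : RingHom.ker π ≤ q.asIdeal := le_trans (Ideal.comap_mono bot_le) hq
  haveI hp : (q.asIdeal.map π).IsPrime := Ideal.map_isPrime_of_surjective hπ hkq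
  have hIp : I ≤ q.asIdeal.map π := by
    rw [← Ideal.map_comap_of_surjective π hπ I]
    exact Ideal.map_mono hq
  obtain ⟨g, hg, N, hN⟩ := hI ⟨_, hp⟩ hIp
  obtain ⟨G, rfl⟩ := hπ g
  refine ⟨G, fun hG => hg (Ideal.mem_map_of_mem π hG), N + es.length, ?_⟩
  exact IsKRegNear.comap π hπ es hes hker I G N hN

/-- Theorem W', local form -/
theorem IsKRegNear.map_of_exchange (π : R →+* P) (hπ : Function.Surjective π) (K : Ideal R)
    (n : ℕ) (e : Fin n → K) (hes : LCI.IsKoszulRegularSeq R (List.ofFn fun i => (e i : R)))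
    (hker : RingHom.ker π = Ideal.ofList (List.ofFn fun i => (e i : R)))
    (lam : Fin n → (K →ₗ[R] R ⧸ K)) (h0 : ∀ i j : Fin n, j < i → lam i (e j) = 0)
    (h1 : ∀ i, lam i (e i) = 1) (q : Ideal R) [q.IsPrime] (hKq : K ≤ q) (G : R) (hG : G ∉ q)
    (N : ℕ) (h : IsKRegNear K G N) :
    ∃ c : R, G * c ∉ q ∧ ∃ N', IsKRegNear (K.map π) (π (G * c)) N' := by
  obtain ⟨k, hk, hgen⟩ := h.exists_genAway
  have hq' : (q.map (Ideal.Quotient.mk K)).IsPrime :=
    Ideal.map_isPrime_of_surjective Ideal.Quotient.mk_surjective (by rwa [Ideal.mk_ker])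
  obtain ⟨c, k', hc, hlen, hgen'⟩ := exchange_all q hKq G hG k hgen n e lam h0
    (fun i => by
      rw [h1]
      exact (Ideal.ne_top_iff_one _).mp hq'.ne_top)
  refine ⟨c, hc, ?_⟩
  have h' := h.mul c
  set G' := G * c with hG'
  let R'' := Localization.Away G'
  let P'' := Localization.Away (π G')
  obtain ⟨π'', hcomm, hsurj, hker''⟩ := loc_data π hπ G' R'' P''
  obtain ⟨l, hlen_l, hl, hKl⟩ := h'.forall_loc R''
  haveI : Module.Flat R R'' := IsLocalization.flat R'' (Submonoid.powers G')
  have hes'' := KoszulConcat.isKoszulRegularSeq_map_of_flat (B := R'') _ hes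
  rw [hker, ← RegComp.ofList_map] at hker''
  have hKL := hgen'.map_eq R'' (IsLocalization.Away.algebraMap_isUnit G')
  rw [List.map_append, List.map_append, List.map_ofFn] at hKL
  set es'' := (List.ofFn (Subtype.val ∘ e)).map (algebraMap R R'') with hes''def
  set ks'' := (k'.map Subtype.val).map (algebraMap R R'') with hks''def
  have hreg : LCI.IsKoszulRegularSeq R'' (ks'' ++ es'') := by
    apply KoszulSwap.isKoszulRegularSeq_of_ofList_eq (ks'' ++ es'') l ?_ ?_ hl
    · rw [hlen_l, List.length_append, hks''def, hes''def]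
      simp only [List.length_map, List.length_ofFn]
      omega
    · rw [← hKl, hKL, Ideal.ofList_append, Ideal.ofList_append, sup_comm]
  have hfin := isKoszulRegularSeq_map_of_append π'' hsurj es'' hes'' hker'' ks'' hreg
  refine ⟨_, P'', inferInstance, inferInstance, inferInstance, ks''.map π'', rfl, hfin, ?_⟩
  have hcomp : π''.comp (algebraMap R R'') = (algebraMap P P'').comp π := RingHom.ext hcomm
  have hes''eq : Ideal.ofList es'' = RingHom.ker π'' := hker''.symm
  rw [Ideal.map_map, ← hcomp, ← Ideal.map_map, hKL, Ideal.ofList_append, Ideal.map_sup,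
    hes''eq]
  rw [(Ideal.map_eq_bot_iff_le_ker π'').mpr le_rfl, bot_sup_eq]
  exact (RegComp.ofList_map π'' ks'').symm

/-- Theorem W': quotient of a Koszul-regular ideal by part of a "basis" -/
theorem isKoszulRegularIdeal_map_of_exchange (π : R →+* P) (hπ : Function.Surjective π)
    (K : Ideal R) (n : ℕ) (e : Fin n → K)
    (hes : LCI.IsKoszulRegularSeq R (List.ofFn fun i => (e i : R)))
    (hker : RingHom.ker π = Ideal.ofList (List.ofFn fun i => (e i : R)))
    (lam : Fin n → (K →ₗ[R] R ⧸ K)) (h0 : ∀ i j : Fin n, j < i → lam i (e j) = 0)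
    (h1 : ∀ i, lam i (e i) = 1) (hK : LCI.IsKoszulRegularIdeal K) :
    LCI.IsKoszulRegularIdeal (K.map π) := by
  rw [isKoszulRegularIdeal_iff] at hK ⊢
  intro p' hp'
  haveI : (p'.asIdeal.comap π).IsPrime := Ideal.comap_isPrime π p'.asIdeal
  have hKq : K ≤ p'.asIdeal.comap π := Ideal.map_le_iff_le_comap.mp hp'
  obtain ⟨G, hG, N, hN⟩ := hK ⟨p'.asIdeal.comap π, inferInstance⟩ hKq
  obtain ⟨c, hc, N', h'⟩ := IsKRegNear.map_of_exchange π hπ K n e hes hker lam h0 h1
    (p'.asIdeal.comap π) hKq G hG N hN
  exact ⟨π (G * c), hc, N', h'⟩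

end Ext

end Groth.Agent.Lib.Helper1.KRegIdeal
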