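import Mathlib
import Groth.Agent.Lib.Helper1.KRegIdeal3
import Groth.Agent.Lib.Helper1.SecReg

set_option autoImplicit false
set_option linter.style.haveILetI false
universe u

namespace Groth.Agent.Lib.Helper1.KRegIdeal

open Groth.Agent.Lib.Helper1 MvPolynomial

section Poly

variable {A : Type u} [CommRing A] {σ ι : Type} {m : ℕ} (ε : σ ⊕ Fin m ≃ ι)
  (g : Fin m → MvPolynomial σ A)

/-- projection eliminating the variables `ε (inr j)` via `g` -/
noncomputable def elimProj : MvPolynomial ι A →ₐ[A] MvPolynomial σ A :=
  aeval (fun x => Sum.elim X g (ε.symm x))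

/-- inclusion of the small polynomial ring -/
noncomputable def elimInc : MvPolynomial σ A →ₐ[A] MvPolynomial ι A :=
  rename (fun s => ε (Sum.inl s))

/-- the generators of the kernel -/
noncomputable def elimGen (j : Fin m) : MvPolynomial ι A :=
  X (ε (Sum.inr j)) - elimInc ε (g j)

theorem elimProj_X_inl (s : σ) : elimProj ε g (X (ε (Sum.inl s))) = X s := by
  simp [elimProj]

theorem elimProj_X_inr (j : Fin m) : elimProj ε g (X (ε (Sum.inr j))) = g j := by
  simp [elimProj]

theorem elimProj_comp_elimInc : (elimProj ε g).comp (elimInc ε) = AlgHom.id A _ := by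
  apply MvPolynomial.algHom_ext
  intro s
  simp [elimInc, elimProj]

theorem elimProj_elimInc (p : MvPolynomial σ A) : elimProj ε g (elimInc ε p) = p :=
  congrArg (fun f : MvPolynomial σ A →ₐ[A] MvPolynomial σ A => f p) (elimProj_comp_elimInc ε g)

theorem elimProj_surjective : Function.Surjective (elimProj ε g) :=
  fun p => ⟨elimInc ε p, elimProj_elimInc ε g p⟩

theorem elimProj_elimGen (j : Fin m) : elimProj ε g (elimGen ε g j) = 0 := by
  rw [elimGen, map_sub, elimProj_X_inr, elimProj_elimInc, sub_self]

theorem ker_elimProj :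
    RingHom.ker (elimProj ε g).toRingHom = Ideal.ofList (List.ofFn (elimGen ε g)) := by
  rw [SecReg.ofList_ofFn]
  apply le_antisymm
  · -- every `r` is congruent to `inc (π r)`
    have key : ∀ r : MvPolynomial ι A,
        r - elimInc ε (elimProj ε g r) ∈ Ideal.span (Set.range (elimGen ε g)) := by
      intro r
      induction r using MvPolynomial.induction_on with
      | C a => simp
      | add p q hp hq =>
        have : p + q - elimInc ε (elimProj ε g (p + q)) =
            (p - elimInc ε (elimProj ε g p)) + (q - elimInc ε (elimProj ε g q)) := by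
          rw [map_add, map_add]; ring
        rw [this]
        exact Ideal.add_mem _ hp hq
      | mul_X p x hp =>
        have hx : X x - elimInc ε (elimProj ε g (X x)) ∈ Ideal.span (Set.range (elimGen ε g)) := by
          obtain ⟨y, rfl⟩ := ε.surjective x
          rcases y with s | j
          · rw [elimProj_X_inl]
            simp [elimInc]
          · rw [elimProj_X_inr]
            exact Ideal.subset_span ⟨j, rfl⟩
        have : p * X x - elimInc ε (elimProj ε g (p * X x)) =
            (p - elimInc ε (elimProj ε g p)) * X x +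
              elimInc ε (elimProj ε g p) * (X x - elimInc ε (elimProj ε g (X x))) := by
          rw [map_mul, map_mul]; ring
        rw [this]
        exact Ideal.add_mem _ (Ideal.mul_mem_right _ _ hp) (Ideal.mul_mem_left _ _ hx)
    intro r hr
    have hr0 : elimProj ε g r = 0 := hr
    have := key r
    rwa [hr0, map_zero, sub_zero] at this
  · rw [Ideal.span_le]
    rintro _ ⟨j, rfl⟩
    exact elimProj_elimGen ε g j

/-- the shearing automorphism (one direction) -/
noncomputable def shear (sgn : A) : MvPolynomial ι A →ₐ[A] MvPolynomial ι A :=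
  aeval (fun x => Sum.elim (fun s => X (ε (Sum.inl s)))
    (fun j => X (ε (Sum.inr j)) + C sgn * elimInc ε (g j)) (ε.symm x))

theorem shear_X_inl (sgn : A) (s : σ) : shear ε g sgn (X (ε (Sum.inl s))) = X (ε (Sum.inl s)) := by
  simp [shear]

theorem shear_X_inr (sgn : A) (j : Fin m) :
    shear ε g sgn (X (ε (Sum.inr j))) = X (ε (Sum.inr j)) + C sgn * elimInc ε (g j) := by
  simp [shear]

theorem shear_elimInc (sgn : A) (p : MvPolynomial σ A) :
    shear ε g sgn (elimInc ε p) = elimInc ε p := by
  have : (shear ε g sgn).comp (elimInc ε) = elimInc ε := by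
    apply MvPolynomial.algHom_ext
    intro s
    simp [elimInc, shear]
  exact congrArg (fun f : MvPolynomial σ A →ₐ[A] MvPolynomial ι A => f p) this

theorem shear_comp (a b : A) (hab : a + b = 0) :
    (shear ε g a).comp (shear ε g b) = AlgHom.id A _ := by
  apply MvPolynomial.algHom_ext
  intro x
  obtain ⟨y, rfl⟩ := ε.surjective x
  rcases y with s | j
  · simp [shear_X_inl]
  · rw [AlgHom.comp_apply, shear_X_inr, map_add, map_mul, shear_X_inr, shear_elimInc,
      AlgHom.id_apply]
    have : shear ε g a (C b) = C b := (shear ε g a).commutes b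
    rw [this, add_assoc, ← add_mul, ← C_add, hab, C_0, zero_mul, add_zero]

/-- the shearing automorphism -/
noncomputable def shearEquiv : MvPolynomial ι A ≃ₐ[A] MvPolynomial ι A :=
  AlgEquiv.ofAlgHom (shear ε g (-1)) (shear ε g 1)
    (shear_comp ε g (-1) 1 (by ring)) (shear_comp ε g 1 (-1) (by ring))

theorem shearEquiv_X_inr (j : Fin m) :
    shearEquiv ε g (X (ε (Sum.inr j))) = elimGen ε g j := by
  change shear ε g (-1) _ = _
  rw [shear_X_inr, elimGen]
  simp [sub_eq_add_neg]

theorem isKoszulRegularSeq_elimGen :
    LCI.IsKoszulRegularSeq (MvPolynomial ι A) (List.ofFn (elimGen ε g)) := by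
  classical
  have h := Groth.Agent.Lib.Helper4.KosPoly.isWeaklyRegular_X_pow (A := A) (σ := ι) 1
    ((List.finRange m).map fun j => ε (Sum.inr j))
    ((List.nodup_finRange m).map (fun a b hab => by simpa using hab))
  have h1 := SecReg.isKoszulRegularSeq_of_isWeaklyRegular _ h
  have h2 := RegComp.isKoszulRegularSeq_map_ringEquiv (shearEquiv ε g).toRingEquiv _ h1
  convert h2 using 1
  rw [List.ofFn_eq_map, List.map_map, List.map_map]
  apply List.map_congr_left
  intro j _
  simp only [Function.comp_apply, pow_one]
  exact (shearEquiv_X_inr ε g j).symm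

end Poly

end Groth.Agent.Lib.Helper1.KRegIdeal
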