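import Mathlib
import Groth.Agent.Lib.Helper1.KRegIdeal4

set_option autoImplicit false
set_option linter.style.haveILetI false
universe u

namespace Groth.Agent.Lib.Helper1.KRegIdeal

open Groth.Agent.Lib.Helper1 MvPolynomial

section Poly2

variable {A : Type u} [CommRing A] {σ ι : Type} {m : ℕ} (ε : σ ⊕ Fin m ≃ ι)
  (g : Fin m → MvPolynomial σ A)

/-- the functional `k ↦ ∂k/∂x mod K` on an ideal `K` -/
noncomputable def pdLam (K : Ideal (MvPolynomial ι A)) (x : ι) :
    K →ₗ[MvPolynomial ι A] (MvPolynomial ι A ⧸ K) where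
  toFun k := Ideal.Quotient.mk K (pderiv x (k : MvPolynomial ι A))
  map_add' a b := by simp
  map_smul' r k := by
    simp only [RingHom.id_apply, Submodule.coe_smul, smul_eq_mul]
    rw [Derivation.leibniz, map_add, smul_eq_mul, smul_eq_mul, map_mul, map_mul]
    have : Ideal.Quotient.mk K (k : MvPolynomial ι A) = 0 :=
      Ideal.Quotient.eq_zero_iff_mem.mpr k.2
    rw [this, zero_mul, add_zero]
    rfl

theorem pdLam_apply (K : Ideal (MvPolynomial ι A)) (x : ι) (k : K) :
    pdLam K x k = Ideal.Quotient.mk K (pderiv x (k : MvPolynomial ι A)) := rfl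

theorem pderiv_elimInc (j : Fin m) (p : MvPolynomial σ A) :
    pderiv (ε (Sum.inr j)) (elimInc ε p) = 0 := by
  classical
  apply pderiv_eq_zero_of_notMem_vars
  intro hmem
  have := vars_rename (fun s => ε (Sum.inl s)) p hmem
  rw [Finset.mem_image] at this
  obtain ⟨s, _, hs⟩ := this
  have := ε.injective hs
  simp at this

theorem pderiv_elimGen (i j : Fin m) :
    pderiv (ε (Sum.inr i)) (elimGen ε g j) = if i = j then 1 else 0 := by
  classical
  rw [elimGen, map_sub, pderiv_elimInc, sub_zero, pderiv_X]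
  by_cases hij : i = j
  · subst hij; simp
  · rw [if_neg hij, Pi.single_eq_of_ne]
    intro h
    apply hij
    have := ε.injective h
    simpa using this.symm

end Poly2

section Main

theorem isKoszulRegularIdeal_ker_of_other_presentation (A B : Type u) [CommRing A] [CommRing B]
    [Algebra A B] (n m : ℕ) (α : MvPolynomial (Fin n) A →ₐ[A] B) (hα : Function.Surjective α)
    (β : MvPolynomial (Fin m) A →ₐ[A] B) (hβ : Function.Surjective β)
    (h : LCI.IsKoszulRegularIdeal (RingHom.ker α.toRingHom)) :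
    LCI.IsKoszulRegularIdeal (RingHom.ker β.toRingHom) := by
  choose g hg using (fun j => hα (β (X j)))
  choose h' hh using (fun i => hβ (α (X i)))
  let ε₁ : Fin n ⊕ Fin m ≃ Fin n ⊕ Fin m := Equiv.refl _
  let ε₂ : Fin m ⊕ Fin n ≃ Fin n ⊕ Fin m := Equiv.sumComm _ _
  let π₁ := elimProj (A := A) ε₁ g
  let π₂ := elimProj (A := A) ε₂ h'
  have hcomp : α.comp π₁ = β.comp π₂ := by
    apply MvPolynomial.algHom_ext
    intro x
    rcases x with i | j
    · have h1 : π₁ (X (Sum.inl i)) = X i := elimProj_X_inl ε₁ g i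
      have h2 : π₂ (X (Sum.inl i)) = h' i := elimProj_X_inr ε₂ h' i
      rw [AlgHom.comp_apply, AlgHom.comp_apply, h1, h2, hh]
    · have h1 : π₁ (X (Sum.inr j)) = g j := elimProj_X_inr ε₁ g j
      have h2 : π₂ (X (Sum.inr j)) = X j := elimProj_X_inl ε₂ h' j
      rw [AlgHom.comp_apply, AlgHom.comp_apply, h1, h2, hg]
  set K : Ideal (MvPolynomial (Fin n ⊕ Fin m) A) :=
    (RingHom.ker α.toRingHom).comap π₁.toRingHom with hKdef
  have hK2 : K = (RingHom.ker β.toRingHom).comap π₂.toRingHom := by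
    rw [hKdef, RingHom.comap_ker, RingHom.comap_ker]
    have : α.toRingHom.comp π₁.toRingHom = β.toRingHom.comp π₂.toRingHom :=
      congrArg AlgHom.toRingHom hcomp
    rw [this]
  have hKreg : LCI.IsKoszulRegularIdeal K :=
    isKoszulRegularIdeal_comap π₁.toRingHom (elimProj_surjective ε₁ g) _
      (isKoszulRegularSeq_elimGen ε₁ g) (ker_elimProj ε₁ g) _ h
  have hJ : RingHom.ker β.toRingHom = K.map π₂.toRingHom := by
    rw [hK2]
    exact (Ideal.map_comap_of_surjective π₂.toRingHom (elimProj_surjective ε₂ h') _).symm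
  rw [hJ]
  have hmem : ∀ i : Fin n, elimGen ε₂ h' i ∈ K := by
    intro i
    rw [hK2, Ideal.mem_comap]
    have : π₂.toRingHom (elimGen ε₂ h' i) = 0 := elimProj_elimGen ε₂ h' i
    rw [this]
    exact Ideal.zero_mem _
  refine isKoszulRegularIdeal_map_of_exchange π₂.toRingHom (elimProj_surjective ε₂ h') K n
    (fun i => ⟨elimGen ε₂ h' i, hmem i⟩) (isKoszulRegularSeq_elimGen ε₂ h') (ker_elimProj ε₂ h')
    (fun i => pdLam K (ε₂ (Sum.inr i))) ?_ ?_ hKreg
  · intro i j hji
    rw [pdLam_apply]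
    change Ideal.Quotient.mk K (pderiv (ε₂ (Sum.inr i)) (elimGen ε₂ h' j)) = 0
    rw [pderiv_elimGen, if_neg (ne_of_gt hji), map_zero]
  · intro i
    rw [pdLam_apply]
    change Ideal.Quotient.mk K (pderiv (ε₂ (Sum.inr i)) (elimGen ε₂ h' i)) = 1
    rw [pderiv_elimGen, if_pos rfl, map_one]

end Main

end Groth.Agent.Lib.Helper1.KRegIdeal
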