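import Mathlib
import Groth.Agent.Lib.Helper1.SmoothLift

set_option autoImplicit false
set_option linter.style.haveILetI false
universe u

namespace Groth.Agent.Lib.Helper1.SmoothLift

open MvPolynomial

variable {B' B S : Type u} [CommRing B'] [CommRing B] [CommRing S] [Algebra B' B] [Algebra B S]
  [Algebra B' S] [IsScalarTower B' B S]

set_option maxHeartbeats 1600000 in
/-- a standard smooth algebra lifts to a standard smooth algebra along any surjection -/
theorem exists_stdSmooth_lift (hsurj : Function.Surjective (algebraMap B' B))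
    [Algebra.IsStandardSmooth B S] :
    ∃ (S'' : Type u) (_ : CommRing S'') (_ : Algebra B' S'') (q : S'' →ₐ[B'] S),
      Algebra.IsStandardSmooth B' S'' ∧ Function.Surjective q ∧
        RingHom.ker q.toRingHom = (RingHom.ker (algebraMap B' B)).map (algebraMap B' S'') := by
  classical
  obtain ⟨ι, σ, hσ, hι, ⟨P⟩⟩ := Algebra.IsStandardSmooth.out (R := B) (S := S)
  letI : Fintype σ := Fintype.ofFinite σ
  haveI hc : P.HasCoeffs B' := ⟨by
    intro x _
    obtain ⟨y, hy⟩ := hsurj x
    exact ⟨y, hy⟩⟩
  let S' := P.toPresentation.ModelOfHasCoeffs B'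
  let mk' : MvPolynomial ι B' →ₐ[B'] S' := Ideal.Quotient.mkₐ B' _
  have hmk' : Function.Surjective mk' := Ideal.Quotient.mkₐ_surjective B' _
  have hkill : ∀ a ∈ Ideal.span (Set.range (P.toPresentation.relationOfHasCoeffs B')),
      (MvPolynomial.aeval P.val : MvPolynomial ι B' →ₐ[B'] S) a = 0 := by
    intro a ha
    rw [← RingHom.mem_ker]
    revert a
    rw [← SetLike.le_def, Ideal.span_le]
    rintro a ⟨r, rfl⟩
    simp
  let q : S' →ₐ[B'] S := Ideal.Quotient.liftₐ _ (MvPolynomial.aeval P.val) hkill
  have hq : ∀ p : MvPolynomial ι B', q (mk' p) = MvPolynomial.aeval P.val p := fun p => rfl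
  have hqs : Function.Surjective q := by
    intro s
    obtain ⟨p, hp⟩ := P.algebraMap_surjective s
    obtain ⟨p', rfl⟩ := MvPolynomial.map_surjective (algebraMap B' B) hsurj p
    refine ⟨mk' p', ?_⟩
    rw [hq, ← MvPolynomial.aeval_map_algebraMap B]
    exact (Algebra.Generators.algebraMap_apply _ _).symm.trans hp
  have hker : RingHom.ker q.toRingHom =
      (RingHom.ker (algebraMap B' B)).map (algebraMap B' S') := by
    apply le_antisymm
    · intro x hx
      obtain ⟨p', rfl⟩ := hmk' x
      have h1 : MvPolynomial.aeval P.val p' = 0 := hx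
      rw [← MvPolynomial.aeval_map_algebraMap B] at h1
      have h2 : MvPolynomial.map (algebraMap B' B) p' ∈ P.ker := by
        rw [Algebra.Generators.ker_eq_ker_aeval_val]; exact h1
      rw [← P.span_range_relation_eq_ker, Ideal.mem_span_range_iff_exists_fun] at h2
      obtain ⟨h, hh⟩ := h2
      choose h' hh' using fun r => MvPolynomial.map_surjective (algebraMap B' B) hsurj (h r)
      have h3 : MvPolynomial.map (algebraMap B' B)
          (p' - ∑ r, h' r * P.toPresentation.relationOfHasCoeffs B' r) = 0 := by
        rw [map_sub, map_sum, ← hh, sub_eq_zero]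
        refine Finset.sum_congr rfl fun r _ => ?_
        rw [map_mul, hh', P.toPresentation.map_relationOfHasCoeffs]
      have h4 : p' - ∑ r, h' r * P.toPresentation.relationOfHasCoeffs B' r ∈
          (RingHom.ker (algebraMap B' B)).map (MvPolynomial.C : B' →+* MvPolynomial ι B') := by
        rw [← MvPolynomial.ker_map]; exact h3
      have h5 : mk' p' = mk' (p' - ∑ r, h' r * P.toPresentation.relationOfHasCoeffs B' r) := by
        rw [map_sub, map_sum]
        have : ∀ r, mk' (h' r * P.toPresentation.relationOfHasCoeffs B' r) = 0 := by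
          intro r
          rw [map_mul]
          have : mk' (P.toPresentation.relationOfHasCoeffs B' r) = 0 :=
            Ideal.Quotient.eq_zero_iff_mem.mpr (Ideal.subset_span ⟨r, rfl⟩)
          rw [this, mul_zero]
        simp only [this, Finset.sum_const_zero, sub_zero]
      rw [h5]
      have h6 := Ideal.mem_map_of_mem mk'.toRingHom h4
      rw [Ideal.map_map] at h6
      exact h6
    · rw [Ideal.map_le_iff_le_comap]
      intro n hn
      rw [Ideal.mem_comap, RingHom.mem_ker]
      change q (algebraMap B' S' n) = 0
      rw [AlgHom.commutes, IsScalarTower.algebraMap_apply B' B S, RingHom.mem_ker.mp hn, map_zero]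
  -- the Jacobian
  let J' : S' := mk' (P.jacobianOfHasCoeffs B')
  have hJ' : (P.toPreSubmersivePresentation.ofHasCoeffs B').jacobian = J' := by
    rw [Algebra.PreSubmersivePresentation.jacobian_eq_jacobiMatrix_det]
    simp
    rw [← Algebra.Generators.algebraMap_apply]
    rfl
  have hqJ : IsUnit (q J') := by
    change IsUnit (q (mk' (P.jacobianOfHasCoeffs B')))
    rw [hq, P.aeval_jacobianOfHasCoeffs]
    exact P.jacobian_isUnit
  let S'' := Localization.Away J'
  have hunit : ∀ y : Submonoid.powers J', IsUnit (q (y : S')) := by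
    rintro ⟨_, n, rfl⟩
    rw [map_pow]
    exact hqJ.pow n
  let q'' : S'' →ₐ[B'] S :=
    { IsLocalization.lift (M := Submonoid.powers J') (S := S'') (g := q.toRingHom) hunit with
      commutes' := by
        intro r
        change IsLocalization.lift (M := Submonoid.powers J') (S := S'') (g := q.toRingHom) hunit
          (algebraMap B' S'' r) = algebraMap B' S r
        rw [IsScalarTower.algebraMap_apply B' S' S'', IsLocalization.lift_eq]
        exact q.commutes r }
  have hq'' : ∀ x : S', q'' (algebraMap S' S'' x) = q x := fun x =>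
    IsLocalization.lift_eq (M := Submonoid.powers J') (S := S'') hunit x
  have hq''s : Function.Surjective q'' := by
    intro s
    obtain ⟨x, rfl⟩ := hqs s
    exact ⟨algebraMap S' S'' x, hq'' x⟩
  have hker'' : RingHom.ker q''.toRingHom =
      (RingHom.ker (algebraMap B' B)).map (algebraMap B' S'') := by
    rw [← IsLocalization.map_under (Submonoid.powers J') S'' (RingHom.ker q''.toRingHom)]
    have h1 : Ideal.under S' (RingHom.ker q''.toRingHom) = RingHom.ker q.toRingHom := by
      ext x
      change x ∈ (RingHom.ker q''.toRingHom).comap (algebraMap S' S'') ↔ _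
      rw [Ideal.mem_comap, RingHom.mem_ker, RingHom.mem_ker]
      change q'' (algebraMap S' S'' x) = 0 ↔ q x = 0
      rw [hq'']
    rw [h1, hker, Ideal.map_map, ← IsScalarTower.algebraMap_eq]
  -- the submersive presentation
  let Q₁ := Algebra.PreSubmersivePresentation.localizationAway (R := S') S'' J'
  let Q₀ := P.toPreSubmersivePresentation.ofHasCoeffs B'
  have hjac : (Q₁.comp Q₀).jacobian = Q₀.jacobian • Q₁.jacobian :=
    Algebra.PreSubmersivePresentation.comp_jacobian_eq_jacobian_smul_jacobian Q₁ Q₀
  let Q : Algebra.SubmersivePresentation B' S'' (Unit ⊕ ι) (Unit ⊕ σ) :=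
    { toPreSubmersivePresentation := Q₁.comp Q₀
      jacobian_isUnit := by
        rw [hjac, hJ', Algebra.PreSubmersivePresentation.localizationAway_jacobian]
        have hu : IsUnit (algebraMap S' S'' J') :=
          IsLocalization.map_units S'' (⟨J', 1, by simp⟩ : Submonoid.powers J')
        have h2 := Algebra.smul_def (R := S') (A := S'') J' (algebraMap S' S'' J')
        rw [h2]
        exact hu.mul hu }
  haveI : Algebra.IsStandardSmooth B' S'' := Q.isStandardSmooth
  exact ⟨S'', inferInstance, inferInstance, q'', inferInstance, hq''s, hker''⟩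

end Groth.Agent.Lib.Helper1.SmoothLift
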