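import Mathlib
import Groth.Agent.Lib.Helper1.RegBC
import Groth.Agent.Lib.Helper1.SmoothLift2
import Groth.Agent.Lib.Helper1.ConormLciExists

set_option autoImplicit false
set_option linter.style.haveILetI false
universe u
open CategoryTheory CategoryTheory.Limits AlgebraicGeometry TopologicalSpace Opposite

namespace Groth.Agent.Lib.Helper1.RegMore

section Nil

theorem isKoszulRegularSeq_nil (A : Type u) [CommRing A] : LCI.IsKoszulRegularSeq A [] := by
  intro i hi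
  exact HomologicalComplex.isZero_single_obj_homology _ _ _ i hi

end Nil

section Iso

variable {T T' : Scheme.{u}} (e : T ⟶ T') [IsIso e]

theorem isRegularImmersion_of_isIso : RegImm.IsRegularImmersion .koszul e := by
  refine ⟨inferInstance, fun t => ?_⟩
  obtain ⟨_, ⟨U : T'.Opens, hU, rfl⟩, htU, -⟩ := T'.isBasis_affineOpens.exists_subset_of_mem_open
    (Set.mem_univ (e t)) isOpen_univ
  refine ⟨⟨U, hU⟩, htU, ?_, [], isKoszulRegularSeq_nil _, ?_⟩
  · exact IsZariskiLocalAtTarget.restrict (P := @IsClosedImmersion) inferInstance U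
  · rw [Ideal.ofList_nil]
    haveI : IsIso (e.app U) := inferInstance
    exact (RingHom.injective_iff_ker_eq_bot _).mp
      (ConcreteCategory.bijective_of_isIso (e.app U)).1

end Iso

section SpecMap

theorem isRegularImmersion_SpecMap {R S : CommRingCat.{u}} (φ : R ⟶ S)
    (hφ : Function.Surjective φ.hom) (rs : List R) (hrs : LCI.IsKoszulRegularSeq R rs)
    (hker : RingHom.ker φ.hom = Ideal.ofList rs) :
    RegImm.IsRegularImmersion .koszul (Spec.map φ) := by
  haveI hcl : IsClosedImmersion (Spec.map φ) := IsClosedImmersion.spec_of_surjective φ hφ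
  refine ⟨inferInstance, fun t => ?_⟩
  let e : Γ(Spec R, ⊤) ≃+* R := (Scheme.ΓSpecIso R).commRingCatIsoToRingEquiv
  refine ⟨⟨⊤, isAffineOpen_top _⟩, trivial, ?_, rs.map e.symm, ?_, ?_⟩
  · exact IsZariskiLocalAtTarget.restrict (P := @IsClosedImmersion) hcl ⊤
  · exact RegComp.isKoszulRegularSeq_map_ringEquiv e.symm rs hrs
  · have hnat : (Spec.map φ).appTop ≫ (Scheme.ΓSpecIso S).hom = (Scheme.ΓSpecIso R).hom ≫ φ :=
      Scheme.ΓSpecIso_naturality φ
    have h1 : RingHom.ker ((Spec.map φ).app ⊤).hom = (RingHom.ker φ.hom).comap e.toRingHom := by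
      ext x
      rw [Ideal.mem_comap, RingHom.mem_ker, RingHom.mem_ker]
      have h2 : (Scheme.ΓSpecIso S).hom.hom (((Spec.map φ).app ⊤).hom x) = φ.hom (e x) :=
        congr($hnat x)
      constructor
      · intro h
        change φ.hom (e x) = 0
        rw [← h2]
        have h5 : ((Spec.map φ).app ⊤).hom x = (0 : Γ(Spec S, ⊤)) := h
        exact (congrArg (Scheme.ΓSpecIso S).hom.hom h5).trans (map_zero _)
      · intro h
        have h3 : (Scheme.ΓSpecIso S).hom.hom (((Spec.map φ).app ⊤).hom x) = 0 := h2.trans h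
        have hinj := (ConcreteCategory.bijective_of_isIso (Scheme.ΓSpecIso S).hom).1
        exact hinj (h3.trans (map_zero _).symm)
    rw [h1, hker]
    have h4 : (Ideal.ofList rs).comap e.toRingHom = (Ideal.ofList rs).map e.symm.toRingHom :=
      (Ideal.map_symm e).symm
    rw [h4]
    exact (RegComp.ofList_map e.symm.toRingHom rs).symm

end SpecMap

section Restrict

variable {T P : Scheme.{u}} (ι : T ⟶ P)

theorem restrict_chart (P₀ : P.Opens) (W' : (P₀ : Scheme.{u}).Opens)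
    (hW'aff : IsAffineOpen (P₀.ι ''ᵁ W')) [IsClosedImmersion (ι ∣_ (P₀.ι ''ᵁ W'))]
    (l : List Γ(P, P₀.ι ''ᵁ W')) (hl : LCI.IsKoszulRegularSeq Γ(P, P₀.ι ''ᵁ W') l)
    (hker : RingHom.ker (ι.app (P₀.ι ''ᵁ W')).hom = Ideal.ofList l) :
    IsAffineOpen W' ∧ IsClosedImmersion ((ι ∣_ P₀) ∣_ W') ∧
      ∃ l' : List Γ((P₀ : Scheme.{u}), W'), l'.length = l.length ∧
        LCI.IsKoszulRegularSeq Γ((P₀ : Scheme.{u}), W') l' ∧
        RingHom.ker ((ι ∣_ P₀).app W').hom = Ideal.ofList l' := by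
  refine ⟨(P₀.ι.isAffineOpen_iff_of_isOpenImmersion).mp hW'aff, ?_, l, rfl, hl, ?_⟩
  · exact (MorphismProperty.arrow_mk_iso_iff @IsClosedImmersion
      (morphismRestrictRestrict ι P₀ W')).mpr inferInstance
  · refine Eq.trans ?_ hker
    have happ : ∀ x : Γ(P, P₀.ι ''ᵁ W'), ((ι ∣_ P₀).app W').hom x =
        (T.presheaf.map (eqToHom (image_morphismRestrict_preimage ι P₀ W')).op).hom
          ((ι.app (P₀.ι ''ᵁ W')).hom x) := fun x =>
      congr($(morphismRestrict_app ι P₀ W') x)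
    have hinj : Function.Injective
        (T.presheaf.map (eqToHom (image_morphismRestrict_preimage ι P₀ W')).op).hom :=
      (ConcreteCategory.bijective_of_isIso
        (T.presheaf.map (eqToHom (image_morphismRestrict_preimage ι P₀ W')).op)).1
    apply le_antisymm
    · intro x hx
      have h1 : ((ι ∣_ P₀).app W').hom x = 0 := hx
      have h2 := (happ x).symm.trans h1
      exact hinj (h2.trans (map_zero _).symm)
    · intro x hx
      have h1 : (ι.app (P₀.ι ''ᵁ W')).hom x = 0 := hx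
      exact (happ x).trans ((congrArg _ h1).trans (map_zero _))

theorem isRegularImmersion_restrict (hι : RegImm.IsRegularImmersion .koszul ι) (P₀ : P.Opens) :
    RegImm.IsRegularImmersion .koszul (ι ∣_ P₀) := by
  haveI := hι.1
  haveI : IsImmersion (ι ∣_ P₀) :=
    IsZariskiLocalAtTarget.restrict (P := @IsImmersion) inferInstance P₀
  refine ⟨inferInstance, fun t => ?_⟩
  obtain ⟨⟨W, hW⟩, htW, hcl, rs, hrs, hker⟩ := hι.2 t.1
  haveI := hcl
  have ht2 : ι t.1 ∈ P₀ := t.2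
  obtain ⟨h, hle, hth⟩ := hW.exists_basicOpen_le (V := W ⊓ P₀) ⟨ι t.1, ⟨htW, ht2⟩⟩ htW
  obtain ⟨-, -, l, -, hl, hkerD⟩ := RegComp.koszul_basicOpen ι hW rs hrs hker h
  haveI hclD : IsClosedImmersion (ι ∣_ P.basicOpen h) :=
    RegComp.isClosedImmersion_restrict_of_le ι (U₁ := W) (P.basicOpen_le h)
  have hD : P₀.ι ''ᵁ (P₀.ι ⁻¹ᵁ P.basicOpen h) = P.basicOpen h := by
    rw [Scheme.Hom.image_preimage_eq_opensRange_inf, Scheme.Opens.opensRange_ι]
    exact inf_eq_right.mpr (hle.trans inf_le_right)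
  have key : ∀ D : P.Opens, P₀.ι ''ᵁ (P₀.ι ⁻¹ᵁ P.basicOpen h) = D → IsAffineOpen D →
      IsClosedImmersion (ι ∣_ D) → (∃ l : List Γ(P, D), LCI.IsKoszulRegularSeq Γ(P, D) l ∧
        RingHom.ker (ι.app D).hom = Ideal.ofList l) →
      IsAffineOpen (P₀.ι ⁻¹ᵁ P.basicOpen h) ∧
        IsClosedImmersion ((ι ∣_ P₀) ∣_ (P₀.ι ⁻¹ᵁ P.basicOpen h)) ∧
        ∃ l' : List Γ((P₀ : Scheme.{u}), P₀.ι ⁻¹ᵁ P.basicOpen h),
          LCI.IsKoszulRegularSeq Γ((P₀ : Scheme.{u}), P₀.ι ⁻¹ᵁ P.basicOpen h) l' ∧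
          RingHom.ker ((ι ∣_ P₀).app (P₀.ι ⁻¹ᵁ P.basicOpen h)).hom = Ideal.ofList l' := by
    rintro D rfl hDaff hDcl ⟨l, hl, hk⟩
    haveI := hDcl
    obtain ⟨h1, h2, l', -, h3, h4⟩ := restrict_chart ι P₀ _ hDaff l hl hk
    exact ⟨h1, h2, l', h3, h4⟩
  obtain ⟨h1, h2, l', h3, h4⟩ := key _ hD (hW.basicOpen h) hclD ⟨l, hl, hkerD⟩
  refine ⟨⟨P₀.ι ⁻¹ᵁ P.basicOpen h, h1⟩, ?_, h2, l', h3, h4⟩
  change P₀.ι ((ι ∣_ P₀) t) ∈ P.basicOpen h
  have h5 : P₀.ι ((ι ∣_ P₀) t) = ι t.1 := morphismRestrict_base_coe ι P₀ t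
  rw [h5]
  exact hth

end Restrict

end Groth.Agent.Lib.Helper1.RegMore
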