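import Mathlib
import Groth.Agent.Lib.Helper1.KRegIdeal5
import Groth.Agent.Lib.Helper1.RegMore

set_option autoImplicit false
set_option linter.style.haveILetI false
universe u

namespace Groth.Agent.Lib.Helper1.KRegIdeal

open Groth.Agent.Lib.Helper1

section Ext2

variable {R P : Type u} [CommRing R] [CommRing P]

/-- Theorem E, local form, with locally Koszul-regular kernel -/
theorem IsKRegNear.comap' (π : R →+* P) (hπ : Function.Surjective π) (I : Ideal P)
    (G : R) (M N : ℕ) (hker : IsKRegNear (RingHom.ker π) G M) (h : IsKRegNear I (π G) N) :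
    IsKRegNear (I.comap π) G (N + M) := by
  let R'' := Localization.Away G
  let P'' := Localization.Away (π G)
  obtain ⟨π'', hcomm, hsurj, hker''⟩ := loc_data π hπ G R'' P''
  obtain ⟨l, hlen, hl, hI⟩ := h.forall_loc P''
  obtain ⟨es'', hlen_es, hes'', hkeres⟩ := hker.forall_loc R''
  obtain ⟨s, rfl⟩ := List.map_surjective_iff.mpr hsurj l
  rw [hkeres] at hker''
  have hreg := RegComp.isKoszulRegularSeq_append_of_surjective π'' hsurj _ hes'' hker'' s hl
  refine ⟨R'', inferInstance, inferInstance, inferInstance, s ++ es'', ?_, hreg, ?_⟩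
  · rw [List.length_append, hlen_es, ← hlen, List.length_map]
  · have hcomp : π''.comp (algebraMap R R'') = (algebraMap P P'').comp π := RingHom.ext hcomm
    have hle : RingHom.ker π'' ≤ (I.comap π).map (algebraMap R R'') := by
      rw [hker'', ← hkeres]
      exact Ideal.map_mono (Ideal.comap_mono bot_le)
    have h1 : ((I.comap π).map (algebraMap R R'')).map π'' = (Ideal.ofList s).map π'' := by
      rw [Ideal.map_map, hcomp, ← Ideal.map_map, Ideal.map_comap_of_surjective π hπ, hI,
        RegComp.ofList_map]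
    have h2 := congrArg (Ideal.comap π'') h1
    rw [Ideal.comap_map_of_surjective π'' hsurj, Ideal.comap_map_of_surjective π'' hsurj,
      ← RingHom.ker_eq_comap_bot, sup_eq_left.mpr hle, hker''] at h2
    rw [h2, Ideal.ofList_append]

/-- Theorem E': the preimage of a Koszul-regular ideal under a surjection with Koszul-regular
kernel ideal is Koszul-regular -/
theorem isKoszulRegularIdeal_comap' (π : R →+* P) (hπ : Function.Surjective π)
    (hker : LCI.IsKoszulRegularIdeal (RingHom.ker π)) (I : Ideal P)
    (hI : LCI.IsKoszulRegularIdeal I) : LCI.IsKoszulRegularIdeal (I.comap π) := by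
  rw [isKoszulRegularIdeal_iff] at hI hker ⊢
  intro q hq
  have hkq : RingHom.ker π ≤ q.asIdeal := le_trans (Ideal.comap_mono bot_le) hq
  haveI hp : (q.asIdeal.map π).IsPrime := Ideal.map_isPrime_of_surjective hπ hkq
  have hIp : I ≤ q.asIdeal.map π := by
    rw [← Ideal.map_comap_of_surjective π hπ I]
    exact Ideal.map_mono hq
  obtain ⟨g, hg, N, hN⟩ := hI ⟨_, hp⟩ hIp
  obtain ⟨G₂, rfl⟩ := hπ g
  obtain ⟨G₁, hG₁, M, hM⟩ := hker q hkq
  have hG₂ : G₂ ∉ q.asIdeal := fun hG => hg (Ideal.mem_map_of_mem π hG)
  refine ⟨G₁ * G₂, ?_, N + M, ?_⟩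
  · intro hmem
    rcases q.2.mem_or_mem hmem with h | h
    · exact hG₁ h
    · exact hG₂ h
  · apply IsKRegNear.comap' π hπ I (G₁ * G₂) M N (hM.mul G₂)
    have := hN.mul (π G₁)
    rwa [← map_mul, mul_comm] at this

/-- transfer along a ring isomorphism -/
theorem isKoszulRegularIdeal_comap_equiv (e : R ≃+* P) (I : Ideal P)
    (hI : LCI.IsKoszulRegularIdeal I) : LCI.IsKoszulRegularIdeal (I.comap (e : R →+* P)) := by
  apply isKoszulRegularIdeal_comap (e : R →+* P) e.surjective [] (RegMore.isKoszulRegularSeq_nil R)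
    ?_ I hI
  rw [Ideal.ofList_nil]
  exact (RingHom.injective_iff_ker_eq_bot _).mp e.injective

end Ext2

section Flat

variable {R R' : Type u} [CommRing R] [CommRing R'] [Algebra R R'] [Module.Flat R R']

theorem IsKRegNear.map_of_flat {I : Ideal R} {G : R} {N : ℕ} (h : IsKRegNear I G N) :
    IsKRegNear (I.map (algebraMap R R')) (algebraMap R R' G) N := by
  let S := Localization.Away G
  let S' := Localization.Away (algebraMap R R' G)
  let φ : S →+* S' := IsLocalization.Away.map S S' (algebraMap R R') G
  have hφ : ∀ a, φ (algebraMap R S a) = algebraMap R' S' (algebraMap R R' a) :=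
    fun a => IsLocalization.map_eq _ a
  letI : Algebra S S' := φ.toAlgebra
  haveI : IsScalarTower R S S' := IsScalarTower.of_algebraMap_eq (fun a => by
    rw [IsScalarTower.algebraMap_apply R R' S']
    exact (hφ a).symm)
  haveI : Module.Flat R' S' := IsLocalization.flat S' (Submonoid.powers (algebraMap R R' G))
  haveI : Module.Flat R S' := Module.Flat.trans R R' S'
  haveI : Module.Flat S S' := (Module.flat_iff_of_isLocalization S (Submonoid.powers G) S').mpr
    inferInstance
  obtain ⟨l, hlen, hl, hI⟩ := h.forall_loc S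
  refine ⟨S', inferInstance, inferInstance, inferInstance, l.map (algebraMap S S'),
    by simpa using hlen, KoszulConcat.isKoszulRegularSeq_map_of_flat l hl, ?_⟩
  rw [RegComp.ofList_map, ← hI, Ideal.map_map, Ideal.map_map]
  congr 1
  ext a
  exact (hφ a).symm

theorem isKoszulRegularIdeal_map_of_flat (I : Ideal R) (hI : LCI.IsKoszulRegularIdeal I) :
    LCI.IsKoszulRegularIdeal (I.map (algebraMap R R')) := by
  rw [isKoszulRegularIdeal_iff] at hI ⊢
  intro q' hq'
  haveI : (q'.asIdeal.comap (algebraMap R R')).IsPrime := Ideal.comap_isPrime _ _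
  obtain ⟨G, hG, N, hN⟩ := hI ⟨q'.asIdeal.comap (algebraMap R R'), inferInstance⟩
    (Ideal.map_le_iff_le_comap.mp hq')
  exact ⟨algebraMap R R' G, hG, N, hN.map_of_flat⟩

end Flat

end Groth.Agent.Lib.Helper1.KRegIdeal
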