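import Mathlib
import Groth.Agent.Lib.Helper1.KRegIdeal6

set_option autoImplicit false
set_option linter.style.haveILetI false
universe u

namespace Groth.Agent.Lib.Helper1.KRegIdeal

open Groth.Agent.Lib.Helper1 MvPolynomial

section Comp

/-- composition of local complete intersection ring maps -/
theorem isLCI_comp (A B C : Type u) [CommRing A] [CommRing B] [CommRing C] [Algebra A B]
    [Algebra B C] [Algebra A C] [IsScalarTower A B C] (h1 : LCI.IsLCI A B) (h2 : LCI.IsLCI B C) :
    LCI.IsLCI A C := by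
  obtain ⟨ft1, n, α, hα, hI⟩ := h1
  obtain ⟨ft2, m, β, hβ, hJ⟩ := h2
  refine ⟨Algebra.FiniteType.trans ft1 ft2, m + n, ?_⟩
  let Φ : MvPolynomial (Fin (m + n)) A ≃ₐ[A] MvPolynomial (Fin m) (MvPolynomial (Fin n) A) :=
    (renameEquiv A finSumFinEquiv.symm).trans (sumAlgEquiv A (Fin m) (Fin n))
  let π : MvPolynomial (Fin m) (MvPolynomial (Fin n) A) →ₐ[A] MvPolynomial (Fin m) B :=
    mapAlgHom α
  have hπ : Function.Surjective π := map_surjective α.toRingHom hα
  let γ : MvPolynomial (Fin (m + n)) A →ₐ[A] C :=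
    (β.restrictScalars A).comp (π.comp Φ.toAlgHom)
  refine ⟨γ, ?_, ?_⟩
  · exact hβ.comp (hπ.comp Φ.surjective)
  · have hkerπ : LCI.IsKoszulRegularIdeal (RingHom.ker π.toRingHom) := by
      have : RingHom.ker π.toRingHom = (RingHom.ker α.toRingHom).map
          (algebraMap (MvPolynomial (Fin n) A) (MvPolynomial (Fin m) (MvPolynomial (Fin n) A))) :=
        MvPolynomial.ker_map α.toRingHom
      rw [this]
      exact isKoszulRegularIdeal_map_of_flat _ hI
    have h3 := isKoszulRegularIdeal_comap' π.toRingHom hπ hkerπ _ hJ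
    have h4 := isKoszulRegularIdeal_comap_equiv Φ.toRingEquiv _ h3
    have : RingHom.ker γ.toRingHom = Ideal.comap (Φ.toRingEquiv : _ →+* _)
        (Ideal.comap π.toRingHom (RingHom.ker β.toRingHom)) := by
      rw [RingHom.comap_ker, RingHom.comap_ker]
      rfl
    rw [this]
    exact h4

end Comp

end Groth.Agent.Lib.Helper1.KRegIdeal
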