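import Mathlib
import Groth.Agent.Lib.Helper1.KRegIdeal7

set_option autoImplicit false
set_option linter.style.haveILetI false
universe u

namespace Groth.Agent.Lib.Helper1.KRegIdeal

open Groth.Agent.Lib.Helper1 Polynomial

section LocPres

variable {R₀ : Type u} [CommRing R₀] (u : R₀)

/-- `u t - 1` is a nonzerodivisor -/
theorem isSMulRegular_CX_sub_one : IsSMulRegular R₀[X] (C u * X - 1 : R₀[X]) := by
  intro f g hfg
  simp only [smul_eq_mul] at hfg
  have h0 : (C u * X - 1) * (f - g) = 0 := by rw [mul_sub, hfg, sub_self]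
  have h1 : f - g = C u * X * (f - g) := by
    have : (C u * X - 1) * (f - g) = C u * X * (f - g) - (f - g) := by ring
    rw [this, sub_eq_zero] at h0
    exact h0.symm
  have h2 : ∀ k, (f - g).coeff k = 0 := by
    intro k
    induction k with
    | zero =>
      rw [h1, mul_assoc, coeff_C_mul, mul_comm X, coeff_mul_X_zero, mul_zero]
    | succ k ih =>
      rw [h1, mul_assoc, coeff_C_mul, mul_comm X, coeff_mul_X, ih, mul_zero]
  have : f - g = 0 := Polynomial.ext (fun k => by rw [h2 k, coeff_zero])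
  exact sub_eq_zero.mp this

theorem isKoszulRegularSeq_CX_sub_one :
    LCI.IsKoszulRegularSeq R₀[X] [(C u * X - 1 : R₀[X])] := by
  apply SecReg.isKoszulRegularSeq_of_isWeaklyRegular
  rw [RingTheory.Sequence.isWeaklyRegular_singleton_iff]
  exact isSMulRegular_CX_sub_one u

/-- the functional `k ↦ t ∂k/∂t mod K` -/
noncomputable def dLam (K : Ideal R₀[X]) : K →ₗ[R₀[X]] (R₀[X] ⧸ K) where
  toFun k := Ideal.Quotient.mk K (X * derivative (k : R₀[X]))
  map_add' a b := by simp [mul_add]
  map_smul' r k := by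
    simp only [RingHom.id_apply, Submodule.coe_smul, smul_eq_mul]
    rw [derivative_mul, mul_add, map_add, map_mul, map_mul, map_mul, map_mul]
    have : Ideal.Quotient.mk K (k : R₀[X]) = 0 := Ideal.Quotient.eq_zero_iff_mem.mpr k.2
    rw [this, mul_zero, mul_zero, zero_add]
    change _ = Ideal.Quotient.mk K (r * (X * derivative (k : R₀[X])))
    rw [map_mul, map_mul]
    ring

theorem dLam_apply (K : Ideal R₀[X]) (k : K) :
    dLam K k = Ideal.Quotient.mk K (X * derivative (k : R₀[X])) := rfl

/-- Lemma Q': the image of a Koszul-regular ideal containing `u t - 1` in `R₀[t]/(u t - 1)` is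
Koszul-regular -/
theorem isKoszulRegularIdeal_map_adjoinRoot (K : Ideal R₀[X]) (he : (C u * X - 1 : R₀[X]) ∈ K)
    (hK : LCI.IsKoszulRegularIdeal K) :
    LCI.IsKoszulRegularIdeal (K.map (AdjoinRoot.mk (C u * X - 1 : R₀[X]))) := by
  refine isKoszulRegularIdeal_map_of_exchange (AdjoinRoot.mk (C u * X - 1 : R₀[X]))
    Ideal.Quotient.mk_surjective K 1 (fun _ => ⟨C u * X - 1, he⟩) ?_ ?_
    (fun _ => dLam K) ?_ ?_ hK
  · simpa using isKoszulRegularSeq_CX_sub_one u
  · simp only [List.ofFn_succ, List.ofFn_zero, Ideal.ofList_singleton]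
    exact Ideal.mk_ker
  · intro i j hji
    exact absurd hji (by simp [Fin.lt_def])
  · intro _
    rw [dLam_apply]
    simp only
    have h1 : (X * derivative (C u * X - 1 : R₀[X])) = (C u * X - 1) + 1 := by
      simp only [derivative_sub, derivative_mul, derivative_C, zero_mul, derivative_X, mul_one,
        zero_add, derivative_one, sub_zero]
      ring
    rw [h1, map_add, Ideal.Quotient.eq_zero_iff_mem.mpr he, zero_add, map_one]

end LocPres

section Descent

variable {R₀ : Type u} [CommRing R₀]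

/-- Lemma L: Koszul-regularity near a prime can be checked in a principal localization -/
theorem exists_isKRegNear_of_localization (I : Ideal R₀) (u : R₀) (S : Type u) [CommRing S]
    [Algebra R₀ S] [IsLocalization.Away u S]
    (hI : LCI.IsKoszulRegularIdeal (I.map (algebraMap R₀ S))) (p : Ideal R₀) [p.IsPrime]
    (hIp : I ≤ p) (hu : u ∉ p) : ∃ G : R₀, G ∉ p ∧ ∃ N, IsKRegNear I G N := by
  rw [isKoszulRegularIdeal_iff] at hI
  have hdisj : Disjoint (Submonoid.powers u : Set R₀) (p : Set R₀) := by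
    rw [Set.disjoint_left]
    rintro _ ⟨k, rfl⟩ hk
    exact hu (Ideal.IsPrime.mem_of_pow_mem inferInstance k hk)
  haveI hp' : (p.map (algebraMap R₀ S)).IsPrime :=
    IsLocalization.isPrime_of_isPrime_disjoint (Submonoid.powers u) S p inferInstance hdisj
  have hcomap : (p.map (algebraMap R₀ S)).comap (algebraMap R₀ S) = p :=
    IsLocalization.under_map_of_isPrime_disjoint (Submonoid.powers u) S inferInstance hdisj
  obtain ⟨G', hG', N, hN⟩ := hI ⟨_, hp'⟩ (Ideal.map_mono hIp)
  obtain ⟨k, G₀, hG₀⟩ := IsLocalization.Away.surj u G'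
  have hN' := hN.mul (algebraMap R₀ S u ^ k)
  rw [hG₀] at hN'
  have hG₀p : G₀ ∉ p := by
    intro hmem
    have h1 : algebraMap R₀ S G₀ ∈ p.map (algebraMap R₀ S) := Ideal.mem_map_of_mem _ hmem
    rw [← hG₀] at h1
    rcases hp'.mem_or_mem h1 with h2 | h2
    · exact hG' h2
    · have h3 : algebraMap R₀ S (u ^ k) ∈ p.map (algebraMap R₀ S) := by rwa [map_pow]
      have h4 : u ^ k ∈ (p.map (algebraMap R₀ S)).comap (algebraMap R₀ S) := h3
      rw [hcomap] at h4
      exact hu (Ideal.IsPrime.mem_of_pow_mem inferInstance k h4)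
  refine ⟨u * G₀, ?_, N, ?_⟩
  · intro hmem
    rcases Ideal.IsPrime.mem_or_mem inferInstance hmem with h | h
    · exact hu h
    · exact hG₀p h
  · obtain ⟨S'', _, _, _, l, hlen, hl, hIl⟩ := hN'
    letI : Algebra R₀ S'' := ((algebraMap S S'').comp (algebraMap R₀ S)).toAlgebra
    haveI : IsScalarTower R₀ S S'' := IsScalarTower.of_algebraMap_eq (fun _ => rfl)
    haveI : IsLocalization.Away (u * G₀) S'' := IsLocalization.Away.mul' S S'' u G₀
    refine ⟨S'', inferInstance, inferInstance, inferInstance, l, hlen, hl, ?_⟩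
    rw [← hIl, Ideal.map_map]
    rfl

end Descent

end Groth.Agent.Lib.Helper1.KRegIdeal
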