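import Mathlib
import Groth.Agent.Lib.Helper1.KRegIdeal8

set_option autoImplicit false
set_option linter.style.haveILetI false
universe u

namespace Groth.Agent.Lib.Helper1.KRegIdeal

open Groth.Agent.Lib.Helper1

section Local

/-- key local step: if `A → B_u` is lci, then the kernel of a presentation of `B` is
Koszul-regular near primes not containing (a lift of) `u` -/
theorem exists_isKRegNear_of_isLCI_away (A B : Type u) [CommRing A] [CommRing B] [Algebra A B]
    (n : ℕ) (α : MvPolynomial (Fin n) A →ₐ[A] B) (hα : Function.Surjective α)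
    (ũ : MvPolynomial (Fin n) A) (Bu : Type u) [CommRing Bu] [Algebra B Bu] [Algebra A Bu]
    [IsScalarTower A B Bu] [IsLocalization.Away (α ũ) Bu] (h : LCI.IsLCI A Bu)
    (p : Ideal (MvPolynomial (Fin n) A)) [p.IsPrime] (hIp : RingHom.ker α.toRingHom ≤ p)
    (hu : ũ ∉ p) : ∃ G, G ∉ p ∧ ∃ N, IsKRegNear (RingHom.ker α.toRingHom) G N := by
  classical
  let R₀ := MvPolynomial (Fin n) A
  let e : Polynomial R₀ := Polynomial.C ũ * Polynomial.X - 1
  let Q := AdjoinRoot e
  haveI : IsLocalization.Away ũ Q := IsLocalization.adjoin_inv ũ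
  let inv : Bu := IsLocalization.Away.invSelf (α ũ)
  have hinv : algebraMap B Bu (α ũ) * inv = 1 := IsLocalization.Away.mul_invSelf (α ũ)
  let f : R₀ →ₐ[A] Bu := (IsScalarTower.toAlgHom A B Bu).comp α
  have hf : ∀ r, f r = algebraMap B Bu (α r) := fun r => rfl
  let β' : Polynomial R₀ →ₐ[A] Bu := Polynomial.aevalTower f inv
  have hβ'C : ∀ r : R₀, β' (Polynomial.C r) = algebraMap B Bu (α r) := by
    intro r
    simp [β', hf]
  have hβ'X : β' Polynomial.X = inv := by simp [β']
  have hβ'e : β' e = 0 := by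
    simp only [e, map_sub, map_mul, hβ'C, hβ'X, map_one, hinv, sub_self]
  have hβ'surj : Function.Surjective β' := by
    intro z
    obtain ⟨k, b, hb⟩ := IsLocalization.Away.surj (α ũ) z
    obtain ⟨r, rfl⟩ := hα b
    refine ⟨Polynomial.C r * Polynomial.X ^ k, ?_⟩
    rw [map_mul, map_pow, hβ'C, hβ'X, ← hb, mul_assoc, ← mul_pow, hinv, one_pow, mul_one]
  -- the kernel of `β'` is Koszul-regular by independence of presentation
  let ψ := MvPolynomial.finSuccEquiv A n
  let β : MvPolynomial (Fin (n + 1)) A →ₐ[A] Bu := β'.comp ψ.toAlgHom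
  have hβsurj : Function.Surjective β := hβ'surj.comp ψ.surjective
  obtain ⟨-, n', α', hα', hK'⟩ := h
  have hkerβ := isKoszulRegularIdeal_ker_of_other_presentation A Bu n' (n + 1) α' hα' β hβsurj hK'
  have hkerβ' : LCI.IsKoszulRegularIdeal (RingHom.ker β'.toRingHom) := by
    have h1 := isKoszulRegularIdeal_comap_equiv ψ.symm.toRingEquiv _ hkerβ
    have h2 : Ideal.comap (ψ.symm.toRingEquiv : Polynomial R₀ →+* _) (RingHom.ker β.toRingHom) =
        RingHom.ker β'.toRingHom := by
      rw [RingHom.comap_ker]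
      congr 1
      refine RingHom.ext fun x => ?_
      change β' (ψ (ψ.symm x)) = β' x
      rw [AlgEquiv.apply_symm_apply]
    rwa [h2] at h1
  -- quotient by `e`
  have heK : e ∈ RingHom.ker β'.toRingHom := hβ'e
  have hQ := isKoszulRegularIdeal_map_adjoinRoot ũ (RingHom.ker β'.toRingHom) heK hkerβ'
  -- identify the image
  let ᾱ : Q →+* Bu := AdjoinRoot.lift f.toRingHom inv (by
    change Polynomial.eval₂ f.toRingHom inv e = 0
    have : Polynomial.eval₂ f.toRingHom inv e = β' e := rfl
    rw [this, hβ'e])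
  have hᾱmk : ∀ g : Polynomial R₀, ᾱ (AdjoinRoot.mk e g) = β' g := by
    intro g
    exact AdjoinRoot.lift_mk _ g
  have hᾱcomm : ∀ a : R₀, ᾱ (algebraMap R₀ Q a) = algebraMap B Bu (α a) := by
    intro a
    rw [AdjoinRoot.algebraMap_eq]
    exact AdjoinRoot.lift_of _
  obtain ⟨-, hkerᾱ⟩ := UTKoszul.loc_surj_ker α.toRingHom hα ũ ᾱ hᾱcomm
  have himage : (RingHom.ker β'.toRingHom).map (AdjoinRoot.mk e) =
      (RingHom.ker α.toRingHom).map (algebraMap R₀ Q) := by
    rw [← hkerᾱ]
    have h1 : RingHom.ker β'.toRingHom = Ideal.comap (AdjoinRoot.mk e) (RingHom.ker ᾱ) := by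
      rw [RingHom.comap_ker]
      congr 1
    rw [h1]
    exact Ideal.map_comap_of_surjective (AdjoinRoot.mk e) AdjoinRoot.mk_surjective _
  rw [himage] at hQ
  exact exists_isKRegNear_of_localization (RingHom.ker α.toRingHom) ũ Q hQ p hIp hu

/-- being a local complete intersection is local on the source -/
theorem isLCI_of_span_eq_top (A B : Type u) [CommRing A] [CommRing B] [Algebra A B] (s : Set B)
    (hs : Ideal.span s = ⊤)
    (h : ∀ u ∈ s, ∃ (Bu : Type u) (_ : CommRing Bu) (_ : Algebra B Bu) (_ : Algebra A Bu)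
      (_ : IsScalarTower A B Bu) (_ : IsLocalization.Away u Bu), LCI.IsLCI A Bu) :
    LCI.IsLCI A B := by
  have hft : Algebra.FiniteType A B := by
    rw [← RingHom.finiteType_algebraMap]
    apply RingHom.finiteType_ofLocalizationSpanTarget.ofIsLocalization
      RingHom.finiteType_respectsIso (algebraMap A B) s hs
    rintro ⟨u, hu⟩
    obtain ⟨Bu, _, _, _, _, _, hlci⟩ := h u hu
    refine ⟨Bu, inferInstance, inferInstance, inferInstance, ?_⟩
    rw [← IsScalarTower.algebraMap_eq, RingHom.finiteType_algebraMap]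
    exact hlci.1
  refine ⟨hft, ?_⟩
  obtain ⟨n, α, hα⟩ := Algebra.FiniteType.iff_quotient_mvPolynomial''.mp hft
  refine ⟨n, α, hα, ?_⟩
  rw [isKoszulRegularIdeal_iff]
  intro p hp
  -- find `u ∈ s` outside the image of `p`
  haveI hp' : (p.asIdeal.map α.toRingHom).IsPrime := Ideal.map_isPrime_of_surjective hα hp
  have hex : ∃ u ∈ s, u ∉ p.asIdeal.map α.toRingHom := by
    by_contra hall
    push Not at hall
    have : Ideal.span s ≤ p.asIdeal.map α.toRingHom := Ideal.span_le.mpr hall
    rw [hs, top_le_iff] at this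
    exact hp'.ne_top this
  obtain ⟨u, hus, hup⟩ := hex
  obtain ⟨ũ, rfl⟩ := hα u
  obtain ⟨Bu, _, _, _, _, _, hlci⟩ := h _ hus
  have hũ : ũ ∉ p.asIdeal := fun hmem => hup (Ideal.mem_map_of_mem _ hmem)
  exact exists_isKRegNear_of_isLCI_away A B n α hα ũ Bu hlci p.asIdeal hp hũ

end Local

end Groth.Agent.Lib.Helper1.KRegIdeal
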