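import Mathlib
import Groth.Agent.Lib.Helper1.KRegIdeal9

set_option autoImplicit false
set_option linter.style.haveILetI false
universe u

namespace Groth.Agent.Lib.Helper1.KRegIdeal

open Groth.Agent.Lib.Helper1 Polynomial

section SmoothLCI

/-- the ideal generated by a Koszul-regular sequence is a Koszul-regular ideal -/
theorem isKoszulRegularIdeal_ofList {R : Type u} [CommRing R] (l : List R)
    (hl : LCI.IsKoszulRegularSeq R l) : LCI.IsKoszulRegularIdeal (Ideal.ofList l) := by
  rw [isKoszulRegularIdeal_iff]
  intro p _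
  refine ⟨1, fun h => p.2.ne_top ((Ideal.eq_top_iff_one _).mpr h), l.length, R, inferInstance,
    inferInstance, IsLocalization.away_of_isUnit_of_bijective R isUnit_one Function.bijective_id,
    l, rfl, hl, ?_⟩
  simp

/-- the standard étale relations form a Koszul-regular sequence -/
theorem isKoszulRegularSeq_standardEtale {R₁ : Type u} [CommRing R₁] (F G : R₁)
    (hF : IsSMulRegular R₁ F) :
    LCI.IsKoszulRegularSeq R₁[X] [C F, C G * X - 1] := by
  let e : R₁[X] := C G * X - 1
  let π : R₁[X] →+* AdjoinRoot e := AdjoinRoot.mk e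
  haveI : IsLocalization.Away G (AdjoinRoot e) := IsLocalization.adjoin_inv G
  haveI : Module.Flat R₁ (AdjoinRoot e) := IsLocalization.flat _ (Submonoid.powers G)
  have h1 : LCI.IsKoszulRegularSeq R₁ [F] := by
    apply SecReg.isKoszulRegularSeq_of_isWeaklyRegular
    rw [RingTheory.Sequence.isWeaklyRegular_singleton_iff]
    exact hF
  have h2 := KoszulConcat.isKoszulRegularSeq_map_of_flat (B := AdjoinRoot e) [F] h1
  have h3 : [F].map (algebraMap R₁ (AdjoinRoot e)) = [C F].map π := by
    simp only [List.map_cons, List.map_nil]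
    rw [AdjoinRoot.algebraMap_eq]
    rfl
  rw [h3] at h2
  have hker : RingHom.ker π = Ideal.ofList [e] := by
    rw [Ideal.ofList_singleton]
    exact Ideal.mk_ker
  exact RegComp.isKoszulRegularSeq_append_of_surjective π Ideal.Quotient.mk_surjective [e]
    (isKoszulRegularSeq_CX_sub_one G) hker [C F] h2

/-- transport of `IsLCI` along an algebra isomorphism -/
theorem isLCI_of_algEquiv {A B B' : Type u} [CommRing A] [CommRing B] [CommRing B'] [Algebra A B]
    [Algebra A B'] (e : B ≃ₐ[A] B') (h : LCI.IsLCI A B) : LCI.IsLCI A B' := by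
  obtain ⟨hft, n, α, hα, hI⟩ := h
  refine ⟨hft.equiv e, n, e.toAlgHom.comp α, e.surjective.comp hα, ?_⟩
  have : RingHom.ker (e.toAlgHom.comp α).toRingHom = RingHom.ker α.toRingHom := by
    ext x
    simp only [RingHom.mem_ker]
    change e (α x) = 0 ↔ α x = 0
    exact e.map_eq_zero_iff
  rwa [this]

end SmoothLCI

end Groth.Agent.Lib.Helper1.KRegIdeal
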