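import Mathlib
import Groth.Agent.Lib.Helper1.KRegIdeal10

set_option autoImplicit false
set_option linter.style.haveILetI false
universe u

namespace Groth.Agent.Lib.Helper1.KRegIdeal

open Groth.Agent.Lib.Helper1 Polynomial

section SmoothLCI2

open scoped Bivariate in
theorem isLCI_standardEtalePair (A T : Type u) [CommRing A] [CommRing T] [Algebra A T] (k : ℕ)
    (ψ : MvPolynomial (Fin k) A ≃ₐ[A] T[X][Y]) (P : StandardEtalePair T) :
    LCI.IsLCI A (T[X][Y] ⧸ (Ideal.span {C P.f, Y * C P.g - 1} : Ideal T[X][Y])) := by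
  set I : Ideal T[X][Y] := Ideal.span {C P.f, Y * C P.g - 1} with hIdef
  let α : MvPolynomial (Fin k) A →ₐ[A] (T[X][Y] ⧸ I) := (Ideal.Quotient.mkₐ A I).comp ψ.toAlgHom
  have hα : Function.Surjective α :=
    (Ideal.Quotient.mkₐ_surjective A I).comp ψ.surjective
  refine ⟨Algebra.FiniteType.of_surjective α hα, k, α, hα, ?_⟩
  have hI : I = Ideal.ofList [C P.f, C P.g * X - 1] := by
    have hY : (Y : T[X][Y]) * C P.g - 1 = C P.g * X - 1 := by rw [mul_comm]
    rw [hIdef, hY]
    change Ideal.span _ = Ideal.span _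
    congr 1
    ext x
    simp only [Set.mem_insert_iff, Set.mem_singleton_iff, Set.mem_ofPred_eq, List.mem_cons,
      List.not_mem_nil, or_false]
  have hIreg : LCI.IsKoszulRegularIdeal I := by
    rw [hI]
    apply isKoszulRegularIdeal_ofList
    apply isKoszulRegularSeq_standardEtale
    exact P.monic_f.isRegular.left.isSMulRegular
  have h1 := isKoszulRegularIdeal_comap_equiv ψ.toRingEquiv I hIreg
  have h2 : RingHom.ker α.toRingHom = Ideal.comap (ψ.toRingEquiv : _ →+* _) I := by
    have : I = RingHom.ker (Ideal.Quotient.mkₐ A I).toRingHom := (Ideal.mk_ker).symm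
    conv_rhs => rw [this]
    rw [RingHom.comap_ker]
    rfl
  rw [h2]
  exact h1

open scoped Bivariate in
theorem isLCI_of_standardEtalePresentation (A T B' : Type u) [CommRing A] [CommRing T]
    [CommRing B'] [Algebra A T] [Algebra A B'] [Algebra T B'] [IsScalarTower A T B'] (k : ℕ)
    (ψ : MvPolynomial (Fin k) A ≃ₐ[A] T[X][Y]) (P : StandardEtalePresentation T B') :
    LCI.IsLCI A B' := by
  have h := isLCI_standardEtalePair A T k ψ P.P
  let e₁ : B' ≃ₐ[T] (T[X][Y] ⧸ (Ideal.span {C P.P.f, Y * C P.P.g - 1} : Ideal T[X][Y])) :=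
    P.equivRing
  exact isLCI_of_algEquiv (e₁.restrictScalars A).symm h

theorem isLCI_of_isStandardEtale_mvPolynomial (A : Type u) [CommRing A] (n : ℕ) (B' : Type u)
    [CommRing B'] [Algebra A B'] [Algebra (MvPolynomial (Fin n) A) B']
    [IsScalarTower A (MvPolynomial (Fin n) A) B']
    [Algebra.IsStandardEtale (MvPolynomial (Fin n) A) B'] : LCI.IsLCI A B' := by
  obtain ⟨P⟩ := Algebra.IsStandardEtale.nonempty_standardEtalePresentation
    (R := MvPolynomial (Fin n) A) (S := B')
  let ψ : MvPolynomial (Fin (n + 2)) A ≃ₐ[A] Polynomial (Polynomial (MvPolynomial (Fin n) A)) :=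
    (MvPolynomial.finSuccEquiv A (n + 1)).trans
      (Polynomial.mapAlgEquiv (MvPolynomial.finSuccEquiv A n))
  exact isLCI_of_standardEtalePresentation A (MvPolynomial (Fin n) A) B' (n + 2) ψ P

/-- a smooth algebra is a local complete intersection -/
theorem isLCI_of_smooth (A B : Type u) [CommRing A] [CommRing B] [Algebra A B]
    [Algebra.Smooth A B] : LCI.IsLCI A B := by
  let s : Set B := {f | LCI.IsLCI A (Localization.Away f)}
  have hs : Ideal.span s = ⊤ := by
    by_contra hne
    obtain ⟨m, hm, hle⟩ := Ideal.exists_le_maximal _ hne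
    haveI : m.IsPrime := hm.isPrime
    haveI : Algebra.FormallySmooth B (Localization.AtPrime m) :=
      Algebra.FormallySmooth.of_isLocalization m.primeCompl
    haveI : Algebra.IsSmoothAt A m := Algebra.FormallySmooth.comp A B (Localization.AtPrime m)
    obtain ⟨f, hfm, n, alg, tow, hse⟩ :=
      Algebra.IsSmoothAt.exists_isStandardEtale_mvPolynomial (R := A) (S := B) (p := m)
    have hf : f ∈ s := isLCI_of_isStandardEtale_mvPolynomial A n (Localization.Away f)
    exact hfm (hle (Ideal.subset_span hf))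
  apply isLCI_of_span_eq_top A B s hs
  intro u hu
  exact ⟨Localization.Away u, inferInstance, inferInstance, inferInstance, inferInstance,
    inferInstance, hu⟩

end SmoothLCI2

end Groth.Agent.Lib.Helper1.KRegIdeal
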