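import Mathlib
import Groth.Agent.Lib.Helper1.KRegIdeal11

set_option autoImplicit false
set_option linter.style.haveILetI false
universe u

namespace Groth.Agent.Lib.Helper1.KRegIdeal

open Groth.Agent.Lib.Helper1

section Surj

variable (A C : Type u) [CommRing A] [CommRing C] [Algebra A C]

/-- the presentation in zero variables -/
noncomputable def pres0 : MvPolynomial (Fin 0) A →ₐ[A] C :=
  (Algebra.ofId A C).comp (MvPolynomial.isEmptyAlgEquiv A (Fin 0)).toAlgHom

theorem pres0_surjective (hs : Function.Surjective (algebraMap A C)) :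
    Function.Surjective (pres0 A C) :=
  hs.comp (MvPolynomial.isEmptyAlgEquiv A (Fin 0)).surjective

theorem ker_pres0 : RingHom.ker (pres0 A C).toRingHom =
    Ideal.comap ((MvPolynomial.isEmptyAlgEquiv A (Fin 0)).toRingEquiv : _ →+* A)
      (RingHom.ker (algebraMap A C)) := by
  rw [RingHom.comap_ker]
  rfl

theorem ker_algebraMap_eq : RingHom.ker (algebraMap A C) =
    Ideal.comap ((MvPolynomial.isEmptyAlgEquiv A (Fin 0)).symm.toRingEquiv : A →+* _)
      (RingHom.ker (pres0 A C).toRingHom) := by
  rw [RingHom.comap_ker]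
  congr 1
  refine RingHom.ext fun a => ?_
  change algebraMap A C a = algebraMap A C ((MvPolynomial.isEmptyAlgEquiv A (Fin 0))
    ((MvPolynomial.isEmptyAlgEquiv A (Fin 0)).symm a))
  rw [AlgEquiv.apply_symm_apply]

theorem isLCI_of_surjective (hs : Function.Surjective (algebraMap A C))
    (hK : LCI.IsKoszulRegularIdeal (RingHom.ker (algebraMap A C))) : LCI.IsLCI A C := by
  refine ⟨Algebra.FiniteType.of_surjective (pres0 A C) (pres0_surjective A C hs), 0, pres0 A C,
    pres0_surjective A C hs, ?_⟩
  rw [ker_pres0]
  exact isKoszulRegularIdeal_comap_equiv _ _ hK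

theorem isKoszulRegularIdeal_ker_of_isLCI (h : LCI.IsLCI A C)
    (hs : Function.Surjective (algebraMap A C)) :
    LCI.IsKoszulRegularIdeal (RingHom.ker (algebraMap A C)) := by
  obtain ⟨-, n, α, hα, hI⟩ := h
  have h1 := isKoszulRegularIdeal_ker_of_other_presentation A C n 0 α hα (pres0 A C)
    (pres0_surjective A C hs) hI
  rw [ker_algebraMap_eq]
  exact isKoszulRegularIdeal_comap_equiv _ _ h1

end Surj

/-- key ring-level statement: a Koszul-regular quotient of a smooth algebra which is also a
quotient of the base has Koszul-regular kernel over the base -/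
theorem isKoszulRegularIdeal_ker_of_smooth (A B C : Type u) [CommRing A] [CommRing B] [CommRing C]
    [Algebra A B] [Algebra B C] [Algebra A C] [IsScalarTower A B C] [Algebra.Smooth A B]
    (hBC : Function.Surjective (algebraMap B C))
    (hJ : LCI.IsKoszulRegularIdeal (RingHom.ker (algebraMap B C)))
    (hAC : Function.Surjective (algebraMap A C)) :
    LCI.IsKoszulRegularIdeal (RingHom.ker (algebraMap A C)) := by
  apply isKoszulRegularIdeal_ker_of_isLCI A C _ hAC
  exact isLCI_comp A B C (isLCI_of_smooth A B) (isLCI_of_surjective B C hBC hJ)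

end Groth.Agent.Lib.Helper1.KRegIdeal
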