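import Mathlib
import Groth.Agent.Lib.Helper1.KRegIdeal12

set_option autoImplicit false
set_option linter.style.haveILetI false
universe u
open CategoryTheory CategoryTheory.Limits CochainComplex MonoidalCategory

namespace Groth.Agent.Lib.Helper1.KDesc

open Groth.Agent.Lib.Helper14.KoszulFun Groth.Agent.Lib.Helper1

section Homology

variable {R : Type u} [CommRing R]

/-- Koszul homology over a flat algebra `Y` is the base change of Koszul homology -/
theorem nonempty_homology_iso (Y : Type u) [CommRing Y] [Algebra R Y] [Module.Flat R Y]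
    (l : List R) (i : ℤ) :
    Nonempty ((CohIII.koszulCx ((ModuleCat.restrictScalars.{u} (algebraMap R Y)).obj
        (ModuleCat.of Y Y)) l).homology i ≅
      ModuleCat.of R Y ⊗ (CohIII.koszulCx (ModuleCat.of R R) l).homology i) := by
  haveI : Module.Flat R (ModuleCat.of R Y) := inferInstanceAs (Module.Flat R Y)
  let e : ModuleCat.of R Y ⊗ ModuleCat.of R R ≅
      (ModuleCat.restrictScalars.{u} (algebraMap R Y)).obj (ModuleCat.of Y Y) :=
    ρ_ (ModuleCat.of R Y) ≪≫ KoszulConcat.algIso Y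
  obtain ⟨e2⟩ := nonempty_mapKoszulIso (tensorLeft (ModuleCat.of R Y)) (ModuleCat.of R R)
    (forall₂_tensorLeft (ModuleCat.of R Y) l)
  let K := CohIII.koszulCx (ModuleCat.of R R) l
  let e3 : (((tensorLeft (ModuleCat.of R Y)).mapHomologicalComplex (ComplexShape.up ℤ)).obj
      K).homology i ≅ (tensorLeft (ModuleCat.of R Y)).obj (K.homology i) :=
    (K.sc i).mapHomologyIso (tensorLeft (ModuleCat.of R Y))
  exact ⟨((HomologicalComplex.homologyFunctor _ _ i).mapIso (koszulIso e l)).symm ≪≫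
    ((HomologicalComplex.homologyFunctor _ _ i).mapIso e2).symm ≪≫ e3⟩

/-- local criterion for Koszul-regularity along flat algebras reaching every maximal ideal -/
theorem isKoszulRegularSeq_of_forall_prime (l : List R)
    (H : ∀ P : PrimeSpectrum R, ∃ (Y : Type u) (_ : CommRing Y) (_ : Algebra R Y)
      (_ : Module.Flat R Y), (∃ Q : Ideal Y, Q ≠ ⊤ ∧ P.asIdeal.map (algebraMap R Y) ≤ Q) ∧
        LCI.IsKoszulRegularSeq Y (l.map (algebraMap R Y))) :
    LCI.IsKoszulRegularSeq R l := by
  rw [isKoszulRegularSeq_iff]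
  intro i hi
  set Hm := (CohIII.koszulCx (ModuleCat.of R R) l).homology i with hHm
  rw [ModuleCat.isZero_iff_subsingleton]
  refine ⟨fun x y => ?_⟩
  suffices h0 : ∀ z : Hm, z = 0 by rw [h0 x, h0 y]
  intro x
  let φ : R →ₗ[R] Hm := LinearMap.toSpanSingleton R Hm x
  let 𝔞 : Ideal R := LinearMap.ker φ
  by_cases htop : 𝔞 = ⊤
  · have h1 : (1 : R) ∈ LinearMap.ker φ := by
      change (1 : R) ∈ 𝔞
      rw [htop]; trivial
    have h2 : φ 1 = 0 := h1
    simpa [φ] using h2
  · exfalso
    obtain ⟨m, hm, hle⟩ := Ideal.exists_le_maximal 𝔞 htop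
    obtain ⟨Y, _, _, _, ⟨Q, hQ, hPQ⟩, hreg⟩ := H ⟨m, hm.isPrime⟩
    rw [isKoszulRegularSeq_iff] at hreg
    have h1 := (isZero_homology_koszul_restrictScalars_iff (algebraMap R Y)
      (ModuleCat.of Y Y) l i).mpr (hreg i hi)
    obtain ⟨e⟩ := nonempty_homology_iso Y l i
    have h2 : IsZero (ModuleCat.of R Y ⊗ Hm) := h1.of_iso e.symm
    haveI hsub : Subsingleton (TensorProduct R Y Hm) :=
      ModuleCat.subsingleton_of_isZero h2
    -- `R ⧸ 𝔞` injects into `Hm`
    let ψ : (R ⧸ 𝔞) →ₗ[R] Hm := Submodule.liftQ 𝔞 φ le_rfl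
    have hψ : Function.Injective ψ := by
      rw [← LinearMap.ker_eq_bot]
      exact Submodule.ker_liftQ_eq_bot _ _ _ le_rfl
    have hinj := Module.Flat.lTensor_preserves_injective_linearMap (M := Y) ψ hψ
    haveI : Subsingleton (TensorProduct R Y (R ⧸ 𝔞)) := hinj.subsingleton
    haveI : Subsingleton (Y ⧸ (𝔞 • (⊤ : Submodule R Y))) :=
      (TensorProduct.tensorQuotEquivQuotSMul Y 𝔞).symm.injective.subsingleton
    have h3 : (𝔞 • (⊤ : Submodule R Y)) = ⊤ := by
      rw [← Submodule.Quotient.subsingleton_iff]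
      infer_instance
    rw [Ideal.smul_top_eq_map] at h3
    have h4 : (1 : Y) ∈ (𝔞.map (algebraMap R Y)) := by
      have : (1 : Y) ∈ (Ideal.map (algebraMap R Y) 𝔞).restrictScalars R := by rw [h3]; trivial
      exact this
    apply hQ
    rw [Ideal.eq_top_iff_one]
    exact hPQ (Ideal.map_mono hle h4)

end Homology

end Groth.Agent.Lib.Helper1.KDesc
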