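import Mathlib
import Groth.Agent.Lib.Helper1.KDesc1

set_option autoImplicit false
set_option linter.style.haveILetI false
universe u
open CategoryTheory CategoryTheory.Limits

namespace Groth.Agent.Lib.Helper1.KDesc

open Groth.Agent.Lib.Helper1

section Ann

variable {R : Type u} [CommRing R]

/-- Lemma ANN: if `1 ⊗ x = 0` in `Y ⊗ M` for a flat algebra `Y` in which `P` generates a proper
ideal, then some element outside `P` kills `x` -/
theorem exists_notMem_smul_eq_zero (M : Type u) [AddCommGroup M] [Module R M] (x : M)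
    (Y : Type u) [CommRing Y] [Algebra R Y] [Module.Flat R Y] (P : Ideal R) (Q : Ideal Y)
    (hQ : Q ≠ ⊤) (hPQ : P.map (algebraMap R Y) ≤ Q)
    (hx : (1 : Y) ⊗ₜ[R] x = 0) : ∃ s : R, s ∉ P ∧ s • x = 0 := by
  let φ : R →ₗ[R] M := LinearMap.toSpanSingleton R M x
  let 𝔞 : Ideal R := LinearMap.ker φ
  by_contra hcon
  push Not at hcon
  have hle : 𝔞 ≤ P := by
    intro s hs
    by_contra hsP
    apply hcon s hsP
    have : φ s = 0 := hs
    simpa [φ] using this
  let ψ : (R ⧸ 𝔞) →ₗ[R] M := Submodule.liftQ 𝔞 φ le_rfl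
  have hψ : Function.Injective ψ := by
    rw [← LinearMap.ker_eq_bot]
    exact Submodule.ker_liftQ_eq_bot _ _ _ le_rfl
  have hinj := Module.Flat.lTensor_preserves_injective_linearMap (M := Y) ψ hψ
  have h1 : (1 : Y) ⊗ₜ[R] (Submodule.Quotient.mk (1 : R) : R ⧸ 𝔞) = 0 := by
    apply hinj
    rw [LinearMap.lTensor_tmul, map_zero]
    have : ψ (Submodule.Quotient.mk (1 : R)) = x := by
      change φ 1 = x
      simp [φ]
    rw [this, hx]
  have h2 := congrArg (TensorProduct.tensorQuotEquivQuotSMul Y 𝔞) h1
  rw [map_zero] at h2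
  have h3 : (TensorProduct.tensorQuotEquivQuotSMul Y 𝔞)
      ((1 : Y) ⊗ₜ[R] (Submodule.Quotient.mk (1 : R) : R ⧸ 𝔞)) =
      Submodule.Quotient.mk ((1 : R) • (1 : Y)) := by
    change (TensorProduct.quotTensorEquivQuotSMul Y 𝔞)
      ((Ideal.Quotient.mk 𝔞 1) ⊗ₜ[R] (1 : Y)) = _
    exact TensorProduct.quotTensorEquivQuotSMul_mk_tmul 𝔞 1 1
  rw [h3, one_smul, Submodule.Quotient.mk_eq_zero, Ideal.smul_top_eq_map] at h2
  have h4 : (1 : Y) ∈ 𝔞.map (algebraMap R Y) := h2
  apply hQ
  rw [Ideal.eq_top_iff_one]
  exact hPQ (Ideal.map_mono hle h4)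

end Ann

section Unit

variable {R : Type u} [CommRing R]

/-- a sequence generating the unit ideal is Koszul-regular -/
theorem isKoszulRegularSeq_of_ofList_eq_top (l : List R) (h : Ideal.ofList l = ⊤) :
    LCI.IsKoszulRegularSeq R l := by
  intro n _
  have h1 := KoszulSwap.homologyMap_smul_eq_zero l 1 (by rw [h]; trivial) n
  rw [one_smul, HomologicalComplex.homologyMap_id] at h1
  exact (IsZero.iff_id_eq_zero _).mpr h1

end Unit

section LocLen

variable {B : Type u} [CommRing B]

/-- `J` is generated in the local ring at `q` by a Koszul-regular sequence of length `r` -/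
def LocLen (J : Ideal B) (q : Ideal B) [q.IsPrime] (r : ℕ) : Prop :=
  ∃ l : List (Localization.AtPrime q), l.length = r ∧
    LCI.IsKoszulRegularSeq (Localization.AtPrime q) l ∧
    J.map (algebraMap B (Localization.AtPrime q)) = Ideal.ofList l

theorem map_ne_top (J : Ideal B) (q : Ideal B) [q.IsPrime] (hJq : J ≤ q) :
    J.map (algebraMap B (Localization.AtPrime q)) ≠ ⊤ := by
  intro htop
  have h1 : (IsLocalRing.maximalIdeal (Localization.AtPrime q)) = ⊤ := by
    rw [eq_top_iff, ← htop, ← Localization.AtPrime.map_eq_maximalIdeal]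
    exact Ideal.map_mono hJq
  exact Ideal.IsPrime.ne_top inferInstance h1

theorem LocLen.unique {J : Ideal B} {q : Ideal B} [q.IsPrime] {r r' : ℕ} (hJq : J ≤ q)
    (h : LocLen J q r) (h' : LocLen J q r') : r = r' := by
  obtain ⟨l, hlen, hl, hJ⟩ := h
  obtain ⟨l', hlen', hl', hJ'⟩ := h'
  have hne : Ideal.ofList l ≠ ⊤ := by rw [← hJ]; exact map_ne_top J q hJq
  have hne' : Ideal.ofList l' ≠ ⊤ := by rw [← hJ']; exact map_ne_top J q hJq
  have h1 := KoszulSwap.length_le_of_ofList_eq l' l (hJ'.symm.trans hJ) hne hl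
  have h2 := KoszulSwap.length_le_of_ofList_eq l l' (hJ.symm.trans hJ') hne' hl'
  omega

/-- from a Koszul-regular chart to the local ring -/
theorem IsKRegNear.locLen {J : Ideal B} {h : B} {r : ℕ} (hN : KRegIdeal.IsKRegNear J h r)
    (q : Ideal B) [q.IsPrime] (hq : h ∉ q) : LocLen J q r := by
  obtain ⟨l, hlen, hl, hJ⟩ := hN.forall_loc (Localization.Away h)
  have hunit : IsUnit (algebraMap B (Localization.AtPrime q) h) :=
    IsLocalization.map_units (M := q.primeCompl) (Localization.AtPrime q) ⟨h, hq⟩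
  let φ : Localization.Away h →+* Localization.AtPrime q := IsLocalization.Away.lift h hunit
  have hφ : ∀ b, φ (algebraMap B (Localization.Away h) b) =
      algebraMap B (Localization.AtPrime q) b := fun b => IsLocalization.Away.lift_eq h hunit b
  letI : Algebra (Localization.Away h) (Localization.AtPrime q) := φ.toAlgebra
  haveI : IsScalarTower B (Localization.Away h) (Localization.AtPrime q) :=
    IsScalarTower.of_algebraMap_eq (fun b => (hφ b).symm)
  haveI : Module.Flat B (Localization.AtPrime q) :=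
    IsLocalization.flat (Localization.AtPrime q) q.primeCompl
  haveI : Module.Flat (Localization.Away h) (Localization.AtPrime q) :=
    (Module.flat_iff_of_isLocalization (Localization.Away h) (Submonoid.powers h)
      (Localization.AtPrime q)).mpr inferInstance
  refine ⟨l.map (algebraMap (Localization.Away h) (Localization.AtPrime q)), by simpa using hlen,
    KoszulConcat.isKoszulRegularSeq_map_of_flat l hl, ?_⟩
  rw [RegComp.ofList_map, ← hJ, Ideal.map_map, ← IsScalarTower.algebraMap_eq]

/-- in the local ring any generating sequence of the right length is Koszul-regular -/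
theorem LocLen.isKoszulRegularSeq {J : Ideal B} {q : Ideal B} [q.IsPrime] {r : ℕ}
    (h : LocLen J q r) (f : List (Localization.AtPrime q)) (hlen : f.length = r)
    (hf : J.map (algebraMap B (Localization.AtPrime q)) = Ideal.ofList f) :
    LCI.IsKoszulRegularSeq (Localization.AtPrime q) f := by
  obtain ⟨l, hlen', hl, hJ⟩ := h
  exact KoszulSwap.isKoszulRegularSeq_of_ofList_eq f l (hlen.trans hlen'.symm)
    (hf.symm.trans hJ) hl

end LocLen

end Groth.Agent.Lib.Helper1.KDesc
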