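import Mathlib
import Groth.Agent.Lib.Helper1.KDesc2

set_option autoImplicit false
set_option linter.style.haveILetI false
universe u

namespace Groth.Agent.Lib.Helper1.KDesc

open Groth.Agent.Lib.Helper1

section LocalExchange

variable {R : Type u} [CommRing R] [IsLocalRing R]

omit [IsLocalRing R] in
theorem ofList_append_cons (E k' : List R) (k₁ : R) :
    Ideal.ofList (E ++ k₁ :: k') = Ideal.ofList (E ++ k') ⊔ Ideal.span {k₁} := by
  rw [Ideal.ofList_append, Ideal.ofList_cons, Ideal.ofList_append]
  rw [sup_comm (Ideal.span {k₁}), ← sup_assoc]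

/-- exchange in a local ring: generators can be taken from a spanning set (padding with zeros) -/
theorem exists_generators_of_span (𝔍 : Ideal R) (T : Set R) (hT : Ideal.span T = 𝔍) :
    ∀ (k E : List R), Ideal.ofList (E ++ k) = 𝔍 →
      ∃ t : List R, t.length = k.length ∧ (∀ x ∈ t, x ∈ T ∨ x = 0) ∧
        Ideal.ofList (E ++ t) = 𝔍 := by
  intro k
  induction k with
  | nil =>
    intro E hE
    exact ⟨[], rfl, by simp, hE⟩
  | cons k₁ k' ih =>
    intro E hE
    set 𝔍₀ := Ideal.ofList (E ++ k') with h𝔍₀
    have hdec : 𝔍 = 𝔍₀ ⊔ Ideal.span {k₁} := by rw [← hE, ofList_append_cons]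
    have hTle : T ⊆ 𝔍 := by rw [← hT]; exact Ideal.subset_span
    by_cases h : ∃ s ∈ T, ∃ c : R, IsUnit c ∧ s - c * k₁ ∈ 𝔍₀
    · -- Case A
      obtain ⟨s, hsT, c, hc, hsc⟩ := h
      have hk₁ : k₁ ∈ 𝔍₀ ⊔ Ideal.span {s} := by
        obtain ⟨u, rfl⟩ := hc
        have : k₁ = (↑u⁻¹ : R) * s - (↑u⁻¹ : R) * (s - ↑u * k₁) := by
          rw [mul_sub, ← mul_assoc, Units.inv_mul, one_mul]; ring
        rw [this]
        apply Ideal.sub_mem
        · exact Ideal.mul_mem_left _ _ (Ideal.mem_sup_right (Ideal.mem_span_singleton_self s))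
        · exact Ideal.mul_mem_left _ _ (Ideal.mem_sup_left hsc)
      have hE' : Ideal.ofList ((E ++ [s]) ++ k') = 𝔍 := by
        rw [List.append_assoc, List.singleton_append, ofList_append_cons]
        apply le_antisymm
        · rw [hdec]
          apply sup_le
          · exact le_sup_left
          · rw [Ideal.span_le, Set.singleton_subset_iff]
            have := hTle hsT
            rwa [hdec] at this
        · rw [hdec]
          apply sup_le le_sup_left
          rw [Ideal.span_le, Set.singleton_subset_iff]
          exact hk₁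
      obtain ⟨t', hlen, ht', hgen⟩ := ih (E ++ [s]) hE'
      refine ⟨s :: t', by simp [hlen], ?_, ?_⟩
      · intro x hx
        rcases List.mem_cons.mp hx with rfl | hx
        · exact Or.inl hsT
        · exact ht' x hx
      · rwa [List.append_assoc, List.singleton_append] at hgen
    · -- Case B
      push Not at h
      set 𝔍₁ := 𝔍₀ ⊔ (IsLocalRing.maximalIdeal R * Ideal.span {k₁}) with h𝔍₁
      have hT1 : T ⊆ 𝔍₁ := by
        intro s hsT
        have hs : s ∈ 𝔍₀ ⊔ Ideal.span {k₁} := by rw [← hdec]; exact hTle hsT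
        obtain ⟨a, ha, b, hb, rfl⟩ := Submodule.mem_sup.mp hs
        obtain ⟨c, rfl⟩ := Ideal.mem_span_singleton'.mp hb
        have hc : ¬ IsUnit c := by
          intro hu
          apply h (a + c * k₁) hsT c hu
          have : a + c * k₁ - c * k₁ = a := by ring
          rw [this]; exact ha
        apply Ideal.add_mem
        · exact Ideal.mem_sup_left ha
        · apply Ideal.mem_sup_right
          exact Ideal.mul_mem_mul ((IsLocalRing.mem_maximalIdeal c).mpr hc)
            (Ideal.mem_span_singleton_self k₁)
      have h𝔍le : 𝔍 ≤ 𝔍₁ := by rw [← hT]; exact Ideal.span_le.mpr hT1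
      have hk₁ : k₁ ∈ 𝔍₀ := by
        have h0 : k₁ ∈ 𝔍 := by
          rw [hdec]
          exact Ideal.mem_sup_right (Ideal.mem_span_singleton_self k₁)
        have h1 : k₁ ∈ 𝔍₁ := h𝔍le h0
        obtain ⟨a, ha, b, hb, hab⟩ := Submodule.mem_sup.mp h1
        obtain ⟨μ, hμ, rfl⟩ := Ideal.mem_mul_span_singleton.mp hb
        have hunit : IsUnit (1 - μ) := by
          have := IsLocalRing.isUnit_or_isUnit_one_sub_self μ
          rcases this with h2 | h2
          · exact absurd h2 ((IsLocalRing.mem_maximalIdeal μ).mp hμ)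
          · exact h2
        obtain ⟨u, hu⟩ := hunit
        have h3 : k₁ = (↑u⁻¹ : R) * a := by
          have h4 : (↑u : R) * k₁ = a := by rw [hu]; linear_combination -hab
          rw [← h4, ← mul_assoc, Units.inv_mul, one_mul]
        rw [h3]
        exact Ideal.mul_mem_left _ _ ha
      have h𝔍eq : 𝔍 = 𝔍₀ := by
        rw [hdec]
        apply le_antisymm
        · apply sup_le le_rfl
          rw [Ideal.span_le, Set.singleton_subset_iff]; exact hk₁
        · exact le_sup_left
      have hE' : Ideal.ofList ((E ++ [0]) ++ k') = 𝔍 := by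
        rw [List.append_assoc, List.singleton_append, ofList_append_cons, ← h𝔍₀, h𝔍eq]
        apply le_antisymm
        · apply sup_le le_rfl
          rw [Ideal.span_le, Set.singleton_subset_iff]; exact Ideal.zero_mem _
        · exact le_sup_left
      obtain ⟨t', hlen, ht', hgen⟩ := ih (E ++ [0]) hE'
      refine ⟨0 :: t', by simp [hlen], ?_, ?_⟩
      · intro x hx
        rcases List.mem_cons.mp hx with rfl | hx
        · exact Or.inr rfl
        · exact ht' x hx
      · rwa [List.append_assoc, List.singleton_append] at hgen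

end LocalExchange

section L3

variable {A B : Type u} [CommRing A] [CommRing B] [Algebra A B]

/-- (L3') generators of `I B_q` coming from `I` -/
theorem LocLen.exists_generators (I : Ideal A) (q : Ideal B) [q.IsPrime] (r : ℕ)
    (h : LocLen (I.map (algebraMap A B)) q r) :
    ∃ f : List A, f.length = r ∧ (∀ x ∈ f, x ∈ I) ∧
      I.map (algebraMap A (Localization.AtPrime q)) =
        Ideal.ofList (f.map (algebraMap A (Localization.AtPrime q))) := by
  obtain ⟨l, hlen, -, hJ⟩ := h
  rw [Ideal.map_map, ← IsScalarTower.algebraMap_eq] at hJ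
  obtain ⟨t, htlen, htT, htgen⟩ := exists_generators_of_span
    (I.map (algebraMap A (Localization.AtPrime q)))
    ((algebraMap A (Localization.AtPrime q)) '' (I : Set A)) rfl l [] (by simpa using hJ.symm)
  have key : ∀ t : List (Localization.AtPrime q),
      (∀ x ∈ t, x ∈ (algebraMap A (Localization.AtPrime q)) '' (I : Set A) ∨ x = 0) →
      ∃ f : List A, (∀ x ∈ f, x ∈ I) ∧ f.map (algebraMap A (Localization.AtPrime q)) = t := by
    intro t
    induction t with
    | nil => intro _; exact ⟨[], by simp, rfl⟩
    | cons a t ih =>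
      intro h
      obtain ⟨f, hf, hft⟩ := ih (fun x hx => h x (List.mem_cons_of_mem _ hx))
      rcases h a List.mem_cons_self with ⟨a₀, ha₀, rfl⟩ | rfl
      · refine ⟨a₀ :: f, ?_, by rw [List.map_cons, hft]⟩
        intro x hx
        rcases List.mem_cons.mp hx with rfl | hx
        · exact ha₀
        · exact hf x hx
      · refine ⟨0 :: f, ?_, by rw [List.map_cons, hft, map_zero]⟩
        intro x hx
        rcases List.mem_cons.mp hx with rfl | hx
        · exact Ideal.zero_mem _
        · exact hf x hx
  obtain ⟨f, hfI, hft⟩ := key t htT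
  refine ⟨f, ?_, hfI, ?_⟩
  · rw [← hlen, ← htlen, ← hft, List.length_map]
  · rw [hft]
    simpa using htgen.symm

end L3

end Groth.Agent.Lib.Helper1.KDesc
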