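import Mathlib
import Groth.Agent.Lib.Helper1.KDesc3

set_option autoImplicit false
set_option linter.style.haveILetI false
universe u
open CategoryTheory CategoryTheory.Limits

namespace Groth.Agent.Lib.Helper1.KDesc

open Groth.Agent.Lib.Helper1

section FG

variable {B : Type u} [CommRing B]

theorem ofList_fg (l : List B) : (Ideal.ofList l).FG := by
  classical
  refine ⟨l.toFinset, ?_⟩
  unfold Ideal.ofList
  congr 1
  ext x
  simp

/-- a Koszul-regular ideal is finitely generated -/
theorem fg_of_isKoszulRegularIdeal (J : Ideal B) (h : LCI.IsKoszulRegularIdeal J) : J.FG := by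
  let t : Set B := {g | (J.map (algebraMap B (Localization.Away g))).FG}
  have ht : Ideal.span t = ⊤ := by
    by_contra hne
    obtain ⟨m, hm, hle⟩ := Ideal.exists_le_maximal _ hne
    haveI := hm.isPrime
    by_cases hJ : J ≤ m
    · obtain ⟨g, hg, l, -, hl⟩ := h ⟨m, hm.isPrime⟩ hJ
      apply hg
      apply hle
      apply Ideal.subset_span
      change (J.map (algebraMap B (Localization.Away g))).FG
      rw [hl]
      exact ofList_fg l
    · obtain ⟨g, hgJ, hgm⟩ := Set.not_subset.mp hJ
      apply hgm
      apply hle
      apply Ideal.subset_span
      change (J.map (algebraMap B (Localization.Away g))).FG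
      have : J.map (algebraMap B (Localization.Away g)) = ⊤ := by
        rw [Ideal.eq_top_iff_one]
        have hu : IsUnit (algebraMap B (Localization.Away g) g) :=
          IsLocalization.Away.algebraMap_isUnit g
        have h1 : algebraMap B (Localization.Away g) g ∈
            J.map (algebraMap B (Localization.Away g)) := Ideal.mem_map_of_mem _ hgJ
        exact (Ideal.eq_top_of_isUnit_mem _ h1 hu) ▸ Submodule.mem_top
      rw [this]
      exact ⟨{1}, by simp⟩
  exact Ideal.fg_of_localizationSpan t ht (fun g => g.2)

end FG

end Groth.Agent.Lib.Helper1.KDesc
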