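import Mathlib
import Groth.Agent.Lib.Helper1.KDesc4

set_option autoImplicit false
set_option linter.style.haveILetI false
universe u
open CategoryTheory CategoryTheory.Limits TensorProduct

namespace Groth.Agent.Lib.Helper1.KDesc

open Groth.Agent.Lib.Helper1

section P3

variable {A : Type u} [CommRing A]

/-- membership in an ideal descends along a flat algebra up to a factor outside `P` -/
theorem exists_notMem_mul_mem (K : Ideal A) (x : A)
    (Y : Type u) [CommRing Y] [Algebra A Y] [Module.Flat A Y] (P : Ideal A) (Q : Ideal Y)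
    (hQ : Q ≠ ⊤) (hPQ : P.map (algebraMap A Y) ≤ Q)
    (hx : algebraMap A Y x ∈ K.map (algebraMap A Y)) : ∃ s : A, s ∉ P ∧ s * x ∈ K := by
  have h0 : (1 : Y) ⊗ₜ[A] (Submodule.Quotient.mk x : A ⧸ K) = 0 := by
    apply (TensorProduct.tensorQuotEquivQuotSMul Y K).injective
    rw [map_zero]
    have h3 : (TensorProduct.tensorQuotEquivQuotSMul Y K)
        ((1 : Y) ⊗ₜ[A] (Submodule.Quotient.mk x : A ⧸ K)) =
        Submodule.Quotient.mk ((x : A) • (1 : Y)) := by
      change (TensorProduct.quotTensorEquivQuotSMul Y K)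
        ((Ideal.Quotient.mk K x) ⊗ₜ[A] (1 : Y)) = _
      exact TensorProduct.quotTensorEquivQuotSMul_mk_tmul K x 1
    rw [h3, Submodule.Quotient.mk_eq_zero, Ideal.smul_top_eq_map]
    change x • (1 : Y) ∈ K.map (algebraMap A Y)
    rwa [Algebra.smul_def, mul_one]
  obtain ⟨s, hs, hsx⟩ := exists_notMem_smul_eq_zero (A ⧸ K) (Submodule.Quotient.mk x) Y P Q hQ hPQ h0
  refine ⟨s, hs, ?_⟩
  rw [← Submodule.Quotient.mk_smul, Submodule.Quotient.mk_eq_zero] at hsx
  simpa using hsx

/-- uniform factor for a finitely generated ideal -/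
theorem exists_notMem_forall_mul_mem (I K : Ideal A) (hI : I.FG) (P : Ideal A) [P.IsPrime]
    (h : ∀ x ∈ I, ∃ s : A, s ∉ P ∧ s * x ∈ K) : ∃ G : A, G ∉ P ∧ ∀ x ∈ I, G * x ∈ K := by
  classical
  obtain ⟨S, hS⟩ := hI
  have hSI : ∀ x ∈ S, x ∈ I := fun x hx => hS ▸ Ideal.subset_span hx
  choose! s hsP hsK using h
  refine ⟨∏ x ∈ S, s x, ?_, ?_⟩
  · intro hmem
    obtain ⟨x, hx, hxP⟩ := (Ideal.IsPrime.prod_mem_iff).mp hmem
    exact hsP x (hSI x hx) hxP
  · intro x hx
    rw [← hS] at hx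
    refine Submodule.span_induction ?_ ?_ ?_ ?_ hx
    · intro y hy
      rw [← Finset.mul_prod_erase S s hy, mul_comm (s y), mul_assoc]
      exact Ideal.mul_mem_left _ _ (hsK y (hSI y hy))
    · simp
    · intro y z _ _ hy hz
      rw [mul_add]
      exact Ideal.add_mem _ hy hz
    · intro a y _ hy
      rw [smul_eq_mul, mul_left_comm]
      exact Ideal.mul_mem_left _ _ hy

/-- (GEN) after inverting `G`, `I` is generated by `f` -/
theorem map_eq_ofList_of_isUnit (I : Ideal A) (f : List A) (G : A) (hf : ∀ x ∈ f, x ∈ I)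
    (hG : ∀ x ∈ I, G * x ∈ Ideal.ofList f) (Y : Type u) [CommRing Y] [Algebra A Y]
    (hu : IsUnit (algebraMap A Y G)) :
    I.map (algebraMap A Y) = Ideal.ofList (f.map (algebraMap A Y)) := by
  rw [RegComp.ofList_map]
  apply le_antisymm
  · rw [Ideal.map_le_iff_le_comap]
    intro x hx
    rw [Ideal.mem_comap]
    have h1 : algebraMap A Y (G * x) ∈ (Ideal.ofList f).map (algebraMap A Y) :=
      Ideal.mem_map_of_mem _ (hG x hx)
    rw [map_mul] at h1
    exact (Ideal.unit_mul_mem_iff_mem _ hu).mp h1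
  · apply Ideal.map_mono
    unfold Ideal.ofList
    rw [Ideal.span_le]
    exact fun x hx => hf x hx

end P3

end Groth.Agent.Lib.Helper1.KDesc
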