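import Mathlib
import Groth.Agent.Lib.Helper1.KDesc5

set_option autoImplicit false
set_option linter.style.haveILetI false
universe u
open CategoryTheory CategoryTheory.Limits TensorProduct

namespace Groth.Agent.Lib.Helper1.KDesc

open Groth.Agent.Lib.Helper1

section FC

variable {A B : Type u} [CommRing A] [CommRing B] [Algebra A B]

theorem comap_map_le_maximalIdeal (q : Ideal B) [q.IsPrime] :
    (q.comap (algebraMap A B)).map (algebraMap A (Localization.AtPrime q)) ≤
      IsLocalRing.maximalIdeal (Localization.AtPrime q) := by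
  rw [Ideal.map_le_iff_le_comap]
  intro x hx
  rw [Ideal.mem_comap, IsScalarTower.algebraMap_apply A B (Localization.AtPrime q),
    ← Localization.AtPrime.map_eq_maximalIdeal]
  exact Ideal.mem_map_of_mem _ hx

theorem isUnit_algebraMap_of_notMem (q : Ideal B) [q.IsPrime] (G : A)
    (hG : G ∉ q.comap (algebraMap A B)) :
    IsUnit (algebraMap A (Localization.AtPrime q) G) := by
  rw [IsScalarTower.algebraMap_apply A B (Localization.AtPrime q)]
  exact IsLocalization.map_units (M := q.primeCompl) (Localization.AtPrime q)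
    ⟨algebraMap A B G, hG⟩

/-- (P3'') the uniform factor at a prime of `B` -/
theorem exists_factor [Module.Flat A B] (I : Ideal A) (hI : I.FG) (q : Ideal B) [q.IsPrime]
    (f : List A)
    (hgen : I.map (algebraMap A (Localization.AtPrime q)) =
      Ideal.ofList (f.map (algebraMap A (Localization.AtPrime q)))) :
    ∃ G : A, G ∉ q.comap (algebraMap A B) ∧ ∀ x ∈ I, G * x ∈ Ideal.ofList f := by
  haveI : Module.Flat B (Localization.AtPrime q) :=
    IsLocalization.flat (Localization.AtPrime q) q.primeCompl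
  haveI : Module.Flat A (Localization.AtPrime q) := Module.Flat.trans A B (Localization.AtPrime q)
  refine exists_notMem_forall_mul_mem I (Ideal.ofList f) hI (q.comap (algebraMap A B)) ?_
  intro x hx
  refine exists_notMem_mul_mem (Ideal.ofList f) x (Localization.AtPrime q)
    (q.comap (algebraMap A B)) (IsLocalRing.maximalIdeal (Localization.AtPrime q))
    (Ideal.IsPrime.ne_top inferInstance) (comap_map_le_maximalIdeal q) ?_
  rw [← RegComp.ofList_map, ← hgen]
  exact Ideal.mem_map_of_mem _ hx

/-- (KL2) the local length is bounded by the number of generators -/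
theorem LocLen.le_of_factor (I : Ideal A) (q : Ideal B) [q.IsPrime] (r : ℕ)
    (h : LocLen (I.map (algebraMap A B)) q r) (hIq : I.map (algebraMap A B) ≤ q)
    (f : List A) (G : A) (hf : ∀ x ∈ f, x ∈ I) (hG : ∀ x ∈ I, G * x ∈ Ideal.ofList f)
    (hGq : G ∉ q.comap (algebraMap A B)) : r ≤ f.length := by
  have hne := map_ne_top _ q hIq
  obtain ⟨l, hlen, hl, hJ⟩ := h
  rw [hJ] at hne
  rw [Ideal.map_map, ← IsScalarTower.algebraMap_eq,
    map_eq_ofList_of_isUnit I f G hf hG (Localization.AtPrime q)
      (isUnit_algebraMap_of_notMem q G hGq)] at hJ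
  have := KoszulSwap.length_le_of_ofList_eq _ l hJ hne hl
  simpa [hlen] using this

/-- (FC) the local length is constant along fibres -/
theorem LocLen.le_of_comap_eq [Module.Flat A B] (I : Ideal A) (hI : I.FG) (q₁ q₂ : Ideal B)
    [q₁.IsPrime] [q₂.IsPrime] (hq : q₁.comap (algebraMap A B) = q₂.comap (algebraMap A B))
    (hIq : I.map (algebraMap A B) ≤ q₁) (r₁ r₂ : ℕ)
    (h₁ : LocLen (I.map (algebraMap A B)) q₁ r₁) (h₂ : LocLen (I.map (algebraMap A B)) q₂ r₂) :
    r₁ ≤ r₂ := by
  obtain ⟨f, hflen, hfI, hgen⟩ := LocLen.exists_generators I q₂ r₂ h₂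
  obtain ⟨G, hG, hGI⟩ := exists_factor I hI q₂ f hgen
  have := LocLen.le_of_factor I q₁ r₁ h₁ hIq f G hfI hGI (hq ▸ hG)
  rwa [hflen] at this

end FC

section Open

variable {B : Type u} [CommRing B]

theorem isOpen_locLen (J : Ideal B) (hJ : LCI.IsKoszulRegularIdeal J) (r : ℕ) :
    IsOpen {q : PrimeSpectrum B | J ≤ q.asIdeal → LocLen J q.asIdeal r} := by
  rw [isOpen_iff_forall_mem_open]
  intro q hq
  by_cases hJq : J ≤ q.asIdeal
  · obtain ⟨g, hg, N, hN⟩ := (KRegIdeal.isKoszulRegularIdeal_iff J).mp hJ q hJq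
    have hNr : N = r := LocLen.unique hJq (IsKRegNear.locLen hN q.asIdeal hg) (hq hJq)
    subst hNr
    refine ⟨PrimeSpectrum.basicOpen g, ?_, (PrimeSpectrum.basicOpen g).isOpen, hg⟩
    intro q' hq' _
    exact IsKRegNear.locLen hN q'.asIdeal hq'
  · obtain ⟨b, hbJ, hbq⟩ := Set.not_subset.mp hJq
    refine ⟨PrimeSpectrum.basicOpen b, ?_, (PrimeSpectrum.basicOpen b).isOpen, hbq⟩
    intro q' hq' hJq'
    exact absurd (hJq' hbJ) hq'

end Open

end Groth.Agent.Lib.Helper1.KDesc
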