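import Mathlib
import Groth.Agent.Lib.Helper1.KDesc6

set_option autoImplicit false
set_option linter.style.haveILetI false
universe u
open CategoryTheory CategoryTheory.Limits TensorProduct

namespace Groth.Agent.Lib.Helper1.KDesc

open Groth.Agent.Lib.Helper1

section Main

variable {A B : Type u} [CommRing A] [CommRing B] [Algebra A B]

/-- faithfully flat descent of Koszul-regular ideals -/
theorem isKoszulRegularIdeal_of_faithfullyFlat [Module.FaithfullyFlat A B] (I : Ideal A)
    (h : LCI.IsKoszulRegularIdeal (I.map (algebraMap A B))) : LCI.IsKoszulRegularIdeal I := by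
  rw [KRegIdeal.isKoszulRegularIdeal_iff]
  intro p hIp
  set J := I.map (algebraMap A B) with hJdef
  have hIfg : I.FG := Ideal.FG.of_FG_map_of_faithfullyFlat (fg_of_isKoszulRegularIdeal _ h)
  obtain ⟨q, hq⟩ := PrimeSpectrum.comap_surjective_of_faithfullyFlat (B := B) p
  have hqp : q.asIdeal.comap (algebraMap A B) = p.asIdeal := by rw [← hq]; rfl
  have hJq : J ≤ q.asIdeal := by
    rw [hJdef, Ideal.map_le_iff_le_comap, hqp]; exact hIp
  obtain ⟨g, hg, r, hN⟩ := (KRegIdeal.isKoszulRegularIdeal_iff J).mp h q hJq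
  have hLL : LocLen J q.asIdeal r := IsKRegNear.locLen hN q.asIdeal hg
  obtain ⟨f, hflen, hfI, hgen⟩ := LocLen.exists_generators I q.asIdeal r hLL
  obtain ⟨G, hG, hGI⟩ := exists_factor I hIfg q.asIdeal f hgen
  rw [hqp] at hG
  -- the open set
  let Ω : Set (PrimeSpectrum B) := {q | J ≤ q.asIdeal → LocLen J q.asIdeal r}
  have hΩ : IsOpen Ω := isOpen_locLen J h r
  let π : PrimeSpectrum B → PrimeSpectrum A := PrimeSpectrum.comap (algebraMap A B)
  have hsat : π ⁻¹' (π '' Ω) = Ω := by
    apply le_antisymm _ (Set.subset_preimage_image π Ω)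
    rintro q₂ ⟨q₁, hq₁, hq12⟩ hJq₂
    have hcomap : q₁.asIdeal.comap (algebraMap A B) = q₂.asIdeal.comap (algebraMap A B) :=
      congrArg PrimeSpectrum.asIdeal hq12
    have hJq₁ : J ≤ q₁.asIdeal := by
      rw [hJdef, Ideal.map_le_iff_le_comap, hcomap, ← Ideal.map_le_iff_le_comap]; exact hJq₂
    obtain ⟨g₂, hg₂, r₂, hN₂⟩ := (KRegIdeal.isKoszulRegularIdeal_iff J).mp h q₂ hJq₂
    have hLL₂ : LocLen J q₂.asIdeal r₂ := IsKRegNear.locLen hN₂ q₂.asIdeal hg₂
    have h1 := LocLen.le_of_comap_eq I hIfg q₁.asIdeal q₂.asIdeal hcomap hJq₁ r r₂ (hq₁ hJq₁) hLL₂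
    have h2 := LocLen.le_of_comap_eq I hIfg q₂.asIdeal q₁.asIdeal hcomap.symm hJq₂ r₂ r hLL₂
      (hq₁ hJq₁)
    have : r₂ = r := le_antisymm h2 h1
    rwa [this] at hLL₂
  have hquot : Topology.IsQuotientMap π :=
    PrimeSpectrum.isQuotientMap_of_generalizingMap
      PrimeSpectrum.comap_surjective_of_faithfullyFlat
      (RingHom.Flat.generalizingMap_comap (RingHom.flat_algebraMap_iff.mpr inferInstance))
  have hW : IsOpen (π '' Ω) := by
    rw [← hquot.isOpen_preimage, hsat]; exact hΩ
  have hpW : p ∈ π '' Ω := ⟨q, fun _ => hLL, hq⟩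
  obtain ⟨_, ⟨G'', rfl⟩, hpG'', hG''W⟩ :=
    PrimeSpectrum.isTopologicalBasis_basic_opens.exists_subset_of_mem_open hpW hW
  refine ⟨G * G'', fun hmem => ?_, r, ?_⟩
  · rcases Ideal.IsPrime.mem_or_mem inferInstance hmem with h1 | h1
    · exact hG h1
    · exact hpG'' h1
  set G' := G * G'' with hG'def
  let R' := Localization.Away G'
  have huG' : IsUnit (algebraMap A R' G') := IsLocalization.Away.algebraMap_isUnit G'
  have huG : IsUnit (algebraMap A R' G) := by
    have h2 : IsUnit (algebraMap A R' G * algebraMap A R' G'') := by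
      rw [← map_mul]; exact huG'
    exact isUnit_of_mul_isUnit_left h2
  refine ⟨R', inferInstance, inferInstance, inferInstance, f.map (algebraMap A R'),
    by simpa using hflen, ?_, map_eq_ofList_of_isUnit I f G hfI hGI R' huG⟩
  apply isKoszulRegularSeq_of_forall_prime
  intro P
  let p' : PrimeSpectrum A := PrimeSpectrum.comap (algebraMap A R') P
  have hG'p' : G' ∉ p'.asIdeal := by
    intro hmem
    have h1 : algebraMap A R' G' ∈ P.asIdeal := hmem
    exact P.isPrime.ne_top (Ideal.eq_top_of_isUnit_mem _ h1 huG')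
  have hG''p' : G'' ∉ p'.asIdeal := fun hmem => hG'p' (Ideal.mul_mem_left _ _ hmem)
  have hGp' : G ∉ p'.asIdeal := fun hmem => hG'p' (Ideal.mul_mem_right _ _ hmem)
  obtain ⟨q₀, hq₀Ω, hq₀⟩ := hG''W (show p' ∈ (PrimeSpectrum.basicOpen G'' : Set _) from hG''p')
  have hq₀p' : q₀.asIdeal.comap (algebraMap A B) = p'.asIdeal := by rw [← hq₀]; rfl
  let Y := Localization.AtPrime q₀.asIdeal
  have hunitG' : IsUnit (algebraMap A Y G') :=
    isUnit_algebraMap_of_notMem q₀.asIdeal G' (by rw [hq₀p']; exact hG'p')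
  have hunitG : IsUnit (algebraMap A Y G) :=
    isUnit_algebraMap_of_notMem q₀.asIdeal G (by rw [hq₀p']; exact hGp')
  let φ : R' →+* Y := IsLocalization.Away.lift G' hunitG'
  have hφ : ∀ a, φ (algebraMap A R' a) = algebraMap A Y a :=
    fun a => IsLocalization.Away.lift_eq G' hunitG' a
  letI : Algebra R' Y := φ.toAlgebra
  haveI : IsScalarTower A R' Y := IsScalarTower.of_algebraMap_eq (fun a => (hφ a).symm)
  haveI : Module.Flat B Y := IsLocalization.flat Y q₀.asIdeal.primeCompl
  haveI : Module.Flat A Y := Module.Flat.trans A B Y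
  haveI : Module.Flat R' Y :=
    (Module.flat_iff_of_isLocalization R' (Submonoid.powers G') Y).mpr inferInstance
  refine ⟨Y, inferInstance, inferInstance, inferInstance,
    ⟨IsLocalRing.maximalIdeal Y, Ideal.IsPrime.ne_top inferInstance, ?_⟩, ?_⟩
  · have h1 : (p'.asIdeal).map (algebraMap A R') = P.asIdeal :=
      IsLocalization.map_under (Submonoid.powers G') R' P.asIdeal
    rw [← h1, Ideal.map_map, ← IsScalarTower.algebraMap_eq, ← hq₀p']
    exact comap_map_le_maximalIdeal q₀.asIdeal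
  · have hmm : (f.map (algebraMap A R')).map (algebraMap R' Y) = f.map (algebraMap A Y) := by
      rw [List.map_map]
      apply List.map_congr_left
      intro a _
      exact hφ a
    rw [hmm]
    have hgenY := map_eq_ofList_of_isUnit I f G hfI hGI Y hunitG
    by_cases hJq₀ : J ≤ q₀.asIdeal
    · refine LocLen.isKoszulRegularSeq (hq₀Ω hJq₀) _ (by simpa using hflen) ?_
      rw [hJdef, Ideal.map_map, ← IsScalarTower.algebraMap_eq]
      exact hgenY
    · apply isKoszulRegularSeq_of_ofList_eq_top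
      rw [← hgenY]
      obtain ⟨b, hbJ, hbq⟩ := Set.not_subset.mp hJq₀
      have hb : IsUnit (algebraMap B Y b) :=
        IsLocalization.map_units (M := q₀.asIdeal.primeCompl) Y ⟨b, hbq⟩
      have h2 : (J.map (algebraMap B Y)) = ⊤ :=
        Ideal.eq_top_of_isUnit_mem _ (Ideal.mem_map_of_mem _ hbJ) hb
      rw [hJdef, Ideal.map_map, ← IsScalarTower.algebraMap_eq] at h2
      exact h2

end Main

end Groth.Agent.Lib.Helper1.KDesc
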