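import Mathlib
import Groth.Agent.Lib.Helper1.KDesc7

set_option autoImplicit false
set_option linter.style.haveILetI false
universe u
open CategoryTheory CategoryTheory.Limits TensorProduct

namespace Groth.Agent.Lib.Helper1.KDesc

open Groth.Agent.Lib.Helper1

section Pi

variable {ι : Type u} [Finite ι] (B : ι → Type u) [∀ k, CommRing (B k)]

/-- (PiK) Koszul-regularity of an ideal in a finite product is checked factorwise -/
theorem isKoszulRegularIdeal_pi (J : Ideal (Π k, B k))
    (h : ∀ k, LCI.IsKoszulRegularIdeal (J.map (Pi.evalRingHom B k))) :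
    LCI.IsKoszulRegularIdeal J := by
  classical
  haveI := Fintype.ofFinite ι
  rw [KRegIdeal.isKoszulRegularIdeal_iff]
  intro P hJP
  have hex : ∃ k, (Pi.single k 1 : Π k, B k) ∉ P.asIdeal := by
    by_contra hcon
    push Not at hcon
    apply P.isPrime.ne_top
    rw [Ideal.eq_top_iff_one]
    have : (1 : Π k, B k) = ∑ k, Pi.single k 1 := by
      ext j
      simp [Finset.sum_apply, Pi.single_apply]
    rw [this]
    exact Ideal.sum_mem _ (fun k _ => hcon k)
  obtain ⟨k, hk⟩ := hex
  letI : Algebra (Π k, B k) (B k) := (Pi.evalRingHom B k).toAlgebra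
  haveI : IsLocalization.Away (Pi.single k 1 : Π k, B k) (B k) := by
    refine IsLocalization.away_of_isIdempotentElem_of_mul ?_ ?_ ?_
    · ext j
      by_cases hj : j = k
      · subst hj; simp
      · simp [Pi.single_apply, hj]
    · intro x y
      change x k = y k ↔ _
      constructor
      · intro hxy
        ext j
        by_cases hj : j = k
        · subst hj; simp [hxy]
        · simp [Pi.single_apply, hj]
      · intro hxy
        have := congrFun hxy k
        simpa using this
    · intro b
      exact ⟨Pi.single k b, by change (Pi.single k b : Π k, B k) k = b; simp⟩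
  exact KRegIdeal.exists_isKRegNear_of_localization J (Pi.single k 1) (B k) (h k) P.asIdeal hJP hk

end Pi

section Family

variable {A : Type u} [CommRing A] {ι : Type u} [Finite ι] (B : ι → Type u)
  [∀ k, CommRing (B k)] [∀ k, Algebra A (B k)] [∀ k, Module.Flat A (B k)]

theorem faithfullyFlat_pi
    (hsurj : ∀ p : PrimeSpectrum A, ∃ k, ∃ q : PrimeSpectrum (B k),
      PrimeSpectrum.comap (algebraMap A (B k)) q = p) :
    Module.FaithfullyFlat A (Π k, B k) := by
  classical
  haveI := Fintype.ofFinite ι
  haveI : Module.Flat A (Π k, B k) :=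
    Module.Flat.of_linearEquiv (DFinsupp.linearEquivFunOnFintype (R := A) (M := B)).symm
  apply Module.FaithfullyFlat.of_comap_surjective
  intro p
  obtain ⟨k, q, hq⟩ := hsurj p
  refine ⟨PrimeSpectrum.comap (Pi.evalRingHom B k) q, ?_⟩
  rw [← hq]
  rfl

/-- descent of Koszul-regular ideals along a finite jointly surjective family of flat algebras -/
theorem isKoszulRegularIdeal_of_family
    (hsurj : ∀ p : PrimeSpectrum A, ∃ k, ∃ q : PrimeSpectrum (B k),
      PrimeSpectrum.comap (algebraMap A (B k)) q = p) (I : Ideal A)
    (h : ∀ k, LCI.IsKoszulRegularIdeal (I.map (algebraMap A (B k)))) :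
    LCI.IsKoszulRegularIdeal I := by
  haveI := faithfullyFlat_pi B hsurj
  apply isKoszulRegularIdeal_of_faithfullyFlat (B := Π k, B k) I
  apply isKoszulRegularIdeal_pi
  intro k
  rw [Ideal.map_map]
  exact h k

end Family

end Groth.Agent.Lib.Helper1.KDesc
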