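import Mathlib
import Groth.Agent.Lib.Helper1.KDesc8

set_option autoImplicit false
set_option linter.style.haveILetI false
universe u
open CategoryTheory CategoryTheory.Limits TensorProduct AlgebraicGeometry

namespace Groth.Agent.Lib.Helper1.KDesc

open Groth.Agent.Lib.Helper1

section Tensor

variable (A P T : Type u) [CommRing A] [CommRing P] [CommRing T] [Algebra A P] [Algebra A T]

/-- primes of `P` and `T` over the same prime of `A` are dominated by a prime of `T ⊗ P` -/
theorem exists_prime_tensor (𝔓 : PrimeSpectrum P) (q : PrimeSpectrum T)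
    (h : PrimeSpectrum.comap (algebraMap A P) 𝔓 = PrimeSpectrum.comap (algebraMap A T) q) :
    ∃ 𝔔 : PrimeSpectrum (T ⊗[A] P),
      PrimeSpectrum.comap (Algebra.TensorProduct.includeRight : P →ₐ[A] T ⊗[A] P).toRingHom 𝔔 = 𝔓 := by
  let f : Spec (CommRingCat.of T) ⟶ Spec (CommRingCat.of A) :=
    Spec.map (CommRingCat.ofHom (algebraMap A T))
  let g : Spec (CommRingCat.of P) ⟶ Spec (CommRingCat.of A) :=
    Spec.map (CommRingCat.ofHom (algebraMap A P))
  have hfg : f q = g 𝔓 := h.symm
  obtain ⟨z, hz1, hz2⟩ := Scheme.Pullback.exists_preimage_pullback (f := f) (g := g) q 𝔓 hfg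
  refine ⟨(pullbackSpecIso A T P).hom z, ?_⟩
  have := congrArg (fun φ => φ.base z) (pullbackSpecIso_hom_snd A T P)
  exact this.trans hz2

end Tensor

end Groth.Agent.Lib.Helper1.KDesc

namespace Groth.Agent.Lib.Helper1.KDesc

open Groth.Agent.Lib.Helper1

section RD

attribute [local instance] Algebra.TensorProduct.rightAlgebra

variable {A C : Type u} [CommRing A] [CommRing C] [Algebra A C]

/-- the kernel of the base change of a presentation of an lci algebra is Koszul-regular -/
theorem isKoszulRegularIdeal_ker_map_of_isLCI (T : Type u) [CommRing T] [Algebra A T] (n : ℕ)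
    (f : MvPolynomial (Fin n) A →ₐ[A] C) (hf : Function.Surjective f)
    (h : LCI.IsLCI T (T ⊗[A] C)) :
    LCI.IsKoszulRegularIdeal
      (RingHom.ker (Algebra.TensorProduct.map (AlgHom.id T T) f).toRingHom) := by
  let fT := Algebra.TensorProduct.map (AlgHom.id T T) f
  have hfT : Function.Surjective fT :=
    Algebra.TensorProduct.map_surjective _ _ Function.surjective_id hf
  let e : T ⊗[A] MvPolynomial (Fin n) A ≃ₐ[T] MvPolynomial (Fin n) T :=
    MvPolynomial.algebraTensorAlgEquiv A T
  let g : MvPolynomial (Fin n) T →ₐ[T] T ⊗[A] C := fT.comp e.symm.toAlgHom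
  have hg : Function.Surjective g := hfT.comp e.symm.surjective
  obtain ⟨-, m, α, hα, hI⟩ := h
  have h1 := KRegIdeal.isKoszulRegularIdeal_ker_of_other_presentation T (T ⊗[A] C) m n α hα g hg hI
  have h2 := KRegIdeal.isKoszulRegularIdeal_comap_equiv e.toRingEquiv _ h1
  convert h2 using 1
  ext x
  simp only [RingHom.mem_ker, Ideal.mem_comap]
  change fT x = 0 ↔ fT (e.symm (e x)) = 0
  rw [e.symm_apply_apply]

end RD

end Groth.Agent.Lib.Helper1.KDesc

namespace Groth.Agent.Lib.Helper1.KDesc

open Groth.Agent.Lib.Helper1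

section RD2

attribute [local instance] Algebra.TensorProduct.rightAlgebra

variable {A C P : Type u} [CommRing A] [CommRing C] [Algebra A C] [CommRing P] [Algebra A P]
  {ι : Type u} [Finite ι] (T : ι → Type u) [∀ k, CommRing (T k)] [∀ k, Algebra A (T k)]
  [∀ k, Module.Flat A (T k)]

theorem isKoszulRegularIdeal_ker_of_family (f : P →ₐ[A] C) (hf : Function.Surjective f)
    (hsurj : ∀ p : PrimeSpectrum A, ∃ k, ∃ q : PrimeSpectrum (T k),
      PrimeSpectrum.comap (algebraMap A (T k)) q = p)
    (h : ∀ k, LCI.IsKoszulRegularIdeal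
      (RingHom.ker (Algebra.TensorProduct.map (AlgHom.id (T k) (T k)) f).toRingHom)) :
    LCI.IsKoszulRegularIdeal (RingHom.ker f.toRingHom) := by
  haveI : ∀ k, Module.Flat P (T k ⊗[A] P) := fun k =>
    Module.Flat.of_linearEquiv (Algebra.TensorProduct.commRight A P (T k)).symm.toLinearEquiv
  apply isKoszulRegularIdeal_of_family (fun k => T k ⊗[A] P)
  · intro 𝔓
    obtain ⟨k, q, hq⟩ := hsurj (PrimeSpectrum.comap (algebraMap A P) 𝔓)
    obtain ⟨𝔔, h𝔔⟩ := exists_prime_tensor A P (T k) 𝔓 q hq.symm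
    exact ⟨k, 𝔔, h𝔔⟩
  · intro k
    have : (RingHom.ker f.toRingHom).map (algebraMap P (T k ⊗[A] P)) =
        RingHom.ker (Algebra.TensorProduct.map (AlgHom.id (T k) (T k)) f).toRingHom :=
      (Algebra.TensorProduct.lTensor_ker f hf).symm
    rw [this]
    exact h k

theorem isLCI_of_family [Algebra.FiniteType A C]
    (hsurj : ∀ p : PrimeSpectrum A, ∃ k, ∃ q : PrimeSpectrum (T k),
      PrimeSpectrum.comap (algebraMap A (T k)) q = p)
    (h : ∀ k, LCI.IsLCI (T k) (T k ⊗[A] C)) : LCI.IsLCI A C := by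
  obtain ⟨n, f, hf⟩ := Algebra.FiniteType.iff_quotient_mvPolynomial''.mp
    (inferInstance : Algebra.FiniteType A C)
  refine ⟨inferInstance, n, f, hf, ?_⟩
  exact isKoszulRegularIdeal_ker_of_family T f hf hsurj
    (fun k => isKoszulRegularIdeal_ker_map_of_isLCI (T k) n f hf (h k))

end RD2

end Groth.Agent.Lib.Helper1.KDesc
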