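import Mathlib
import Groth.Agent.Lib.Helper1.KDesc9

set_option autoImplicit false
set_option linter.style.haveILetI false
universe u
open CategoryTheory CategoryTheory.Limits TensorProduct AlgebraicGeometry

namespace Groth.Agent.Lib.Helper1.KDesc

open Groth.Agent.Lib.Helper1

section FamCover

variable {S' S : Scheme.{u}} (g : S' ⟶ S)

/-- a finite affine cover of the preimage of an affine open under an fpqc morphism, jointly
surjective on spectra -/
theorem exists_finite_affine_cover [Surjective g] [QuasiCompact g] {V : S.Opens}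
    (hV : IsAffineOpen V) :
    ∃ s : Set S'.affineOpens, s.Finite ∧ (∀ k ∈ s, k.1 ≤ g ⁻¹ᵁ V) ∧
      ∀ p : PrimeSpectrum Γ(S, V), ∃ k ∈ s, ∃ (hle : k.1 ≤ g ⁻¹ᵁ V) (q : PrimeSpectrum Γ(S', k.1)),
        PrimeSpectrum.comap (g.appLE V k.1 hle).hom q = p := by
  obtain ⟨s, hs, e⟩ := isCompact_iff_finite_and_eq_biUnion_affineOpens.mp
    (g.isCompact_preimage hV.isCompact)
  have hle : ∀ k ∈ s, k.1 ≤ g ⁻¹ᵁ V := by
    intro k hk
    rw [e]
    exact le_iSup₂ (f := fun (i : S'.affineOpens) (_ : i ∈ s) => (i : S'.Opens)) k hk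
  refine ⟨s, hs, hle, fun p => ?_⟩
  let x : S := hV.fromSpec p
  have hxV : x ∈ V := by
    have : x ∈ Set.range hV.fromSpec := ⟨p, rfl⟩
    rw [hV.range_fromSpec] at this
    exact this
  obtain ⟨x', hx'⟩ := g.surjective x
  have hx'V : x' ∈ g ⁻¹ᵁ V := by change g x' ∈ V; rw [hx']; exact hxV
  rw [e] at hx'V
  simp only [TopologicalSpace.Opens.mem_iSup] at hx'V
  obtain ⟨k, hk, hx'k⟩ := hx'V
  refine ⟨k, hk, hle k hk, k.2.primeIdealOf ⟨x', hx'k⟩, ?_⟩
  have h1 := IsAffineOpen.SpecMap_appLE_fromSpec g hV k.2 (hle k hk)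
  have h2 : hV.fromSpec (Spec.map (g.appLE V k.1 (hle k hk)) (k.2.primeIdealOf ⟨x', hx'k⟩)) =
      g (k.2.fromSpec (k.2.primeIdealOf ⟨x', hx'k⟩)) := by
    have := congrArg (fun φ => φ.base (k.2.primeIdealOf ⟨x', hx'k⟩)) h1
    exact this
  rw [k.2.fromSpec_primeIdealOf ⟨x', hx'k⟩] at h2
  change g x' = x at hx'
  rw [hx'] at h2
  exact hV.fromSpec.isOpenEmbedding.injective h2

end FamCover

end Groth.Agent.Lib.Helper1.KDesc

namespace Groth.Agent.Lib.Helper1.KDesc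

open Groth.Agent.Lib.Helper1

section PO

theorem isLCI_tensor_of_isPushout {A C T C' : CommRingCat.{u}} (φ : A ⟶ C) (ψ : A ⟶ T)
    (inl : C ⟶ C') (inr : T ⟶ C') (h : IsPushout φ ψ inl inr)
    (hL : letI := inr.hom.toAlgebra; LCI.IsLCI T C') :
    letI := φ.hom.toAlgebra
    letI := ψ.hom.toAlgebra
    LCI.IsLCI T (T ⊗[A] C) := by
  letI algAC : Algebra A C := φ.hom.toAlgebra
  letI algAT : Algebra A T := ψ.hom.toAlgebra
  letI algTC' : Algebra T C' := inr.hom.toAlgebra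
  letI algCC' : Algebra C C' := inl.hom.toAlgebra
  letI algAC' : Algebra A C' := (inr.hom.comp ψ.hom).toAlgebra
  haveI : IsScalarTower A T C' := IsScalarTower.of_algebraMap_eq (fun _ => rfl)
  haveI : IsScalarTower A C C' := IsScalarTower.of_algebraMap_eq (fun a => by
    have := congrArg (fun χ => χ.hom a) h.w
    exact this.symm)
  change LCI.IsLCI T (T ⊗[A] C)
  have hL' : LCI.IsLCI T C' := hL
  have hpo : Algebra.IsPushout A T C C' := CommRingCat.isPushout_iff_isPushout.mp h.flip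
  exact KRegIdeal.isLCI_of_algEquiv (Algebra.IsPushout.equiv A T C C').symm hL'

end PO

end Groth.Agent.Lib.Helper1.KDesc

namespace Groth.Agent.Lib.Helper1.KDesc

open Groth.Agent.Lib.Helper1 MorphismProperty

section LciDescent

variable {X S X' S' : Scheme.{u}} {f : X ⟶ S} {f' : X' ⟶ S'} {g' : X' ⟶ X} {g : S' ⟶ S}

theorem locallyOfFiniteType_of_fpqc [Flat g] [Surjective g] [QuasiCompact g]
    (hc : IsPullback g' f' f g) (hf' : LocallyOfFiniteType f') : LocallyOfFiniteType f :=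
  of_isPullback_of_descendsAlong (P := @LocallyOfFiniteType)
    (Q := @Surjective ⊓ @Flat ⊓ @QuasiCompact) hc.flip
    ⟨⟨inferInstance, inferInstance⟩, inferInstance⟩ hf'

set_option maxHeartbeats 1000000 in
theorem isLCI_appLE_of_fpqc [Flat g] [Surjective g] [QuasiCompact g]
    (hc : IsPullback g' f' f g)
    (hf' : ∀ (U : X'.Opens) (V : S'.Opens) (_ : IsAffineOpen U) (_ : IsAffineOpen V)
        (hUV : U ≤ f' ⁻¹ᵁ V),
        letI := (f'.appLE V U hUV).hom.toAlgebra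
        LCI.IsLCI Γ(S', V) Γ(X', U))
    (U : X.Opens) (V : S.Opens) (hU : IsAffineOpen U) (hV : IsAffineOpen V)
    (hUV : U ≤ f ⁻¹ᵁ V) :
    letI := (f.appLE V U hUV).hom.toAlgebra
    LCI.IsLCI Γ(S, V) Γ(X, U) := by
  letI algAC : Algebra Γ(S, V) Γ(X, U) := (f.appLE V U hUV).hom.toAlgebra
  change LCI.IsLCI Γ(S, V) Γ(X, U)
  -- (1) finite type
  have hlft' : LocallyOfFiniteType f' := by
    rw [HasRingHomProperty.iff_appLE (P := @LocallyOfFiniteType)]
    intro V' U' e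
    exact (hf' U'.1 V'.1 U'.2 V'.2 e).1
  have hlft : LocallyOfFiniteType f := locallyOfFiniteType_of_fpqc hc hlft'
  haveI : Algebra.FiniteType Γ(S, V) Γ(X, U) :=
    HasRingHomProperty.appLE (P := @LocallyOfFiniteType) f hlft ⟨V, hV⟩ ⟨U, hU⟩ hUV
  -- (2) cover
  obtain ⟨s, hs, hle, hsurj⟩ := exists_finite_affine_cover g hV
  haveI : Finite ↥s := hs.to_subtype
  letI algT : ∀ k : ↥s, Algebra Γ(S, V) Γ(S', k.1.1) :=
    fun k => (g.appLE V k.1.1 (hle k.1 k.2)).hom.toAlgebra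
  haveI : ∀ k : ↥s, Module.Flat Γ(S, V) Γ(S', k.1.1) :=
    fun k => g.flat_appLE hV k.1.2 (hle k.1 k.2)
  apply isLCI_of_family (fun k : ↥s => Γ(S', k.1.1))
  · intro p
    obtain ⟨k, hk, hle', q, hq⟩ := hsurj p
    exact ⟨⟨k, hk⟩, q, hq⟩
  · intro k
    have hUST : k.1.1 ≤ g ⁻¹ᵁ V := hle k.1 k.2
    have hiso := isIso_pushoutSection_of_isAffineOpen hc hUST hUV
      (UY := g' ⁻¹ᵁ U ⊓ f' ⁻¹ᵁ k.1.1) rfl hV k.1.2 hU
    have hpo := (isIso_pushoutSection_iff hc hUST hUV rfl).mp hiso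
    have hUY' : IsAffineOpen (g' ⁻¹ᵁ U ⊓ f' ⁻¹ᵁ k.1.1) := by
      haveI : IsAffine (V : Scheme.{u}) := hV
      haveI : IsAffine (k.1.1 : Scheme.{u}) := k.1.2
      haveI : IsAffine (U : Scheme.{u}) := hU
      exact .of_isIso (Scheme.Hom.isPullback_resLE hc hUST hUV rfl).isoPullback.hom
    exact isLCI_tensor_of_isPushout _ _ _ _ hpo
      (hf' (g' ⁻¹ᵁ U ⊓ f' ⁻¹ᵁ k.1.1) k.1.1 hUY' k.1.2 inf_le_right)

end LciDescent

end Groth.Agent.Lib.Helper1.KDesc
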