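import Mathlib
import Groth.Agent.Lib.Helper1.RegMore

set_option autoImplicit false
set_option linter.style.haveILetI false
universe u
open CategoryTheory CategoryTheory.Limits AlgebraicGeometry TopologicalSpace Opposite
open Groth.Agent.Lib.Helper1

namespace Groth.Agent.Lib.Helper1.LciComp

theorem isRegularImmersion_comp {X Y Z : Scheme.{u}} (i : Y ⟶ X) (j : Z ⟶ Y)
    (hi : RegImm.IsRegularImmersion .koszul i) (hj : RegImm.IsRegularImmersion .koszul j) :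
    RegImm.IsRegularImmersion .koszul (j ≫ i) := by
  haveI := hi.1
  haveI := hj.1
  refine ⟨inferInstance, fun z => ?_⟩
  obtain ⟨⟨U₁, hU₁⟩, hzU₁, hcl₁, rs₁, hrs₁, hker₁⟩ := hi.2 (j z)
  obtain ⟨⟨V₁, hV₁⟩, hzV₁, hcl₂, ss, hss, hker₂⟩ := hj.2 z
  haveI := hcl₁
  haveI := hcl₂
  obtain ⟨U, hU, hzU, hcl, rs, -, hrs, hker⟩ :=
    RegComp.comp_chart i j z hU₁ hzU₁ rs₁ hrs₁ hker₁ hV₁ hzV₁ ss hss hker₂
  exact ⟨⟨U, hU⟩, hzU, hcl, rs, hrs, hker⟩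

/-- `fromSpec` of the image of an affine open of an open subscheme -/
theorem fromSpec_image {Y : Scheme.{u}} (V : Y.Opens) {W : (V : Scheme.{u}).Opens}
    (hW : IsAffineOpen W) (hW' : IsAffineOpen (V.ι ''ᵁ W)) :
    hW.fromSpec ≫ V.ι = hW'.fromSpec := by
  have e₁ : W ≤ V.ι ⁻¹ᵁ (V.ι ''ᵁ W) := fun y hy => ⟨y, hy, rfl⟩
  have h1 := IsAffineOpen.SpecMap_appLE_fromSpec V.ι hW' hW e₁
  have h4 : V.ι.appLE (V.ι ''ᵁ W) W e₁ = 𝟙 _ := by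
    rw [Scheme.Opens.ι_appLE]
    exact Y.presheaf.map_id _
  rw [h4] at h1
  exact h1.symm.trans ((congrArg (· ≫ hW'.fromSpec) (Spec.map_id _)).trans (Category.id_comp _))

set_option maxHeartbeats 1600000 in
theorem isKoszulAt_comp {X Y Z : Scheme.{u}} (f : X ⟶ Y) (g : Y ⟶ Z) (x : X)
    (hf : Synt.IsKoszulAt f x) (hg : Synt.IsKoszulAt g (f x)) : Synt.IsKoszulAt (f ≫ g) x := by
  classical
  obtain ⟨U, P, ι, π, hxU, -, hι, hπ, hcomp⟩ := hf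
  obtain ⟨V, Q, κ, ρ, hyV, -, hκ, hρ, hcomp'⟩ := hg
  haveI := hπ
  haveI := hρ
  haveI := hι.1
  haveI := hκ.1
  -- Koszul chart of κ at y
  obtain ⟨⟨Q₀, hQ₀m⟩, hyQ₀, hclκ, rs, hrs, hkerκ⟩ := hκ.2 ⟨f x, hyV⟩
  have hQ₀ : IsAffineOpen Q₀ := hQ₀m
  haveI := hclκ
  have hrs' : LCI.IsKoszulRegularSeq Γ(Q, Q₀) rs := hrs
  obtain ⟨hV₀, hsκ⟩ := ConormMap.good_of_le_coborderRange κ hQ₀
    (UTKoszul.le_coborderRange_of_isClosedImmersion_restrict κ Q₀)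
  have hV₀' : IsAffineOpen (V.ι ''ᵁ (κ ⁻¹ᵁ Q₀)) := hV₀.image_of_isOpenImmersion V.ι
  -- the point p
  have hπp : π (ι ⟨x, hxU⟩) = f x := congrArg (fun g => g.base ⟨x, hxU⟩) hcomp
  have hpV₀' : π (ι ⟨x, hxU⟩) ∈ V.ι ''ᵁ (κ ⁻¹ᵁ Q₀) := by
    rw [hπp]; exact ⟨⟨f x, hyV⟩, hyQ₀, rfl⟩
  obtain ⟨_, ⟨P₁ : P.Opens, hP₁, rfl⟩, hpP₁, hP₁le⟩ :=
    P.isBasis_affineOpens.exists_subset_of_mem_open hpV₀' (π ⁻¹ᵁ (V.ι ''ᵁ (κ ⁻¹ᵁ Q₀))).2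
  obtain ⟨s, hps, hstd⟩ := ConormLci.exists_stdSmooth_basicOpen π hV₀' hP₁ hP₁le _ hpP₁
  have hP₀ : IsAffineOpen (P.basicOpen s) := hP₁.basicOpen s
  have hP₀le : P.basicOpen s ≤ π ⁻¹ᵁ (V.ι ''ᵁ (κ ⁻¹ᵁ Q₀)) := (P.basicOpen_le s).trans hP₁le
  -- the rings
  let φκ : Γ(Q, Q₀) →+* Γ(Y, V.ι ''ᵁ (κ ⁻¹ᵁ Q₀)) := (κ.app Q₀).hom
  letI algCB : Algebra Γ(Q, Q₀) Γ(Y, V.ι ''ᵁ (κ ⁻¹ᵁ Q₀)) := φκ.toAlgebra
  letI algBS : Algebra Γ(Y, V.ι ''ᵁ (κ ⁻¹ᵁ Q₀)) Γ(P, P.basicOpen s) :=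
    (π.appLE (V.ι ''ᵁ (κ ⁻¹ᵁ Q₀)) (P.basicOpen s) hP₀le).hom.toAlgebra
  letI algCS : Algebra Γ(Q, Q₀) Γ(P, P.basicOpen s) :=
    ((π.appLE (V.ι ''ᵁ (κ ⁻¹ᵁ Q₀)) (P.basicOpen s) hP₀le).hom.comp φκ).toAlgebra
  haveI tow : IsScalarTower Γ(Q, Q₀) Γ(Y, V.ι ''ᵁ (κ ⁻¹ᵁ Q₀)) Γ(P, P.basicOpen s) :=
    IsScalarTower.of_algebraMap_eq fun _ => rfl
  haveI hstd' : Algebra.IsStandardSmooth Γ(Y, V.ι ''ᵁ (κ ⁻¹ᵁ Q₀)) Γ(P, P.basicOpen s) := hstd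
  have hsurjB : Function.Surjective (algebraMap Γ(Q, Q₀) Γ(Y, V.ι ''ᵁ (κ ⁻¹ᵁ Q₀))) := hsκ
  have hkerB : RingHom.ker (algebraMap Γ(Q, Q₀) Γ(Y, V.ι ''ᵁ (κ ⁻¹ᵁ Q₀))) = Ideal.ofList rs :=
    hkerκ
  obtain ⟨S'', instS'', algS'', q, hstd'', hqs, hkerq⟩ :=
    SmoothLift.exists_stdSmooth_lift (B' := Γ(Q, Q₀)) (B := Γ(Y, V.ι ''ᵁ (κ ⁻¹ᵁ Q₀)))
      (S := Γ(P, P.basicOpen s)) hsurjB
  haveI := hstd''
  haveI hsm'' : Algebra.Smooth Γ(Q, Q₀) S'' := inferInstance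
  haveI hfl'' : Module.Flat Γ(Q, Q₀) S'' := Algebra.Smooth.flat _ _
  have hKR : LCI.IsKoszulRegularSeq S'' (rs.map (algebraMap Γ(Q, Q₀) S'')) :=
    KoszulConcat.isKoszulRegularSeq_map_of_flat (B := S'') rs hrs'
  have hkerq' : RingHom.ker q.toRingHom = Ideal.ofList (rs.map (algebraMap Γ(Q, Q₀) S'')) := by
    rw [hkerq, hkerB]
    exact (RegComp.ofList_map _ rs).symm
  -- the schemes
  let φq : CommRingCat.of S'' ⟶ Γ(P, P.basicOpen s) := CommRingCat.ofHom q.toRingHom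
  let φc : Γ(Q, Q₀) ⟶ CommRingCat.of S'' := CommRingCat.ofHom (algebraMap Γ(Q, Q₀) S'')
  let jj : (P.basicOpen s : Scheme.{u}) ⟶ Spec (CommRingCat.of S'') :=
    hP₀.isoSpec.hom ≫ Spec.map φq
  let c : Spec (CommRingCat.of S'') ⟶ Q := Spec.map φc ≫ hQ₀.fromSpec
  let e : ((U.ι ''ᵁ (ι ⁻¹ᵁ P.basicOpen s) : X.Opens) : Scheme.{u}) ≅
      ((ι ⁻¹ᵁ P.basicOpen s : (U : Scheme.{u}).Opens) : Scheme.{u}) :=
    (U.ι.isoImage (ι ⁻¹ᵁ P.basicOpen s)).symm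
  have hcomm : (e.hom ≫ (ι ∣_ P.basicOpen s) ≫ jj) ≫ (c ≫ ρ) =
      (U.ι ''ᵁ (ι ⁻¹ᵁ P.basicOpen s)).ι ≫ f ≫ g := by
    have hφ : φc ≫ φq = (κ.app Q₀ : Γ(Q, Q₀) ⟶ Γ(Y, V.ι ''ᵁ (κ ⁻¹ᵁ Q₀))) ≫
        π.appLE (V.ι ''ᵁ (κ ⁻¹ᵁ Q₀)) (P.basicOpen s) hP₀le := by
      ext r
      exact q.commutes r
    have h1 : Spec.map φq ≫ Spec.map φc =
        Spec.map (π.appLE (V.ι ''ᵁ (κ ⁻¹ᵁ Q₀)) (P.basicOpen s) hP₀le) ≫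
          Spec.map (κ.app Q₀ : Γ(Q, Q₀) ⟶ Γ(Y, V.ι ''ᵁ (κ ⁻¹ᵁ Q₀))) := by
      exact (Spec.map_comp φc φq).symm.trans ((congrArg (fun t => Spec.map t) hφ).trans
        (Spec.map_comp (κ.app Q₀ : Γ(Q, Q₀) ⟶ Γ(Y, V.ι ''ᵁ (κ ⁻¹ᵁ Q₀)))
          (π.appLE (V.ι ''ᵁ (κ ⁻¹ᵁ Q₀)) (P.basicOpen s) hP₀le)))
    have h2 : Spec.map (κ.app Q₀) ≫ hQ₀.fromSpec = hV₀.fromSpec ≫ κ := by
      have := IsAffineOpen.SpecMap_appLE_fromSpec κ hQ₀ hV₀ le_rfl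
      rwa [← Scheme.Hom.app_eq_appLE] at this
    have h3 : Spec.map (π.appLE (V.ι ''ᵁ (κ ⁻¹ᵁ Q₀)) (P.basicOpen s) hP₀le) ≫ hV₀'.fromSpec =
        hP₀.fromSpec ≫ π := IsAffineOpen.SpecMap_appLE_fromSpec π hV₀' hP₀ hP₀le
    have h4 : hV₀.fromSpec ≫ V.ι = hV₀'.fromSpec := fromSpec_image V hV₀ hV₀'
    have h5 : e.hom ≫ (ι ⁻¹ᵁ P.basicOpen s).ι ≫ U.ι = (U.ι ''ᵁ (ι ⁻¹ᵁ P.basicOpen s)).ι :=
      U.ι.isoImage_inv_ι _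
    have h6 : (ι ∣_ P.basicOpen s) ≫ (P.basicOpen s).ι = (ι ⁻¹ᵁ P.basicOpen s).ι ≫ ι :=
      morphismRestrict_ι _ _
    have h7 : hP₀.isoSpec.hom ≫ hP₀.fromSpec = (P.basicOpen s).ι := hP₀.isoSpec_hom_fromSpec
    -- from the right
    have k1 : Spec.map (κ.app Q₀) ≫ hQ₀.fromSpec ≫ ρ = hV₀'.fromSpec ≫ g := by
      rw [← Category.assoc, h2, Category.assoc, hcomp', ← Category.assoc, h4]
      rfl
    have k2 : (Spec.map φq ≫ Spec.map φc) ≫ hQ₀.fromSpec ≫ ρ = hP₀.fromSpec ≫ π ≫ g := by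
      rw [h1, Category.assoc]
      exact (congrArg (Spec.map (π.appLE (V.ι ''ᵁ (κ ⁻¹ᵁ Q₀)) (P.basicOpen s) hP₀le) ≫ ·) k1).trans
        ((Category.assoc _ _ _).symm.trans ((congrArg (· ≫ g) h3).trans (Category.assoc _ _ _)))
    have k3 : jj ≫ c ≫ ρ = (P.basicOpen s).ι ≫ π ≫ g := by
      change (hP₀.isoSpec.hom ≫ Spec.map φq) ≫ (Spec.map φc ≫ hQ₀.fromSpec) ≫ ρ = _
      rw [← h7]
      simp only [Category.assoc]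
      rw [← k2]
      simp only [Category.assoc]
    have k4 : (ι ∣_ P.basicOpen s) ≫ jj ≫ c ≫ ρ = (ι ⁻¹ᵁ P.basicOpen s).ι ≫ U.ι ≫ f ≫ g := by
      rw [k3, ← Category.assoc, h6, Category.assoc, ← Category.assoc ι, hcomp, Category.assoc]
    rw [Category.assoc, Category.assoc, k4, ← h5]
    simp only [Category.assoc]
  have hreg : RegImm.IsRegularImmersion .koszul (e.hom ≫ (ι ∣_ P.basicOpen s) ≫ jj) := by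
    have h1 : RegImm.IsRegularImmersion .koszul (Spec.map φq) :=
      RegMore.isRegularImmersion_SpecMap φq hqs _ hKR hkerq'
    have h2 : RegImm.IsRegularImmersion .koszul jj :=
      isRegularImmersion_comp _ _ h1 (RegMore.isRegularImmersion_of_isIso hP₀.isoSpec.hom)
    have h3 : RegImm.IsRegularImmersion .koszul ((ι ∣_ P.basicOpen s) ≫ jj) :=
      isRegularImmersion_comp _ _ h2 (RegMore.isRegularImmersion_restrict ι hι _)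
    exact isRegularImmersion_comp _ _ h3 (RegMore.isRegularImmersion_of_isIso e.hom)
  have hsmooth : Smooth (c ≫ ρ) := by
    haveI : Smooth (Spec.map φc) := by
      rw [HasRingHomProperty.Spec_iff (P := @Smooth)]
      exact RingHom.smooth_algebraMap.mpr hsm''
    change Smooth ((Spec.map φc ≫ hQ₀.fromSpec) ≫ ρ)
    infer_instance
  refine ⟨U.ι ''ᵁ (ι ⁻¹ᵁ P.basicOpen s), Spec (CommRingCat.of S''),
    e.hom ≫ (ι ∣_ P.basicOpen s) ≫ jj, c ≫ ρ, ⟨⟨x, hxU⟩, hps, rfl⟩, ?_, hreg, hsmooth, hcomm⟩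
  rw [← hcomm]
  haveI := hreg.1
  haveI := hsmooth
  infer_instance

end Groth.Agent.Lib.Helper1.LciComp
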