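import Mathlib
import Groth.Agent.Lib.Helper1.SecReg
import Groth.Agent.Lib.Helper1.LciComp

set_option autoImplicit false
set_option linter.style.haveILetI false
universe u
open CategoryTheory CategoryTheory.Limits AlgebraicGeometry TopologicalSpace Opposite
open Groth.Agent.Lib.Helper1

namespace Groth.Agent.Lib.Helper1.SecSch

section Transport

variable {Z P : Scheme.{u}} (ι : Z ⟶ P)

theorem appLE_surjective_of_eq {D D' : P.Opens} {E : Z.Opens} (hD : D' = D) (hE : E = ι ⁻¹ᵁ D)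
    (e : E ≤ ι ⁻¹ᵁ D') (hs : Function.Surjective (ι.app D)) :
    Function.Surjective (ι.appLE D' E e) := by
  subst hD; subst hE
  rwa [Conorm.appLE_refl]

theorem app_surjective_of_appLE {D : P.Opens} {E : Z.Opens} (hE : ι ⁻¹ᵁ D = E)
    (e : E ≤ ι ⁻¹ᵁ D) (hs : Function.Surjective (ι.appLE D E e)) :
    Function.Surjective (ι.app D) := by
  subst hE
  rwa [Conorm.appLE_refl] at hs

theorem ker_app_eq_ker_appLE {D : P.Opens} {E : Z.Opens} (hE : ι ⁻¹ᵁ D = E)
    (e : E ≤ ι ⁻¹ᵁ D) : RingHom.ker (ι.app D).hom = RingHom.ker (ι.appLE D E e).hom := by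
  subst hE
  rw [Conorm.appLE_refl]

theorem id_appLE {X : Scheme.{u}} (V : X.Opens) (e : V ≤ (𝟙 X : X ⟶ X) ⁻¹ᵁ V) :
    (𝟙 X : X ⟶ X).appLE V V e = 𝟙 _ := by
  unfold Scheme.Hom.appLE
  rw [Scheme.Hom.id_app]
  exact (Category.id_comp _).trans (X.presheaf.map_id _)

theorem isClosedImmersion_restrict_of_surjective {D : P.Opens} (hD : IsAffineOpen D)
    (hιD : IsAffineOpen (ι ⁻¹ᵁ D)) (hs : Function.Surjective (ι.app D)) :
    IsClosedImmersion (ι ∣_ D) := by
  haveI : IsAffine (D : Scheme.{u}) := hD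
  haveI : IsAffine ((ι ⁻¹ᵁ D : Z.Opens) : Scheme.{u}) := hιD
  apply IsClosedImmersion.of_surjective_of_isAffine
  rw [Scheme.Hom.appTop, morphismRestrict_app']
  apply appLE_surjective_of_eq ι (D := D) _ _ _ hs
  · simp
  · simp

end Transport

section Main

variable {P X : Scheme.{u}} (p : P ⟶ X) [Smooth p] (σ : X ⟶ P)

set_option maxHeartbeats 1600000 in
include p in
theorem exists_chart_of_section (hσ : σ ≫ p = 𝟙 X) (x : X) :
    ∃ D : P.Opens, IsAffineOpen D ∧ σ x ∈ D ∧ IsAffineOpen (σ ⁻¹ᵁ D) ∧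
      Function.Surjective (σ.app D) ∧
      ∃ rs : List Γ(P, D), RingTheory.Sequence.IsWeaklyRegular Γ(P, D) rs ∧
        RingHom.ker (σ.app D).hom = Ideal.ofList rs := by
  classical
  have hpσ : ∀ z : X, p (σ z) = z := fun z => congrArg (fun g => g.base z) hσ
  -- (a)
  obtain ⟨_, ⟨U : X.Opens, hU, rfl⟩, hxU, -⟩ := X.isBasis_affineOpens.exists_subset_of_mem_open
    (Set.mem_univ x) isOpen_univ
  have hU : IsAffineOpen U := hU
  -- (b)
  have hy : σ x ∈ p ⁻¹ᵁ U := by
    change p (σ x) ∈ U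
    rw [hpσ]; exact hxU
  obtain ⟨_, ⟨W₁ : P.Opens, hW₁, rfl⟩, hyW₁, hW₁le⟩ :=
    P.isBasis_affineOpens.exists_subset_of_mem_open hy (p ⁻¹ᵁ U).2
  have hW₁ : IsAffineOpen W₁ := hW₁
  obtain ⟨w, hyw, hstd⟩ := ConormLci.exists_stdSmooth_basicOpen p hU hW₁ hW₁le (σ x) hyW₁
  have hW : IsAffineOpen (P.basicOpen w) := hW₁.basicOpen w
  have hWle : P.basicOpen w ≤ p ⁻¹ᵁ U := (P.basicOpen_le w).trans hW₁le
  -- (c)
  obtain ⟨a, hale, hxa⟩ := hU.exists_basicOpen_le (V := U ⊓ σ ⁻¹ᵁ (P.basicOpen w))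
    ⟨x, ⟨hxU, hyw⟩⟩ hxU
  have hU' : IsAffineOpen (X.basicOpen a) := hU.basicOpen a
  -- (d)
  have hW' : IsAffineOpen (P.basicOpen ((p.appLE U (P.basicOpen w) hWle).hom a)) :=
    hW.basicOpen _
  have hW'eq : P.basicOpen ((p.appLE U (P.basicOpen w) hWle).hom a) =
      P.basicOpen w ⊓ p ⁻¹ᵁ (X.basicOpen a) := by
    rw [Scheme.preimage_basicOpen, Scheme.Hom.appLE]
    exact Scheme.basicOpen_res P _ _
  have hW'le : P.basicOpen ((p.appLE U (P.basicOpen w) hWle).hom a) ≤ p ⁻¹ᵁ (X.basicOpen a) := by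
    rw [hW'eq]; exact inf_le_right
  have hW'W : P.basicOpen ((p.appLE U (P.basicOpen w) hWle).hom a) ≤ P.basicOpen w := by
    rw [hW'eq]; exact inf_le_left
  have hU'le : X.basicOpen a ≤ σ ⁻¹ᵁ (P.basicOpen ((p.appLE U (P.basicOpen w) hWle).hom a)) := by
    intro z hz
    change σ z ∈ P.basicOpen ((p.appLE U (P.basicOpen w) hWle).hom a)
    rw [hW'eq]
    refine ⟨(hale hz).2, ?_⟩
    change p (σ z) ∈ X.basicOpen a
    rw [hpσ]; exact hz
  have hEq : σ ⁻¹ᵁ (P.basicOpen ((p.appLE U (P.basicOpen w) hWle).hom a)) = X.basicOpen a := by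
    apply le_antisymm _ hU'le
    intro z hz
    have h1 : p (σ z) ∈ X.basicOpen a := hW'le hz
    rwa [hpσ] at h1
  -- the localised ring map is standard smooth
  letI algAS : Algebra Γ(X, U) Γ(P, P.basicOpen w) :=
    (p.appLE U (P.basicOpen w) hWle).hom.toAlgebra
  haveI hstd' : Algebra.IsStandardSmooth Γ(X, U) Γ(P, P.basicOpen w) := hstd
  letI algAA' : Algebra Γ(X, U) Γ(X, X.basicOpen a) :=
    (X.presheaf.map (homOfLE (X.basicOpen_le a)).op).hom.toAlgebra
  haveI locA : IsLocalization.Away a Γ(X, X.basicOpen a) := hU.isLocalization_basicOpen a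
  letI algSS' : Algebra Γ(P, P.basicOpen w)
      Γ(P, P.basicOpen ((p.appLE U (P.basicOpen w) hWle).hom a)) :=
    (P.presheaf.map (homOfLE (P.basicOpen_le _)).op).hom.toAlgebra
  haveI locS : IsLocalization.Away ((p.appLE U (P.basicOpen w) hWle).hom a)
      Γ(P, P.basicOpen ((p.appLE U (P.basicOpen w) hWle).hom a)) :=
    hW.isLocalization_basicOpen _
  have hloc : (IsLocalization.Away.map Γ(X, X.basicOpen a)
      Γ(P, P.basicOpen ((p.appLE U (P.basicOpen w) hWle).hom a))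
      (p.appLE U (P.basicOpen w) hWle).hom a).IsStandardSmooth :=
    RingHom.isStandardSmooth_localizationPreserves.away _ a _ _
      (RingHom.isStandardSmooth_algebraMap.mpr hstd')
  have hmap : IsLocalization.Away.map Γ(X, X.basicOpen a)
      Γ(P, P.basicOpen ((p.appLE U (P.basicOpen w) hWle).hom a))
      (p.appLE U (P.basicOpen w) hWle).hom a =
      (p.appLE (X.basicOpen a) (P.basicOpen ((p.appLE U (P.basicOpen w) hWle).hom a)) hW'le).hom := by
    apply IsLocalization.ringHom_ext (Submonoid.powers a)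
    rw [IsLocalization.Away.map, IsLocalization.map_comp]
    ext r
    have h1 := Scheme.Hom.appLE_map p hWle (homOfLE hW'W).op
    have h2 := Scheme.Hom.map_appLE p hW'le (homOfLE (X.basicOpen_le a)).op
    exact (congr($h1 r)).trans (congr($h2 r)).symm
  rw [hmap] at hloc
  -- (e) the section on rings
  letI algA'S' : Algebra Γ(X, X.basicOpen a)
      Γ(P, P.basicOpen ((p.appLE U (P.basicOpen w) hWle).hom a)) :=
    (p.appLE (X.basicOpen a) (P.basicOpen ((p.appLE U (P.basicOpen w) hWle).hom a)) hW'le).hom.toAlgebra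
  haveI hstd'' : Algebra.IsStandardSmooth Γ(X, X.basicOpen a)
      Γ(P, P.basicOpen ((p.appLE U (P.basicOpen w) hWle).hom a)) := hloc
  have hsec : p.appLE (X.basicOpen a) (P.basicOpen ((p.appLE U (P.basicOpen w) hWle).hom a)) hW'le ≫
      σ.appLE (P.basicOpen ((p.appLE U (P.basicOpen w) hWle).hom a)) (X.basicOpen a) hU'le = 𝟙 _ := by
    rw [Scheme.Hom.appLE_comp_appLE]
    have h1 : (σ ≫ p).appLE (X.basicOpen a) (X.basicOpen a) (hU'le.trans (σ.preimage_mono hW'le)) =
        (𝟙 X : X ⟶ X).appLE (X.basicOpen a) (X.basicOpen a) le_rfl :=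
      ConormSES.appLE_congr' hσ _ _ _ _
    rw [h1]
    exact id_appLE _ _
  let ε : Γ(P, P.basicOpen ((p.appLE U (P.basicOpen w) hWle).hom a)) →ₐ[Γ(X, X.basicOpen a)]
      Γ(X, X.basicOpen a) :=
    { toRingHom := (σ.appLE (P.basicOpen ((p.appLE U (P.basicOpen w) hWle).hom a))
        (X.basicOpen a) hU'le).hom
      commutes' := fun r => congr($hsec r) }
  obtain ⟨s, l, hs1, H⟩ := SecReg.exists_regular_of_section ε
  -- (g) the chart
  have hD : IsAffineOpen (P.basicOpen s) := hW'.basicOpen s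
  letI algS'D : Algebra Γ(P, P.basicOpen ((p.appLE U (P.basicOpen w) hWle).hom a))
      Γ(P, P.basicOpen s) := (P.presheaf.map (homOfLE (P.basicOpen_le s)).op).hom.toAlgebra
  haveI locD : IsLocalization.Away s Γ(P, P.basicOpen s) := hW'.isLocalization_basicOpen s
  haveI flatD : Module.Flat Γ(P, P.basicOpen ((p.appLE U (P.basicOpen w) hWle).hom a))
      Γ(P, P.basicOpen s) := IsLocalization.flat _ (Submonoid.powers s)
  have hunit : IsUnit (algebraMap Γ(P, P.basicOpen ((p.appLE U (P.basicOpen w) hWle).hom a))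
      Γ(P, P.basicOpen s) s) := IsLocalization.Away.algebraMap_isUnit s
  obtain ⟨hreg, hker⟩ := H Γ(P, P.basicOpen s) hunit
  -- (i) goodness at W'
  have hσW' : IsAffineOpen (σ ⁻¹ᵁ (P.basicOpen ((p.appLE U (P.basicOpen w) hWle).hom a))) := by
    rw [hEq]; exact hU'
  have hεs : Function.Surjective (σ.appLE (P.basicOpen ((p.appLE U (P.basicOpen w) hWle).hom a))
      (X.basicOpen a) hU'le) := fun r =>
    ⟨(p.appLE (X.basicOpen a) (P.basicOpen ((p.appLE U (P.basicOpen w) hWle).hom a)) hW'le).hom r,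
      congr($hsec r)⟩
  have hsW' : Function.Surjective (σ.app (P.basicOpen ((p.appLE U (P.basicOpen w) hWle).hom a))) :=
    app_surjective_of_appLE σ hEq hU'le hεs
  obtain ⟨hσD, hsD, hkerD⟩ := UTKoszul.good_basicOpen σ hW' hσW' hsW' s
  have hkerW' : RingHom.ker (σ.app (P.basicOpen ((p.appLE U (P.basicOpen w) hWle).hom a))).hom =
      RingHom.ker ε.toRingHom := ker_app_eq_ker_appLE σ hEq hU'le
  refine ⟨P.basicOpen s, hD, ?_, hσD, hsD, _, hreg, ?_⟩
  · -- σ x ∈ D
    change x ∈ σ ⁻¹ᵁ (P.basicOpen s)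
    rw [Scheme.preimage_basicOpen]
    have h1 : (X.presheaf.map (homOfLE hU'le).op).hom
        ((σ.app (P.basicOpen ((p.appLE U (P.basicOpen w) hWle).hom a))).hom s) = 1 := hs1
    have h2 := Scheme.basicOpen_res X
      ((σ.app (P.basicOpen ((p.appLE U (P.basicOpen w) hWle).hom a))).hom s) (homOfLE hU'le).op
    rw [h1, Scheme.basicOpen_of_isUnit X isUnit_one] at h2
    have h3 : x ∈ X.basicOpen a ⊓ X.basicOpen
        ((σ.app (P.basicOpen ((p.appLE U (P.basicOpen w) hWle).hom a))).hom s) := by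
      rw [← h2]; exact hxa
    exact h3.2
  · rw [hkerD, hkerW']
    exact hker

include p in
theorem isImmersion_of_section (hσ : σ ≫ p = 𝟙 X) : IsImmersion σ := by
  haveI : IsImmersion (σ ≫ p) := by rw [hσ]; infer_instance
  exact IsImmersion.of_comp σ p

include p in
/-- a section of a smooth morphism is a Koszul-regular immersion -/
theorem isRegularImmersion_of_section (hσ : σ ≫ p = 𝟙 X) :
    RegImm.IsRegularImmersion .koszul σ := by
  refine ⟨isImmersion_of_section p σ hσ, fun x => ?_⟩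
  obtain ⟨D, hD, hxD, hσD, hsD, rs, hreg, hker⟩ := exists_chart_of_section p σ hσ x
  exact ⟨⟨D, hD⟩, hxD, isClosedImmersion_restrict_of_surjective σ hD hσD hsD, rs,
    SecReg.isKoszulRegularSeq_of_isWeaklyRegular rs hreg, hker⟩

include p in
/-- a section of a smooth morphism is locally cut out by a regular sequence -/
theorem exists_regular_chart_of_section (hσ : σ ≫ p = 𝟙 X) (x : X) :
    ∃ D : P.Opens, IsAffineOpen D ∧ σ x ∈ D ∧ IsAffineOpen (σ ⁻¹ᵁ D) ∧
      Function.Surjective (σ.app D) ∧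
      ∃ rs : List Γ(P, D), RingTheory.Sequence.IsRegular Γ(P, D) rs ∧
        RingHom.ker (σ.app D).hom = Ideal.ofList rs := by
  obtain ⟨D, hD, hxD, hσD, hsD, rs, hreg, hker⟩ := exists_chart_of_section p σ hσ x
  refine ⟨D, hD, hxD, hσD, hsD, rs, ⟨hreg, ?_⟩, hker⟩
  haveI : Nonempty (σ ⁻¹ᵁ D) := ⟨⟨x, hxD⟩⟩
  intro htop
  have h1 : Ideal.ofList rs • (⊤ : Submodule Γ(P, D) Γ(P, D)) = Ideal.ofList rs := by
    rw [smul_eq_mul, Ideal.mul_top]
  rw [h1, ← hker] at htop
  have h2 : (1 : Γ(P, D)) ∈ RingHom.ker (σ.app D).hom := by rw [← htop]; trivial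
  rw [RingHom.mem_ker, map_one] at h2
  exact one_ne_zero h2

end Main

end Groth.Agent.Lib.Helper1.SecSch
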