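import Mathlib
import Groth.Agent.Lib.Helper1.SmDesc

set_option autoImplicit false
set_option linter.style.haveILetI false
universe u
open CategoryTheory CategoryTheory.Limits AlgebraicGeometry TopologicalSpace Opposite
open Groth.Agent.Lib.Helper1

namespace Groth.Agent.Lib.Helper1.SmDesc

section Fwd

variable {X V' V : Scheme.{u}} (j : X ⟶ V') (p : V' ⟶ V)

/-- if `j ≫ p` is a Koszul-regular immersion and `p` is smooth, then `j` is a Koszul-regular
immersion -/
theorem isRegularImmersion_of_comp_smooth [Smooth p]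
    (hi : RegImm.IsRegularImmersion .koszul (j ≫ p)) :
    RegImm.IsRegularImmersion .koszul j := by
  let σ : X ⟶ pullback (j ≫ p) p := pullback.lift (𝟙 X) j (Category.id_comp _)
  have hσ1 : σ ≫ pullback.fst (j ≫ p) p = 𝟙 X := pullback.lift_fst _ _ _
  have hσ2 : σ ≫ pullback.snd (j ≫ p) p = j := pullback.lift_snd _ _ _
  have h1 : RegImm.IsRegularImmersion .koszul σ :=
    SecSch.isRegularImmersion_of_section (pullback.fst (j ≫ p) p) σ hσ1
  have hsq : IsPullback (pullback.fst (j ≫ p) p) (pullback.snd (j ≫ p) p) (j ≫ p) p :=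
    IsPullback.of_hasPullback _ _
  have h2 : RegImm.IsRegularImmersion .koszul (pullback.snd (j ≫ p) p) :=
    RegBC.koszul_baseChange_flat hsq hi
  have h3 := LciComp.isRegularImmersion_comp (pullback.snd (j ≫ p) p) σ h2 h1
  rwa [hσ2] at h3

end Fwd

end Groth.Agent.Lib.Helper1.SmDesc
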