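import Mathlib
import Groth.Agent.Lib.Helper1.SmDesc2

set_option autoImplicit false
set_option linter.style.haveILetI false
universe u
open CategoryTheory CategoryTheory.Limits AlgebraicGeometry TopologicalSpace Opposite
open Groth.Agent.Lib.Helper1

namespace Groth.Agent.Lib.Helper1.SmDesc

section Loc

variable {X Z : Scheme.{u}} (i : X ⟶ Z)

set_option maxHeartbeats 800000 in
/-- Koszul-regularity at a point can be checked on an open neighbourhood in the source -/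
theorem isRegularImmersionAt_of_restrict [IsImmersion i] (U : X.Opens) (x : X) (hx : x ∈ U)
    (h : RegImm.IsRegularImmersionAt .koszul (U.ι ≫ i) ⟨x, hx⟩) :
    RegImm.IsRegularImmersionAt .koszul i x := by
  obtain ⟨⟨W₀, hW₀m⟩, hxW₀, hcl₀, rs, hrs, hker⟩ := h
  have hW₀ : IsAffineOpen W₀ := hW₀m
  haveI := hcl₀
  have hrs' : LCI.IsKoszulRegularSeq Γ(Z, W₀) rs := hrs
  have hxW₀' : i x ∈ W₀ := hxW₀
  -- an open of `Z` cutting out `U`
  obtain ⟨O, hO, hOU⟩ := (i.isEmbedding.isInducing.isOpen_iff).mp U.2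
  let O' : Z.Opens := ⟨O, hO⟩
  have hxO : i x ∈ O' := by
    have : x ∈ i.base ⁻¹' O := by rw [hOU]; exact hx
    exact this
  have hxall : i x ∈ W₀ ⊓ O' ⊓ i.coborderRange := ⟨⟨hxW₀', hxO⟩, ConormMap.mem_coborderRange i x⟩
  obtain ⟨g, hgle, hxg⟩ := hW₀.exists_basicOpen_le (V := W₀ ⊓ O' ⊓ i.coborderRange)
    ⟨i x, hxall⟩ hxW₀'
  have hW₁ : IsAffineOpen (Z.basicOpen g) := hW₀.basicOpen g
  have hleU : i ⁻¹ᵁ (Z.basicOpen g) ≤ U := by
    intro y hy
    have h1 : i y ∈ O' := (hgle hy).1.2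
    have h2 : y ∈ i.base ⁻¹' O := h1
    rw [hOU] at h2
    exact h2
  obtain ⟨hiW₁, hsW₁⟩ := ConormMap.good_of_le_coborderRange i hW₁ (hgle.trans inf_le_right)
  obtain ⟨-, -, l, -, hl, hkerl⟩ := RegComp.koszul_basicOpen (U.ι ≫ i) hW₀ rs hrs' hker g
  refine ⟨⟨Z.basicOpen g, hW₁⟩, hxg, ?_, l, hl, ?_⟩
  · exact SecSch.isClosedImmersion_restrict_of_surjective i hW₁ hiW₁ hsW₁
  · rw [← hkerl]
    have hcomp : (U.ι ≫ i).app (Z.basicOpen g) =
        i.app (Z.basicOpen g) ≫ U.ι.app (i ⁻¹ᵁ (Z.basicOpen g)) := rfl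
    haveI : IsIso (U.ι.app (i ⁻¹ᵁ (Z.basicOpen g))) :=
      U.ι.isIso_app _ (by rw [Scheme.Opens.opensRange_ι]; exact hleU)
    have hinj : Function.Injective (U.ι.app (i ⁻¹ᵁ (Z.basicOpen g))).hom :=
      (ConcreteCategory.bijective_of_isIso (U.ι.app (i ⁻¹ᵁ (Z.basicOpen g)))).1
    ext a
    rw [RingHom.mem_ker, RingHom.mem_ker, hcomp]
    change _ ↔ (U.ι.app (i ⁻¹ᵁ (Z.basicOpen g))).hom ((i.app (Z.basicOpen g)).hom a) = 0
    rw [← map_zero (U.ι.app (i ⁻¹ᵁ (Z.basicOpen g))).hom, hinj.eq_iff]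

end Loc

section S8656

theorem isRegularImmersion_of_isKoszulAt {X Y Z : Scheme.{u}} (f : X ⟶ Y)
    (hf : ∀ x : X, Synt.IsKoszulAt f x) (p : Z ⟶ Y) [Smooth p] (i : X ⟶ Z) [IsImmersion i]
    (h : i ≫ p = f) : RegImm.IsRegularImmersion .koszul i := by
  refine ⟨inferInstance, fun x => ?_⟩
  obtain ⟨U, P, ι, π, hxU, -, hι, hπ, hcomp⟩ := hf x
  haveI := hπ
  haveI := hι.1
  have hw : ι ≫ π = (U.ι ≫ i) ≫ p := by rw [Category.assoc, h, hcomp]
  let k : (U : Scheme.{u}) ⟶ pullback π p := pullback.lift ι (U.ι ≫ i) hw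
  have hk1 : k ≫ pullback.fst π p = ι := pullback.lift_fst _ _ _
  have hk2 : k ≫ pullback.snd π p = U.ι ≫ i := pullback.lift_snd _ _ _
  have hk : RegImm.IsRegularImmersion .koszul k := by
    apply isRegularImmersion_of_comp_smooth k (pullback.fst π p)
    rw [hk1]
    exact hι
  haveI : IsImmersion (k ≫ pullback.snd π p) := by rw [hk2]; infer_instance
  have h2 := isRegularImmersion_comp_smooth k (pullback.snd π p) hk
  rw [hk2] at h2
  exact isRegularImmersionAt_of_restrict i U x hxU (h2.2 ⟨x, hxU⟩)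

end S8656

end Groth.Agent.Lib.Helper1.SmDesc
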