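import Mathlib
import Groth.Agent.Lib.Helper1.KDesc10
import Groth.Agent.Lib.Helper1.SmDesc3

set_option autoImplicit false
set_option linter.style.haveILetI false
universe u
open CategoryTheory CategoryTheory.Limits TensorProduct AlgebraicGeometry

namespace Groth.Agent.Lib.Helper1.KDesc

open Groth.Agent.Lib.Helper1

section ChartIdeal

variable {Z X : Scheme.{u}} (i : Z ⟶ X)

theorem notMem_primeIdealOf_iff {V : X.Opens} (hV : IsAffineOpen V) (x : X) (hx : x ∈ V)
    (g : Γ(X, V)) : g ∉ (hV.primeIdealOf ⟨x, hx⟩).asIdeal ↔ x ∈ X.basicOpen g := by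
  have h1 : hV.fromSpec (hV.primeIdealOf ⟨x, hx⟩) = x := hV.fromSpec_primeIdealOf ⟨x, hx⟩
  have h2 := hV.fromSpec_preimage_basicOpen g
  conv_rhs => rw [← h1]
  change _ ↔ (hV.primeIdealOf ⟨x, hx⟩) ∈ hV.fromSpec ⁻¹ᵁ X.basicOpen g
  rw [h2]
  rfl

/-- (Lemma A) from a Koszul-regular kernel ideal on a good affine open to charts -/
theorem isRegularImmersionAt_of_isKoszulRegularIdeal {V : X.Opens} (hV : IsAffineOpen V)
    (hιV : IsAffineOpen (i ⁻¹ᵁ V)) (hs : Function.Surjective (i.app V))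
    (hK : LCI.IsKoszulRegularIdeal (RingHom.ker (i.app V).hom)) (z : Z) (hz : i z ∈ V) :
    RegImm.IsRegularImmersionAt .koszul i z := by
  rw [KRegIdeal.isKoszulRegularIdeal_iff] at hK
  let 𝔭 := hV.primeIdealOf ⟨i z, hz⟩
  have hI𝔭 : RingHom.ker (i.app V).hom ≤ 𝔭.asIdeal := by
    intro g hg
    by_contra hcon
    have h1 := (notMem_primeIdealOf_iff hV (i z) hz g).mp hcon
    have h2 : z ∈ i ⁻¹ᵁ X.basicOpen g := h1
    rw [Scheme.preimage_basicOpen, RingHom.mem_ker.mp hg, Scheme.basicOpen_zero] at h2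
    exact h2
  obtain ⟨g, hg𝔭, N, hN⟩ := hK 𝔭 hI𝔭
  have hxg : i z ∈ X.basicOpen g := (notMem_primeIdealOf_iff hV (i z) hz g).mp hg𝔭
  letI algg : Algebra Γ(X, V) Γ(X, X.basicOpen g) :=
    (X.presheaf.map (homOfLE (X.basicOpen_le g)).op).hom.toAlgebra
  haveI : IsLocalization.Away g Γ(X, X.basicOpen g) := hV.isLocalization_basicOpen g
  obtain ⟨l₂, -, hl₂, hI₂⟩ := hN.forall_loc Γ(X, X.basicOpen g)
  obtain ⟨hg1, hg2, hg3⟩ := UTKoszul.good_basicOpen i hV hιV hs g
  have hVg : IsAffineOpen (X.basicOpen g) := hV.basicOpen g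
  refine ⟨⟨X.basicOpen g, hVg⟩, hxg, ?_, l₂, hl₂, ?_⟩
  · exact SecSch.isClosedImmersion_restrict_of_surjective i hVg hg1 hg2
  · rw [hg3]
    exact hI₂

end ChartIdeal

end Groth.Agent.Lib.Helper1.KDesc

namespace Groth.Agent.Lib.Helper1.KDesc

open Groth.Agent.Lib.Helper1

section IdealOfChart

variable {Z X : Scheme.{u}} (i : Z ⟶ X)

/-- a prime containing the kernel ideal is the image of a point -/
theorem exists_eq_fromSpec_of_ker_le {V : X.Opens} (hV : IsAffineOpen V)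
    (hιV : IsAffineOpen (i ⁻¹ᵁ V)) (hs : Function.Surjective (i.app V))
    (P : PrimeSpectrum Γ(X, V)) (hP : RingHom.ker (i.app V).hom ≤ P.asIdeal) :
    ∃ z : Z, i z = hV.fromSpec P := by
  have hs' : Function.Surjective (i.app V).hom := hs
  haveI hprime : (P.asIdeal.map (i.app V).hom).IsPrime :=
    Ideal.map_isPrime_of_surjective hs' hP
  have hcomap : (P.asIdeal.map (i.app V).hom).comap (i.app V).hom = P.asIdeal := by
    rw [Ideal.comap_map_of_surjective _ hs']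
    exact sup_eq_left.mpr hP
  let P₀ : PrimeSpectrum Γ(Z, i ⁻¹ᵁ V) := ⟨_, hprime⟩
  refine ⟨hιV.fromSpec P₀, ?_⟩
  have h1 := IsAffineOpen.SpecMap_appLE_fromSpec i hV hιV le_rfl
  rw [Conorm.appLE_refl] at h1
  have h2 := congrArg (fun φ => φ.base P₀) h1
  change hV.fromSpec (Spec.map (i.app V) P₀) = i (hιV.fromSpec P₀) at h2
  rw [← h2]
  congr 1
  exact PrimeSpectrum.ext hcomap

/-- (Lemma B) the kernel ideal of a Koszul-regular immersion on a good affine open is
Koszul-regular -/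
theorem isKoszulRegularIdeal_ker_of_isRegularImmersion
    (hi : RegImm.IsRegularImmersion .koszul i) {V : X.Opens} (hV : IsAffineOpen V)
    (hιV : IsAffineOpen (i ⁻¹ᵁ V)) (hs : Function.Surjective (i.app V)) :
    LCI.IsKoszulRegularIdeal (RingHom.ker (i.app V).hom) := by
  haveI := hi.1
  rw [KRegIdeal.isKoszulRegularIdeal_iff]
  intro P hP
  obtain ⟨z, hz⟩ := exists_eq_fromSpec_of_ker_le i hV hιV hs P hP
  have hxV : i z ∈ V := by
    have : i z ∈ Set.range hV.fromSpec := ⟨P, hz.symm⟩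
    rw [hV.range_fromSpec] at this
    exact this
  obtain ⟨⟨U₁, hU₁m⟩, hzU₁, hcl₁, rs, hrs, hker⟩ := hi.2 z
  have hU₁ : IsAffineOpen U₁ := hU₁m
  haveI := hcl₁
  have hrs' : LCI.IsKoszulRegularSeq Γ(X, U₁) rs := hrs
  have hzU₁' : i z ∈ U₁ := hzU₁
  obtain ⟨f, g, hfg, hxf⟩ := exists_basicOpen_le_affine_inter hV hU₁ (i z) ⟨hxV, hzU₁'⟩
  obtain ⟨-, -, l, -, hl, hkerl⟩ := RegComp.koszul_basicOpen i hU₁ rs hrs' hker g
  obtain ⟨-, -, hg3⟩ := UTKoszul.good_basicOpen i hV hιV hs f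
  have hfP : f ∉ P.asIdeal := by
    have h2 := hV.fromSpec_preimage_basicOpen f
    have h3 : P ∈ hV.fromSpec ⁻¹ᵁ X.basicOpen f := by
      change hV.fromSpec P ∈ X.basicOpen f
      rw [← hz]; exact hxf
    rw [h2] at h3
    exact h3
  refine ⟨f, hfP, l.length, ?_⟩
  generalize X.basicOpen g = W at hfg l hl hkerl
  subst hfg
  letI algf : Algebra Γ(X, V) Γ(X, X.basicOpen f) :=
    (X.presheaf.map (homOfLE (X.basicOpen_le f)).op).hom.toAlgebra
  haveI : IsLocalization.Away f Γ(X, X.basicOpen f) := hV.isLocalization_basicOpen f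
  refine ⟨Γ(X, X.basicOpen f), inferInstance, algf, inferInstance, l, rfl, hl, ?_⟩
  rw [← hkerl, hg3]
  rfl

end IdealOfChart

end Groth.Agent.Lib.Helper1.KDesc

namespace Groth.Agent.Lib.Helper1.KDesc

open Groth.Agent.Lib.Helper1

section RegDesc

variable {X Y X' Y' : Scheme.{u}} {i : Y ⟶ X} {g : X' ⟶ X} {i' : Y' ⟶ X'} {g' : Y' ⟶ Y}

/-- fpqc descent of Koszul-regular immersions -/
theorem isRegularImmersion_of_fpqc [IsImmersion i] [Flat g] [Surjective g] [QuasiCompact g]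
    (hsq : IsPullback g' i' i g) (hi' : RegImm.IsRegularImmersion .koszul i') :
    RegImm.IsRegularImmersion .koszul i := by
  refine ⟨inferInstance, fun y => ?_⟩
  obtain ⟨_, ⟨V : X.Opens, hV, rfl⟩, hyV, hVle⟩ :=
    X.isBasis_affineOpens.exists_subset_of_mem_open (ConormMap.mem_coborderRange i y)
      i.coborderRange.2
  obtain ⟨hιV, hs⟩ := ConormMap.good_of_le_coborderRange i hV hVle
  refine isRegularImmersionAt_of_isKoszulRegularIdeal i hV hιV hs ?_ y hyV
  obtain ⟨s, hsfin, hle, hsurj⟩ := exists_finite_affine_cover g hV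
  haveI : Finite ↥s := hsfin.to_subtype
  letI algT : ∀ k : ↥s, Algebra Γ(X, V) Γ(X', k.1.1) :=
    fun k => (g.appLE V k.1.1 (hle k.1 k.2)).hom.toAlgebra
  haveI : ∀ k : ↥s, Module.Flat Γ(X, V) Γ(X', k.1.1) :=
    fun k => g.flat_appLE hV k.1.2 (hle k.1 k.2)
  apply isKoszulRegularIdeal_of_family (fun k : ↥s => Γ(X', k.1.1))
  · intro p
    obtain ⟨k, hk, hle', q, hq⟩ := hsurj p
    exact ⟨⟨k, hk⟩, q, hq⟩
  · intro k
    haveI : IsClosedImmersion (i ∣_ V) :=
      SecSch.isClosedImmersion_restrict_of_surjective i hV hιV hs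
    haveI : IsClosedImmersion (i' ∣_ k.1.1) :=
      RegBC.isClosedImmersion_restrict_of_isPullback hsq (hle k.1 k.2)
    haveI : IsImmersion i' := hi'.1
    obtain ⟨hι', hs'⟩ := ConormMap.good_of_le_coborderRange i' k.1.2
      (UTKoszul.le_coborderRange_of_isClosedImmersion_restrict i' k.1.1)
    have hB := isKoszulRegularIdeal_ker_of_isRegularImmersion i' hi' k.1.2 hι' hs'
    rw [RegBC.ker_app_of_isPullback hsq hV hιV hs k.1.2 (hle k.1 k.2)] at hB
    exact hB

end RegDesc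

end Groth.Agent.Lib.Helper1.KDesc
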