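import Mathlib
import Groth.Agent.Lib.Helper1.KDesc11

set_option autoImplicit false
set_option linter.style.haveILetI false
universe u
open CategoryTheory CategoryTheory.Limits TensorProduct AlgebraicGeometry

namespace Groth.Agent.Lib.Helper1.KDesc

open Groth.Agent.Lib.Helper1

section Fact

variable {X Y : Scheme.{u}} (f : X ⟶ Y)

/-- a morphism locally of finite type factors locally as a closed immersion into an affine space
followed by a smooth morphism -/
theorem exists_closedImmersion_smooth [LocallyOfFiniteType f] (x : X) :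
    ∃ (U : X.Opens) (P : Scheme.{u}) (j : (U : Scheme.{u}) ⟶ P) (π : P ⟶ Y), x ∈ U ∧
      IsClosedImmersion j ∧ Smooth π ∧ j ≫ π = U.ι ≫ f := by
  obtain ⟨_, ⟨V : Y.Opens, hV, rfl⟩, hxV, -⟩ :=
    Y.isBasis_affineOpens.exists_subset_of_mem_open (Set.mem_univ (f x)) isOpen_univ
  obtain ⟨_, ⟨U : X.Opens, hU, rfl⟩, hxU, hUV⟩ :=
    X.isBasis_affineOpens.exists_subset_of_mem_open (show x ∈ f ⁻¹ᵁ V from hxV) (f ⁻¹ᵁ V).2
  have hUV' : U ≤ f ⁻¹ᵁ V := hUV
  letI algAC : Algebra Γ(Y, V) Γ(X, U) := (f.appLE V U hUV').hom.toAlgebra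
  haveI : Algebra.FiniteType Γ(Y, V) Γ(X, U) :=
    HasRingHomProperty.appLE (P := @LocallyOfFiniteType) f inferInstance ⟨V, hV⟩ ⟨U, hU⟩ hUV'
  obtain ⟨n, ψ, hψ⟩ := Algebra.FiniteType.iff_quotient_mvPolynomial''.mp
    (inferInstance : Algebra.FiniteType Γ(Y, V) Γ(X, U))
  let ψ' : CommRingCat.of (MvPolynomial (Fin n) Γ(Y, V)) ⟶ Γ(X, U) := CommRingCat.ofHom ψ.toRingHom
  let a' : Γ(Y, V) ⟶ CommRingCat.of (MvPolynomial (Fin n) Γ(Y, V)) :=
    CommRingCat.ofHom (algebraMap Γ(Y, V) (MvPolynomial (Fin n) Γ(Y, V)))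
  have hcomp : a' ≫ ψ' = f.appLE V U hUV' := by
    ext a
    exact ψ.commutes a
  haveI : IsClosedImmersion (Spec.map ψ') := IsClosedImmersion.spec_of_surjective ψ' hψ
  haveI : Smooth (Spec.map a') := by
    rw [HasRingHomProperty.Spec_iff (P := @Smooth)]
    change (algebraMap Γ(Y, V) (MvPolynomial (Fin n) Γ(Y, V))).Smooth
    rw [RingHom.smooth_algebraMap]
    exact ⟨inferInstance, inferInstance⟩
  haveI : IsOpenImmersion hV.fromSpec := hV.isOpenImmersion_fromSpec
  haveI : Smooth hV.fromSpec := inferInstance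
  haveI : Smooth (Spec.map a' ≫ hV.fromSpec) := smooth_comp _ _
  refine ⟨U, Spec (CommRingCat.of (MvPolynomial (Fin n) Γ(Y, V))), hU.isoSpec.hom ≫ Spec.map ψ',
    Spec.map a' ≫ hV.fromSpec, hxU, inferInstance, inferInstance, ?_⟩
  rw [Category.assoc, ← Category.assoc (Spec.map ψ'), ← Spec.map_comp, hcomp,
    IsAffineOpen.SpecMap_appLE_fromSpec f hV hU hUV', ← Category.assoc]
  rw [hU.isoSpec_hom_fromSpec]

end Fact

end Groth.Agent.Lib.Helper1.KDesc

namespace Groth.Agent.Lib.Helper1.KDesc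

open Groth.Agent.Lib.Helper1

section KoszulAtDesc

theorem isKoszulAt_of_smooth {X Y : Scheme.{u}} (f : X ⟶ Y) [Smooth f] (x : X) :
    Synt.IsKoszulAt f x :=
  ⟨⊤, ((⊤ : X.Opens) : Scheme.{u}), 𝟙 _, (⊤ : X.Opens).ι ≫ f, trivial, inferInstance,
    RegMore.isRegularImmersion_of_isIso (𝟙 _), inferInstance, Category.id_comp _⟩

variable {X Y X' Y' : Scheme.{u}} {f : X ⟶ Y} {g : Y' ⟶ Y} {f' : X' ⟶ Y'} {g' : X' ⟶ X}

theorem locallyOfFiniteType_of_forall_isKoszulAt (hf : ∀ x : X, Synt.IsKoszulAt f x) :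
    LocallyOfFiniteType f := by
  choose U P i π hxU hlft _ _ _ using hf
  have hU : iSup U = ⊤ := by
    rw [eq_top_iff]
    intro x _
    exact TopologicalSpace.Opens.mem_iSup.mpr ⟨x, hxU x⟩
  haveI : IsZariskiLocalAtSource @LocallyOfFiniteType.{u} :=
    HasRingHomProperty.instIsZariskiLocalAtSource
  exact (IsZariskiLocalAtSource.iff_of_iSup_eq_top (P := @LocallyOfFiniteType) U hU).mpr hlft

set_option maxHeartbeats 1000000 in
/-- fpqc descent of lci morphisms in the factorisation sense -/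
theorem isKoszulAt_of_fpqc [Flat g] [Surjective g] [QuasiCompact g]
    (hsq : IsPullback g' f' f g) (hf' : ∀ x' : X', Synt.IsKoszulAt f' x') (x : X) :
    Synt.IsKoszulAt f x := by
  haveI hlft : LocallyOfFiniteType f :=
    locallyOfFiniteType_of_fpqc hsq (locallyOfFiniteType_of_forall_isKoszulAt hf')
  obtain ⟨U, P, j, π, hxU, hjcl, hπ, hjπ⟩ := exists_closedImmersion_smooth f x
  haveI := hjcl
  haveI := hπ
  -- pullbacks
  let gP : pullback π g ⟶ P := pullback.fst π g
  let π' : pullback π g ⟶ Y' := pullback.snd π g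
  let gU : pullback (U.ι ≫ f) g ⟶ (U : Scheme.{u}) := pullback.fst (U.ι ≫ f) g
  let fU' : pullback (U.ι ≫ f) g ⟶ Y' := pullback.snd (U.ι ≫ f) g
  have hw : (gU ≫ j) ≫ π = fU' ≫ g := by
    rw [Category.assoc, hjπ]; exact pullback.condition
  let j' : pullback (U.ι ≫ f) g ⟶ pullback π g := pullback.lift (gU ≫ j) fU' hw
  have hj'1 : j' ≫ gP = gU ≫ j := pullback.lift_fst _ _ _
  have hj'2 : j' ≫ π' = fU' := pullback.lift_snd _ _ _
  have hbig : IsPullback gU fU' (j ≫ π) g := by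
    rw [hjπ]; exact IsPullback.of_hasPullback _ _
  have hPsq : IsPullback gP π' π g := IsPullback.of_hasPullback _ _
  have hsqj : IsPullback gU j' j gP := by
    refine (IsPullback.of_right ?_ hj'1 hPsq.flip).flip
    rw [hj'2]; exact hbig.flip
  -- the open immersion into `X'`
  have hw2 : (gU ≫ U.ι) ≫ f = fU' ≫ g := by
    rw [Category.assoc]; exact pullback.condition
  let ι' : pullback (U.ι ≫ f) g ⟶ X' := hsq.lift (gU ≫ U.ι) fU' hw2
  have hι'1 : ι' ≫ g' = gU ≫ U.ι := hsq.lift_fst _ _ _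
  have hι'2 : ι' ≫ f' = fU' := hsq.lift_snd _ _ _
  have hsqι : IsPullback ι' gU g' U.ι := by
    refine IsPullback.of_right ?_ hι'1 hsq.flip
    rw [hι'2]; exact (IsPullback.of_hasPullback (U.ι ≫ f) g).flip
  haveI : IsOpenImmersion ι' :=
    MorphismProperty.of_isPullback (P := @IsOpenImmersion) hsqι.flip inferInstance
  have hfU' : ∀ u' : ↥(pullback (U.ι ≫ f) g), Synt.IsKoszulAt fU' u' := by
    intro u'
    rw [← hι'2]
    exact LciComp.isKoszulAt_comp ι' f' u' (isKoszulAt_of_smooth ι' u') (hf' (ι' u'))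
  haveI : IsClosedImmersion j' :=
    MorphismProperty.of_isPullback (P := @IsClosedImmersion) hsqj inferInstance
  have hj' : RegImm.IsRegularImmersion .koszul j' :=
    SmDesc.isRegularImmersion_of_isKoszulAt fU' hfU' π' j' hj'2
  have hj : RegImm.IsRegularImmersion .koszul j := isRegularImmersion_of_fpqc hsqj hj'
  exact ⟨U, P, j, π, hxU, inferInstance, hj, inferInstance, hjπ⟩

end KoszulAtDesc

end Groth.Agent.Lib.Helper1.KDesc
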