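import Mathlib

/-!
# Maximal points of the zero locus of a function have one-dimensional local rings (helper1)

Krull's principal ideal theorem at a maximal point `ξ` of the zero locus of a global function `t`.
-/

set_option autoImplicit false
universe u
open AlgebraicGeometry CategoryTheory IsLocalRing

namespace Groth.Agent.Lib.Helper1.KrullPt

variable {X : Scheme.{u}}

theorem germ_mem_maximalIdeal (ξ : X) (t : Γ(X, ⊤)) (hξ : ξ ∉ X.basicOpen t) :
    (X.presheaf.germ ⊤ ξ trivial).hom t ∈ maximalIdeal (X.presheaf.stalk ξ) := by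
  rw [mem_maximalIdeal, mem_nonunits_iff]
  intro hu
  exact hξ ((X.mem_basicOpen_top t ξ).mpr hu)

theorem maximalIdeal_mem_minimalPrimes (ξ : X) (t : Γ(X, ⊤))
    (hξ : ξ ∉ X.basicOpen t)
    (hmax : ∀ x' : X, x' ⤳ ξ → x' ∉ X.basicOpen t → x' = ξ) :
    maximalIdeal (X.presheaf.stalk ξ) ∈
      (Ideal.span {(X.presheaf.germ ⊤ ξ trivial).hom t}).minimalPrimes := by
  have ha := germ_mem_maximalIdeal ξ t hξ
  refine ⟨⟨inferInstance, (Ideal.span_singleton_le_iff_mem _).mpr ha⟩, ?_⟩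
  rintro q ⟨hq, haq⟩ hqm
  let Q : Spec (X.presheaf.stalk ξ) := ⟨q, hq⟩
  have h1 : X.fromSpecStalk ξ Q ⤳ ξ := by
    have h : X.fromSpecStalk ξ Q ∈ Set.range (X.fromSpecStalk ξ) := ⟨Q, rfl⟩
    rwa [Scheme.range_fromSpecStalk] at h
  have h2 : X.fromSpecStalk ξ Q ∉ X.basicOpen t := by
    intro hx'
    have h : Q ∈ (X.fromSpecStalk ξ) ⁻¹ᵁ X.basicOpen t := hx'
    rw [Scheme.preimage_basicOpen_top, basicOpen_eq_of_affine', Scheme.fromSpecStalk_appTop] at h
    have h' : (Scheme.ΓSpecIso (X.presheaf.stalk ξ)).hom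
        ((X.presheaf.germ ⊤ ξ trivial ≫ (Scheme.ΓSpecIso (X.presheaf.stalk ξ)).inv ≫
          (Spec (X.presheaf.stalk ξ)).presheaf.map (homOfLE le_top).op) t) =
        (X.presheaf.germ ⊤ ξ trivial).hom t := by
      have e : (Spec (X.presheaf.stalk ξ)).presheaf.map
          (homOfLE (le_top : (⊤ : (Spec (X.presheaf.stalk ξ)).Opens) ≤ ⊤)).op = 𝟙 _ := by
        rw [show (homOfLE (le_top : (⊤ : (Spec (X.presheaf.stalk ξ)).Opens) ≤ ⊤)) = 𝟙 _ from rfl,
          op_id, CategoryTheory.Functor.map_id]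
      rw [e, Category.comp_id]
      show ((Scheme.ΓSpecIso (X.presheaf.stalk ξ)).inv ≫ (Scheme.ΓSpecIso (X.presheaf.stalk ξ)).hom)
        ((X.presheaf.germ ⊤ ξ trivial).hom t) = _
      rw [Iso.inv_hom_id]
      rfl
    rw [h'] at h
    exact h (haq (Ideal.subset_span rfl))
  have h3 := hmax _ h1 h2
  have h4 : Q = closedPoint (X.presheaf.stalk ξ) :=
    (X.fromSpecStalk ξ).isEmbedding.injective (h3.trans Scheme.fromSpecStalk_closedPoint.symm)
  have h5 : q = maximalIdeal (X.presheaf.stalk ξ) := congrArg PrimeSpectrum.asIdeal h4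
  rw [h5]

theorem ringKrullDim_stalk_eq_one (ξ : X) [IsDomain (X.presheaf.stalk ξ)]
    [IsNoetherianRing (X.presheaf.stalk ξ)] (t : Γ(X, ⊤))
    (hξ : ξ ∉ X.basicOpen t)
    (hmax : ∀ x' : X, x' ⤳ ξ → x' ∉ X.basicOpen t → x' = ξ)
    (hne : (X.presheaf.germ ⊤ ξ trivial).hom t ≠ 0) :
    ringKrullDim (X.presheaf.stalk ξ) = 1 := by
  have h1 := Ideal.height_le_one_of_isPrincipal_of_mem_minimalPrimes _ _
    (maximalIdeal_mem_minimalPrimes ξ t hξ hmax)
  rw [← IsLocalRing.maximalIdeal_height_eq_ringKrullDim]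
  have h2 : (maximalIdeal (X.presheaf.stalk ξ)).height ≠ 0 := by
    rw [Ne, Ideal.height_eq_zero_iff_eq_bot]
    intro h
    apply hne
    have ha := germ_mem_maximalIdeal ξ t hξ
    rw [h] at ha
    exact ha
  have h3 : (maximalIdeal (X.presheaf.stalk ξ)).height = 1 :=
    le_antisymm h1 (ENat.one_le_iff_ne_zero.mpr h2)
  rw [h3]
  rfl

end Groth.Agent.Lib.Helper1.KrullPt
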