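import Mathlib

/-!
# Even/odd decomposition of `R[x,y]` over `R[x²,y²]` in characteristic 2

`e = expand 2` embeds `R[a,b]` as `R[x²,y²]`; every `R`-derivation kills its range; the family
`1, x, y, xy` is a basis (uniqueness via `pderiv`).  Also: reduction modulo `c² + G(a,b)` in
`R[a,b,c]` and the resulting kernel computation for `a ↦ x², b ↦ y², c ↦ w`.
-/

set_option autoImplicit false

namespace Groth.Agent.Lib.Helper1.KumFamLib
open MvPolynomial

universe u
variable {R : Type u} [CommRing R]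

/-- `e = expand 2 : R[a,b] → R[x,y]`, `a ↦ x²`, `b ↦ y²`. -/
noncomputable abbrev e : MvPolynomial (Fin 2) R →ₐ[R] MvPolynomial (Fin 2) R := expand 2
/-- `ι = rename castSucc : R[a,b] → R[a,b,c]`. -/
noncomputable abbrev ι : MvPolynomial (Fin 2) R →ₐ[R] MvPolynomial (Fin 3) R :=
  rename Fin.castSucc

lemma e_injective : Function.Injective (e (R := R)) := expand_injective (by norm_num)

lemma e_eq_zero {q : MvPolynomial (Fin 2) R} (h : e q = 0) : q = 0 :=
  (expand_eq_zero (by norm_num)).mp h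

lemma aeval_ι (φ : Fin 3 → MvPolynomial (Fin 2) R) (h0 : φ 0 = X 0 ^ 2) (h1 : φ 1 = X 1 ^ 2)
    (q : MvPolynomial (Fin 2) R) : aeval φ (ι q) = e q := by
  have h : (aeval φ).comp (ι (R := R)) = e := by
    apply MvPolynomial.algHom_ext
    intro i
    fin_cases i
    · simp [ι, e, h0]
    · simp [ι, e, h1]
  exact congrArg (fun f => f q) h

section char2
variable [CharP R 2]

lemma two_zero : (2 : MvPolynomial (Fin 2) R) = 0 := CharTwo.two_eq_zero

lemma deriv_e (D : Derivation R (MvPolynomial (Fin 2) R) (MvPolynomial (Fin 2) R))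
    (q : MvPolynomial (Fin 2) R) : D (e q) = 0 := by
  induction q using MvPolynomial.induction_on with
  | C r => simp [e]
  | add p q hp hq => simp [hp, hq]
  | mul_X p i hp =>
    rw [map_mul, Derivation.leibniz, hp, expand_X, Derivation.leibniz_pow, CharTwo.two_nsmul]
    simp

lemma deriv_e_mul (D : Derivation R (MvPolynomial (Fin 2) R) (MvPolynomial (Fin 2) R))
    (q z : MvPolynomial (Fin 2) R) : D (e q * z) = e q * D z := by
  rw [Derivation.leibniz, deriv_e, smul_zero, add_zero, smul_eq_mul]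

lemma coeffs_zero (z₀ z₁ z₂ z₃ : MvPolynomial (Fin 2) R)
    (h : e z₀ + e z₁ * X 0 + e z₂ * X 1 + e z₃ * (X 0 * X 1) = 0) :
    z₀ = 0 ∧ z₁ = 0 ∧ z₂ = 0 ∧ z₃ = 0 := by
  have h0 : e z₁ + e z₃ * X 1 = 0 := by
    have := congrArg (pderiv (0 : Fin 2)) h
    simpa [deriv_e, deriv_e_mul, Derivation.leibniz, pderiv_X] using this
  have h1 : e z₂ + e z₃ * X 0 = 0 := by
    have := congrArg (pderiv (1 : Fin 2)) h
    simpa [deriv_e, deriv_e_mul, Derivation.leibniz, pderiv_X] using this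
  have h3 : z₃ = 0 := by
    have := congrArg (pderiv (1 : Fin 2)) h0
    have h3' : e z₃ = 0 := by
      simpa [deriv_e, deriv_e_mul, Derivation.leibniz, pderiv_X] using this
    exact e_eq_zero h3'
  subst h3
  have hz1 : z₁ = 0 := e_eq_zero (by simpa using h0)
  have hz2 : z₂ = 0 := e_eq_zero (by simpa using h1)
  subst hz1 hz2
  exact ⟨e_eq_zero (by simpa using h), rfl, rfl, rfl⟩

end char2

lemma exists_decomp (p : MvPolynomial (Fin 2) R) :
    ∃ p₀ p₁ p₂ p₃ : MvPolynomial (Fin 2) R,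
      p = e p₀ + e p₁ * X 0 + e p₂ * X 1 + e p₃ * (X 0 * X 1) := by
  induction p using MvPolynomial.induction_on with
  | C r => exact ⟨C r, 0, 0, 0, by simp [e]⟩
  | add p q hp hq =>
    obtain ⟨p₀, p₁, p₂, p₃, rfl⟩ := hp
    obtain ⟨q₀, q₁, q₂, q₃, rfl⟩ := hq
    exact ⟨p₀ + q₀, p₁ + q₁, p₂ + q₂, p₃ + q₃, by simp only [map_add]; ring⟩
  | mul_X p i hp =>
    obtain ⟨p₀, p₁, p₂, p₃, rfl⟩ := hp
    fin_cases i
    · exact ⟨p₁ * X 0, p₀, p₃ * X 0, p₂, by
        simp only [map_mul, expand_X, Fin.zero_eta]; ring⟩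
    · exact ⟨p₂ * X 1, p₃ * X 1, p₀, p₁, by
        simp only [map_mul, expand_X, Fin.mk_one]; ring⟩

lemma exists_reduction (G : MvPolynomial (Fin 2) R) (q : MvPolynomial (Fin 3) R) :
    ∃ q₀ q₁ : MvPolynomial (Fin 2) R,
      q - (ι q₀ + ι q₁ * X 2) ∈ Ideal.span {(X 2 ^ 2 + ι G : MvPolynomial (Fin 3) R)} := by
  set I := Ideal.span {(X 2 ^ 2 + ι G : MvPolynomial (Fin 3) R)} with hI
  have hF : (X 2 ^ 2 + ι G : MvPolynomial (Fin 3) R) ∈ I := Ideal.subset_span rfl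
  induction q using MvPolynomial.induction_on with
  | C r => exact ⟨C r, 0, by simp [ι]⟩
  | add p q hp hq =>
    obtain ⟨p₀, p₁, hp⟩ := hp
    obtain ⟨q₀, q₁, hq⟩ := hq
    refine ⟨p₀ + q₀, p₁ + q₁, ?_⟩
    have : p + q - (ι (p₀ + q₀) + ι (p₁ + q₁) * X 2)
        = (p - (ι p₀ + ι p₁ * X 2)) + (q - (ι q₀ + ι q₁ * X 2)) := by
      simp only [map_add]; ring
    rw [this]
    exact I.add_mem hp hq
  | mul_X q i hq =>
    obtain ⟨q₀, q₁, hq⟩ := hq
    fin_cases i
    · refine ⟨q₀ * X 0, q₁ * X 0, ?_⟩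
      have : q * X 0 - (ι (q₀ * X 0) + ι (q₁ * X 0) * X 2)
          = (q - (ι q₀ + ι q₁ * X 2)) * X 0 := by
        simp only [map_mul, ι, rename_X, Fin.castSucc_zero]; ring
      simp only [Fin.zero_eta]
      rw [this]
      exact I.mul_mem_right _ hq
    · refine ⟨q₀ * X 1, q₁ * X 1, ?_⟩
      have : q * X 1 - (ι (q₀ * X 1) + ι (q₁ * X 1) * X 2)
          = (q - (ι q₀ + ι q₁ * X 2)) * X 1 := by
        simp only [map_mul, ι, rename_X, Fin.castSucc_one]; ring
      simp only [Fin.mk_one]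
      rw [this]
      exact I.mul_mem_right _ hq
    · refine ⟨-(q₁ * G), q₀, ?_⟩
      have : q * X 2 - (ι (-(q₁ * G)) + ι q₀ * X 2)
          = (q - (ι q₀ + ι q₁ * X 2)) * X 2 + ι q₁ * (X 2 ^ 2 + ι G) := by
        simp only [map_mul, map_neg]; ring
      change q * X 2 - (ι (-(q₁ * G)) + ι q₀ * X 2) ∈ I
      rw [this]
      exact I.add_mem (I.mul_mem_right _ hq) (I.mul_mem_left _ hF)

section char2
variable [CharP R 2]

/-- Kernel of `a ↦ x², b ↦ y², c ↦ w` where `w = e w₁ x + e w₂ y + e w₃ xy` with `w₃` regular and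
`w² = e G` (`= -e G`). -/
lemma ker_aeval_eq (φ : Fin 3 → MvPolynomial (Fin 2) R) (h0 : φ 0 = X 0 ^ 2) (h1 : φ 1 = X 1 ^ 2)
    (G w₁ w₂ w₃ : MvPolynomial (Fin 2) R)
    (hφ2 : φ 2 = e w₁ * X 0 + e w₂ * X 1 + e w₃ * (X 0 * X 1))
    (hw₃ : ∀ q, q * w₃ = 0 → q = 0)
    (hF : φ 2 ^ 2 + e G = 0) :
    RingHom.ker (aeval φ) = Ideal.span {(X 2 ^ 2 + ι G : MvPolynomial (Fin 3) R)} := by
  have hFk : (X 2 ^ 2 + ι G : MvPolynomial (Fin 3) R) ∈ RingHom.ker (aeval φ) := by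
    rw [RingHom.mem_ker, map_add, map_pow, aeval_X, aeval_ι φ h0 h1, hF]
  apply le_antisymm
  · intro q hq
    obtain ⟨q₀, q₁, hred⟩ := exists_reduction G q
    have hker : q - (ι q₀ + ι q₁ * X 2) ∈ RingHom.ker (aeval φ) :=
      (Ideal.span_le.mpr (Set.singleton_subset_iff.mpr hFk)) hred
    rw [RingHom.mem_ker] at hq hker
    rw [map_sub, hq, zero_sub, neg_eq_zero, map_add, map_mul, aeval_X, aeval_ι φ h0 h1,
      aeval_ι φ h0 h1, hφ2] at hker
    have h4 : e q₀ + e (q₁ * w₁) * X 0 + e (q₁ * w₂) * X 1 + e (q₁ * w₃) * (X 0 * X 1) = 0 := by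
      rw [← hker]; simp only [map_mul]; ring
    obtain ⟨hq0, -, -, hq3⟩ := coeffs_zero _ _ _ _ h4
    have hq1 : q₁ = 0 := hw₃ _ hq3
    subst hq0 hq1
    simpa using hred
  · exact Ideal.span_le.mpr (Set.singleton_subset_iff.mpr hFk)

/-- the core algebra step: from `τ p₁ + p₃ S = 0`, `τ p₂ + p₃ L = 0` rewrite the odd part as a
multiple of `S U + L V + τ U V`. -/
lemma core (τ τi : R) (hτ : τ * τi = 1) (p₁ p₂ p₃ Sq Lq U V : MvPolynomial (Fin 2) R)
    (h₁ : C τ * p₁ + p₃ * Sq = 0) (h₂ : C τ * p₂ + p₃ * Lq = 0) :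
    e p₁ * U + e p₂ * V + e p₃ * (U * V)
      = e (C τi * p₃) * (e Sq * U + e Lq * V + C τ * (U * V)) := by
  have hC : (C τ * C τi : MvPolynomial (Fin 2) R) = 1 := by rw [← C_mul, hτ, C_1]
  have h2 := two_zero (R := R)
  have hp₁ : p₁ = C τi * p₃ * Sq := by
    linear_combination (C τi) * h₁ - p₁ * hC - (C τi * p₃ * Sq) * h2
  have hp₂ : p₂ = C τi * p₃ * Lq := by
    linear_combination (C τi) * h₂ - p₂ * hC - (C τi * p₃ * Lq) * h2
  rw [hp₁, hp₂]
  simp only [map_mul, expand_C]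
  linear_combination (-(e p₃ * U * V)) * hC

end char2

/-- `e q` lies in any subalgebra containing `x²` and `y²`. -/
lemma e_mem (T : Subalgebra R (MvPolynomial (Fin 2) R)) (h0 : (X 0 ^ 2 : MvPolynomial (Fin 2) R) ∈ T)
    (h1 : (X 1 ^ 2 : MvPolynomial (Fin 2) R) ∈ T) (q : MvPolynomial (Fin 2) R) : e q ∈ T := by
  induction q using MvPolynomial.induction_on with
  | C r => simpa [e] using T.algebraMap_mem r
  | add p q hp hq => simpa using T.add_mem hp hq
  | mul_X p i hp =>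
    rw [map_mul, expand_X]
    fin_cases i
    · exact T.mul_mem hp h0
    · exact T.mul_mem hp h1

end Groth.Agent.Lib.Helper1.KumFamLib
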