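import Mathlib
import Groth.Prelude
import Groth.Agent.Lib.Helper1.KDesc12
import Groth.Agent.Lib.Helper1.SmDesc2
import Groth.Agent.Lib.Helper1.LciComp
import Groth.Agent.Lib.Helper1.RegMore

set_option autoImplicit false
set_option linter.style.haveILetI false
universe u
open CategoryTheory CategoryTheory.Limits AlgebraicGeometry Groth

namespace Groth.Agent.Lib.Helper1.LciLocal

open Groth.Agent.Lib.Helper1

/-- cancellation of a smooth morphism on the right -/
theorem isKoszulAt_of_comp_smooth {A B C : Scheme.{u}} (m : A ⟶ B) (w : B ⟶ C) [Smooth w] (x : A)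
    (h : Synt.IsKoszulAt (m ≫ w) x) : Synt.IsKoszulAt m x := by
  obtain ⟨U, P, ι, π, hxU, hft, hι, hπ, hcomp⟩ := h
  haveI := hπ
  haveI := hι.1
  have hw : ι ≫ π = (U.ι ≫ m) ≫ w := by rw [hcomp, Category.assoc]
  let k : (U : Scheme.{u}) ⟶ pullback π w := pullback.lift ι (U.ι ≫ m) hw
  have hk1 : k ≫ pullback.fst π w = ι := pullback.lift_fst _ _ _
  have hk2 : k ≫ pullback.snd π w = U.ι ≫ m := pullback.lift_snd _ _ _
  have hkreg : RegImm.IsRegularImmersion .koszul k := by
    apply SmDesc.isRegularImmersion_of_comp_smooth (p := pullback.fst π w)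
    rw [hk1]; exact hι
  refine ⟨U, pullback π w, k, pullback.snd π w, hxU, ?_, hkreg, inferInstance, hk2⟩
  haveI : LocallyOfFiniteType ((U.ι ≫ m) ≫ w) := by
    rw [Category.assoc]; exact hft
  exact locallyOfFiniteType_of_comp (U.ι ≫ m) w

/-- being Koszul at a point can be checked on an open subscheme of the source -/
theorem isKoszulAt_of_isOpenImmersion_comp {A₁ A B : Scheme.{u}} (j : A₁ ⟶ A) [IsOpenImmersion j]
    (f : A ⟶ B) (x' : A₁) (h : Synt.IsKoszulAt (j ≫ f) x') : Synt.IsKoszulAt f (j x') := by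
  obtain ⟨U', P, ι, π, hxU, hft, hι, hπ, hcomp⟩ := h
  let U : A.Opens := j ''ᵁ U'
  let e : (U' : Scheme.{u}) ≅ (U : Scheme.{u}) := j.isoImage U'
  have he' : e.inv ≫ U'.ι ≫ j = U.ι := j.isoImage_inv_ι U'
  refine ⟨U, P, e.inv ≫ ι, π, ⟨x', hxU, rfl⟩, ?_, ?_, hπ, ?_⟩
  · rw [← he', Category.assoc, Category.assoc]
    haveI := hft
    infer_instance
  · exact LciComp.isRegularImmersion_comp ι e.inv hι (RegMore.isRegularImmersion_of_isIso e.inv)
  · rw [Category.assoc, hcomp, ← he']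
    simp only [Category.assoc]

theorem isKoszulAt_isOpenImmersion_comp {A₁ A B : Scheme.{u}} (j : A₁ ⟶ A) [IsOpenImmersion j]
    (f : A ⟶ B) (x' : A₁) (h : Synt.IsKoszulAt f (j x')) : Synt.IsKoszulAt (j ≫ f) x' :=
  LciComp.isKoszulAt_comp j f x' (KDesc.isKoszulAt_of_smooth j x') h

end Groth.Agent.Lib.Helper1.LciLocal
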