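import Mathlib
import Groth.Prelude
import Groth.Agent.Lib.Helper1.LciLocal
import Groth.Agent.Lib.Helper1.RegBC

set_option autoImplicit false
set_option linter.style.haveILetI false
universe u
open CategoryTheory CategoryTheory.Limits AlgebraicGeometry Groth

namespace Groth.Agent.Lib.Helper1.LciLocal

open Groth.Agent.Lib.Helper1

variable {X Y X' Y' : Scheme.{u}} {f : X ⟶ Y} {g : Y' ⟶ Y} {f' : X' ⟶ Y'} {g' : X' ⟶ X}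

set_option maxHeartbeats 800000 in
/-- fppf descent (no quasi-compactness) of lci morphisms in the factorisation sense -/
theorem isKoszulAt_of_fppf [Flat g] [LocallyOfFinitePresentation g] [Surjective g]
    (hsq : IsPullback g' f' f g) (hf' : ∀ x' : X', Synt.IsKoszulAt f' x') (x : X) :
    Synt.IsKoszulAt f x := by
  obtain ⟨v', hv'⟩ := g.surjective (f x)
  obtain ⟨_, ⟨V₀ : Y.Opens, hV₀, rfl⟩, hvV₀, -⟩ :=
    Y.isBasis_affineOpens.exists_subset_of_mem_open (Set.mem_univ (f x)) isOpen_univ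
  obtain ⟨_, ⟨T : Y'.Opens, hT, rfl⟩, hv'T, hTle⟩ :=
    Y'.isBasis_affineOpens.exists_subset_of_mem_open
      (show v' ∈ g ⁻¹ᵁ V₀ by change g v' ∈ V₀; rw [hv']; exact hvV₀) (g ⁻¹ᵁ V₀).2
  have hTle' : T ≤ g ⁻¹ᵁ V₀ := hTle
  let gT : Y.Opens := ⟨g '' (T : Set Y'), g.isOpenMap _ T.2⟩
  have hvgT : f x ∈ gT := ⟨v', hv'T, hv'⟩
  obtain ⟨s, hsle, hvs⟩ := hV₀.exists_basicOpen_le ⟨f x, hvgT⟩ hvV₀
  set V₁ : Y.Opens := Y.basicOpen s with hV₁def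
  have hV₁ : IsAffineOpen V₁ := hV₀.basicOpen s
  set T₁ : Y'.Opens := Y'.basicOpen (g.appLE V₀ T hTle' s) with hT₁def
  have hT₁ : IsAffineOpen T₁ := hT.basicOpen _
  have hT₁eq : T₁ = T ⊓ g ⁻¹ᵁ V₁ := Scheme.basicOpen_appLE g T V₀ hTle' s
  have hT₁le : T₁ ≤ g ⁻¹ᵁ V₁ := by rw [hT₁eq]; exact inf_le_right
  let π₁ : (T₁ : Scheme.{u}) ⟶ (V₁ : Scheme.{u}) := g.resLE V₁ T₁ hT₁le
  have hπ₁ι : π₁ ≫ V₁.ι = T₁.ι ≫ g := Scheme.Hom.resLE_comp_ι g hT₁le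
  haveI : IsAffine (T₁ : Scheme.{u}) := hT₁
  haveI : IsAffine (V₁ : Scheme.{u}) := hV₁
  haveI : Flat π₁ := inferInstance
  haveI : Surjective π₁ := by
    refine ⟨fun y => ?_⟩
    obtain ⟨t, htT, hty⟩ := hsle y.2
    have htT₁ : t ∈ T₁ := by
      rw [hT₁eq]
      refine ⟨htT, ?_⟩
      change g t ∈ V₁
      rw [hty]; exact y.2
    refine ⟨⟨t, htT₁⟩, ?_⟩
    apply Subtype.ext
    rw [Scheme.Hom.coe_resLE_apply]
    exact hty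
  haveI : QuasiCompact π₁ := inferInstance
  let m₁ : ((f ⁻¹ᵁ V₁ : X.Opens) : Scheme.{u}) ⟶ (V₁ : Scheme.{u}) := f ∣_ V₁
  have sq₁ : IsPullback (f ⁻¹ᵁ V₁).ι m₁ f V₁.ι := (isPullback_morphismRestrict f V₁).flip
  have hxV₁ : x ∈ f ⁻¹ᵁ V₁ := hvs
  have hw : (pullback.fst m₁ π₁ ≫ (f ⁻¹ᵁ V₁).ι) ≫ f = (pullback.snd m₁ π₁ ≫ T₁.ι) ≫ g := by
    rw [Category.assoc, sq₁.w, ← Category.assoc, pullback.condition, Category.assoc, hπ₁ι,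
      Category.assoc]
  let G : pullback m₁ π₁ ⟶ X' := hsq.lift _ _ hw
  have hG1 : G ≫ g' = pullback.fst m₁ π₁ ≫ (f ⁻¹ᵁ V₁).ι := hsq.lift_fst _ _ _
  have hG2 : G ≫ f' = pullback.snd m₁ π₁ ≫ T₁.ι := hsq.lift_snd _ _ _
  have big : IsPullback (pullback.fst m₁ π₁ ≫ (f ⁻¹ᵁ V₁).ι) (pullback.snd m₁ π₁) f
      (π₁ ≫ V₁.ι) := (IsPullback.of_hasPullback m₁ π₁).paste_horiz sq₁
  have hsq' : IsPullback G (pullback.snd m₁ π₁) f' T₁.ι := by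
    refine IsPullback.of_right ?_ hG2 hsq
    rw [hG1, ← hπ₁ι]; exact big
  have hK : ∀ z : ↥(pullback m₁ π₁), Synt.IsKoszulAt (pullback.snd m₁ π₁) z := fun z =>
    RegBC.isKoszulAt_baseChange_flat hsq' z (hf' (G z))
  have h1 : Synt.IsKoszulAt m₁ ⟨x, hxV₁⟩ :=
    KDesc.isKoszulAt_of_fpqc (IsPullback.of_hasPullback m₁ π₁) hK ⟨x, hxV₁⟩
  have h2 : Synt.IsKoszulAt (m₁ ≫ V₁.ι) ⟨x, hxV₁⟩ :=
    LciComp.isKoszulAt_comp m₁ V₁.ι _ h1 (KDesc.isKoszulAt_of_smooth V₁.ι _)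
  rw [← sq₁.w] at h2
  exact isKoszulAt_of_isOpenImmersion_comp (f ⁻¹ᵁ V₁).ι f ⟨x, hxV₁⟩ h2

end Groth.Agent.Lib.Helper1.LciLocal
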