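import Mathlib

set_option autoImplicit false
set_option linter.style.haveILetI false
universe u
open TensorProduct KaehlerDifferential

namespace Groth.Agent.Lib.Helper1.LiftRing

section ModuleOfSurj

variable {E R : Type*} [CommRing E] [CommRing R] (π : E →+* R) (hπ : Function.Surjective π)
  (M : Type*) [AddCommGroup M] [Module E M] (hM : ∀ x, π x = 0 → ∀ m : M, x • m = 0)

/-- scalar action of a quotient ring on a module killed by the kernel -/
@[reducible] noncomputable def smulOfSurj : SMul R M := ⟨fun r m => Function.surjInv hπ r • m⟩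

include hM in
theorem smulOfSurj_eq (e : E) (m : M) :
    letI := smulOfSurj π hπ M
    π e • m = e • m := by
  change Function.surjInv hπ (π e) • m = e • m
  have h1 : π (Function.surjInv hπ (π e) - e) = 0 := by
    rw [map_sub, Function.surjInv_eq hπ, sub_self]
  have := hM _ h1 m
  rwa [sub_smul, sub_eq_zero] at this

/-- module structure over a quotient ring on a module killed by the kernel -/
@[reducible] noncomputable def moduleOfSurj : Module R M :=
  letI := smulOfSurj π hπ M
  Function.Surjective.moduleLeft π hπ (smulOfSurj_eq π hπ M hM)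

end ModuleOfSurj

section Main

variable {A E A₀ : Type u} [CommRing A] [CommRing E] [CommRing A₀] [Algebra A E] [Algebra E A₀]
  [Algebra A A₀] [IsScalarTower A E A₀]
  [Module A₀ (RingHom.ker (algebraMap E A₀))]
  [IsScalarTower E A₀ (RingHom.ker (algebraMap E A₀))]

instance towerK : IsScalarTower A A₀ (RingHom.ker (algebraMap E A₀)) := by
  apply IsScalarTower.of_algebraMap_smul
  intro a k
  rw [IsScalarTower.algebraMap_apply A E A₀, algebraMap_smul, algebraMap_smul]

variable (A) in
/-- the image of `ker (A → A₀)` in `ker (E → A₀)` -/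
def LK (hρ : Function.Surjective (algebraMap A A₀)) : Submodule A₀ (RingHom.ker (algebraMap E A₀)) where
  carrier := {k | ∃ x : A, algebraMap A A₀ x = 0 ∧ algebraMap A E x = k.1}
  add_mem' := by
    rintro k k' ⟨x, hx, hxk⟩ ⟨y, hy, hyk⟩
    exact ⟨x + y, by rw [map_add, hx, hy, add_zero], by rw [map_add, hxk, hyk]; rfl⟩
  zero_mem' := ⟨0, map_zero _, by rw [map_zero]; rfl⟩
  smul_mem' := by
    rintro c k ⟨x, hx, hxk⟩
    obtain ⟨a, rfl⟩ := hρ c
    refine ⟨a * x, by rw [map_mul, hx, mul_zero], ?_⟩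
    rw [algebraMap_smul, map_mul, hxk]
    change _ = a • k.1
    rw [Algebra.smul_def]

variable (hρ : Function.Surjective (algebraMap A A₀))

variable (E) in
/-- the quotient `N = K / θ(I)` -/
abbrev NN := (RingHom.ker (algebraMap E A₀)) ⧸ LK (E := E) A hρ

example : Module E (NN E hρ) := inferInstance
example : Module A (NN E hρ) := inferInstance
example : IsScalarTower A E (NN E hρ) := inferInstance
example : IsScalarTower E A₀ (NN E hρ) := inferInstance

theorem sub_mem_ker (e : E) (a : A) (ha : algebraMap A A₀ a = algebraMap E A₀ e) :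
    e - algebraMap A E a ∈ RingHom.ker (algebraMap E A₀) := by
  rw [RingHom.mem_ker, map_sub, ← IsScalarTower.algebraMap_apply, ha, sub_self]

/-- the derivation `E → N` -/
noncomputable def Dfun (e : E) : NN E hρ :=
  Submodule.Quotient.mk ⟨e - algebraMap A E (Function.surjInv hρ (algebraMap E A₀ e)),
    sub_mem_ker e _ (Function.surjInv_eq hρ _)⟩

theorem Dfun_eq (e : E) (a : A) (ha : algebraMap A A₀ a = algebraMap E A₀ e) :
    Dfun hρ e = Submodule.Quotient.mk ⟨e - algebraMap A E a, sub_mem_ker e a ha⟩ := by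
  rw [Dfun, Submodule.Quotient.eq]
  refine ⟨a - Function.surjInv hρ (algebraMap E A₀ e), ?_, ?_⟩
  · rw [map_sub, ha, Function.surjInv_eq hρ, sub_self]
  · rw [map_sub]
    change _ = (e - _) - (e - _)
    ring

theorem smul_NN (e : E) (n : NN E hρ) : e • n = algebraMap E A₀ e • n :=
  (algebraMap_smul A₀ e n).symm

noncomputable def Dder : Derivation A E (NN E hρ) where
  toFun := Dfun hρ
  map_add' e e' := by
    rw [Dfun_eq hρ (e + e') (Function.surjInv hρ (algebraMap E A₀ e) +
      Function.surjInv hρ (algebraMap E A₀ e')) (by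
        rw [map_add, map_add, Function.surjInv_eq hρ, Function.surjInv_eq hρ]),
      Dfun, Dfun, ← Submodule.Quotient.mk_add]
    congr 1
    apply Subtype.ext
    change e + e' - algebraMap A E (_ + _) = (e - _) + (e' - _)
    rw [map_add]
    ring
  map_smul' a e := by
    rw [RingHom.id_apply, Dfun_eq hρ (a • e) (a * Function.surjInv hρ (algebraMap E A₀ e)) (by
        rw [map_mul, Function.surjInv_eq hρ, Algebra.smul_def, map_mul,
          ← IsScalarTower.algebraMap_apply]),
      Dfun, ← Submodule.Quotient.mk_smul]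
    congr 1
    apply Subtype.ext
    change a • e - algebraMap A E (_ * _) = a • (e - _)
    rw [map_mul, Algebra.smul_def, Algebra.smul_def]
    ring
  map_one_eq_zero' := by
    change Dfun hρ 1 = 0
    rw [Dfun_eq hρ 1 1 (by rw [map_one, map_one])]
    have : (⟨1 - algebraMap A E 1, sub_mem_ker (A₀ := A₀) 1 1 (by rw [map_one, map_one])⟩ :
        RingHom.ker (algebraMap E A₀)) = 0 := by
      apply Subtype.ext
      change 1 - algebraMap A E 1 = 0
      rw [map_one, sub_self]
    rw [this, Submodule.Quotient.mk_zero]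
  leibniz' e e' := by
    change Dfun hρ (e * e') = e • Dfun hρ e' + e' • Dfun hρ e
    set a := Function.surjInv hρ (algebraMap E A₀ e) with ha
    set a' := Function.surjInv hρ (algebraMap E A₀ e') with ha'
    have h1 : algebraMap A A₀ a = algebraMap E A₀ e := Function.surjInv_eq hρ _
    have h2 : algebraMap A A₀ a' = algebraMap E A₀ e' := Function.surjInv_eq hρ _
    have h3 : e' • Dfun hρ e = algebraMap A E a' • Dfun hρ e := by
      rw [smul_NN, smul_NN, ← IsScalarTower.algebraMap_apply, h2]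
    rw [h3, Dfun_eq hρ (e * e') (a * a') (by rw [map_mul, map_mul, h1, h2]), Dfun, Dfun,
      ← Submodule.Quotient.mk_smul, ← Submodule.Quotient.mk_smul, ← Submodule.Quotient.mk_add]
    congr 1
    apply Subtype.ext
    change e * e' - algebraMap A E (a * a') = e * (e' - _) + algebraMap A E a' * (e - _)
    rw [map_mul]
    ring


/-- the retraction `A₀ ⊗ Ω → N` -/
noncomputable def rr : A₀ ⊗[E] Ω[E⁄A] →ₗ[A₀] NN E hρ :=
  ((Dder (E := E) hρ).liftKaehlerDifferential).liftBaseChange A₀

theorem rr_tmul (a₀ : A₀) (e : E) : rr hρ (a₀ ⊗ₜ[E] D A E e) = a₀ • Dfun hρ e := by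
  rw [rr, LinearMap.liftBaseChange_tmul, Derivation.liftKaehlerDifferential_comp_D]
  rfl

/-- `k ↦ 1 ⊗ dk` on `K` -/
noncomputable def kapK : RingHom.ker (algebraMap E A₀) →ₗ[E] A₀ ⊗[E] Ω[E⁄A] where
  toFun k := (1 : A₀) ⊗ₜ[E] D A E k.1
  map_add' k k' := by
    change (1 : A₀) ⊗ₜ[E] D A E (k.1 + k'.1) = _
    rw [map_add, TensorProduct.tmul_add]
  map_smul' e k := by
    change (1 : A₀) ⊗ₜ[E] D A E (e * k.1) = e • ((1 : A₀) ⊗ₜ[E] D A E k.1)
    rw [Derivation.leibniz, TensorProduct.tmul_add, ← TensorProduct.smul_tmul (R := E) k.1,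
      Algebra.smul_def k.1, (RingHom.mem_ker).mp k.2, zero_mul, TensorProduct.zero_tmul, add_zero,
      TensorProduct.smul_tmul', TensorProduct.smul_tmul]

variable (hπ : Function.Surjective (algebraMap E A₀))

/-- `N → A₀ ⊗ Ω` -/
noncomputable def kap : NN E hρ →ₗ[A₀] A₀ ⊗[E] Ω[E⁄A] :=
  (LK (E := E) A hρ).liftQ ((kapK (A := A) (E := E) (A₀ := A₀)).extendScalarsOfSurjective hπ) (by
    rintro k ⟨x, hx, hxk⟩
    rw [LinearMap.mem_ker]
    change (1 : A₀) ⊗ₜ[E] D A E k.1 = 0
    rw [← hxk, Derivation.map_algebraMap, TensorProduct.tmul_zero])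

theorem kap_mk (k : RingHom.ker (algebraMap E A₀)) :
    kap hρ hπ (Submodule.Quotient.mk k) = (1 : A₀) ⊗ₜ[E] D A E k.1 := rfl

theorem rr_kap (n : NN E hρ) : rr hρ (kap hρ hπ n) = n := by
  induction n using Submodule.Quotient.induction_on with
  | H k =>
    rw [kap_mk, rr_tmul, one_smul, Dfun_eq hρ k.1 0 (by rw [map_zero]; exact ((RingHom.mem_ker).mp k.2).symm)]
    congr 1
    apply Subtype.ext
    change k.1 - algebraMap A E 0 = k.1
    rw [map_zero, sub_zero]

include hπ in
theorem finitePresentation_NN [Module.FinitePresentation A₀ (A₀ ⊗[E] Ω[E⁄A])] :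
    Module.FinitePresentation A₀ (NN E hρ) := by
  refine Module.finitePresentation_of_surjective (rr hρ) (fun n => ⟨_, rr_kap hρ hπ n⟩) ?_
  have : LinearMap.ker (rr (E := E) hρ) =
      LinearMap.range (LinearMap.id - (kap hρ hπ).comp (rr hρ)) := by
    ext x
    constructor
    · intro hx
      refine ⟨x, ?_⟩
      rw [LinearMap.sub_apply, LinearMap.comp_apply, LinearMap.id_apply, (LinearMap.mem_ker).mp hx,
        map_zero, sub_zero]
    · rintro ⟨y, rfl⟩
      rw [LinearMap.mem_ker, LinearMap.sub_apply, LinearMap.comp_apply, LinearMap.id_apply, map_sub,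
        rr_kap, sub_self]
  rw [this, LinearMap.range_eq_map]
  exact (Module.Finite.fg_top).map _


/-- restriction of `θ` to the kernels -/
def uA : RingHom.ker (algebraMap A A₀) →ₗ[A] RingHom.ker (algebraMap E A₀) where
  toFun x := ⟨algebraMap A E x.1, by
    rw [RingHom.mem_ker, ← IsScalarTower.algebraMap_apply]; exact x.2⟩
  map_add' x y := by
    apply Subtype.ext
    change algebraMap A E (x.1 + y.1) = algebraMap A E x.1 + algebraMap A E y.1
    rw [map_add]
  map_smul' a x := by
    apply Subtype.ext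
    change algebraMap A E (a * x.1) = a • algebraMap A E x.1
    rw [map_mul, Algebra.smul_def]

theorem uA_mem (x : RingHom.ker (algebraMap A A₀)) : uA (E := E) x ∈ LK (E := E) A hρ :=
  ⟨x.1, x.2, rfl⟩

theorem isUnit_loc (S : Submonoid A₀) (M : Type u) [AddCommGroup M] [Module A₀ M] [Module A M]
    [IsScalarTower A A₀ M] (g : A)
    (hg : algebraMap A A₀ g ∈ S) (s : Submonoid.powers g) :
    IsUnit (algebraMap A (Module.End A (LocalizedModule S M)) s) := by
  obtain ⟨_, n, rfl⟩ := s
  have hmem : (algebraMap A A₀ g) ^ n ∈ S := S.pow_mem hg n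
  have h1 := IsLocalizedModule.map_units (LocalizedModule.mkLinearMap S M) ⟨_, hmem⟩
  refine (Module.End.isUnit_iff _).mpr ?_
  have h2 := (Module.End.isUnit_iff _).mp h1
  have h3 : ⇑(algebraMap A (Module.End A (LocalizedModule S M)) (g ^ n)) =
      ⇑(algebraMap A₀ (Module.End A₀ (LocalizedModule S M)) (algebraMap A A₀ g ^ n)) := by
    funext x
    rw [Module.algebraMap_end_apply, Module.algebraMap_end_apply, ← map_pow, algebraMap_smul]
  rw [h3]
  exact h2

theorem exists_local_section (P : Ideal A₀) [P.IsPrime] (g : A) (hg : algebraMap A A₀ g ∉ P)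
    (B : Type u) [CommRing B] [Algebra A B] [IsLocalization.Away g B] (σ : E →+* B)
    (hσ₁ : ∀ a, σ (algebraMap A E a) = algebraMap A B a)
    (hσ₂ : ∀ k, algebraMap E A₀ k = 0 →
      σ k ∈ Ideal.map (algebraMap A B) (RingHom.ker (algebraMap A A₀))) :
    ∃ t : LocalizedModule P.primeCompl (NN E hρ) →ₗ[Localization.AtPrime P]
        LocalizedModule P.primeCompl (RingHom.ker (algebraMap E A₀)),
      (LocalizedModule.map P.primeCompl (LK (E := E) A hρ).mkQ).comp t = LinearMap.id := by
  classical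
  let ℓK : RingHom.ker (algebraMap E A₀) →ₗ[A₀]
      LocalizedModule P.primeCompl (RingHom.ker (algebraMap E A₀)) :=
    LocalizedModule.mkLinearMap P.primeCompl _
  let ℓN : NN E hρ →ₗ[A₀] LocalizedModule P.primeCompl (NN E hρ) :=
    LocalizedModule.mkLinearMap P.primeCompl _
  have hunitK := isUnit_loc (A := A) P.primeCompl (RingHom.ker (algebraMap E A₀)) g hg
  have hunitN := isUnit_loc (A := A) P.primeCompl (NN E hρ) g hg
  let ℓKA : RingHom.ker (algebraMap E A₀) →ₗ[A] LocalizedModule P.primeCompl (RingHom.ker (algebraMap E A₀)) := ℓK.restrictScalars A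
  let idm := Algebra.idealMap B (RingHom.ker (algebraMap A A₀))
  let ω : (Ideal.map (algebraMap A B) (RingHom.ker (algebraMap A A₀))) →ₗ[A] LocalizedModule P.primeCompl (RingHom.ker (algebraMap E A₀)) :=
    IsLocalizedModule.lift (Submonoid.powers g) idm (ℓKA ∘ₗ uA) hunitK
  have hω : ∀ x, ω (idm x) = ℓK (uA x) := fun x =>
    IsLocalizedModule.lift_apply (Submonoid.powers g) idm (ℓKA ∘ₗ uA) hunitK x
  let σK : RingHom.ker (algebraMap E A₀) →ₗ[A]
      (Ideal.map (algebraMap A B) (RingHom.ker (algebraMap A A₀))) :=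
    { toFun := fun k => ⟨σ k.1, hσ₂ k.1 ((RingHom.mem_ker).mp k.2)⟩
      map_add' := fun k k' => by
        apply Subtype.ext
        change σ (k.1 + k'.1) = σ k.1 + σ k'.1
        rw [map_add]
      map_smul' := fun a k => by
        apply Subtype.ext
        change σ (a • k.1) = a • σ k.1
        rw [Algebra.smul_def, map_mul, hσ₁, Algebra.smul_def] }
  let τA : RingHom.ker (algebraMap E A₀) →ₗ[A] LocalizedModule P.primeCompl (RingHom.ker (algebraMap E A₀)) := ℓKA - ω ∘ₗ σK
  let τ : RingHom.ker (algebraMap E A₀) →ₗ[A₀] LocalizedModule P.primeCompl (RingHom.ker (algebraMap E A₀)) := τA.extendScalarsOfSurjective hρ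
  have hτ : LK (E := E) A hρ ≤ LinearMap.ker τ := by
    rintro k ⟨x, hx, hxk⟩
    rw [LinearMap.mem_ker]
    change ℓK k - ω (σK k) = 0
    have h1 : k = uA ⟨x, hx⟩ := Subtype.ext hxk.symm
    have h2 : σK k = idm ⟨x, hx⟩ := by
      apply Subtype.ext
      change σ k.1 = algebraMap A B x
      rw [← hxk, hσ₁]
    rw [h2, hω, ← h1, sub_self]
  let t₀ : NN E hρ →ₗ[A₀] LocalizedModule P.primeCompl (RingHom.ker (algebraMap E A₀)) := (LK (E := E) A hρ).liftQ τ hτ
  let t₁ : LocalizedModule P.primeCompl (NN E hρ) →ₗ[A₀] LocalizedModule P.primeCompl (RingHom.ker (algebraMap E A₀)) :=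
    IsLocalizedModule.lift P.primeCompl ℓN t₀ (IsLocalizedModule.map_units ℓK)
  have ht₁ : ∀ n, t₁ (ℓN n) = t₀ n := fun n =>
    IsLocalizedModule.lift_apply P.primeCompl ℓN t₀ (IsLocalizedModule.map_units ℓK) n
  let mc := LocalizedModule.map P.primeCompl (LK (E := E) A hρ).mkQ
  have hmcℓ : ∀ k, mc (ℓK k) = ℓN ((LK (E := E) A hρ).mkQ k) := by
    intro k
    change mc (LocalizedModule.mk k 1) = LocalizedModule.mk _ 1
    exact LocalizedModule.map_mk P.primeCompl (LK (E := E) A hρ).mkQ k 1
  have hΨ : ∀ y, mc (ω y) = 0 := by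
    let Ψ : (Ideal.map (algebraMap A B) (RingHom.ker (algebraMap A A₀))) →ₗ[A] LocalizedModule P.primeCompl (NN E hρ) :=
      ((mc.restrictScalars A₀).restrictScalars A) ∘ₗ ω
    have : Ψ = 0 := by
      apply IsLocalizedModule.ext (Submonoid.powers g) idm hunitN
      ext x
      change mc (ω (idm x)) = 0
      rw [hω, hmcℓ]
      have : (LK (E := E) A hρ).mkQ (uA x) = 0 :=
        (Submodule.Quotient.mk_eq_zero _).mpr (uA_mem hρ x)
      rw [this, map_zero]
    intro y
    exact congr($this y)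
  refine ⟨t₁.extendScalarsOfIsLocalization P.primeCompl (Localization.AtPrime P), ?_⟩
  let Φ : LocalizedModule P.primeCompl (NN E hρ) →ₗ[A₀] LocalizedModule P.primeCompl (NN E hρ) := (mc.restrictScalars A₀) ∘ₗ t₁
  have hΦ : Φ = LinearMap.id := by
    apply IsLocalizedModule.ext P.primeCompl ℓN (IsLocalizedModule.map_units ℓN)
    ext k
    change mc (t₁ (ℓN (Submodule.Quotient.mk k))) = ℓN (Submodule.Quotient.mk k)
    rw [ht₁]
    change mc (ℓK k - ω (σK k)) = _
    rw [map_sub, hΨ, sub_zero, hmcℓ]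
    rfl
  ext y
  exact congr($hΦ y)


/-- the local data: ring maps `E → A_g` retracting `θ` and respecting the kernels -/
def LocData (S : Set A) : Prop :=
  ∀ g ∈ S, ∃ (B : Type u) (_ : CommRing B) (_ : Algebra A B) (_ : IsLocalization.Away g B)
    (σ : E →+* B), (∀ a, σ (algebraMap A E a) = algebraMap A B a) ∧
      ∀ k, algebraMap E A₀ k = 0 →
        σ k ∈ Ideal.map (algebraMap A B) (RingHom.ker (algebraMap A A₀))

include hπ in
theorem exists_section [Module.FinitePresentation A₀ (A₀ ⊗[E] Ω[E⁄A])]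
    (S : Set A) (hS : Ideal.span S = ⊤) (hloc : LocData (E := E) (A₀ := A₀) S) :
    ∃ s : NN E hρ →ₗ[A₀] RingHom.ker (algebraMap E A₀),
      (LK (E := E) A hρ).mkQ.comp s = LinearMap.id := by
  haveI := finitePresentation_NN hρ hπ
  apply LinearMap.split_surjective_of_localization_maximal
  intro P hP
  have : ∃ g ∈ S, algebraMap A A₀ g ∉ P := by
    by_contra hcon
    push Not at hcon
    have h1 : Ideal.span S ≤ P.comap (algebraMap A A₀) := Ideal.span_le.mpr (fun g hg => hcon g hg)
    rw [hS] at h1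
    have h2 : (1 : A) ∈ P.comap (algebraMap A A₀) := h1 trivial
    rw [Ideal.mem_comap, map_one] at h2
    exact hP.ne_top ((Ideal.eq_top_iff_one _).mpr h2)
  obtain ⟨g, hgS, hgP⟩ := this
  obtain ⟨B, _, _, _, σ, hσ₁, hσ₂⟩ := hloc g hgS
  exact exists_local_section hρ P g hgP B σ hσ₁ hσ₂

omit [Module A₀ (RingHom.ker (algebraMap E A₀))]
  [IsScalarTower E A₀ (RingHom.ker (algebraMap E A₀))] in
theorem eq_zero_of_locData (S : Set A) (hS : Ideal.span S = ⊤)
    (hloc : LocData (E := E) (A₀ := A₀) S) (x : A) (hx : algebraMap A E x = 0) : x = 0 := by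
  let J : Ideal A := LinearMap.ker (LinearMap.toSpanSingleton A A x)
  have hJ : S ⊆ (J.radical : Set A) := by
    intro g hg
    obtain ⟨B, _, _, _, σ, hσ₁, -⟩ := hloc g hg
    have h1 : algebraMap A B x = 0 := by rw [← hσ₁, hx, map_zero]
    obtain ⟨⟨_, n, rfl⟩, hm⟩ := (IsLocalization.map_eq_zero_iff (Submonoid.powers g) B x).mp h1
    refine ⟨n, ?_⟩
    change LinearMap.toSpanSingleton A A x (g ^ n) = 0
    rw [LinearMap.toSpanSingleton_apply, smul_eq_mul]
    exact hm
  have h2 : J.radical = ⊤ := by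
    rw [eq_top_iff, ← hS]
    exact Ideal.span_le.mpr hJ
  have h3 : J = ⊤ := Ideal.radical_eq_top.mp h2
  have h4 : (1 : A) ∈ J := by rw [h3]; trivial
  change LinearMap.toSpanSingleton A A x 1 = 0 at h4
  rwa [LinearMap.toSpanSingleton_apply, one_smul] at h4

section Rel

variable (s : NN E hρ →ₗ[A₀] RingHom.ker (algebraMap E A₀))
  (hs : (LK (E := E) A hρ).mkQ.comp s = LinearMap.id)
  (hinj : ∀ x : A, algebraMap A E x = 0 → x = 0)

/-- `a` is the value at `e` of the retraction attached to the section `s` -/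
def Rel (e : E) (a : A) : Prop := ∃ n : NN E hρ, ((s n : RingHom.ker (algebraMap E A₀)) : E) =
  e - algebraMap A E a

include hs in
theorem rel_exists (e : E) : ∃ a, Rel hρ s e a := by
  set a₁ := Function.surjInv hρ (algebraMap E A₀ e) with ha₁
  have h1 : algebraMap A A₀ a₁ = algebraMap E A₀ e := Function.surjInv_eq hρ _
  set k₁ : RingHom.ker (algebraMap E A₀) := ⟨e - algebraMap A E a₁, sub_mem_ker e a₁ h1⟩ with hk₁
  have h2 : (LK (E := E) A hρ).mkQ (k₁ - s ((LK (E := E) A hρ).mkQ k₁)) = 0 := by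
    rw [map_sub]
    have := congr($hs ((LK (E := E) A hρ).mkQ k₁))
    rw [LinearMap.comp_apply, LinearMap.id_apply] at this
    rw [this, sub_self]
  obtain ⟨x, hx, hxk⟩ := (Submodule.Quotient.mk_eq_zero _).mp h2
  refine ⟨a₁ + x, (LK (E := E) A hρ).mkQ k₁, ?_⟩
  rw [map_add, hxk]
  change _ = e - (algebraMap A E a₁ + (k₁.1 - (s ((LK (E := E) A hρ).mkQ k₁)).1))
  change _ = e - (algebraMap A E a₁ + ((e - algebraMap A E a₁) - (s ((LK (E := E) A hρ).mkQ k₁)).1))
  ring

include hs hinj in
theorem rel_unique (e : E) (a a' : A) (h : Rel hρ s e a) (h' : Rel hρ s e a') : a = a' := by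
  obtain ⟨n, hn⟩ := h
  obtain ⟨n', hn'⟩ := h'
  have h1 : ((s (n - n') : RingHom.ker (algebraMap E A₀)) : E) = algebraMap A E (a' - a) := by
    rw [map_sub, map_sub]
    change (s n).1 - (s n').1 = _
    rw [hn, hn']
    ring
  have h2 : algebraMap A A₀ (a' - a) = 0 := by
    rw [IsScalarTower.algebraMap_apply A E A₀, ← h1]
    exact (RingHom.mem_ker).mp (s (n - n')).2
  have h3 : s (n - n') ∈ LK (E := E) A hρ := ⟨a' - a, h2, h1.symm⟩
  have h4 : n - n' = 0 := by
    have := congr($hs (n - n'))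
    rw [LinearMap.comp_apply, LinearMap.id_apply] at this
    rw [← this]
    exact (Submodule.Quotient.mk_eq_zero _).mpr h3
  rw [h4, map_zero] at h1
  have h5 := hinj (a' - a) h1.symm
  exact (sub_eq_zero.mp h5).symm

theorem rel_add (e e' : E) (a a' : A) (h : Rel hρ s e a) (h' : Rel hρ s e' a') :
    Rel hρ s (e + e') (a + a') := by
  obtain ⟨n, hn⟩ := h
  obtain ⟨n', hn'⟩ := h'
  refine ⟨n + n', ?_⟩
  rw [map_add, map_add]
  change (s n).1 + (s n').1 = _
  rw [hn, hn']
  ring

theorem rel_mul (e e' : E) (a a' : A) (h : Rel hρ s e a) (h' : Rel hρ s e' a') :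
    Rel hρ s (e * e') (a * a') := by
  obtain ⟨n, hn⟩ := h
  obtain ⟨n', hn'⟩ := h'
  refine ⟨algebraMap E A₀ e' • n + algebraMap A A₀ a • n', ?_⟩
  rw [map_add, map_smul, map_smul, algebraMap_smul, algebraMap_smul, map_mul]
  change e' • (s n).1 + a • (s n').1 = _
  rw [hn, hn', smul_eq_mul, Algebra.smul_def]
  ring

theorem rel_algebraMap (a : A) : Rel hρ s (algebraMap A E a) a :=
  ⟨0, by rw [map_zero, sub_self]; rfl⟩

theorem rel_compat (e : E) (a : A) (h : Rel hρ s e a) :
    algebraMap A A₀ a = algebraMap E A₀ e := by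
  obtain ⟨n, hn⟩ := h
  have := (RingHom.mem_ker).mp (s n).2
  rw [hn, map_sub, ← IsScalarTower.algebraMap_apply, sub_eq_zero] at this
  exact this.symm

include hs hinj in
theorem exists_algHom : ∃ σ : E →ₐ[A] A, ∀ e, algebraMap A A₀ (σ e) = algebraMap E A₀ e := by
  choose f hf using rel_exists hρ s hs
  have huniq := rel_unique hρ s hs hinj
  refine ⟨{ toFun := f
            map_one' := ?_
            map_mul' := ?_
            map_zero' := ?_
            map_add' := ?_
            commutes' := ?_ }, fun e => rel_compat hρ s e (f e) (hf e)⟩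
  · refine huniq 1 _ _ (hf 1) ?_
    have := rel_algebraMap hρ s (1 : A)
    rwa [map_one] at this
  · intro e e'
    exact huniq _ _ _ (hf _) (rel_mul hρ s e e' _ _ (hf e) (hf e'))
  · refine huniq 0 _ _ (hf 0) ?_
    have := rel_algebraMap hρ s (0 : A)
    rwa [map_zero] at this
  · intro e e'
    exact huniq _ _ _ (hf _) (rel_add hρ s e e' _ _ (hf e) (hf e'))
  · intro a
    exact huniq _ _ _ (hf _) (rel_algebraMap hρ s a)

end Rel

end Main

/-- **Gluing retractions.** `A → E → A₀` with `A → A₀` and `E → A₀` surjective and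
`ker (E → A₀)` of square zero; if `A₀ ⊗_E Ω_{E/A}` is finitely presented and retractions of
`A → E` compatible with the maps to `A₀` exist locally on `Spec A`, then one exists globally. -/
theorem exists_retraction {A E A₀ : Type u} [CommRing A] [CommRing E] [CommRing A₀] [Algebra A E]
    [Algebra E A₀] [Algebra A A₀] [IsScalarTower A E A₀]
    (hρ : Function.Surjective (algebraMap A A₀)) (hπ : Function.Surjective (algebraMap E A₀))
    (hK : ∀ x y : E, algebraMap E A₀ x = 0 → algebraMap E A₀ y = 0 → x * y = 0)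
    [Module.FinitePresentation A₀ (A₀ ⊗[E] Ω[E⁄A])]
    (S : Set A) (hS : Ideal.span S = ⊤) (hloc : LocData (E := E) (A₀ := A₀) S) :
    ∃ σ : E →ₐ[A] A, ∀ e, algebraMap A A₀ (σ e) = algebraMap E A₀ e := by
  have hM : ∀ x, algebraMap E A₀ x = 0 → ∀ m : RingHom.ker (algebraMap E A₀), x • m = 0 :=
    fun x hx m => Subtype.ext (hK x m.1 hx ((RingHom.mem_ker).mp m.2))
  letI mK : Module A₀ (RingHom.ker (algebraMap E A₀)) :=
    moduleOfSurj (algebraMap E A₀) hπ _ hM
  haveI tK : IsScalarTower E A₀ (RingHom.ker (algebraMap E A₀)) :=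
    IsScalarTower.of_algebraMap_smul (fun e m => smulOfSurj_eq (algebraMap E A₀) hπ _ hM e m)
  obtain ⟨s, hs⟩ := exists_section hρ hπ S hS hloc
  exact exists_algHom hρ s hs (eq_zero_of_locData S hS hloc)

end Groth.Agent.Lib.Helper1.LiftRing
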