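import Mathlib
import Groth.Agent.Lib.Helper1.UTAffine

/-! helper1: global existence of universal first order thickenings, by gluing -/

set_option autoImplicit false
set_option linter.style.haveILetI false
universe u
open CategoryTheory CategoryTheory.Limits AlgebraicGeometry

namespace Groth.Agent.Lib.Helper1.UT

variable {Z X : Scheme.{u}} (h : Z ⟶ X)

/-- affine opens of `Z` mapping into an affine open of `X` -/
def goodOpens : Set Z.Opens :=
  {V | IsAffineOpen V ∧ ∃ U : X.Opens, IsAffineOpen U ∧ V ≤ h ⁻¹ᵁ U}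

theorem isBasis_goodOpens : TopologicalSpace.Opens.IsBasis (goodOpens h) := by
  rw [TopologicalSpace.Opens.isBasis_iff_nbhd]
  intro O z hz
  obtain ⟨_, ⟨U, hU, rfl⟩, hzU, -⟩ := X.isBasis_affineOpens.exists_subset_of_mem_open
    (Set.mem_univ (h.base z)) isOpen_univ
  have hz' : z ∈ O ⊓ h ⁻¹ᵁ U := ⟨hz, hzU⟩
  obtain ⟨_, ⟨V, hV, rfl⟩, hzV, hVO⟩ := Z.isBasis_affineOpens.exists_subset_of_mem_open
    hz' (O ⊓ h ⁻¹ᵁ U).2
  exact ⟨V, ⟨hV, U, hU, fun x hx => (hVO hx).2⟩, hzV, fun x hx => (hVO hx).1⟩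

theorem goodOpens_of_le {V W : Z.Opens} (hV : V ∈ goodOpens h) (hW : IsAffineOpen W)
    (hle : W ≤ V) : W ∈ goodOpens h := by
  obtain ⟨-, U, hU, hVU⟩ := hV
  exact ⟨hW, U, hU, hle.trans hVU⟩

/-- local data: a universal thickening of an open of `Z` over `X` -/
structure LocData (V : Z.Opens) where
  V' : Scheme.{u}
  i : (V : Scheme.{u}) ⟶ V'
  h' : V' ⟶ X
  univ : OmegaSh.IsUnivThickening (V.ι ≫ h) i h'

variable [FormallyUnramified h]

theorem nonempty_locData (V : goodOpens h) : Nonempty (LocData h V.1) := by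
  obtain ⟨hV, U, hU, e⟩ := V.2
  obtain ⟨V', i, h', hu⟩ := exists_local h hV hU e
  exact ⟨⟨V', i, h', hu⟩⟩

noncomputable def locData (V : goodOpens h) : LocData h V.1 := Classical.choice (nonempty_locData h V)

theorem trans_hasUniqueLift {V₁ V₂ : goodOpens h} (hle : V₁ ≤ V₂) :
    HasUniqueLift (locData h V₂).i (locData h V₂).h' (locData h V₁).i (locData h V₁).h'
      (Z.homOfLE hle) := by
  refine (locData h V₂).univ.2.2 _ _ _ _ _ (locData h V₁).univ.1 ?_
  rw [(locData h V₁).univ.2.1, Scheme.homOfLE_ι_assoc]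

/-- transition maps -/
noncomputable def tr {V₁ V₂ : goodOpens h} (hle : V₁ ≤ V₂) : (locData h V₁).V' ⟶ (locData h V₂).V' :=
  (trans_hasUniqueLift h hle).exists.choose

theorem i_tr {V₁ V₂ : goodOpens h} (hle : V₁ ≤ V₂) :
    (locData h V₁).i ≫ tr h hle = Z.homOfLE hle ≫ (locData h V₂).i :=
  (trans_hasUniqueLift h hle).exists.choose_spec.1

theorem tr_h' {V₁ V₂ : goodOpens h} (hle : V₁ ≤ V₂) :
    tr h hle ≫ (locData h V₂).h' = (locData h V₁).h' :=
  (trans_hasUniqueLift h hle).exists.choose_spec.2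

theorem tr_uniq {V₁ V₂ : goodOpens h} (hle : V₁ ≤ V₂) (f : (locData h V₁).V' ⟶ (locData h V₂).V')
    (h1 : (locData h V₁).i ≫ f = Z.homOfLE hle ≫ (locData h V₂).i)
    (h2 : f ≫ (locData h V₂).h' = (locData h V₁).h') : f = tr h hle :=
  (trans_hasUniqueLift h hle).unique ⟨h1, h2⟩ ⟨i_tr h hle, tr_h' h hle⟩

/-- the gluing functor -/
noncomputable def F : goodOpens h ⥤ Scheme.{u} where
  obj V := (locData h V).V'
  map f := tr h (leOfHom f)
  map_id V := by
    symm
    apply tr_uniq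
    · rw [Category.comp_id, Scheme.homOfLE_rfl, Category.id_comp]
    · rw [Category.id_comp]
  map_comp {V₁ V₂ V₃} f g := by
    symm
    apply tr_uniq
    · rw [← Category.assoc, i_tr, Category.assoc, i_tr, ← Category.assoc, Scheme.homOfLE_homOfLE]
    · rw [Category.assoc, tr_h', tr_h']

theorem isHomeomorph_of_isThickening {T T' : Scheme.{u}} {j : T ⟶ T'} (hj : MoreMor.IsThickening j) :
    IsHomeomorph j.base := by
  haveI := hj.1
  exact (isHomeomorph_iff_isEmbedding_surjective).mpr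
    ⟨j.isClosedEmbedding.isEmbedding, hj.2.surj⟩

instance isOpenImmersion_tr {V₁ V₂ : goodOpens h} (hle : V₁ ≤ V₂) : IsOpenImmersion (tr h hle) := by
  set i₂ := (locData h V₂).i with hi₂
  have hhomeo : IsHomeomorph i₂.base := isHomeomorph_of_isThickening (locData h V₂).univ.1.1
  -- the open of `V₂'` corresponding to `V₁`
  let W' : (locData h V₂).V'.Opens :=
    ⟨i₂.base '' (V₂.1.ι ⁻¹ᵁ V₁.1 : Set _), hhomeo.isOpenMap _ (V₂.1.ι ⁻¹ᵁ V₁.1).2⟩
  have hW' : i₂ ⁻¹ᵁ W' = V₂.1.ι ⁻¹ᵁ V₁.1 := by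
    ext x
    exact ⟨fun ⟨y, hy, hyx⟩ => hhomeo.injective hyx ▸ hy, fun hx => ⟨x, hx, rfl⟩⟩
  have hres := isUnivThickening_restrict (locData h V₂).univ W'
  -- identify the source with `V₁`
  have hrange : Set.range V₁.1.ι.base = Set.range ((i₂ ⁻¹ᵁ W').ι ≫ V₂.1.ι).base := by
    rw [Scheme.Hom.comp_base, TopCat.coe_comp, Set.range_comp, Scheme.Opens.range_ι,
      Scheme.Opens.range_ι, hW']
    ext x
    constructor
    · intro hx
      exact ⟨⟨x, hle hx⟩, hx, rfl⟩
    · rintro ⟨y, hy, rfl⟩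
      exact hy
  let e : (V₁.1 : Scheme.{u}) ≅ (i₂ ⁻¹ᵁ W' : Scheme.{u}) :=
    IsOpenImmersion.isoOfRangeEq V₁.1.ι ((i₂ ⁻¹ᵁ W').ι ≫ V₂.1.ι) hrange
  have he : e.hom ≫ (i₂ ⁻¹ᵁ W').ι ≫ V₂.1.ι = V₁.1.ι := IsOpenImmersion.isoOfRangeEq_hom_fac _ _ _
  have hres' := isUnivThickening_of_iso_source e hres
  have heq : e.hom ≫ (i₂ ⁻¹ᵁ W').ι ≫ V₂.1.ι ≫ h = V₁.1.ι ≫ h := by
    rw [← Category.assoc, ← Category.assoc, Category.assoc e.hom, he]
  rw [heq] at hres'
  obtain ⟨θ, hθ1, hθ2⟩ := exists_iso_of_isUnivThickening (locData h V₁).univ hres'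
  have he' : e.hom ≫ (i₂ ⁻¹ᵁ W').ι = Z.homOfLE hle := by
    rw [← cancel_mono V₂.1.ι, Category.assoc, he, Scheme.homOfLE_ι]
  have : tr h hle = θ.hom ≫ W'.ι := by
    symm
    apply tr_uniq
    · rw [← Category.assoc, hθ1, Category.assoc, morphismRestrict_ι, ← Category.assoc, he']
    · rw [Category.assoc, hθ2]
  rw [this]
  infer_instance

instance {V₁ V₂ : goodOpens h} (f : V₁ ⟶ V₂) : IsOpenImmersion ((F h).map f) :=
  isOpenImmersion_tr h (leOfHom f)

theorem locData_i_surjective (V : goodOpens h) : Function.Surjective (locData h V).i.base :=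
  (locData h V).univ.1.1.2.surj

theorem locData_i_injective (V : goodOpens h) : Function.Injective (locData h V).i.base :=
  (isHomeomorph_of_isThickening (locData h V).univ.1.1).injective

theorem tr_apply {V₁ V₂ : goodOpens h} (hle : V₁ ≤ V₂) (z : V₁.1) :
    (tr h hle).base ((locData h V₁).i.base z) = (locData h V₂).i.base ((Z.homOfLE hle).base z) := by
  have := congrArg (fun g => g.base z) (i_tr h hle)
  exact this

instance : ((F h) ⋙ Scheme.forget).IsLocallyDirected where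
  cond {Vi Vj Vk} fi fj xi xj heq := by
    change (tr h (leOfHom fi)).base xi = (tr h (leOfHom fj)).base xj at heq
    obtain ⟨zi, rfl⟩ := locData_i_surjective h Vi xi
    obtain ⟨zj, rfl⟩ := locData_i_surjective h Vj xj
    have heq' := (tr_apply h (leOfHom fi) zi).symm.trans (heq.trans (tr_apply h (leOfHom fj) zj))
    have h1 := locData_i_injective h Vk heq'
    have h2 : zi.1 = zj.1 := by
      have := congrArg Subtype.val h1
      exact (Scheme.homOfLE_apply _ zi).symm.trans (this.trans (Scheme.homOfLE_apply _ zj))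
    have hz : zi.1 ∈ Vi.1 ⊓ Vj.1 := ⟨zi.2, h2 ▸ zj.2⟩
    obtain ⟨Vl, hVl, hzl, hle⟩ := TopologicalSpace.Opens.isBasis_iff_nbhd.mp (isBasis_goodOpens h) hz
    have hli : (⟨Vl, hVl⟩ : goodOpens h) ≤ Vi := fun x hx => (hle hx).1
    have hlj : (⟨Vl, hVl⟩ : goodOpens h) ≤ Vj := fun x hx => (hle hx).2
    refine ⟨⟨Vl, hVl⟩, homOfLE hli, homOfLE hlj, (locData h ⟨Vl, hVl⟩).i.base ⟨zi.1, hzl⟩, ?_, ?_⟩
    · refine (tr_apply h hli ⟨zi.1, hzl⟩).trans ?_
      congr 1
      exact Subtype.ext (Scheme.homOfLE_apply _ _)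
    · refine (tr_apply h hlj ⟨zi.1, hzl⟩).trans ?_
      congr 1
      exact Subtype.ext ((Scheme.homOfLE_apply _ _).trans h2)

/-- the glued thickening -/
noncomputable def Zt : Scheme.{u} := colimit (F h)

/-- the inclusion of a local piece -/
noncomputable def c (V : goodOpens h) : (locData h V).V' ⟶ Zt h := colimit.ι (F h) V

instance (V : goodOpens h) : IsOpenImmersion (c h V) :=
  inferInstanceAs (IsOpenImmersion (colimit.ι (F h) V))

theorem tr_c {V₁ V₂ : goodOpens h} (hle : V₁ ≤ V₂) : tr h hle ≫ c h V₂ = c h V₁ :=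
  colimit.w (F h) (homOfLE hle)

theorem iZ_compat {V₁ V₂ : goodOpens h} (hle : V₁ ≤ V₂) :
    Z.homOfLE hle ≫ (locData h V₂).i ≫ c h V₂ = (locData h V₁).i ≫ c h V₁ := by
  rw [← Category.assoc, ← i_tr h hle, Category.assoc, tr_c]

theorem iZ_compat' {V₁ V₂ : (coverOfBasis Z (goodOpens h) (isBasis_goodOpens h)).I₀}
    (hij : V₁ ⟶ V₂) :
    Scheme.Cover.trans (coverOfBasis Z (goodOpens h) (isBasis_goodOpens h)) hij ≫
      (locData h V₂).i ≫ c h V₂ = (locData h V₁).i ≫ c h V₁ := by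
  have : hij = homOfLE (leOfHom hij) := Subsingleton.elim _ _
  rw [this]
  exact iZ_compat h (leOfHom hij)

/-- the thickening map -/
noncomputable def iZ : Z ⟶ Zt h :=
  (coverOfBasis Z (goodOpens h) (isBasis_goodOpens h)).glueMorphismsOfLocallyDirected
    (fun V => (locData h V).i ≫ c h V) (iZ_compat' h)

theorem ι_iZ (V : goodOpens h) : V.1.ι ≫ iZ h = (locData h V).i ≫ c h V := by
  exact Scheme.OpenCover.map_glueMorphismsOfLocallyDirected
    (coverOfBasis Z (goodOpens h) (isBasis_goodOpens h)) (fun V => (locData h V).i ≫ c h V)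
    (iZ_compat' h) V

/-- the structure map of the glued thickening -/
noncomputable def hZ : Zt h ⟶ X :=
  colimit.desc (F h)
    { pt := X
      ι :=
        { app := fun V => (locData h V).h'
          naturality := fun V₁ V₂ f => by
            change tr h (leOfHom f) ≫ (locData h V₂).h' = (locData h V₁).h' ≫ 𝟙 X
            rw [tr_h', Category.comp_id] } }

theorem c_hZ (V : goodOpens h) : c h V ≫ hZ h = (locData h V).h' :=
  colimit.ι_desc _ _

theorem iZ_hZ : iZ h ≫ hZ h = h := by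
  refine Scheme.Cover.hom_ext (coverOfBasis Z (goodOpens h) (isBasis_goodOpens h)) _ _
    fun (V : goodOpens h) ↦ ?_
  change V.1.ι ≫ iZ h ≫ hZ h = V.1.ι ≫ h
  rw [← Category.assoc, ι_iZ, Category.assoc, c_hZ, (locData h V).univ.2.1]

theorem iZ_apply (V : goodOpens h) (z : V.1) :
    (iZ h).base z.1 = (c h V).base ((locData h V).i.base z) := by
  have := congrArg (fun g => g.base z) (ι_iZ h V)
  exact this

omit [FormallyUnramified h] in
theorem exists_goodOpens_mem (z : Z) : ∃ V : goodOpens h, z ∈ V.1 := by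
  obtain ⟨V, hV, hz, -⟩ := TopologicalSpace.Opens.isBasis_iff_nbhd.mp (isBasis_goodOpens h)
    (TopologicalSpace.Opens.mem_top z)
  exact ⟨⟨V, hV⟩, hz⟩

theorem preimage_opensRange (V : goodOpens h) : (iZ h) ⁻¹ᵁ (c h V).opensRange = V.1 := by
  ext z
  constructor
  · rintro ⟨y, hy⟩
    obtain ⟨W, hzW⟩ := exists_goodOpens_mem h z
    have h1 : (c h W).base ((locData h W).i.base ⟨z, hzW⟩) = (c h V).base y :=
      (iZ_apply h W ⟨z, hzW⟩).symm.trans hy.symm
    obtain ⟨k, fW, fV, x, hx1, hx2⟩ := (Scheme.IsLocallyDirected.ι_eq_ι_iff (F h)).mp h1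
    obtain ⟨z', rfl⟩ := locData_i_surjective h k x
    have h2 : (locData h W).i.base ((Z.homOfLE (leOfHom fW)).base z') =
        (locData h W).i.base ⟨z, hzW⟩ := (tr_apply h (leOfHom fW) z').symm.trans hx1
    have h3 := congrArg Subtype.val (locData_i_injective h W h2)
    have h4 : z'.1 = z := (Scheme.homOfLE_apply _ z').symm.trans h3
    exact leOfHom fV (h4 ▸ z'.2)
  · intro hz
    exact ⟨(locData h V).i.base ⟨z, hz⟩, (iZ_apply h V ⟨z, hz⟩).symm⟩

theorem isPullback_iZ (V : goodOpens h) : IsPullback (locData h V).i V.1.ι (c h V) (iZ h) := by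
  refine IsOpenImmersion.isPullback _ _ _ _ (ι_iZ h V) ?_
  rw [preimage_opensRange, Scheme.Opens.opensRange_ι]

theorem isFirstOrderThickening_iZ : MoreMor.IsFirstOrderThickening (iZ h) := by
  refine isFirstOrderThickening_of_openCover (iZ h) (Scheme.IsLocallyDirected.openCover (F h)) ?_
  intro (V : goodOpens h)
  exact ⟨_, (locData h V).i, V.1.ι, isPullback_iZ h V, (locData h V).univ.1⟩

omit [FormallyUnramified h] in
/-- transfer of the unique lifting property along an open piece of the thickening -/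
theorem hasUniqueLift_of_openImmersion {Z Z' X V V' T T' : Scheme.{u}} {i : Z ⟶ Z'} {h' : Z' ⟶ X}
    {iV : V ⟶ V'} {hV' : V' ⟶ X} {ι : V ⟶ Z} {c : V' ⟶ Z'} [IsOpenImmersion c]
    (hsq : ι ≫ i = iV ≫ c) (hc : c ≫ h' = hV')
    {j : T ⟶ T'} (hjs : Function.Surjective j.base) {b : T' ⟶ X} {aV : T ⟶ V}
    (H : HasUniqueLift iV hV' j b aV) : HasUniqueLift i h' j b (aV ≫ ι) := by
  obtain ⟨a', ⟨h1, h2⟩, huniq⟩ := H
  refine ⟨a' ≫ c, ⟨?_, ?_⟩, ?_⟩
  · rw [← Category.assoc, h1, Category.assoc, ← hsq, Category.assoc]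
  · rw [Category.assoc, hc, h2]
  · rintro a'' ⟨h1'', h2''⟩
    have hrange : Set.range a''.base ⊆ Set.range c.base := by
      rintro _ ⟨t', rfl⟩
      obtain ⟨t, rfl⟩ := hjs t'
      have e1 : a''.base (j.base t) = c.base (iV.base (aV.base t)) := by
        have := congrArg (fun g => g.base t) (h1''.trans (by rw [Category.assoc, hsq]))
        exact this
      rw [e1]
      exact ⟨_, rfl⟩
    have hl : IsOpenImmersion.lift c a'' hrange = a' := by
      apply huniq
      refine ⟨?_, ?_⟩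
      · rw [← cancel_mono c, Category.assoc, IsOpenImmersion.lift_fac, h1'', Category.assoc, hsq,
          Category.assoc]
      · rw [← hc, ← Category.assoc, IsOpenImmersion.lift_fac, h2'']
    rw [← hl, IsOpenImmersion.lift_fac]

theorem isUnivThickening_glued : OmegaSh.IsUnivThickening h (iZ h) (hZ h) := by
  refine ⟨isFirstOrderThickening_iZ h, iZ_hZ h, ?_⟩
  intro T T' j b a hj hba
  have hhomeo : IsHomeomorph j.base := isHomeomorph_of_isThickening hj.1
  let 𝒲 : Set T'.Opens := {W' | ∃ V : goodOpens h, j ⁻¹ᵁ W' ≤ a ⁻¹ᵁ V.1}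
  have h𝒲 : TopologicalSpace.Opens.IsBasis 𝒲 := by
    rw [TopologicalSpace.Opens.isBasis_iff_nbhd]
    intro O t' ht'
    obtain ⟨t, rfl⟩ := hhomeo.surjective t'
    obtain ⟨V, hV⟩ := exists_goodOpens_mem h (a.base t)
    let W₀ : T'.Opens := ⟨j.base '' (a ⁻¹ᵁ V.1 : Set _), hhomeo.isOpenMap _ (a ⁻¹ᵁ V.1).2⟩
    refine ⟨O ⊓ W₀, ⟨V, ?_⟩, ⟨ht', ⟨t, hV, rfl⟩⟩, inf_le_left⟩
    rintro x ⟨-, ⟨y, hy, hyx⟩⟩
    exact hhomeo.injective hyx ▸ hy
  refine hasUniqueLift_of_basis _ _ j b a 𝒲 h𝒲 ?_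
  rintro W' ⟨V, hV⟩
  have hrange : Set.range ((j ⁻¹ᵁ W').ι ≫ a).base ⊆ Set.range V.1.ι.base := by
    rw [Scheme.Opens.range_ι]
    rintro _ ⟨t, rfl⟩
    exact hV t.2
  let aV : (j ⁻¹ᵁ W' : Scheme.{u}) ⟶ V.1 := IsOpenImmersion.lift V.1.ι ((j ⁻¹ᵁ W').ι ≫ a) hrange
  have haV : aV ≫ V.1.ι = (j ⁻¹ᵁ W').ι ≫ a := IsOpenImmersion.lift_fac _ _ _
  have hjW := isFirstOrderThickening_morphismRestrict hj W'
  rw [← haV]
  refine hasUniqueLift_of_openImmersion (ι_iZ h V) (c_hZ h V) hjW.1.2.surj ?_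
  refine (locData h V).univ.2.2 _ _ _ _ _ hjW ?_
  rw [← Category.assoc, morphismRestrict_ι, Category.assoc, hba, ← Category.assoc, ← haV,
    Category.assoc]

end Groth.Agent.Lib.Helper1.UT
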