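import Mathlib

set_option autoImplicit false
universe u
open TensorProduct

namespace Groth.Agent.Lib.Helper1.QuotBij

variable {C' C : Type u} [CommRing C'] [CommRing C] [Algebra C' C]
  (hs : Function.Surjective (algebraMap C' C))
  {N : Type u} [AddCommGroup N] [Module C' N]

include hs in
theorem exists_one_tmul_eq (t : C ⊗[C'] N) : ∃ n : N, (1 : C) ⊗ₜ[C'] n = t := by
  induction t using TensorProduct.induction_on with
  | zero => exact ⟨0, by simp⟩
  | tmul c n =>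
    obtain ⟨c', rfl⟩ := hs c
    refine ⟨c' • n, ?_⟩
    rw [TensorProduct.tmul_smul, TensorProduct.smul_tmul', Algebra.smul_def, mul_one]
  | add a b ha hb =>
    obtain ⟨a', rfl⟩ := ha
    obtain ⟨b', rfl⟩ := hb
    exact ⟨a' + b', TensorProduct.tmul_add _ _ _⟩

include hs in
theorem one_tmul_eq_zero_iff (n : N) :
    (1 : C) ⊗ₜ[C'] n = 0 ↔ n ∈ (RingHom.ker (algebraMap C' C)) • (⊤ : Submodule C' N) := by
  set K := RingHom.ker (algebraMap C' C) with hK
  let e₁ : (C' ⧸ K) ≃ₐ[C'] C := Ideal.quotientKerAlgEquivOfSurjective (f := Algebra.ofId C' C) hs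
  let e₂ : (C' ⧸ K) ⊗[C'] N ≃ₗ[C'] C ⊗[C'] N := TensorProduct.congr e₁.toLinearEquiv
    (LinearEquiv.refl C' N)
  let e₃ := TensorProduct.quotTensorEquivQuotSMul N K
  have h1 : e₂ ((1 : C' ⧸ K) ⊗ₜ[C'] n) = (1 : C) ⊗ₜ[C'] n := by
    change (e₁ 1) ⊗ₜ[C'] n = _
    rw [map_one]
  have h2 : e₃ ((1 : C' ⧸ K) ⊗ₜ[C'] n) = Submodule.Quotient.mk n :=
    TensorProduct.quotTensorEquivQuotSMul_mk_one_tmul K n
  constructor
  · intro h
    rw [← h1] at h
    have h3 : (1 : C' ⧸ K) ⊗ₜ[C'] n = 0 := e₂.injective (h.trans (map_zero e₂).symm)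
    rw [h3, map_zero] at h2
    exact (Submodule.Quotient.mk_eq_zero _).mp h2.symm
  · intro h
    have h3 : e₃ ((1 : C' ⧸ K) ⊗ₜ[C'] n) = 0 := by
      rw [h2]; exact (Submodule.Quotient.mk_eq_zero _).mpr h
    have h4 : (1 : C' ⧸ K) ⊗ₜ[C'] n = 0 := e₃.injective (h3.trans (map_zero e₃).symm)
    rw [← h1, h4, map_zero]

variable {N₁ N₂ : Type u} [AddCommGroup N₁] [Module C' N₁] [AddCommGroup N₂] [Module C' N₂]
  (g : N₁ →ₗ[C'] N₂)

include hs in
theorem quot_bij (hb : Function.Bijective (g.baseChange C)) :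
    (∀ y : N₂, ∃ x : N₁, g x - y ∈ (RingHom.ker (algebraMap C' C)) • (⊤ : Submodule C' N₂)) ∧
    (∀ x : N₁, g x ∈ (RingHom.ker (algebraMap C' C)) • (⊤ : Submodule C' N₂) →
      x ∈ (RingHom.ker (algebraMap C' C)) • (⊤ : Submodule C' N₁)) := by
  constructor
  · intro y
    obtain ⟨t, ht⟩ := hb.2 ((1 : C) ⊗ₜ[C'] y)
    obtain ⟨x, rfl⟩ := exists_one_tmul_eq hs t
    refine ⟨x, ?_⟩
    rw [← one_tmul_eq_zero_iff hs, TensorProduct.tmul_sub, ← ht, LinearMap.baseChange_tmul,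
      sub_self]
  · intro x hx
    rw [← one_tmul_eq_zero_iff hs] at hx ⊢
    apply hb.1
    rw [LinearMap.baseChange_tmul, hx, map_zero]

end Groth.Agent.Lib.Helper1.QuotBij
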