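import Mathlib
import Groth.Agent.Lib.Helper1.UTRing
import Groth.Agent.Lib.Helper1.QuotBij
import Groth.Agent.Lib.Helper1.OmSeq2
import Groth.Agent.Lib.Helper1.PbSurj
import Groth.Agent.Lib.Helper1.ConormSeq
import Groth.Agent.Lib.Helper8.UnivThickDiff

set_option autoImplicit false
set_option linter.style.haveILetI false
universe u
open CategoryTheory CategoryTheory.Limits AlgebraicGeometry TopologicalSpace Opposite TensorProduct

namespace Groth.Agent.Lib.Helper1.UTDiff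

open Groth.Agent.Lib.Helper1.PbSect

theorem pullback_map_pullSect {X' X : Scheme.{u}} (h : X' ⟶ X) {M N : X.Modules} (α : M ⟶ N)
    (U : X.Opens) (m : Γ(M, U)) :
    ((Scheme.Modules.pullback h).map α).app (h ⁻¹ᵁ U) (OmegaSh.pullSect h M U m) =
      OmegaSh.pullSect h N U (α.app U m) := by
  have := (Scheme.Modules.pullbackPushforwardAdjunction h).unit.naturality α
  exact congrArg (fun β => β.app U m) this.symm

/-- additive maps commuting with scalars preserve `K • ⊤` -/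
theorem map_mem_smul_top {A : Type u} [CommRing A] {N₁ N₂ : Type u} [AddCommGroup N₁] [Module A N₁]
    [AddCommGroup N₂] [Module A N₂] (K : Ideal A) (φ : N₁ →+ N₂)
    (hφ : ∀ (b : A) (z : N₁), φ (b • z) = b • φ z) (z : N₁)
    (hz : z ∈ K • (⊤ : Submodule A N₁)) : φ z ∈ K • (⊤ : Submodule A N₂) := by
  refine Submodule.smul_induction_on hz (fun a ha n _ => ?_) (fun x y hx hy => ?_)
  · rw [hφ]
    exact Submodule.smul_mem_smul ha trivial
  · rw [map_add]
    exact Submodule.add_mem _ hx hy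

variable {Z Z' X S : Scheme.{u}} (h : Z ⟶ X) (q : X ⟶ S) (i : Z ⟶ Z') (h' : Z' ⟶ X)
  (hu : OmegaSh.IsUnivThickening h i h')
  {ΩX : X.Modules} (dX : OmegaSh.Der q ΩX) (hdX : OmegaSh.IsUniversal dX)
  {ΩZ' : Z'.Modules} (dZ' : OmegaSh.Der (h' ≫ q) ΩZ') (hdZ' : OmegaSh.IsUniversal dZ')
  (c : (Scheme.Modules.pullback h').obj ΩX ⟶ ΩZ') (hc : OmegaSh.IsDiffCompat h' dX dZ' c)
  {VS : S.Opens} (hVS : IsAffineOpen VS) {U : X.Opens} (hU : IsAffineOpen U) (eU : U ≤ q ⁻¹ᵁ VS)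
  {W' : Z'.Opens} (hW' : IsAffineOpen W') (e : W' ≤ h' ⁻¹ᵁ U)

include hu hdX hdZ' hc hVS hU hW' eU e in
theorem bijective_on_good :
    Function.Bijective (((Scheme.Modules.pullback i).map c).app (i ⁻¹ᵁ W')) := by
  letI alg₁ := (q.appLE VS U eU).hom.toAlgebra
  letI alg₂ := (h'.appLE U W' e).hom.toAlgebra
  letI alg₃ := ((h'.appLE U W' e).hom.comp (q.appLE VS U eU).hom).toAlgebra
  haveI t₁ : IsScalarTower Γ(S, VS) Γ(X, U) Γ(Z', W') := IsScalarTower.of_algebraMap_eq fun _ => rfl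
  letI alg₄ := (i.appLE W' (i ⁻¹ᵁ W') le_rfl).hom.toAlgebra
  letI alg₅ := ((i.appLE W' (i ⁻¹ᵁ W') le_rfl).hom.comp (h'.appLE U W' e).hom).toAlgebra
  haveI t₂ : IsScalarTower Γ(X, U) Γ(Z', W') Γ(Z, i ⁻¹ᵁ W') :=
    IsScalarTower.of_algebraMap_eq fun _ => rfl
  haveI hci : IsClosedImmersion i := hu.1.1.1
  have hV : IsAffineOpen (i ⁻¹ᵁ W') := hW'.preimage i
  have hring := UT.isUnivThickeningRing_of_isUnivThickening hu hU hW' e
  have hbc := Groth.Agent.Lib.Helper8.UnivThickDiff.bijective_baseChange Γ(S, VS) Γ(X, U)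
    Γ(Z, i ⁻¹ᵁ W') Γ(Z', W') hring
  have hρ : Function.Surjective (i.appLE W' (i ⁻¹ᵁ W') le_rfl).hom := by
    rw [Conorm.appLE_refl]
    exact i.app_surjective W' hW'
  have hsurj : Function.Surjective (algebraMap Γ(Z', W') Γ(Z, i ⁻¹ᵁ W')) := hρ
  obtain ⟨hq1, hq2⟩ := QuotBij.quot_bij hsurj
    (KaehlerDifferential.mapBaseChange Γ(S, VS) Γ(X, U) Γ(Z', W')) hbc
  obtain ⟨E, T, h1, -, h3, -, h5⟩ :=
    OmSeq2.exists_equivs_tower q h' dX hdX dZ' hdZ' c hc hVS hU hW' e eU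
  haveI qcX : ΩX.IsQuasicoherent := DerSmooth.isQuasicoherent q dX hdX
  haveI qcZ' : ΩZ'.IsQuasicoherent := DerSmooth.isQuasicoherent (h' ≫ q) dZ' hdZ'
  haveI qc1 : ((Scheme.Modules.pullback h').obj ΩX).IsQuasicoherent :=
    Groth.Agent.Lib.Helper17.PbStalk.isQuasicoherent_pullback h' ΩX
  set K := RingHom.ker (i.appLE W' (i ⁻¹ᵁ W') le_rfl).hom with hK
  have hT3 : ∀ (b : Γ(Z', W')) y, T.symm (b • y) = b • T.symm y := by
    intro b y
    apply T.injective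
    rw [h5, T.apply_symm_apply, T.apply_symm_apply]
  have hE3 : ∀ (b : Γ(Z', W')) y, E.symm (b • y) = b • E.symm y := by
    intro b y
    apply E.injective
    rw [h3, E.apply_symm_apply, E.apply_symm_apply]
  have hnat : ∀ x₁ : Γ((Scheme.Modules.pullback h').obj ΩX, W'),
      ((Scheme.Modules.pullback i).map c).app (i ⁻¹ᵁ W')
        (pullRes i _ (le_refl (i ⁻¹ᵁ W')) x₁) = pullRes i _ (le_refl (i ⁻¹ᵁ W')) (c.app W' x₁) := by
    intro x₁
    rw [ConormSeq.pullRes_refl, ConormSeq.pullRes_refl]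
    exact pullback_map_pullSect i c W' x₁
  constructor
  · rw [injective_iff_map_eq_zero]
    intro x hx
    obtain ⟨x₁, rfl⟩ := PbSurj.pullRes_surjective i _ hW' hV le_rfl hρ x
    rw [hnat] at hx
    rw [PbSurj.pullRes_eq_zero_iff i _ hW' hV le_rfl hρ] at hx ⊢
    obtain ⟨t, rfl⟩ := E.surjective x₁
    rw [h1] at hx
    have h6 := map_mem_smul_top K T.symm.toAddMonoidHom hT3 _ hx
    change T.symm (T _) ∈ _ at h6
    rw [T.symm_apply_apply] at h6
    exact map_mem_smul_top K E.toAddMonoidHom h3 _ (hq2 t h6)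
  · intro y
    obtain ⟨x₂, rfl⟩ := PbSurj.pullRes_surjective i _ hW' hV le_rfl hρ y
    obtain ⟨t, ht⟩ := hq1 (T.symm x₂)
    refine ⟨pullRes i _ (le_refl (i ⁻¹ᵁ W')) (E t), ?_⟩
    rw [hnat, h1]
    have h6 := map_mem_smul_top K T.toAddMonoidHom h5 _ ht
    change T (_ - _) ∈ _ at h6
    rw [map_sub, T.apply_symm_apply] at h6
    have h7 := (PbSurj.pullRes_eq_zero_iff i _ hW' hV le_rfl hρ _).mpr h6
    rw [map_sub, sub_eq_zero] at h7
    exact h7

end Groth.Agent.Lib.Helper1.UTDiff
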