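import Mathlib
import Groth.Agent.Lib.Helper1.LiftRing
import Groth.Agent.Lib.Helper1.UTExists
import Groth.Agent.Lib.Helper1.UTRing
import Groth.Agent.Lib.Helper1.DerFin
import Groth.Agent.Lib.Helper1.DerExists
import Groth.Agent.Lib.Helper1.DerCompat
import Groth.Agent.Lib.Helper1.DerSmooth
import Groth.Agent.Lib.Helper1.PbSect
import Groth.Agent.Lib.Helper28.Thick.Affine
import Groth.Agent.Lib.Helper17.PbFinite
import Groth.Agent.S9783

set_option autoImplicit false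
set_option linter.style.haveILetI false
universe u
open CategoryTheory CategoryTheory.Limits AlgebraicGeometry TopologicalSpace Opposite TensorProduct
open KaehlerDifferential

namespace Groth.Agent.Lib.Helper1.LiftGeom

open Groth.Agent.Lib.Helper1.PbSect

theorem app_bijective_of_isIso {X : Scheme.{u}} {M N : X.Modules} (φ : M ⟶ N) [IsIso φ]
    (U : X.Opens) : Function.Bijective (φ.app U) := by
  refine ⟨Function.HasLeftInverse.injective ⟨(inv φ).app U, fun x => ?_⟩,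
    Function.HasRightInverse.surjective ⟨(inv φ).app U, fun x => ?_⟩⟩
  · have := congrArg (fun ψ => Scheme.Modules.Hom.app ψ U x) (IsIso.hom_inv_id φ)
    exact this
  · have := congrArg (fun ψ => Scheme.Modules.Hom.app ψ U x) (IsIso.inv_hom_id φ)
    exact this

section FP

variable {T₀ Y T Z' : Scheme.{u}} (s₀ : T₀ ⟶ Y) (p : Y ⟶ T) [FormallyUnramified s₀]
  [LocallyOfFinitePresentation p] (j : T₀ ⟶ Z') (h' : Z' ⟶ Y)
  (hu : OmegaSh.IsUnivThickening s₀ j h') [IsAffine T] [IsAffine Z'] [IsAffine T₀]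

include hu in
theorem finitePresentation_tensor :
    letI := ((h' ≫ p).appLE ⊤ ⊤ le_top).hom.toAlgebra
    letI := (j.appLE ⊤ ⊤ le_top).hom.toAlgebra
    Module.FinitePresentation Γ(T₀, ⊤) (Γ(T₀, ⊤) ⊗[Γ(Z', ⊤)] Ω[Γ(Z', ⊤)⁄Γ(T, ⊤)]) := by
  letI alg₁ := ((h' ≫ p).appLE ⊤ ⊤ le_top).hom.toAlgebra
  letI alg₂ := (j.appLE ⊤ ⊤ le_top).hom.toAlgebra
  let ΩY := DerExists.Ωsh p
  let dY := DerExists.dsh p
  have hdY := DerExists.isUniversal_dsh p
  let ΩZ' := DerExists.Ωsh (h' ≫ p)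
  let dZ' := DerExists.dsh (h' ≫ p)
  have hdZ' := DerExists.isUniversal_dsh (h' ≫ p)
  obtain ⟨c, hc, -⟩ := DerCompat.existsUnique_isDiffCompat p (h' ≫ p) h' (𝟙 T)
    (Category.comp_id _) dY dZ' hdY
  haveI hiso : IsIso ((Scheme.Modules.pullback j).map c) :=
    Groth.Agent.S9783.result s₀ p j h' hu ΩY dY hdY ΩZ' dZ' hdZ' c hc
  haveI fpY : SheafOfModules.IsFinitePresentation (R := Y.ringCatSheaf) ΩY :=
    DerFin.isFP p dY hdY
  haveI fp1 : SheafOfModules.IsFinitePresentation (R := Z'.ringCatSheaf)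
      ((Scheme.Modules.pullback h').obj ΩY) :=
    Groth.Agent.Lib.Helper17.PbFinite.isFinitePresentation_pullback h' ΩY
  haveI fp2 : SheafOfModules.IsFinitePresentation (R := T₀.ringCatSheaf)
      ((Scheme.Modules.pullback j).obj ((Scheme.Modules.pullback h').obj ΩY)) :=
    Groth.Agent.Lib.Helper17.PbFinite.isFinitePresentation_pullback j _
  have fpM : Module.FinitePresentation Γ(T₀, ⊤)
      Γ((Scheme.Modules.pullback j).obj ((Scheme.Modules.pullback h').obj ΩY), ⊤) :=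
    Groth.Agent.Lib.Helper3.QCProps.finitePresentation_sections _ (isAffineOpen_top T₀)
  let φ := (Scheme.Modules.pullback j).map c
  let eM : Γ((Scheme.Modules.pullback j).obj ((Scheme.Modules.pullback h').obj ΩY), ⊤) ≃ₗ[Γ(T₀, ⊤)]
      Γ((Scheme.Modules.pullback j).obj ΩZ', ⊤) :=
    LinearEquiv.ofBijective (Groth.Agent.Lib.Helper3.QCProps.appₗ φ ⊤) (app_bijective_of_isIso φ ⊤)
  have fpM' : Module.FinitePresentation Γ(T₀, ⊤) Γ((Scheme.Modules.pullback j).obj ΩZ', ⊤) :=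
    Module.FinitePresentation.of_equiv eM
  haveI qcZ' : ΩZ'.IsQuasicoherent := DerSmooth.isQuasicoherent (h' ≫ p) dZ' hdZ'
  letI modE : Module Γ(Z', ⊤) Γ((Scheme.Modules.pullback j).obj ΩZ', ⊤) :=
    Module.compHom _ (j.appLE ⊤ ⊤ le_top).hom
  haveI tow : IsScalarTower Γ(Z', ⊤) Γ(T₀, ⊤) Γ((Scheme.Modules.pullback j).obj ΩZ', ⊤) :=
    ⟨fun a b m => by
      change (((j.appLE ⊤ ⊤ le_top).hom a) * b) • m = ((j.appLE ⊤ ⊤ le_top).hom a) • (b • m)
      rw [mul_smul]⟩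
  let l : Γ(ΩZ', ⊤) →ₗ[Γ(Z', ⊤)] Γ((Scheme.Modules.pullback j).obj ΩZ', ⊤) :=
    { toFun := fun s => pullRes j ΩZ' (le_top : (⊤ : T₀.Opens) ≤ j ⁻¹ᵁ ⊤) s
      map_add' := fun s t => map_add _ s t
      map_smul' := fun a s => pullRes_smul j ΩZ' le_top a s }
  have hbc : IsBaseChange Γ(T₀, ⊤) l :=
    isBaseChange_pullRes j ΩZ' (isAffineOpen_top Z') (isAffineOpen_top T₀) le_top (fun a => rfl) l
      (fun m => rfl)
  let se := DerFin.sectEquiv (h' ≫ p) dZ' (isAffineOpen_top Z') (isAffineOpen_top T) le_top hdZ'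
  have hbc' := IsBaseChange.comp_equiv se l hbc
  exact Module.FinitePresentation.of_equiv hbc'.equiv.symm

end FP


theorem exists_hom_appTop {X' Y : Scheme.{u}} [IsAffine Y] (ψ : Γ(Y, ⊤) ⟶ Γ(X', ⊤)) :
    ∃ g : X' ⟶ Y, g.appTop = ψ := by
  refine ⟨X'.toSpecΓ ≫ Spec.map ψ ≫ Y.isoSpec.inv, ?_⟩
  rw [Scheme.Hom.comp_appTop, Scheme.Hom.comp_appTop, Scheme.toSpecΓ_appTop, Category.assoc,
    Scheme.ΓSpecIso_naturality]
  have h : Y.isoSpec.inv.appTop ≫ (Scheme.ΓSpecIso Γ(Y, ⊤)).hom = 𝟙 _ := by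
    rw [← Scheme.toSpecΓ_appTop, ← Scheme.isoSpec_hom, ← Scheme.Hom.comp_appTop, Iso.hom_inv_id]
    rfl
  rw [← Category.assoc, h, Category.id_comp]

theorem appLE_top_top {X Y : Scheme.{u}} (f : X ⟶ Y) :
    f.appLE ⊤ ⊤ le_top = f.appTop := by
  change f.appLE ⊤ (f ⁻¹ᵁ ⊤) le_rfl = f.app ⊤
  exact (Scheme.Hom.app_eq_appLE f).symm

theorem presheaf_map_map_any {Z : Scheme.{u}} {A B C : Z.Opensᵒᵖ} (a : A ⟶ B) (b : B ⟶ C)
    (c : A ⟶ C) (x : Z.presheaf.obj A) :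
    (Z.presheaf.map b).hom ((Z.presheaf.map a).hom x) = (Z.presheaf.map c).hom x := by
  have : c = a ≫ b := Subsingleton.elim _ _
  rw [this, Functor.map_comp]
  rfl

theorem app_map_any {T₀ T : Scheme.{u}} (i : T₀ ⟶ T) {U U' : T.Opens} (φ : op U' ⟶ op U)
    (ψ : op (i ⁻¹ᵁ U') ⟶ op (i ⁻¹ᵁ U)) (x : Γ(T, U')) :
    (i.app U).hom ((T.presheaf.map φ).hom x) = (T₀.presheaf.map ψ).hom ((i.app U').hom x) := by
  have h1 := i.naturality φ
  have h2 : ψ = (Opens.map i.base).op.map φ := Subsingleton.elim _ _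
  rw [h2]
  exact congr(($h1).hom x)

section Main

variable {S X T T₀ : Scheme.{u}} (f : X ⟶ S) [LocallyOfFinitePresentation f]
    (i : T₀ ⟶ T) (hi : MoreMor.IsFirstOrderThickening i) [IsAffine T₀]
    (a : T ⟶ S) (a₀ : T₀ ⟶ X) (hsqr : a₀ ≫ f = i ≫ a)

include hi hsqr in
theorem exists_lift
    (hloc : ∀ t : T, ∃ (U : T.Opens) (b : (U : Scheme.{u}) ⟶ X), t ∈ U ∧ b ≫ f = U.ι ≫ a ∧
      (i ∣_ U) ≫ b = (i ⁻¹ᵁ U).ι ≫ a₀) :
    ∃ b' : T ⟶ X, b' ≫ f = a ∧ i ≫ b' = a₀ := by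
  haveI : IsClosedImmersion i := hi.1.1
  haveI hT : IsAffine T := Groth.Agent.Lib.Helper28.Thick.isAffine_of_thickening i hi.1.2.surj
  let p : pullback f a ⟶ T := pullback.snd f a
  let q : pullback f a ⟶ X := pullback.fst f a
  let s₀ : T₀ ⟶ pullback f a := pullback.lift a₀ i hsqr
  have hs₀p : s₀ ≫ p = i := pullback.lift_snd _ _ _
  have hs₀q : s₀ ≫ q = a₀ := pullback.lift_fst _ _ _
  have hpq : q ≫ f = p ≫ a := pullback.condition
  haveI : FormallyUnramified s₀ := by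
    haveI : FormallyUnramified (s₀ ≫ p) := by rw [hs₀p]; infer_instance
    exact FormallyUnramified.of_comp s₀ p
  let j := UT.iZ s₀
  let h' := UT.hZ s₀
  have hu : OmegaSh.IsUnivThickening s₀ j h' := UT.isUnivThickening_glued s₀
  haveI : IsClosedImmersion j := hu.1.1.1
  haveI : IsAffine (UT.Zt s₀) := Groth.Agent.Lib.Helper28.Thick.isAffine_of_thickening j hu.1.1.2.surj
  have hjh' : j ≫ h' = s₀ := hu.2.1
  have hjhp : j ≫ h' ≫ p = i := by rw [← Category.assoc, hjh', hs₀p]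
  -- algebra structures
  letI algAE : Algebra Γ(T, ⊤) Γ(UT.Zt s₀, ⊤) := ((h' ≫ p).appLE ⊤ ⊤ le_top).hom.toAlgebra
  letI algEA₀ : Algebra Γ(UT.Zt s₀, ⊤) Γ(T₀, ⊤) := (j.appLE ⊤ ⊤ le_top).hom.toAlgebra
  letI algAA₀ : Algebra Γ(T, ⊤) Γ(T₀, ⊤) :=
    ((j.appLE ⊤ ⊤ le_top).hom.comp ((h' ≫ p).appLE ⊤ ⊤ le_top).hom).toAlgebra
  haveI tow : IsScalarTower Γ(T, ⊤) Γ(UT.Zt s₀, ⊤) Γ(T₀, ⊤) :=
    IsScalarTower.of_algebraMap_eq (fun _ => rfl)
  have hAE : ∀ x, algebraMap Γ(T, ⊤) Γ(UT.Zt s₀, ⊤) x = (h' ≫ p).appTop.hom x := fun x => by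
    change ((h' ≫ p).appLE ⊤ ⊤ le_top).hom x = _
    rw [appLE_top_top]
  have hEA₀ : ∀ x, algebraMap Γ(UT.Zt s₀, ⊤) Γ(T₀, ⊤) x = j.appTop.hom x := fun x => by
    change (j.appLE ⊤ ⊤ le_top).hom x = _
    rw [appLE_top_top]
  have hAA₀ : ∀ x, algebraMap Γ(T, ⊤) Γ(T₀, ⊤) x = i.appTop.hom x := fun x => by
    rw [IsScalarTower.algebraMap_apply _ Γ(UT.Zt s₀, ⊤), hAE, hEA₀, ← hjhp,
      Scheme.Hom.comp_appTop]
    rfl
  have hρ : Function.Surjective (algebraMap Γ(T, ⊤) Γ(T₀, ⊤)) := by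
    intro y
    obtain ⟨x, hx⟩ := i.app_surjective ⊤ (isAffineOpen_top T) y
    exact ⟨x, (hAA₀ x).trans hx⟩
  have hπ : Function.Surjective (algebraMap Γ(UT.Zt s₀, ⊤) Γ(T₀, ⊤)) := by
    intro y
    obtain ⟨x, hx⟩ := j.app_surjective ⊤ (isAffineOpen_top _) y
    exact ⟨x, (hEA₀ x).trans hx⟩
  have hK : ∀ x y : Γ(UT.Zt s₀, ⊤), algebraMap Γ(UT.Zt s₀, ⊤) Γ(T₀, ⊤) x = 0 →
      algebraMap Γ(UT.Zt s₀, ⊤) Γ(T₀, ⊤) y = 0 → x * y = 0 := by
    intro x y hx hy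
    rw [hEA₀] at hx hy
    have h3 : (j.ker * j.ker).ideal ⟨⊤, isAffineOpen_top _⟩ =
      j.ker.ideal ⟨⊤, isAffineOpen_top _⟩ * j.ker.ideal ⟨⊤, isAffineOpen_top _⟩ := rfl
    have h4 : x * y ∈ (j.ker * j.ker).ideal ⟨⊤, isAffineOpen_top _⟩ := by
      rw [h3, Scheme.Hom.ker_apply]
      exact Ideal.mul_mem_mul hx hy
    rw [hu.1.2] at h4
    exact h4
  haveI fp := finitePresentation_tensor s₀ p j h' hu
  let Sg : Set Γ(T, ⊤) := {g | ∃ (U : T.Opens) (b : (U : Scheme.{u}) ⟶ X), T.basicOpen g ≤ U ∧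
    b ≫ f = U.ι ≫ a ∧ (i ∣_ U) ≫ b = (i ⁻¹ᵁ U).ι ≫ a₀}
  have hS : Ideal.span Sg = ⊤ := by
    rw [← (isAffineOpen_top T).self_le_iSup_basicOpen_iff]
    intro t _
    obtain ⟨U, b, htU, hb₁, hb₂⟩ := hloc t
    obtain ⟨_, ⟨_, ⟨g, rfl⟩, rfl⟩, htg, hgU⟩ :=
      (isBasis_basicOpen T).exists_subset_of_mem_open htU U.isOpen
    exact Opens.mem_iSup.mpr ⟨⟨g, U, b, hgU, hb₁, hb₂⟩, htg⟩
  have hlocD : LiftRing.LocData (E := Γ(UT.Zt s₀, ⊤)) (A₀ := Γ(T₀, ⊤)) Sg := by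
    rintro g ⟨U, b, hgU, hb₁, hb₂⟩
    let bW : (T.basicOpen g : Scheme.{u}) ⟶ X := T.homOfLE hgU ≫ b
    have hbW₁ : bW ≫ f = (T.basicOpen g).ι ≫ a := by
      rw [Category.assoc, hb₁, Scheme.homOfLE_ι_assoc]
    have hbW₂ : (i ∣_ T.basicOpen g) ≫ bW = (i ⁻¹ᵁ T.basicOpen g).ι ≫ a₀ := by
      rw [← Category.assoc, UT.morphismRestrict_homOfLE, Category.assoc, hb₂,
        Scheme.homOfLE_ι_assoc]
    let sW : (T.basicOpen g : Scheme.{u}) ⟶ pullback f a := pullback.lift bW (T.basicOpen g).ι hbW₁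
    have hsWp : sW ≫ p = (T.basicOpen g).ι := pullback.lift_snd _ _ _
    have hjW := UT.isFirstOrderThickening_morphismRestrict hi (T.basicOpen g)
    have hcompat : (i ∣_ T.basicOpen g) ≫ sW = (i ⁻¹ᵁ T.basicOpen g).ι ≫ s₀ := by
      apply pullback.hom_ext
      · rw [Category.assoc, pullback.lift_fst, Category.assoc, pullback.lift_fst, hbW₂]
      · rw [Category.assoc, pullback.lift_snd, Category.assoc, pullback.lift_snd,
          morphismRestrict_ι]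
    obtain ⟨m, ⟨hm₁, hm₂⟩, -⟩ := hu.2.2 _ _ (i ∣_ T.basicOpen g) sW (i ⁻¹ᵁ T.basicOpen g).ι hjW
      hcompat
    refine ⟨Γ(T, T.basicOpen g), inferInstance, inferInstance, inferInstance,
      (m.appTop ≫ (T.basicOpen g).topIso.hom).hom, ?_, ?_⟩
    · intro a'
      rw [hAE]
      have h1 : m ≫ h' ≫ p = (T.basicOpen g).ι := by rw [← Category.assoc, hm₂, hsWp]
      have h2 : (h' ≫ p).appTop ≫ m.appTop = (T.basicOpen g).ι.appTop := by
        rw [← Scheme.Hom.comp_appTop, h1]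
      change ((h' ≫ p).appTop ≫ m.appTop ≫ (T.basicOpen g).topIso.hom).hom a' = _
      rw [← Category.assoc, h2, Scheme.Opens.ι_appTop, Scheme.Opens.topIso_hom]
      exact presheaf_map_map_any _ _ _ a'
    · intro k hk
      rw [hEA₀] at hk
      have hker : RingHom.ker (algebraMap Γ(T, ⊤) Γ(T₀, ⊤)) =
          i.ker.ideal ⟨⊤, isAffineOpen_top T⟩ := by
        rw [Scheme.Hom.ker_apply]
        congr 1
        exact RingHom.ext hAA₀
      rw [hker]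
      have h3 := Scheme.IdealSheafData.map_ideal_basicOpen i.ker ⟨⊤, isAffineOpen_top T⟩ g
      change _ ∈ Ideal.map (T.presheaf.map (homOfLE _).op).hom _
      rw [h3, Scheme.Hom.ker_apply]
      change (i.app (T.basicOpen g)).hom ((T.basicOpen g).topIso.hom.hom (m.appTop.hom k)) = 0
      have h4 : (i ∣_ T.basicOpen g).appTop.hom (m.appTop.hom k) = 0 := by
        have h5 : m.appTop ≫ (i ∣_ T.basicOpen g).appTop =
            j.appTop ≫ (i ⁻¹ᵁ T.basicOpen g).ι.appTop := by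
          rw [← Scheme.Hom.comp_appTop, ← Scheme.Hom.comp_appTop, hm₁]
        have h6 := congr(($h5).hom k)
        change (i ∣_ T.basicOpen g).appTop.hom (m.appTop.hom k) =
          (i ⁻¹ᵁ T.basicOpen g).ι.appTop.hom (j.appTop.hom k) at h6
        rw [h6, hk, map_zero]
      rw [morphismRestrict_appTop] at h4
      change (T₀.presheaf.map _).hom ((i.app ((T.basicOpen g).ι ''ᵁ ⊤)).hom (m.appTop.hom k)) = 0
        at h4
      rw [Scheme.Opens.topIso_hom]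
      refine (app_map_any i (U := T.basicOpen g) (U' := (T.basicOpen g).ι ''ᵁ ⊤)
        (eqToHom (T.basicOpen g).ι_image_top.symm).op
        (eqToHom (by rw [Scheme.Opens.ι_image_top])).op (m.appTop.hom k)).trans ?_
      have h7 := presheaf_map_map_any (Z := T₀)
        (eqToHom (image_morphismRestrict_preimage i (T.basicOpen g) ⊤)).op
        (eqToHom (by rw [Scheme.Opens.ι_image_top] :
          i ⁻¹ᵁ T.basicOpen g = (i ⁻¹ᵁ T.basicOpen g).ι ''ᵁ ⊤)).op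
        (eqToHom (by rw [Scheme.Opens.ι_image_top])).op
        ((i.app ((T.basicOpen g).ι ''ᵁ ⊤)).hom (m.appTop.hom k))
      rw [← h7, h4, map_zero]
  obtain ⟨σ, hσ⟩ := LiftRing.exists_retraction hρ hπ hK Sg hS hlocD
  obtain ⟨m, hm⟩ := exists_hom_appTop (X' := T) (Y := UT.Zt s₀) (CommRingCat.ofHom σ.toRingHom)
  have hm₁ : i ≫ m = j := by
    apply ext_of_isAffine
    rw [Scheme.Hom.comp_appTop, hm]
    ext e
    change i.appTop.hom (σ e) = j.appTop.hom e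
    rw [← hAA₀, ← hEA₀]
    exact hσ e
  have hm₂ : m ≫ h' ≫ p = 𝟙 T := by
    apply ext_of_isAffine
    rw [Scheme.Hom.comp_appTop, hm]
    ext x
    change σ ((h' ≫ p).appTop.hom x) = x
    rw [← hAE, σ.commutes]
    rfl
  refine ⟨m ≫ h' ≫ q, ?_, ?_⟩
  · rw [Category.assoc, Category.assoc, hpq, ← Category.assoc h', ← Category.assoc m, hm₂,
      Category.id_comp]
  · rw [← Category.assoc, hm₁, ← Category.assoc, hjh', hs₀q]

end Main

end Groth.Agent.Lib.Helper1.LiftGeom
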