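import Mathlib
import Groth.Agent.Lib.Helper1.LiftGeom
import Groth.Agent.Lib.Helper1.ConormSES

/-! helper1: smooth morphisms lift along first order thickenings of affine schemes -/

set_option autoImplicit false
set_option linter.style.haveILetI false
universe u
open CategoryTheory CategoryTheory.Limits AlgebraicGeometry TopologicalSpace Opposite

namespace Groth.Agent.Lib.Helper1.LiftSmooth

theorem ring_lift_of_formallySmooth {R C B B₀ : Type u} [CommRing R] [CommRing C] [CommRing B]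
    [CommRing B₀] (φ : R →+* C) (hφ : φ.FormallySmooth) (β : R →+* B) (α : C →+* B₀)
    (ρ : B →+* B₀) (hρ : Function.Surjective ρ) (hk : RingHom.ker ρ ^ 2 = ⊥)
    (hc : α.comp φ = ρ.comp β) : ∃ τ : C →+* B, τ.comp φ = β ∧ ρ.comp τ = α := by
  letI := φ.toAlgebra
  haveI : Algebra.FormallySmooth R C := hφ
  letI : Algebra R B := β.toAlgebra
  letI : Algebra R B₀ := (ρ.comp β).toAlgebra
  let g : B →ₐ[R] B₀ := { ρ with commutes' := fun r => rfl }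
  let fA : C →ₐ[R] B₀ :=
    { α with
      commutes' := fun r => congrArg (fun h => h r) hc }
  have hg : Function.Surjective g := hρ
  have hg' : IsNilpotent (RingHom.ker (g : B →+* B₀)) := ⟨2, hk⟩
  let lam : C →ₐ[R] B := Algebra.FormallySmooth.liftOfSurjective fA g hg hg'
  have hlam : ∀ x, ρ (lam x) = α x := fun x =>
    Algebra.FormallySmooth.liftOfSurjective_apply fA g hg hg' x
  refine ⟨lam.toRingHom, ?_, ?_⟩
  · ext r
    exact lam.commutes r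
  · ext x
    exact hlam x

variable {S X T T₀ : Scheme.{u}} (f : X ⟶ S) [Smooth f]
    (i : T₀ ⟶ T) (hi : MoreMor.IsFirstOrderThickening i)
    (a : T ⟶ S) (a₀ : T₀ ⟶ X) (hsqr : a₀ ≫ f = i ≫ a)

include hi hsqr in
theorem exists_local_lift (t : T) :
    ∃ (U : T.Opens) (b : (U : Scheme.{u}) ⟶ X), t ∈ U ∧ b ≫ f = U.ι ≫ a ∧
      (i ∣_ U) ≫ b = (i ⁻¹ᵁ U).ι ≫ a₀ := by
  haveI : IsClosedImmersion i := hi.1.1
  have hhomeo : IsHomeomorph i.base := UT.isHomeomorph_of_isThickening hi.1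
  obtain ⟨t₀, rfl⟩ := hhomeo.surjective t
  obtain ⟨V, W, hV, hW, hxV, -, hVW⟩ := DerUnram.exists_small_affine f (a₀.base t₀) ⊤ trivial
  let O : T.Opens := ⟨i.base '' (a₀ ⁻¹ᵁ V : Set _), hhomeo.isOpenMap _ (a₀ ⁻¹ᵁ V).2⟩ ⊓ a ⁻¹ᵁ W
  have htO : i.base t₀ ∈ O := by
    refine ⟨⟨t₀, hxV, rfl⟩, ?_⟩
    change a.base (i.base t₀) ∈ W
    have h1 := congrArg (fun g => g.base t₀) hsqr
    simp only [Scheme.Hom.comp_base, TopCat.hom_comp, ContinuousMap.comp_apply] at h1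
    rw [← h1]
    exact hVW hxV
  obtain ⟨_, ⟨D : T.Opens, hD0, rfl⟩, htD, hDO⟩ :=
    T.isBasis_affineOpens.exists_subset_of_mem_open htO O.isOpen
  have hD : IsAffineOpen D := hD0
  have hD₀ : IsAffineOpen (i ⁻¹ᵁ D) := hD.preimage i
  have eDW : D ≤ a ⁻¹ᵁ W := fun y hy => (hDO hy).2
  have eD₀V : i ⁻¹ᵁ D ≤ a₀ ⁻¹ᵁ V := by
    intro z hz
    obtain ⟨z', hz', hzz'⟩ := (hDO hz).1
    rw [← hhomeo.injective hzz']
    exact hz'
  -- the ring-level square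
  have hφ : (f.appLE W V hVW).hom.FormallySmooth := (f.smooth_appLE hW hV hVW).formallySmooth
  have hρs : Function.Surjective (i.appLE D (i ⁻¹ᵁ D) le_rfl).hom := by
    rw [Conorm.appLE_refl]
    exact i.app_surjective D hD
  have hρk : RingHom.ker (i.appLE D (i ⁻¹ᵁ D) le_rfl).hom ^ 2 = ⊥ := by
    rw [Conorm.appLE_refl, ← Scheme.Hom.ker_apply i ⟨D, hD⟩, pow_two]
    have h3 : (i.ker * i.ker).ideal ⟨D, hD⟩ = i.ker.ideal ⟨D, hD⟩ * i.ker.ideal ⟨D, hD⟩ := rfl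
    rw [← h3, hi.2]
    rfl
  have eD₀W : i ⁻¹ᵁ D ≤ (a₀ ≫ f) ⁻¹ᵁ W := fun z hz => hVW (eD₀V hz)
  have eD₀W' : i ⁻¹ᵁ D ≤ (i ≫ a) ⁻¹ᵁ W := fun z hz => eDW hz
  have hc : (a₀.appLE V (i ⁻¹ᵁ D) eD₀V).hom.comp (f.appLE W V hVW).hom =
      (i.appLE D (i ⁻¹ᵁ D) le_rfl).hom.comp (a.appLE W D eDW).hom := by
    rw [← CommRingCat.hom_comp, ← CommRingCat.hom_comp,
      Scheme.Hom.appLE_comp_appLE, Scheme.Hom.appLE_comp_appLE]
    exact congrArg _ (ConormSES.appLE_congr' hsqr W (i ⁻¹ᵁ D) eD₀W eD₀W')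
  obtain ⟨τ, hτ₁, hτ₂⟩ := ring_lift_of_formallySmooth _ hφ (a.appLE W D eDW).hom
    (a₀.appLE V (i ⁻¹ᵁ D) eD₀V).hom _ hρs hρk hc
  have hτ₁' : f.appLE W V hVW ≫ CommRingCat.ofHom τ = a.appLE W D eDW := by
    ext x
    exact congrArg (fun h => h x) hτ₁
  have hτ₂' : CommRingCat.ofHom τ ≫ i.appLE D (i ⁻¹ᵁ D) le_rfl = a₀.appLE V (i ⁻¹ᵁ D) eD₀V := by
    ext x
    exact congrArg (fun h => h x) hτ₂
  refine ⟨D, hD.isoSpec.hom ≫ Spec.map (CommRingCat.ofHom τ) ≫ hV.fromSpec, htD, ?_, ?_⟩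
  · rw [Category.assoc, Category.assoc, ← IsAffineOpen.SpecMap_appLE_fromSpec f hW hV hVW,
      ← Spec.map_comp_assoc, hτ₁', IsAffineOpen.SpecMap_appLE_fromSpec a hW hD eDW,
      IsAffineOpen.isoSpec_hom_fromSpec_assoc]
  · have h1 : (i ∣_ D) ≫ hD.isoSpec.hom =
        hD₀.isoSpec.hom ≫ Spec.map (i.appLE D (i ⁻¹ᵁ D) le_rfl) := by
      rw [← cancel_mono hD.fromSpec, Category.assoc, Category.assoc,
        IsAffineOpen.isoSpec_hom_fromSpec, morphismRestrict_ι,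
        IsAffineOpen.SpecMap_appLE_fromSpec i hD hD₀ le_rfl,
        IsAffineOpen.isoSpec_hom_fromSpec_assoc]
    rw [← Category.assoc, h1, Category.assoc, ← Spec.map_comp_assoc, hτ₂',
      IsAffineOpen.SpecMap_appLE_fromSpec a₀ hV hD₀ eD₀V, IsAffineOpen.isoSpec_hom_fromSpec_assoc]

include hi hsqr in
/-- **Smooth morphisms lift along first order thickenings of affine schemes.** -/
theorem exists_lift_of_smooth [IsAffine T₀] : ∃ b' : T ⟶ X, b' ≫ f = a ∧ i ≫ b' = a₀ :=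
  LiftGeom.exists_lift f i hi a a₀ hsqr (exists_local_lift f i hi a a₀ hsqr)

end Groth.Agent.Lib.Helper1.LiftSmooth
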