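import Mathlib
import Groth.Agent.S1693

/-!
# Local finiteness of families of codimension one points avoiding a dense open
-/

set_option autoImplicit false
universe u
open CategoryTheory CategoryTheory.Limits AlgebraicGeometry TopologicalSpace

namespace Groth.Agent.Lib.Helper1.LocFinCodim1

/-- In a locally Noetherian integral scheme, the closures of a family of distinct points of
coheight one lying outside a nonempty open subset form a locally finite family. -/
theorem locallyFinite_closure (X : Scheme.{u}) [IsIntegral X] [IsLocallyNoetherian X]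
    (U₀ : X.Opens) (hgen : genericPoint X ∈ U₀) {ι : Type*} (pt : ι → X)
    (hinj : Function.Injective pt) (hco : ∀ i, Order.coheight (pt i) = 1)
    (hZ : ∀ i, pt i ∉ U₀) : LocallyFinite (fun i : ι => closure ({pt i} : Set X)) := by
  set Z₀ : Set X := (U₀ : Set X)ᶜ with hZ₀
  have hZ₀c : IsClosed Z₀ := U₀.2.isClosed_compl
  have hξZ : ∀ i : ι, pt i ∈ Z₀ := fun i => hZ i
  have hclZ : ∀ i : ι, closure ({pt i} : Set X) ⊆ Z₀ := fun i =>
    closure_minimal (Set.singleton_subset_iff.mpr (hξZ i)) hZ₀c
  have hcomp : ∀ i : ι,
      ((Subtype.val : ↥Z₀ → X) ⁻¹' closure ({pt i} : Set X)) ∈ irreducibleComponents ↥Z₀ := by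
    intro i
    have hTeq : ((Subtype.val : ↥Z₀ → X) ⁻¹' closure ({pt i} : Set X)) =
        closure ({⟨pt i, hξZ i⟩} : Set ↥Z₀) := by
      rw [Topology.IsEmbedding.subtypeVal.closure_eq_preimage_closure_image, Set.image_singleton]
    refine ⟨?_, ?_⟩
    · rw [hTeq]; exact isIrreducible_singleton.closure
    · intro T' hT' hTT'
      have hS : IsIrreducible (closure (Subtype.val '' T')) :=
        (hT'.image _ continuous_subtype_val.continuousOn).closure
      obtain ⟨η, hη⟩ := QuasiSober.sober hS isClosed_closure
      have hSZ : closure (Subtype.val '' T') ⊆ Z₀ :=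
        closure_minimal (by rintro _ ⟨t, -, rfl⟩; exact t.2) hZ₀c
      have hξS : pt i ∈ closure (Subtype.val '' T') := by
        apply subset_closure
        refine ⟨⟨pt i, hξZ i⟩, hTT' ?_, rfl⟩
        exact subset_closure rfl
      have hηξ : η ⤳ pt i := by
        rw [specializes_iff_mem_closure, hη.def]; exact hξS
      by_cases hξη : pt i ⤳ η
      · intro t ht
        have h1 : t.1 ∈ closure (Subtype.val '' T') := subset_closure ⟨t, ht, rfl⟩
        rw [← hη.def] at h1
        exact (specializes_iff_closure_subset.mp hξη) h1
      · exfalso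
        have hlt1 : pt i < η := ⟨hηξ, hξη⟩
        have hηZ : η ∈ Z₀ := hSZ hη.mem
        have hlt2 : η < genericPoint X := by
          refine ⟨genericPoint_specializes η, fun h => ?_⟩
          exact hηZ (h.mem_open U₀.2 hgen)
        have h1 := Order.coheight_add_one_le hlt1
        have h2 := Order.coheight_add_one_le hlt2
        rw [hco i] at h1
        have h3 : Order.coheight η = 0 := by
          have : Order.coheight η + 1 ≤ 0 + 1 := by simpa using h1
          exact le_antisymm ((ENat.add_le_add_iff_right ENat.one_ne_top).mp this) bot_le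
        rw [h3] at h2
        simp at h2
  let g : ι → ↥(irreducibleComponents ↥Z₀) := fun i => ⟨_, hcomp i⟩
  have himg : ∀ i, (Subtype.val '' (g i).1 : Set X) = closure ({pt i} : Set X) := by
    intro i
    change Subtype.val '' ((Subtype.val : ↥Z₀ → X) ⁻¹' closure ({pt i} : Set X)) = _
    rw [Subtype.image_preimage_coe, Set.inter_eq_right.mpr (hclZ i)]
  have hginj : Function.Injective g := by
    intro i i' h
    have h1 : closure ({pt i} : Set X) = closure ({pt i'} : Set X) := by
      rw [← himg i, ← himg i', h]
    apply hinj
    have hs1 : pt i ⤳ pt i' := by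
      rw [specializes_iff_closure_subset, h1]
    have hs2 : pt i' ⤳ pt i := by
      rw [specializes_iff_closure_subset, h1]
    exact (hs1.antisymm hs2).eq
  have := (Groth.Agent.S1693.result X Z₀ hZ₀c).comp_injective hginj
  convert this using 1
  funext i
  exact (himg i).symm

end Groth.Agent.Lib.Helper1.LocFinCodim1
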