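import Mathlib
import Groth.Agent.Lib.Helper8.LocalCriterion3

/-!
# Flatness and localization at a submonoid of an algebra

* `lTensor_localizedModule_injective`: if `M ⊗[R] g` is injective (`M` an `S`-module, `R → S`) then
  so is `M_p ⊗[R] g` for a submonoid `p` of `S`.
* `flat_baseChange_of_rTensor_injective`: converse to helper8's
  `rTensor_injective_of_flat_baseChange`.
* `flat_baseChange_localizedModule`: if `R' ⊗[R] M` is `R'`-flat (`R → R'` surjective) then
  `R' ⊗[R] M_p` is `R'`-flat.
* `iInf_pow_smul_tensor_eq_bot`: ideal-separatedness of finite modules over Noetherian algebras.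
-/

set_option autoImplicit false
universe u

namespace Groth.Agent.Lib.Helper1.LocFlat

open TensorProduct

section

variable {R S M : Type*} [CommRing R] [CommRing S] [Algebra R S] [AddCommGroup M] [Module R M]
  [Module S M] [IsScalarTower R S M]
  {P' P : Type*} [AddCommGroup P'] [AddCommGroup P] [Module R P'] [Module R P]

theorem lTensor_localizedModule_injective (p : Submonoid S) (g : P' →ₗ[R] P)
    (hg : Function.Injective (g.lTensor M)) :
    Function.Injective (g.lTensor (LocalizedModule p M)) := by
  let e : LocalizedModule p M ≃ₗ[R] (Localization p) ⊗[S] M :=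
    (LocalizedModule.equivTensorProduct p M).restrictScalars R
  have h1 : Function.Injective (g.lTensor ((Localization p) ⊗[S] M)) := by
    have hS : Function.Injective (AlgebraTensorModule.lTensor S M g) := hg
    have hT : Function.Injective ((AlgebraTensorModule.lTensor S M g).lTensor (Localization p)) :=
      Module.Flat.lTensor_preserves_injective_linearMap _ hS
    have comm : ∀ z, AlgebraTensorModule.assoc R S (Localization p) (Localization p) M P
          (g.lTensor ((Localization p) ⊗[S] M) z) =
        (AlgebraTensorModule.lTensor S M g).lTensor (Localization p)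
          (AlgebraTensorModule.assoc R S (Localization p) (Localization p) M P' z) := by
      intro z
      induction z using TensorProduct.induction_on with
      | zero => simp
      | add x y hx hy => simp only [map_add, hx, hy]
      | tmul w p' =>
        induction w using TensorProduct.induction_on with
        | zero => simp
        | add x y hx hy => simp only [add_tmul, map_add, hx, hy]
        | tmul t m => simp
    intro a b hab
    apply (AlgebraTensorModule.assoc R S (Localization p) (Localization p) M P').injective
    apply hT
    rw [← comm, ← comm, hab]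
  have comm2 : ∀ z, (TensorProduct.congr e (LinearEquiv.refl R P))
        (g.lTensor (LocalizedModule p M) z) =
      g.lTensor ((Localization p) ⊗[S] M) (TensorProduct.congr e (LinearEquiv.refl R P') z) := by
    intro z
    induction z using TensorProduct.induction_on with
    | zero => simp
    | add x y hx hy => simp only [map_add, hx, hy]
    | tmul w p' => simp
  intro a b hab
  apply (TensorProduct.congr e (LinearEquiv.refl R P')).injective
  apply h1
  rw [← comm2, ← comm2, hab]

end

section

variable {R : Type u} [CommRing R] (R' : Type u) [CommRing R'] [Algebra R R']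

/-- If `- ⊗[R] N` preserves injections of `R'`-modules then `R' ⊗[R] N` is `R'`-flat. -/
theorem flat_baseChange_of_rTensor_injective (N : Type u) [AddCommGroup N] [Module R N]
    (h : ∀ (P' P : Type u) [AddCommGroup P'] [AddCommGroup P] [Module R' P'] [Module R' P]
      [Module R P'] [Module R P] [IsScalarTower R R' P'] [IsScalarTower R R' P]
      (g : P' →ₗ[R'] P), Function.Injective g →
        Function.Injective ((g.restrictScalars R).rTensor N)) :
    Module.Flat R' (R' ⊗[R] N) := by
  rw [Module.Flat.iff_rTensor_preserves_injective_linearMap]
  intro P' P _ _ _ _ g hg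
  letI : Module R P := Module.compHom P (algebraMap R R')
  letI : Module R P' := Module.compHom P' (algebraMap R R')
  haveI : IsScalarTower R R' P := IsScalarTower.of_algebraMap_smul (fun r x => rfl)
  haveI : IsScalarTower R R' P' := IsScalarTower.of_algebraMap_smul (fun r x => rfl)
  have h1 := h P' P g hg
  intro a b hab
  apply (AlgebraTensorModule.cancelBaseChange R R' R' P' N).injective
  apply h1
  rw [← Groth.Agent.Lib.Helper8.cancelBaseChange_rTensor,
    ← Groth.Agent.Lib.Helper8.cancelBaseChange_rTensor, hab]

variable {S M : Type u} [CommRing S] [Algebra R S] [AddCommGroup M] [Module R M]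
  [Module S M] [IsScalarTower R S M]

theorem flat_baseChange_localizedModule (hR' : Function.Surjective (algebraMap R R'))
    (p : Submonoid S) [Module.Flat R' (R' ⊗[R] M)] :
    Module.Flat R' (R' ⊗[R] LocalizedModule p M) := by
  apply flat_baseChange_of_rTensor_injective
  intro P' P _ _ _ _ _ _ _ _ g hg
  have h1 : Function.Injective ((g.restrictScalars R).rTensor M) :=
    Groth.Agent.Lib.Helper8.rTensor_injective_of_flat_baseChange (S := R') M hR'
      (g.restrictScalars R) hg
  have h2 : Function.Injective ((g.restrictScalars R).lTensor M) :=
    (LinearMap.lTensor_inj_iff_rTensor_inj _ _).mpr h1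
  have h3 := lTensor_localizedModule_injective p _ h2
  exact (LinearMap.lTensor_inj_iff_rTensor_inj _ _).mp h3

end

section Sep

variable {A B : Type u} [CommRing A] [CommRing B] [Algebra A B]

/-- ideal-separatedness of finite modules over a Noetherian `A`-algebra `B` with `IB ⊆ rad B`
(extracted from helper8's `flat_of_local_criterion_of_finite`). -/
theorem iInf_pow_smul_tensor_eq_bot [IsNoetherianRing A] [IsNoetherianRing B] (I : Ideal A)
    (hI : I.map (algebraMap A B) ≤ Ideal.jacobson ⊥)
    (M : Type u) [AddCommGroup M] [Module A M] [Module B M] [IsScalarTower A B M]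
    [Module.Finite B M] (𝔞 : Ideal A) :
    ⨅ n : ℕ, I ^ n • (⊤ : Submodule A (𝔞 ⊗[A] M)) = ⊥ := by
  rw [eq_bot_iff]
  intro x hx
  rw [Submodule.mem_iInf] at hx
  rw [Submodule.mem_bot]
  have : Module.Finite B (M ⊗[A] 𝔞) := Groth.Agent.Lib.Helper8.finite_tensor M 𝔞
  have hkrull := Ideal.iInf_pow_smul_eq_bot_of_le_jacobson (M := M ⊗[A] 𝔞)
    (I.map (algebraMap A B)) hI
  have hmem : (TensorProduct.comm A 𝔞 M) x ∈
      ⨅ i : ℕ, (I.map (algebraMap A B)) ^ i • (⊤ : Submodule B (M ⊗[A] 𝔞)) := by
    rw [Submodule.mem_iInf]
    intro n
    refine Submodule.smul_induction_on (hx n) ?_ ?_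
    · intro j hj t _
      rw [map_smul, ← algebraMap_smul B j ((TensorProduct.comm A 𝔞 M) t)]
      refine Submodule.smul_mem_smul ?_ Submodule.mem_top
      rw [← Ideal.map_pow]
      exact Ideal.mem_map_of_mem _ hj
    · intro t1 t2 h1 h2
      rw [map_add]
      exact add_mem h1 h2
  rw [hkrull, Submodule.mem_bot] at hmem
  exact (TensorProduct.comm A 𝔞 M).injective (by rw [hmem, map_zero])

end Sep

end Groth.Agent.Lib.Helper1.LocFlat
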