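import Mathlib
import Groth.Agent.Lib.Helper1.PbSect
import Groth.Agent.Lib.Helper3.QCExact

set_option autoImplicit false
set_option linter.style.haveILetI false
universe u
open CategoryTheory CategoryTheory.Limits AlgebraicGeometry TopologicalSpace Opposite
open Scheme.Modules

/-! A morphism of quasi-coherent modules which has a linear retraction on the sections over an
affine open `V` has a retraction after restriction to `V`. -/

namespace Groth.Agent.Lib.Helper1.LocSplit

open Groth.Agent.Lib.Helper1.PbSect Groth.Agent.Lib.Helper3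

variable {Z : Scheme.{u}} {A B : Z.Modules} [A.IsQuasicoherent] [B.IsQuasicoherent] (ψ : A ⟶ B)
  {V : Z.Opens} (hV : IsAffineOpen V)

include hV in
theorem exists_retraction_of_sections (ρ : Γ(B, V) →+ Γ(A, V))
    (hlin : ∀ (c : Γ(Z, V)) (y : Γ(B, V)), ρ (c • y) = c • ρ y)
    (hρ : ∀ x, ρ (ψ.app V x) = x) :
    ∃ r : (restrictFunctor V.ι).obj B ⟶ (restrictFunctor V.ι).obj A,
      (restrictFunctor V.ι).map ψ ≫ r = 𝟙 _ := by
  haveI qB : (B.restrict hV.fromSpec).IsQuasicoherent :=
    Scheme.Modules.isQuasicoherent_restrictFunctor hV.fromSpec B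
  haveI qA : (A.restrict hV.fromSpec).IsQuasicoherent :=
    Scheme.Modules.isQuasicoherent_restrictFunctor hV.fromSpec A
  let l : Γ(B.restrict hV.fromSpec, ⊤) →ₗ[Γ(Z, V)] Γ(A.restrict hV.fromSpec, ⊤) :=
    { toFun := fun x => cInv hV A (ρ (cMap hV B x))
      map_add' := fun x y => by rw [map_add, map_add, map_add]
      map_smul' := fun c x => by
        rw [cMap_smul, hlin, cInv_smul]
        rfl }
  obtain ⟨α₀, hα₀, -⟩ := existsUnique_hom_of_linear (B.restrict hV.fromSpec)
    (A.restrict hV.fromSpec) l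
  have hnat : ∀ x : Γ(A.restrict hV.fromSpec, ⊤),
      cMap hV B (((restrictFunctor hV.fromSpec).map ψ).app ⊤ x) = ψ.app V (cMap hV A x) := by
    intro x
    exact (QCExact.app_res' ψ (QS.le_image_top hV) x).symm
  have hcomp : (restrictFunctor hV.fromSpec).map ψ ≫ α₀ = 𝟙 _ := by
    refine (existsUnique_hom_of_linear (A.restrict hV.fromSpec) (A.restrict hV.fromSpec)
      LinearMap.id).unique ?_ ?_
    · intro x
      change α₀.app ⊤ (((restrictFunctor hV.fromSpec).map ψ).app ⊤ x) = x
      rw [hα₀]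
      change cInv hV A (ρ (cMap hV B (((restrictFunctor hV.fromSpec).map ψ).app ⊤ x))) = x
      rw [hnat, hρ, cInv_cMap]
    · intro x
      rfl
  let G := restrictFunctor hV.isoSpec.hom
  let θ : restrictFunctor V.ι ≅ restrictFunctor hV.fromSpec ⋙ G :=
    restrictFunctorCongr (hV.isoSpec_hom_fromSpec).symm ≪≫
      restrictFunctorComp hV.isoSpec.hom hV.fromSpec
  refine ⟨θ.hom.app B ≫ G.map α₀ ≫ θ.inv.app A, ?_⟩
  have h1 := θ.hom.naturality ψ
  rw [← Category.assoc, h1, Category.assoc]
  change θ.hom.app A ≫ G.map ((restrictFunctor hV.fromSpec).map ψ) ≫ G.map α₀ ≫ θ.inv.app A = _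
  rw [← Category.assoc (G.map _), ← G.map_comp, hcomp, G.map_id, Category.id_comp,
    Iso.hom_inv_id_app]

end Groth.Agent.Lib.Helper1.LocSplit
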