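import Mathlib
import Groth.Prelude.Def_ARSys
import Groth.Prelude.Def_DerCA

/-!
# Mittag-Leffler from a pro-isomorphism with a strict system; reflection along faithful exact functors
-/

universe v u v' u'

open CategoryTheory CategoryTheory.Limits Opposite

namespace Groth.Agent.Lib.Helper1.MLProIso

variable {C : Type u} [Category.{v} C] [Abelian C]

/-- `image f ≤ image g`, expressed through the cokernel of `g`. -/
def ImLe {X Y Z : C} (f : X ⟶ Z) (g : Y ⟶ Z) : Prop := f ≫ cokernel.π g = 0

lemma imageSubobject_le_iff {X Y Z : C} (f : X ⟶ Z) (g : Y ⟶ Z) :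
    imageSubobject f ≤ imageSubobject g ↔ ImLe f g := by
  constructor
  · intro h
    have h1 : (imageSubobject g).arrow ≫ cokernel.π g = 0 :=
      imageSubobject_arrow_comp_eq_zero (cokernel.condition g)
    have h2 : f = factorThruImageSubobject f ≫ Subobject.ofLE _ _ h ≫ (imageSubobject g).arrow := by
      rw [Subobject.ofLE_arrow, imageSubobject_arrow_comp]
    unfold ImLe
    rw [h2, Category.assoc, Category.assoc, h1, comp_zero, comp_zero]
  · intro h
    refine imageSubobject_le f (kernel.lift (cokernel.π g) f h ≫ (Abelian.imageIsoImage g).hom ≫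
      (imageSubobjectIso g).inv) ?_
    rw [Category.assoc, Category.assoc, imageSubobject_arrow', Abelian.imageIsoImage_hom_comp_image_ι,
      kernel.lift_ι]

lemma ImLe.comp_left {W X Z : C} (e : W ⟶ X) (f : X ⟶ Z) : ImLe (e ≫ f) f := by
  unfold ImLe
  rw [Category.assoc, cokernel.condition, comp_zero]

lemma ImLe.of_epi_comp {W X Z : C} (e : W ⟶ X) [Epi e] (f : X ⟶ Z) : ImLe f (e ≫ f) := by
  unfold ImLe
  rw [← cancel_epi e, comp_zero, ← Category.assoc, cokernel.condition]

lemma ImLe.trans {X Y W Z : C} {f : X ⟶ Z} {g : Y ⟶ Z} {h : W ⟶ Z} (h1 : ImLe f g) (h2 : ImLe g h) :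
    ImLe f h := by
  unfold ImLe at *
  have : cokernel.π h = cokernel.π g ≫ cokernel.desc g (cokernel.π h) h2 := by simp
  rw [this, ← Category.assoc, h1, zero_comp]

lemma imageSubobject_eq_of_imLe {X Y Z : C} {f : X ⟶ Z} {g : Y ⟶ Z} (h1 : ImLe f g) (h2 : ImLe g f) :
    imageSubobject f = imageSubobject g :=
  le_antisymm ((imageSubobject_le_iff f g).2 h1) ((imageSubobject_le_iff g f).2 h2)

lemma tr_comp (F : ARSys.PS C) {n k l : ℕ} (h1 : n ≤ k) (h2 : k ≤ l) :
    ARSys.tr F h2 ≫ ARSys.tr F h1 = ARSys.tr F (h1.trans h2) := by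
  change F.map _ ≫ F.map _ = F.map _
  rw [← F.map_comp]
  rfl

/-- A system which is pro-isomorphic to a strict system is Mittag-Leffler. -/
theorem isML_of_isProIso_strict (S G' : ARSys.PS C) {m : ℕ → ℕ} (hm : Monotone m)
    (hle : ∀ n, n ≤ m n) (a : DerCA.reindex S hm ⟶ G') (ha : DerCA.IsProIso a)
    (hG : ARSys.IsStrict G') : ARSys.IsML S := by
  -- components of `a`, with sources written in terms of `S`
  let a' : ∀ l : ℕ, S.obj (op (m l)) ⟶ G'.obj (op l) := fun l => a.app (op l)
  have hnat : ∀ (k j : ℕ) (hkj : k ≤ j),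
      ARSys.tr S (hm hkj) ≫ a' k = a' j ≫ ARSys.tr G' hkj :=
    fun k j hkj => a.naturality (homOfLE hkj).op
  have hepi : ∀ l : ℕ, Epi (a' l) := by
    intro l
    obtain ⟨l', hl, b, -, hb⟩ := ha l
    have hb' : b ≫ a' l = ARSys.tr G' hl := hb
    haveI : Epi (b ≫ a' l) := by rw [hb']; exact hG l l' hl
    exact epi_of_epi b (a' l)
  intro N
  obtain ⟨k, hk, b, hb, -⟩ := ha N
  let b' : G'.obj (op k) ⟶ S.obj (op (m N)) := b
  have hb' : a' k ≫ b' = ARSys.tr S (hm hk) := hb
  let t : S.obj (op (m N)) ⟶ S.obj (op N) := ARSys.tr S (hle N)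
  -- key: for j ≥ m k the image of S_j → S_N is the image of b ≫ t
  have key : ∀ (j : ℕ) (hj : m k ≤ j),
      imageSubobject (ARSys.tr S ((hle N).trans ((hm hk).trans hj))) = imageSubobject (b' ≫ t) := by
    intro j hj
    have hkj : k ≤ j := (hle k).trans hj
    apply imageSubobject_eq_of_imLe
    · -- S_j → S_N factors through b ≫ t
      have e1 : ARSys.tr S ((hle N).trans ((hm hk).trans hj)) =
          (ARSys.tr S hj ≫ a' k) ≫ (b' ≫ t) := by
        calc ARSys.tr S ((hle N).trans ((hm hk).trans hj))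
            = ARSys.tr S hj ≫ (ARSys.tr S (hm hk) ≫ ARSys.tr S (hle N)) := by
              rw [tr_comp, tr_comp]
          _ = ARSys.tr S hj ≫ ((a' k ≫ b') ≫ t) := by rw [hb']
          _ = (ARSys.tr S hj ≫ a' k) ≫ (b' ≫ t) := by simp only [Category.assoc]
      rw [e1]
      exact ImLe.comp_left _ _
    · -- b ≫ t has image inside the image of S_{m j} → S_N, which is inside that of S_j → S_N
      have hNj : N ≤ j := hk.trans hkj
      have e2 : ARSys.tr S ((hle N).trans (hm hNj)) =
          (a' j ≫ ARSys.tr G' hkj) ≫ (b' ≫ t) := by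
        calc ARSys.tr S ((hle N).trans (hm hNj))
            = ARSys.tr S (hm hkj) ≫ (ARSys.tr S (hm hk) ≫ ARSys.tr S (hle N)) := by
              rw [tr_comp, tr_comp]
          _ = ARSys.tr S (hm hkj) ≫ ((a' k ≫ b') ≫ t) := by rw [hb']
          _ = (ARSys.tr S (hm hkj) ≫ a' k) ≫ (b' ≫ t) := by simp only [Category.assoc]
          _ = (a' j ≫ ARSys.tr G' hkj) ≫ (b' ≫ t) := by rw [hnat]
      have e3 : ARSys.tr S ((hle N).trans (hm hNj)) =
          ARSys.tr S (hle j) ≫ ARSys.tr S ((hle N).trans ((hm hk).trans hj)) := by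
        rw [tr_comp]
      haveI := hepi j
      haveI : Epi (ARSys.tr G' hkj) := hG k j hkj
      haveI : Epi (a' j ≫ ARSys.tr G' hkj) := epi_comp _ _
      have i1 : ImLe (b' ≫ t) (ARSys.tr S ((hle N).trans (hm hNj))) := by
        rw [e2]; exact ImLe.of_epi_comp _ _
      have i2 : ImLe (ARSys.tr S ((hle N).trans (hm hNj)))
          (ARSys.tr S ((hle N).trans ((hm hk).trans hj))) := by
        rw [e3]; exact ImLe.comp_left _ _
      exact i1.trans i2
  refine ⟨m k, fun s hs => ?_⟩
  have k1 := key (N + s) (hs.trans (Nat.le_add_left s N))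
  have k2 := key (N + m k) (Nat.le_add_left (m k) N)
  exact k1.trans k2.symm

variable {D : Type u'} [Category.{v'} D] [Abelian D]

/-- A faithful functor preserving finite colimits reflects the Mittag-Leffler condition. -/
theorem isML_of_isML_comp (F : C ⥤ D) [F.PreservesZeroMorphisms] [PreservesFiniteColimits F]
    [F.Faithful] (X : ARSys.PS C) (h : ARSys.IsML (X ⋙ F)) : ARSys.IsML X := by
  have refl : ∀ {P Q Z : C} (f : P ⟶ Z) (g : Q ⟶ Z), ImLe (F.map f) (F.map g) → ImLe f g := by
    intro P Q Z f g hfg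
    unfold ImLe at *
    apply F.map_injective
    rw [F.map_comp, F.map_zero, ← π_comp_cokernelComparison, ← Category.assoc, hfg, zero_comp]
  intro n
  obtain ⟨r, hr⟩ := h n
  refine ⟨r, fun s hs => ?_⟩
  have e := hr s hs
  have e1 : imageSubobject (F.map (ARSys.shiftMap X s n)) =
      imageSubobject (F.map (ARSys.shiftMap X r n)) := e
  apply imageSubobject_eq_of_imLe
  · exact refl _ _ ((imageSubobject_le_iff _ _).1 e1.le)
  · exact refl _ _ ((imageSubobject_le_iff _ _).1 e1.ge)

end Groth.Agent.Lib.Helper1.MLProIso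

namespace Groth.Agent.Lib.Helper1.MLProIso

open AlgebraicGeometry

universe w

/-- Mittag-Leffler is reflected by the tilde functor. -/
theorem isML_of_isML_comp_tilde (R : CommRingCat.{w}) (X : ARSys.PS (ModuleCat.{w} R))
    (h : ARSys.IsML (X ⋙ tilde.functor R)) : ARSys.IsML X :=
  isML_of_isML_comp (tilde.functor R) X h

end Groth.Agent.Lib.Helper1.MLProIso
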