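import Groth.Agent.Lib.Helper1.MatlisEnd
import Groth.Agent.Lib.Helper1.InjHullLib2
import Mathlib.RingTheory.LocalRing.Length
import Mathlib.RingTheory.Flat.Basic
import Mathlib.LinearAlgebra.TensorProduct.Pi

/-!
# Flat base change of the injective hull of the residue field
-/

set_option autoImplicit false
universe u

open IsLocalRing TensorProduct

namespace Groth.Agent.Lib.Helper1.Matlis

section general

variable {R : Type u} [CommRing R] (I : Ideal R) (M : Type u) [AddCommGroup M] [Module R M]

/-- `Hom(R/I, M) ≃ M[I]`, `χ ↦ χ 1`. -/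
noncomputable def homQuotEquivTorsionBySet :
    ((R ⧸ I) →ₗ[R] M) ≃ₗ[R] Submodule.torsionBySet R M (I : Set R) := by
  let θ : ((R ⧸ I) →ₗ[R] M) →ₗ[R] Submodule.torsionBySet R M (I : Set R) :=
    LinearMap.codRestrict _ (LinearMap.applyₗ (Ideal.Quotient.mk I 1 : R ⧸ I)) (by
      intro χ
      rw [Submodule.mem_torsionBySet_iff]
      rintro ⟨a, ha⟩
      change a • χ (Ideal.Quotient.mk I 1) = 0
      rw [← map_smul]
      have : a • (Ideal.Quotient.mk I 1 : R ⧸ I) = 0 := by
        rw [Algebra.smul_def, map_one, mul_one]; exact Ideal.Quotient.eq_zero_iff_mem.2 ha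
      rw [this, map_zero])
  refine LinearEquiv.ofBijective θ ⟨?_, ?_⟩
  · rw [injective_iff_map_eq_zero]
    intro χ hχ
    have h1 : χ (Ideal.Quotient.mk I 1) = 0 := congrArg Subtype.val hχ
    apply LinearMap.ext
    intro y
    obtain ⟨r, rfl⟩ := Ideal.Quotient.mk_surjective y
    have : (Ideal.Quotient.mk I r : R ⧸ I) = r • (Ideal.Quotient.mk I 1 : R ⧸ I) := by
      rw [Algebra.smul_def, map_one, mul_one]; rfl
    rw [this, map_smul, h1, smul_zero, LinearMap.zero_apply]
  · intro x
    have hle : I ≤ LinearMap.ker (LinearMap.toSpanSingleton R M (x : M)) := by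
      intro a ha
      rw [LinearMap.mem_ker, LinearMap.toSpanSingleton_apply]
      exact (Submodule.mem_torsionBySet_iff _ _).1 x.2 ⟨a, ha⟩
    refine ⟨Submodule.liftQ I (LinearMap.toSpanSingleton R M (x : M)) hle, ?_⟩
    apply Subtype.ext
    change Submodule.liftQ I (LinearMap.toSpanSingleton R M (x : M)) hle
      (Submodule.Quotient.mk 1) = x
    rw [Submodule.liftQ_apply, LinearMap.toSpanSingleton_apply, one_smul]

end general

section length

variable {R : Type u} [CommRing R] [IsLocalRing R] {E : Type u} [AddCommGroup E] [Module R E]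
  (f : ResidueField R →ₗ[R] E) (hf : InjHull.IsInjectiveHull f)
include hf

theorem length_torsionBySet (I : Ideal R) (hI : IsFiniteLength R (R ⧸ I)) :
    Module.length R (Submodule.torsionBySet R E (I : Set R)) = Module.length R (R ⧸ I) := by
  rw [← (homQuotEquivTorsionBySet I E).length_eq]
  exact length_hom_eq_of_isFiniteLength f hf _ hI

end length

/-- Two nested submodules of the same finite length are equal. -/
theorem submodule_eq_of_le_of_length_le {R : Type*} [Ring R] {M : Type*} [AddCommGroup M]
    [Module R M] {N N' : Submodule R M} (h : N ≤ N') (hfin : Module.length R N' ≠ ⊤)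
    (hle : Module.length R N' ≤ Module.length R N) : N = N' := by
  have hfl : IsFiniteLength R N' := Module.length_ne_top_iff.1 hfin
  obtain ⟨_, _⟩ := isFiniteLength_iff_isNoetherian_isArtinian.1 hfl
  by_contra hne
  have hne' : N.comap N'.subtype ≠ ⊤ := by
    intro htop
    apply hne
    apply le_antisymm h
    intro x hx
    have : (⟨x, hx⟩ : N') ∈ N.comap N'.subtype := by rw [htop]; trivial
    exact this
  have h1 := Submodule.length_lt hne'
  have h2 : Module.length R (N.comap N'.subtype) = Module.length R N :=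
    (Submodule.comapSubtypeEquivOfLe h).length_eq
  rw [h2] at h1
  exact absurd hle (not_le.2 h1)

section flat

variable {A : Type u} [CommRing A] {B : Type u} [CommRing B] [Algebra A B] [Module.Flat A B]
  (M : Type u) [AddCommGroup M] [Module A M]

/-- For a finitely generated ideal `I` of `A` and `B` flat over `A`:
`(B ⊗ M)[I B] ⊆ B ⊗ M[I]`. -/
theorem torsionBySet_map_le_baseChange (I : Ideal A) (hI : I.FG) :
    Submodule.torsionBySet B (B ⊗[A] M) ((I.map (algebraMap A B) : Ideal B) : Set B) ≤
      (Submodule.torsionBySet A M (I : Set A)).baseChange B := by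
  classical
  obtain ⟨s, hs⟩ := hI
  let φ : M →ₗ[A] (s → M) := LinearMap.pi (fun i => ((i : A) • LinearMap.id : M →ₗ[A] M))
  have hex : Function.Exact (Submodule.torsionBySet A M (I : Set A)).subtype φ := by
    intro y
    constructor
    · intro hy
      refine ⟨⟨y, ?_⟩, rfl⟩
      rw [← hs]
      change y ∈ Submodule.torsionBySet A M ((Ideal.span (s : Set A) : Ideal A) : Set A)
      rw [← Submodule.torsionBySet_eq_torsionBySet_span, Submodule.mem_torsionBySet_iff]
      rintro ⟨a, ha⟩
      exact congrFun hy ⟨a, ha⟩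
    · rintro ⟨x, rfl⟩
      funext i
      change (i : A) • (x : M) = 0
      refine (Submodule.mem_torsionBySet_iff _ _).1 x.2 ⟨(i : A), ?_⟩
      rw [← hs]
      exact Submodule.subset_span i.2
  have hex' := Module.Flat.lTensor_exact B hex
  have key : ∀ (z : B ⊗[A] M) (i : s),
      TensorProduct.piRightHom A B B (fun _ : s => M) (φ.lTensor B z) i = (i : A) • z := by
    intro z i
    induction z using TensorProduct.induction_on with
    | zero => simp
    | tmul b m =>
      rw [LinearMap.lTensor_tmul, TensorProduct.piRightHom_tmul, TensorProduct.smul_tmul']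
      change b ⊗ₜ[A] ((i : A) • m) = _
      rw [TensorProduct.tmul_smul, TensorProduct.smul_tmul']
    | add x y hx hy =>
      rw [map_add, map_add, Pi.add_apply, hx, hy, smul_add]
  intro z hz
  have hz0 : φ.lTensor B z = 0 := by
    apply (TensorProduct.piRight A B B (fun _ : s => M)).injective
    rw [map_zero, TensorProduct.piRight_apply]
    funext i
    rw [key z i, Pi.zero_apply, ← algebraMap_smul B (i : A) z]
    refine (Submodule.mem_torsionBySet_iff _ _).1 hz ⟨algebraMap A B (i : A), ?_⟩
    apply Ideal.mem_map_of_mem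
    rw [← hs]
    exact Submodule.subset_span i.2
  obtain ⟨w, hw⟩ := (hex' z).1 hz0
  exact ⟨w, by rw [← hw, LinearMap.baseChange_eq_ltensor]⟩

end flat

section socle

variable {R : Type u} [CommRing R] [IsLocalRing R] {M : Type u} [AddCommGroup M] [Module R M]

/-- In a power torsion module over a local ring the socle is essential. -/
theorem exists_smul_mem_socle (hM : LocCoh.IsPowerTorsion (maximalIdeal R) M) (x : M)
    (hx0 : x ≠ 0) : ∃ r : R, r • x ≠ 0 ∧
      r • x ∈ Submodule.torsionBySet R M ((maximalIdeal R : Ideal R) : Set R) := by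
  classical
  have hex := hM x
  have hN0 : Nat.find hex ≠ 0 := by
    intro h0
    have := Nat.find_spec hex
    rw [h0, pow_zero] at this
    exact hx0 (by simpa using this 1 (by simp))
  obtain ⟨N, hN⟩ := Nat.exists_eq_succ_of_ne_zero hN0
  have hmin : ¬ ∀ a ∈ maximalIdeal R ^ N, a • x = 0 := Nat.find_min hex (by omega)
  push Not at hmin
  obtain ⟨a, ha, hax⟩ := hmin
  refine ⟨a, hax, ?_⟩
  rw [Submodule.mem_torsionBySet_iff]
  rintro ⟨r, hr⟩
  change r • a • x = 0
  rw [← mul_smul]
  apply Nat.find_spec hex
  rw [hN, pow_succ']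
  exact Ideal.mul_mem_mul hr ha

end socle

section main

variable {A : Type u} [CommRing A] [IsLocalRing A] [IsNoetherianRing A]
  {B : Type u} [CommRing B] [IsLocalRing B] [IsNoetherianRing B] [Algebra A B]
  [IsLocalHom (algebraMap A B)] [Module.Flat A B]
  (hm : (maximalIdeal A).map (algebraMap A B) = maximalIdeal B)
  {E : Type u} [AddCommGroup E] [Module A E]

/-- `B ⊗ E[I] ⊆ B ⊗ E`. -/
abbrev F (B : Type u) [CommRing B] [Algebra A B] (E : Type u) [AddCommGroup E] [Module A E]
    (I : Ideal A) : Submodule B (B ⊗[A] E) :=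
  (Submodule.torsionBySet A E (I : Set A)).baseChange B

include hm in
theorem length_quot_map_maximalIdeal :
    Module.length B (B ⧸ (maximalIdeal A).map (algebraMap A B)) = 1 := by
  rw [hm]
  haveI : IsSimpleModule B (B ⧸ maximalIdeal B) := by
    rw [isSimpleModule_iff_isCoatom]
    exact Ideal.isMaximal_def.1 (maximalIdeal.isMaximal B)
  exact Module.length_eq_one B _

theorem F_le_torsionBySet (I : Ideal A) :
    F B E I ≤ Submodule.torsionBySet B (B ⊗[A] E) ((I.map (algebraMap A B) : Ideal B) : Set B) := by
  rw [F, Submodule.baseChange_eq_span, Submodule.span_le]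
  rintro _ ⟨e, he, rfl⟩
  change (1 : B) ⊗ₜ[A] e ∈ _
  rw [SetLike.mem_coe, Submodule.mem_torsionBySet_iff]
  have hle : I.map (algebraMap A B) ≤
      LinearMap.ker (LinearMap.toSpanSingleton B (B ⊗[A] E) ((1 : B) ⊗ₜ[A] e)) := by
    rw [Ideal.map_le_iff_le_comap]
    intro a ha
    rw [Ideal.mem_comap, LinearMap.mem_ker, LinearMap.toSpanSingleton_apply, algebraMap_smul,
      TensorProduct.smul_tmul', TensorProduct.smul_tmul, (Submodule.mem_torsionBySet_iff _ _).1 he ⟨a, ha⟩,
      TensorProduct.tmul_zero]
  rintro ⟨β, hβ⟩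
  exact hle hβ

theorem F_mono {I J : Ideal A} (h : I ≤ J) : F B E J ≤ F B E I :=
  Submodule.baseChange_mono B (Submodule.torsionBySet_le_torsionBySet_of_subset h)

section hull

variable (f : ResidueField A →ₗ[A] E) (hf : InjHull.IsInjectiveHull f)
include hf

theorem exists_mem_F (z : B ⊗[A] E) : ∃ n : ℕ, z ∈ F B E (maximalIdeal A ^ n) := by
  induction z using TensorProduct.induction_on with
  | zero => exact ⟨0, Submodule.zero_mem _⟩
  | tmul b e =>
    obtain ⟨n, hn⟩ := Groth.Agent.S0311.result A E f hf e
    refine ⟨n, Submodule.tmul_mem_baseChange_of_mem b ?_⟩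
    rw [Submodule.mem_torsionBySet_iff]
    rintro ⟨a, ha⟩
    exact hn a ha
  | add x y hx hy =>
    obtain ⟨n, hn⟩ := hx
    obtain ⟨n', hn'⟩ := hy
    refine ⟨max n n', Submodule.add_mem _ ?_ ?_⟩
    · exact F_mono (Ideal.pow_le_pow_right (le_max_left _ _)) hn
    · exact F_mono (Ideal.pow_le_pow_right (le_max_right _ _)) hn'

include hm in
theorem length_F (n : ℕ) :
    Module.length B (F B E (maximalIdeal A ^ n)) = Module.length A (A ⧸ maximalIdeal A ^ n) := by
  rw [← (Submodule.toBaseChange.toLinearEquiv B _).length_eq, IsLocalRing.length_baseChange,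
    length_quot_map_maximalIdeal hm, mul_one]
  exact length_torsionBySet f hf _ (isFiniteLength_quotient_pow n)

end hull

include hm in
theorem length_quot_pow (n : ℕ) :
    Module.length B (B ⧸ maximalIdeal B ^ n) = Module.length A (A ⧸ maximalIdeal A ^ n) := by
  rw [← hm, ← Ideal.map_pow,
    (Algebra.TensorProduct.quotIdealMapEquivTensorQuot B (maximalIdeal A ^ n)).toLinearEquiv.length_eq,
    IsLocalRing.length_baseChange, length_quot_map_maximalIdeal hm, mul_one]

end main

section final

variable {A : Type u} [CommRing A] [IsLocalRing A] [IsNoetherianRing A]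
  {B : Type u} [CommRing B] [IsLocalRing B] [IsNoetherianRing B] [Algebra A B]
  [IsLocalHom (algebraMap A B)] [Module.Flat A B]
  (hm : (maximalIdeal A).map (algebraMap A B) = maximalIdeal B)
  {E : Type u} [AddCommGroup E] [Module A E]
  (f : ResidueField A →ₗ[A] E) (hf : InjHull.IsInjectiveHull f)

include hm hf in
/-- Flat base change of the injective hull of the residue field along a local homomorphism with
`m_A B = m_B` is an injective hull of the residue field. -/
theorem exists_isInjectiveHull_baseChange :
    ∃ g : ResidueField B →ₗ[B] B ⊗[A] E, InjHull.IsInjectiveHull g := by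
  classical
  -- power torsion
  have hpt : LocCoh.IsPowerTorsion (maximalIdeal B) (B ⊗[A] E) := by
    intro z
    obtain ⟨n, hn⟩ := exists_mem_F f hf z
    refine ⟨n, fun β hβ => ?_⟩
    have := F_le_torsionBySet (B := B) (E := E) (maximalIdeal A ^ n) hn
    rw [Ideal.map_pow, hm] at this
    exact (Submodule.mem_torsionBySet_iff _ _).1 this ⟨β, hβ⟩
  -- the socle
  have hsocle : Submodule.torsionBySet B (B ⊗[A] E) ((maximalIdeal B : Ideal B) : Set B) ≤
      F B E (maximalIdeal A) := by
    rw [← hm]
    exact torsionBySet_map_le_baseChange E _ (IsNoetherian.noetherian _)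
  have hlen1 : Module.length B (F B E (maximalIdeal A)) = 1 := by
    have := length_F hm f hf 1
    rw [pow_one] at this
    rw [this]
    haveI : IsSimpleModule A (A ⧸ maximalIdeal A) := by
      rw [isSimpleModule_iff_isCoatom]
      exact Ideal.isMaximal_def.1 (maximalIdeal.isMaximal A)
    exact Module.length_eq_one A _
  have hsimple : IsSimpleModule B (F B E (maximalIdeal A)) := Module.length_eq_one_iff.1 hlen1
  obtain ⟨I, hI, ⟨e⟩⟩ := isSimpleModule_iff_quot_maximal.mp hsimple
  obtain rfl := eq_maximalIdeal hI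
  let g : ResidueField B →ₗ[B] B ⊗[A] E :=
    (F B E (maximalIdeal A)).subtype ∘ₗ e.symm.toLinearMap ∘ₗ
      (quotEquivResidueField (R := B)).symm.toLinearMap
  have hg : Function.Injective g := by
    intro a b hab
    have h1 := Submodule.injective_subtype _ hab
    have h2 := e.symm.injective h1
    exact (quotEquivResidueField (R := B)).symm.injective h2
  have hrange : ∀ z ∈ F B E (maximalIdeal A), z ∈ LinearMap.range g := by
    intro z hz
    refine ⟨quotEquivResidueField (e ⟨z, hz⟩), ?_⟩
    change ((F B E (maximalIdeal A)).subtype (e.symm ((quotEquivResidueField (R := B)).symm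
      (quotEquivResidueField (e ⟨z, hz⟩))))) = z
    rw [LinearEquiv.symm_apply_apply, LinearEquiv.symm_apply_apply]
    rfl
  have hess : ∀ x : B ⊗[A] E, x ≠ 0 → ∃ r : B, r • x ≠ 0 ∧ r • x ∈ LinearMap.range g := by
    intro x hx
    obtain ⟨r, hr0, hr⟩ := exists_smul_mem_socle hpt x hx
    exact ⟨r, hr0, hrange _ (hsocle hr)⟩
  have hgess : InjHull.IsEssentialInj g := (InjHullLib.isEssentialInj_iff g).2 ⟨hg, hess⟩
  -- compare with an injective hull over `B`
  obtain ⟨EB, _, _, fB, hfB⟩ := InjHullLib.exists_injective_hull B (ResidueField B)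
  obtain ⟨ι, hι⟩ := hfB.isInjective.out g hg fB
  have hιinj : Function.Injective ι := by
    rw [injective_iff_map_eq_zero]
    intro x hx
    by_contra hx0
    obtain ⟨r, hr0, ⟨c, hc⟩⟩ := hess x hx0
    have h1 : ι (r • x) = 0 := by rw [map_smul, hx, smul_zero]
    rw [← hc, hι] at h1
    have hc0 : c = 0 := hfB.injective (by rw [h1, map_zero])
    rw [hc0, map_zero] at hc
    exact hr0 hc.symm
  have hιsurj : Function.Surjective ι := by
    intro y
    obtain ⟨n, hn⟩ := Groth.Agent.S0311.result B EB fB hfB y
    have hle : (F B E (maximalIdeal A ^ n)).map ι ≤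
        Submodule.torsionBySet B EB ((maximalIdeal B ^ n : Ideal B) : Set B) := by
      rintro _ ⟨z, hz, rfl⟩
      have := F_le_torsionBySet (B := B) (E := E) (maximalIdeal A ^ n) hz
      rw [Ideal.map_pow, hm] at this
      rw [Submodule.mem_torsionBySet_iff]
      rintro ⟨β, hβ⟩
      change β • ι z = 0
      rw [← map_smul, (Submodule.mem_torsionBySet_iff _ _).1 this ⟨β, hβ⟩, map_zero]
    have hlenT : Module.length B (Submodule.torsionBySet B EB ((maximalIdeal B ^ n : Ideal B) : Set B))
        = Module.length B (B ⧸ maximalIdeal B ^ n) :=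
      length_torsionBySet fB hfB _ (isFiniteLength_quotient_pow n)
    have hlenF : Module.length B ((F B E (maximalIdeal A ^ n)).map ι) =
        Module.length B (B ⧸ maximalIdeal B ^ n) := by
      have h0 : Module.length B (F B E (maximalIdeal A ^ n)) =
          Module.length B ((F B E (maximalIdeal A ^ n)).map ι) :=
        LinearEquiv.length_eq (Submodule.equivMapOfInjective ι hιinj (F B E (maximalIdeal A ^ n)))
      rw [← h0, length_F hm f hf n, length_quot_pow hm n]
    have hfin : Module.length B (Submodule.torsionBySet B EB ((maximalIdeal B ^ n : Ideal B) : Set B))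
        ≠ ⊤ := by
      rw [hlenT, Module.length_ne_top_iff]
      exact isFiniteLength_quotient_pow n
    have heq := submodule_eq_of_le_of_length_le hle hfin (by rw [hlenT, hlenF])
    have hy : y ∈ Submodule.torsionBySet B EB ((maximalIdeal B ^ n : Ideal B) : Set B) := by
      rw [Submodule.mem_torsionBySet_iff]
      rintro ⟨β, hβ⟩
      exact hn β hβ
    rw [← heq] at hy
    obtain ⟨z, _, rfl⟩ := hy
    exact ⟨z, rfl⟩
  let e' : (B ⊗[A] E) ≃ₗ[B] EB := LinearEquiv.ofBijective ι ⟨hιinj, hιsurj⟩
  haveI := hfB.isInjective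
  exact ⟨g, ⟨hgess, InjHullLib.injective_of_linearEquiv e'.symm⟩⟩

end final

end Groth.Agent.Lib.Helper1.Matlis
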