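import Mathlib.RingTheory.Artinian.Module
import Mathlib.Algebra.Module.Torsion.Basic

/-!
# Melkersson's lemma

If every element of `M` is killed by a power of `x` and `M[x]` is Artinian then `M` is Artinian.
Iterating: if `M` is `s`-power torsion for every `s` in a finite set `S` and `M[S]` is Artinian then
`M` is Artinian.
-/

set_option autoImplicit false
universe u v

namespace Groth.Agent.Lib.Helper1.Melkersson

open Submodule

section

variable {R : Type u} [CommRing R] {M : Type v} [AddCommGroup M] [Module R M] (x : R)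

/-- `x^j (N ∩ (0 :_M x^(j+1)))` viewed inside `M[x]`. -/
def G (N : Submodule R M) (j : ℕ) : Submodule R (torsionBy R M x) :=
  ((N ⊓ torsionBy R M (x ^ (j + 1))).map ((x ^ j) • (LinearMap.id : M →ₗ[R] M))).comap
    (torsionBy R M x).subtype

variable {x}

theorem mem_G {N : Submodule R M} {j : ℕ} {k : torsionBy R M x} :
    k ∈ G x N j ↔ ∃ n ∈ N, x ^ (j + 1) • n = 0 ∧ x ^ j • n = (k : M) := by
  unfold G
  rw [mem_comap, mem_map]
  constructor
  · rintro ⟨n, hn, h⟩
    rw [mem_inf, mem_torsionBy_iff] at hn
    exact ⟨n, hn.1, hn.2, h⟩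
  · rintro ⟨n, hn, h0, h⟩
    exact ⟨n, mem_inf.2 ⟨hn, (mem_torsionBy_iff _ _).2 h0⟩, h⟩

theorem G_mono {N N' : Submodule R M} (h : N ≤ N') (j : ℕ) : G x N j ≤ G x N' j := by
  intro k hk
  rw [mem_G] at hk ⊢
  obtain ⟨n, hn, h0, h1⟩ := hk
  exact ⟨n, h hn, h0, h1⟩

theorem G_succ_le (N : Submodule R M) (j : ℕ) : G x N (j + 1) ≤ G x N j := by
  intro k hk
  rw [mem_G] at hk ⊢
  obtain ⟨n, hn, h0, h1⟩ := hk
  refine ⟨x • n, N.smul_mem x hn, ?_, ?_⟩
  · rw [← mul_smul, ← pow_succ]; exact h0
  · rw [← mul_smul, ← pow_succ]; exact h1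

theorem G_antitone (N : Submodule R M) {j j' : ℕ} (h : j ≤ j') : G x N j' ≤ G x N j := by
  induction h with
  | refl => exact le_rfl
  | step _ ih => exact (G_succ_le N _).trans ih

theorem le_of_G_le (hx : ∀ m : M, ∃ n : ℕ, x ^ n • m = 0) {N N' : Submodule R M} (h : N' ≤ N)
    (hG : ∀ j, G x N j ≤ G x N' j) : N ≤ N' := by
  have key : ∀ j : ℕ, ∀ n ∈ N, x ^ j • n = 0 → n ∈ N' := by
    intro j
    induction j with
    | zero =>
      intro n _ h0
      rw [pow_zero, one_smul] at h0
      rw [h0]; exact N'.zero_mem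
    | succ j ih =>
      intro n hn h0
      have hk : x • (x ^ j • n) = 0 := by rw [← mul_smul, ← pow_succ']; exact h0
      have hmem : (⟨x ^ j • n, (mem_torsionBy_iff _ _).2 hk⟩ : torsionBy R M x) ∈ G x N j :=
        mem_G.2 ⟨n, hn, h0, rfl⟩
      obtain ⟨n', hn', h0', h1'⟩ := mem_G.1 (hG j hmem)
      have h2 : n - n' ∈ N' := by
        apply ih _ (N.sub_mem hn (h hn'))
        rw [smul_sub, h1']; exact sub_self _
      have : n = (n - n') + n' := by abel
      rw [this]
      exact N'.add_mem h2 hn'
  intro n hn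
  obtain ⟨j, hj⟩ := hx n
  exact key j n hn hj

/-- **Melkersson's lemma.** -/
theorem isArtinian_of_isArtinian_torsionBy (hx : ∀ m : M, ∃ n : ℕ, x ^ n • m = 0)
    [IsArtinian R (torsionBy R M x)] : IsArtinian R M := by
  rw [← monotone_stabilizes_iff_artinian]
  intro f
  -- the chain `N i`
  let N : ℕ → Submodule R M := fun i => OrderDual.ofDual (f i)
  have hN : ∀ {i i' : ℕ}, i ≤ i' → N i' ≤ N i := fun h => f.monotone h
  -- minimal element of the doubly indexed family
  obtain ⟨_, ⟨⟨i0, j0⟩, rfl⟩, hmin⟩ := IsArtinian.set_has_minimal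
    (Set.range fun p : ℕ × ℕ => G x (N p.1) p.2) ⟨_, ⟨(0, 0), rfl⟩⟩
  have hbig : ∀ i j, i0 ≤ i → j0 ≤ j → G x (N i) j = G x (N i0) j0 := by
    intro i j hi hj
    have hle : G x (N i) j ≤ G x (N i0) j0 := (G_antitone _ hj).trans (G_mono (hN hi) _)
    by_contra hne
    exact hmin _ ⟨(i, j), rfl⟩ (lt_of_le_of_ne hle hne)
  -- each column stabilizes
  have hcol : ∀ j : ℕ, ∃ n, ∀ i, n ≤ i → G x (N n) j = G x (N i) j := by
    intro j
    let g : ℕ →o (Submodule R (torsionBy R M x))ᵒᵈ :=
      ⟨fun i => OrderDual.toDual (G x (N i) j), fun i i' h => G_mono (hN h) j⟩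
    obtain ⟨n, hn⟩ := monotone_stabilizes_iff_artinian.2 inferInstance g
    exact ⟨n, fun i hi => congrArg OrderDual.ofDual (hn i hi)⟩
  choose c hc using hcol
  let istar := max i0 ((Finset.range (j0 + 1)).sup c)
  have hi0 : i0 ≤ istar := le_max_left _ _
  have hcj : ∀ j ≤ j0, c j ≤ istar := fun j hj =>
    le_trans (Finset.le_sup (f := c) (Finset.mem_range.2 (Nat.lt_succ_of_le hj))) (le_max_right _ _)
  refine ⟨istar, fun i hi => ?_⟩
  have hle : N i ≤ N istar := hN hi
  have hge : N istar ≤ N i := by
    apply le_of_G_le hx hle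
    intro j
    by_cases hj : j ≤ j0
    · rw [← hc j istar (hcj j hj), hc j i ((hcj j hj).trans hi)]
    · push Not at hj
      rw [hbig istar j hi0 hj.le, hbig i j (hi0.trans hi) hj.le]
  have heq : N istar = N i := le_antisymm hge hle
  exact heq

end

section finset

variable {R : Type u} [CommRing R]

/-- If `M` is `s`-power torsion for each `s` in the finite set `S` and `M[S]` is Artinian, then `M` is
Artinian. -/
theorem isArtinian_of_isArtinian_torsionBySet (S : Finset R) :
    ∀ (M : Type v) [AddCommGroup M] [Module R M],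
      (∀ s ∈ S, ∀ m : M, ∃ n : ℕ, s ^ n • m = 0) →
      IsArtinian R (torsionBySet R M (S : Set R)) → IsArtinian R M := by
  classical
  induction S using Finset.induction_on with
  | empty =>
    intro M _ _ _ h
    have hle : (⊤ : Submodule R M) ≤ torsionBySet R M ((∅ : Finset R) : Set R) := by
      intro m _
      rw [mem_torsionBySet_iff]
      rintro ⟨a, ha⟩
      simp at ha
    exact isArtinian_of_injective (LinearMap.codRestrict _ LinearMap.id (fun m => hle trivial))
      (fun a b hab => congrArg Subtype.val hab)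
  | insert x S hxS ih =>
    intro M _ _ htors h
    have hK : IsArtinian R (torsionBy R M x) := by
      apply ih (torsionBy R M x)
      · intro s hs k
        obtain ⟨n, hn⟩ := htors s (Finset.mem_insert_of_mem hs) (k : M)
        exact ⟨n, Subtype.ext hn⟩
      · let φ : torsionBySet R (torsionBy R M x) (S : Set R) →ₗ[R]
            torsionBySet R M ((insert x S : Finset R) : Set R) :=
          LinearMap.codRestrict _ ((torsionBy R M x).subtype ∘ₗ (torsionBySet R _ _).subtype) (by
            intro k
            rw [mem_torsionBySet_iff]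
            rintro ⟨a, ha⟩
            rw [Finset.coe_insert, Set.mem_insert_iff] at ha
            rcases ha with rfl | ha
            · exact k.1.2
            · have := (mem_torsionBySet_iff _ _).1 k.2 ⟨a, ha⟩
              exact congrArg Subtype.val this)
        refine isArtinian_of_injective φ ?_
        intro a b hab
        apply Subtype.ext
        apply Subtype.ext
        have := congrArg Subtype.val hab
        exact this
    exact isArtinian_of_isArtinian_torsionBy (x := x) (htors x (Finset.mem_insert_self _ _))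

end finset

end Groth.Agent.Lib.Helper1.Melkersson
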