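import Groth.Agent.Lib.Helper1.MatlisEnd
import Groth.Agent.S0314
import Mathlib.RingTheory.Finiteness.Cardinality
import Mathlib.LinearAlgebra.StdBasis

/-!
# Matlis duality over a complete Noetherian local ring
-/

set_option autoImplicit false
universe u

open IsLocalRing

namespace Groth.Agent.Lib.Helper1.Matlis

variable {R : Type u} [CommRing R] [IsLocalRing R] [IsNoetherianRing R]
  {E : Type u} [AddCommGroup E] [Module R E]
  (f : ResidueField R →ₗ[R] E) (hf : InjHull.IsInjectiveHull f)
include hf

/-- `Hom(M, E)` is Artinian for `M` finite. -/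
theorem isArtinian_hom_of_finite (M : Type u) [AddCommGroup M] [Module R M] [Module.Finite R M] :
    IsArtinian R (M →ₗ[R] E) := by
  obtain ⟨b, π, hπ⟩ := Module.Finite.exists_fin' R M
  haveI := Groth.Agent.S0314.result R E f hf
  let πd : (M →ₗ[R] E) →ₗ[R] ((Fin b → R) →ₗ[R] E) := LinearMap.lcomp R E π
  have hπd : Function.Injective πd := LinearMap.lcomp_injective_of_surjective π hπ
  let e : ((Fin b → R) →ₗ[R] E) ≃ₗ[R] (Fin b → E) := ((Pi.basisFun R (Fin b)).constr R).symm
  exact isArtinian_of_injective (e.toLinearMap ∘ₗ πd) (e.injective.comp hπd)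

section complete

variable [IsAdicComplete (maximalIdeal R) R]

/-- Over a complete local ring every endomorphism of `E` is multiplication by a scalar. -/
theorem exists_end_eq_smul (ψ : Module.End R E) : ∃ r : R, ∀ x, ψ x = r • x := by
  obtain ⟨r, hr⟩ := AdicCompletion.of_surjective (maximalIdeal R) R (endEquivCompletion f hf ψ)
  refine ⟨r, fun x => ?_⟩
  have h1 : endEquivCompletion f hf (algebraMap R _ r) = endEquivCompletion f hf ψ := by
    rw [AlgEquiv.commutes, ← hr, AdicCompletion.algebraMap_apply]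
    rfl
  have h2 := (endEquivCompletion f hf).injective h1
  rw [← h2, Module.algebraMap_end_apply]

theorem applyₗ_surjective_pi (b : ℕ) : Function.Surjective
    (LinearMap.applyₗ : (Fin b → R) →ₗ[R] ((Fin b → R) →ₗ[R] E) →ₗ[R] E) := by
  classical
  intro ψ
  have h : ∀ i : Fin b, ∃ r : R, ∀ e : E,
      ψ ((LinearMap.proj i : (Fin b → R) →ₗ[R] R).smulRight e) = r • e := fun i =>
    exists_end_eq_smul f hf (ψ ∘ₗ (LinearMap.smulRightₗ (LinearMap.proj i : (Fin b → R) →ₗ[R] R)))
  choose v hv using h
  refine ⟨v, ?_⟩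
  apply LinearMap.ext
  intro g
  change g v = ψ g
  have hg : g = ∑ i, (LinearMap.proj i : (Fin b → R) →ₗ[R] R).smulRight
      (g fun j => if i = j then 1 else 0) := by
    apply LinearMap.ext
    intro w
    rw [LinearMap.pi_apply_eq_sum_univ g w, LinearMap.sum_apply]
    rfl
  conv_rhs => rw [hg]
  rw [map_sum, LinearMap.pi_apply_eq_sum_univ g v]
  exact Finset.sum_congr rfl (fun i _ => (hv i _).symm)

/-- Surjectivity of the biduality map for finite modules over a complete local ring. -/
theorem applyₗ_surjective_of_finite (M : Type u) [AddCommGroup M] [Module R M] [Module.Finite R M] :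
    Function.Surjective (LinearMap.applyₗ : M →ₗ[R] (M →ₗ[R] E) →ₗ[R] E) := by
  intro ψ
  obtain ⟨b, π, hπ⟩ := Module.Finite.exists_fin' R M
  let πd : (M →ₗ[R] E) →ₗ[R] ((Fin b → R) →ₗ[R] E) := LinearMap.lcomp R E π
  have hπd : Function.Injective πd := LinearMap.lcomp_injective_of_surjective π hπ
  obtain ⟨ψ', hψ'⟩ := hf.isInjective.out πd hπd ψ
  obtain ⟨v, hv⟩ := applyₗ_surjective_pi f hf b ψ'
  refine ⟨π v, ?_⟩
  apply LinearMap.ext
  intro χ
  change χ (π v) = ψ χ
  rw [← hψ', ← hv]
  rfl

end complete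

/-- Injectivity of the biduality map (for any module). -/
theorem applyₗ_injective (M : Type u) [AddCommGroup M] [Module R M] :
    Function.Injective (LinearMap.applyₗ : M →ₗ[R] (M →ₗ[R] E) →ₗ[R] E) := by
  rw [injective_iff_map_eq_zero]
  intro x hx
  by_contra hne
  obtain ⟨φ, hφ⟩ := exists_hom_apply_ne_zero f hf M x hne
  exact hφ (LinearMap.congr_fun hx φ)

end Groth.Agent.Lib.Helper1.Matlis
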