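import Groth.Agent.Lib.Helper1.Matlis
import Groth.Agent.S0311
import Mathlib.RingTheory.AdicCompletion.Algebra
import Mathlib.RingTheory.Ideal.KrullsHeightTheorem

/-!
# `End(E) ≃ completion of R` for `E` an injective hull of the residue field of a Noetherian local ring
-/

set_option autoImplicit false
universe u

open IsLocalRing

namespace Groth.Agent.Lib.Helper1.Matlis

variable {R : Type u} [CommRing R] [IsLocalRing R] [IsNoetherianRing R]

theorem isFiniteLength_quotient_pow (n : ℕ) : IsFiniteLength R (R ⧸ maximalIdeal R ^ n) := by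
  rcases Nat.eq_zero_or_pos n with rfl | hn
  · haveI : Subsingleton (R ⧸ maximalIdeal R ^ 0) := by
      rw [pow_zero, Ideal.one_eq_top]
      exact Ideal.Quotient.subsingleton_iff.2 rfl
    exact IsFiniteLength.of_subsingleton
  · have hp : maximalIdeal R ∈ (maximalIdeal R ^ n).minimalPrimes := by
      refine ⟨⟨inferInstance, Ideal.pow_le_self hn.ne'⟩, ?_⟩
      rintro q ⟨hq, hle⟩ _
      exact hq.le_of_pow_le hle
    haveI := IsLocalRing.quotient_artinian_of_mem_minimalPrimes_of_isLocalRing _ hp
    rw [isFiniteLength_iff_isNoetherian_isArtinian]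
    exact ⟨inferInstance, isArtinian_of_surjective_algebraMap (S := R) (R := R ⧸ maximalIdeal R ^ n)
      Ideal.Quotient.mk_surjective⟩

variable {E : Type u} [AddCommGroup E] [Module R E]

/-- `φ` acts on `E[m^n]` as multiplication by `r`. -/
def ActsAs (n : ℕ) (φ : Module.End R E) (r : R) : Prop :=
  ∀ x : E, (∀ a ∈ maximalIdeal R ^ n, a • x = 0) → φ x = r • x

theorem ActsAs.mono {m n : ℕ} (h : m ≤ n) {φ : Module.End R E} {r : R} (hr : ActsAs n φ r) :
    ActsAs m φ r :=
  fun x hx => hr x (fun a ha => hx a (Ideal.pow_le_pow_right h ha))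

theorem ActsAs.add {n : ℕ} {φ ψ : Module.End R E} {r s : R} (hr : ActsAs n φ r)
    (hs : ActsAs n ψ s) : ActsAs n (φ + ψ) (r + s) := by
  intro x hx
  rw [LinearMap.add_apply, hr x hx, hs x hx, add_smul]

theorem ActsAs.mul {n : ℕ} {φ ψ : Module.End R E} {r s : R} (hr : ActsAs n φ r)
    (hs : ActsAs n ψ s) : ActsAs n (φ * ψ) (r * s) := by
  intro x hx
  rw [Module.End.mul_apply, hs x hx, map_smul, hr x hx, smul_smul, mul_comm]

theorem actsAs_algebraMap (n : ℕ) (c : R) : ActsAs n (algebraMap R (Module.End R E) c) c := by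
  intro x _
  rw [Module.algebraMap_end_apply]

theorem actsAs_one (n : ℕ) : ActsAs n (1 : Module.End R E) 1 := by
  intro x _
  rw [Module.End.one_apply, one_smul]

theorem actsAs_zero (n : ℕ) : ActsAs n (0 : Module.End R E) 0 := by
  intro x _
  rw [LinearMap.zero_apply, zero_smul]

theorem ActsAs.of_sub_mem {n : ℕ} {φ : Module.End R E} {r s : R} (hr : ActsAs n φ r)
    (h : r - s ∈ maximalIdeal R ^ n) : ActsAs n φ s := by
  intro x hx
  rw [hr x hx]
  have := hx _ h
  rw [sub_smul, sub_eq_zero] at this
  exact this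

section

variable (f : ResidueField R →ₗ[R] E) (hf : InjHull.IsInjectiveHull f)
include hf

theorem exists_actsAs (n : ℕ) (φ : Module.End R E) : ∃ r : R, ActsAs n φ r := by
  obtain ⟨r, hr⟩ := exists_smul_eq_of_linearMap f hf (maximalIdeal R ^ n)
    (isFiniteLength_quotient_pow n) (φ ∘ₗ (Submodule.subtype _))
  refine ⟨r, fun x hx => ?_⟩
  have hxm : x ∈ Submodule.torsionBySet R E ((maximalIdeal R ^ n : Ideal R) : Set R) := by
    rw [Submodule.mem_torsionBySet_iff]
    rintro ⟨a, ha⟩
    exact hx a ha
  exact hr ⟨x, hxm⟩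

theorem ActsAs.sub_mem {n : ℕ} {φ : Module.End R E} {r s : R} (hr : ActsAs n φ r)
    (hs : ActsAs n φ s) : r - s ∈ maximalIdeal R ^ n := by
  apply mem_of_forall_smul_eq_zero f hf
  intro x hx
  rw [sub_smul, ← hr x hx, ← hs x hx, sub_self]

/-- The `n`-th component of the map `End(E) → completion`. -/
noncomputable def endToQuot (n : ℕ) : Module.End R E →ₐ[R] R ⧸ maximalIdeal R ^ n where
  toFun φ := Ideal.Quotient.mk _ (Classical.choose (exists_actsAs f hf n φ))
  map_one' := by
    rw [← map_one (Ideal.Quotient.mk (maximalIdeal R ^ n)), Ideal.Quotient.eq]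
    exact (Classical.choose_spec (exists_actsAs f hf n 1)).sub_mem f hf (actsAs_one n)
  map_mul' φ ψ := by
    rw [← map_mul, Ideal.Quotient.eq]
    exact (Classical.choose_spec (exists_actsAs f hf n (φ * ψ))).sub_mem f hf
      ((Classical.choose_spec (exists_actsAs f hf n φ)).mul
        (Classical.choose_spec (exists_actsAs f hf n ψ)))
  map_zero' := by
    rw [← map_zero (Ideal.Quotient.mk (maximalIdeal R ^ n)), Ideal.Quotient.eq]
    exact (Classical.choose_spec (exists_actsAs f hf n 0)).sub_mem f hf (actsAs_zero n)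
  map_add' φ ψ := by
    rw [← map_add, Ideal.Quotient.eq]
    exact (Classical.choose_spec (exists_actsAs f hf n (φ + ψ))).sub_mem f hf
      ((Classical.choose_spec (exists_actsAs f hf n φ)).add
        (Classical.choose_spec (exists_actsAs f hf n ψ)))
  commutes' c := by
    change _ = Ideal.Quotient.mk _ c
    rw [Ideal.Quotient.eq]
    exact (Classical.choose_spec (exists_actsAs f hf n _)).sub_mem f hf (actsAs_algebraMap n c)

theorem endToQuot_eq {n : ℕ} {φ : Module.End R E} {r : R} (hr : ActsAs n φ r) :
    endToQuot f hf n φ = Ideal.Quotient.mk _ r := by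
  change Ideal.Quotient.mk _ _ = _
  rw [Ideal.Quotient.eq]
  exact (Classical.choose_spec (exists_actsAs f hf n φ)).sub_mem f hf hr

theorem actsAs_of_endToQuot_eq {n : ℕ} {φ : Module.End R E} {r : R}
    (hr : endToQuot f hf n φ = Ideal.Quotient.mk _ r) : ActsAs n φ r := by
  change Ideal.Quotient.mk _ _ = _ at hr
  rw [Ideal.Quotient.eq] at hr
  exact (Classical.choose_spec (exists_actsAs f hf n φ)).of_sub_mem hr

theorem endToQuot_compat {m n : ℕ} (hle : m ≤ n) :
    (Ideal.Quotient.factorPow (maximalIdeal R) hle).comp (endToQuot f hf n).toRingHom =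
      (endToQuot f hf m).toRingHom := by
  apply RingHom.ext
  intro φ
  obtain ⟨r, hr⟩ := exists_actsAs f hf n φ
  change Ideal.Quotient.factorPow (maximalIdeal R) hle (endToQuot f hf n φ) = endToQuot f hf m φ
  rw [endToQuot_eq f hf hr, endToQuot_eq f hf (hr.mono hle)]
  rfl

/-- The map `End(E) → completion of R`, as a ring hom. -/
noncomputable def endToCompletionRingHom : Module.End R E →+* AdicCompletion (maximalIdeal R) R :=
  AdicCompletion.liftRingHom (maximalIdeal R) (fun n => (endToQuot f hf n).toRingHom)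
    (fun hle => endToQuot_compat f hf hle)

theorem evalₐ_endToCompletionRingHom (n : ℕ) (φ : Module.End R E) :
    AdicCompletion.evalₐ (maximalIdeal R) n (endToCompletionRingHom f hf φ) =
      endToQuot f hf n φ := by
  unfold endToCompletionRingHom
  rw [AdicCompletion.evalₐ_liftRingHom]
  rfl

/-- The map `End(E) → completion of R`. -/
noncomputable def endToCompletion : Module.End R E →ₐ[R] AdicCompletion (maximalIdeal R) R :=
  { endToCompletionRingHom f hf with
    commutes' := by
      intro c
      apply AdicCompletion.ext_evalₐ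
      intro n
      change AdicCompletion.evalₐ (maximalIdeal R) n (endToCompletionRingHom f hf _) = _
      rw [evalₐ_endToCompletionRingHom, AlgHom.commutes, AlgHom.commutes] }

theorem evalₐ_endToCompletion (n : ℕ) (φ : Module.End R E) :
    AdicCompletion.evalₐ (maximalIdeal R) n (endToCompletion f hf φ) = endToQuot f hf n φ :=
  evalₐ_endToCompletionRingHom f hf n φ

theorem endToCompletion_injective : Function.Injective (endToCompletion f hf) := by
  rw [injective_iff_map_eq_zero]
  intro φ hφ
  ext x
  obtain ⟨n, hn⟩ := Groth.Agent.S0311.result R E f hf x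
  have h1 : endToQuot f hf n φ = Ideal.Quotient.mk _ 0 := by
    rw [← evalₐ_endToCompletion, hφ, map_zero, map_zero]
  have := actsAs_of_endToQuot_eq f hf h1 x hn
  rw [this, zero_smul, LinearMap.zero_apply]

theorem endToCompletion_surjective : Function.Surjective (endToCompletion f hf) := by
  classical
  intro a
  obtain ⟨c, rfl⟩ := AdicCompletion.mk_surjective _ _ a
  have hpt := Groth.Agent.S0311.result R E f hf
  -- Cauchy property
  have hc : ∀ {m n : ℕ}, m ≤ n → c m - c n ∈ maximalIdeal R ^ m := by
    intro m n hmn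
    have := SModEq.sub_mem.1 (c.2 hmn)
    rwa [smul_eq_mul, Ideal.mul_top] at this
  -- key: for `n ≥ N(x)`, `c n • x = c N(x) • x`
  have key : ∀ (x : E) (m n : ℕ), (∀ a ∈ maximalIdeal R ^ m, a • x = 0) → m ≤ n →
      c n • x = c m • x := by
    intro x m n hm hmn
    have := hm _ (hc hmn)
    rw [sub_smul, sub_eq_zero] at this
    exact this.symm
  let N : E → ℕ := fun x => Nat.find (hpt x)
  have hN : ∀ x : E, ∀ a ∈ maximalIdeal R ^ N x, a • x = 0 := fun x => Nat.find_spec (hpt x)
  have hNle : ∀ (x : E) (m : ℕ), (∀ a ∈ maximalIdeal R ^ m, a • x = 0) → N x ≤ m :=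
    fun x m hm => Nat.find_min' (hpt x) hm
  have key2 : ∀ (x : E) (m : ℕ), (∀ a ∈ maximalIdeal R ^ m, a • x = 0) →
      c (N x) • x = c m • x := fun x m hm => (key x (N x) m (hN x) (hNle x m hm)).symm
  let φ : Module.End R E :=
    { toFun := fun x => c (N x) • x
      map_add' := by
        intro x y
        have hx : ∀ a ∈ maximalIdeal R ^ (max (N x) (N y)), a • x = 0 :=
          fun a ha => hN x a (Ideal.pow_le_pow_right (le_max_left _ _) ha)
        have hy : ∀ a ∈ maximalIdeal R ^ (max (N x) (N y)), a • y = 0 :=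
          fun a ha => hN y a (Ideal.pow_le_pow_right (le_max_right _ _) ha)
        have hxy : ∀ a ∈ maximalIdeal R ^ (max (N x) (N y)), a • (x + y) = 0 := by
          intro a ha
          rw [smul_add, hx a ha, hy a ha, add_zero]
        rw [key2 x _ hx, key2 y _ hy, key2 (x + y) _ hxy, smul_add]
      map_smul' := by
        intro r x
        have hrx : ∀ a ∈ maximalIdeal R ^ (N x), a • (r • x) = 0 := by
          intro a ha
          rw [smul_comm, hN x a ha, smul_zero]
        rw [key2 (r • x) _ hrx, RingHom.id_apply, smul_comm] }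
  refine ⟨φ, ?_⟩
  apply AdicCompletion.ext_evalₐ
  intro n
  rw [evalₐ_endToCompletion, AdicCompletion.evalₐ_mk]
  apply endToQuot_eq
  intro x hx
  exact key2 x n hx

/-- `End(E) ≃ₐ[R] completion of R`. -/
noncomputable def endEquivCompletion :
    Module.End R E ≃ₐ[R] AdicCompletion (maximalIdeal R) R :=
  AlgEquiv.ofBijective (endToCompletion f hf)
    ⟨endToCompletion_injective f hf, endToCompletion_surjective f hf⟩

end

end Groth.Agent.Lib.Helper1.Matlis
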