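import Groth.Agent.Lib.Helper1.CycExt
import Groth.Agent.Lib.Helper1.CohSubWF
import Groth.Agent.Lib.Helper17.ClImmUnit

/-!
# Coherent subsheaves with maximal annihilator
-/

set_option autoImplicit false
set_option linter.style.haveILetI false
universe u
open CategoryTheory CategoryTheory.Limits AlgebraicGeometry Opposite

namespace Groth.Agent.Lib.Helper1.MaxAnn

open Groth.Agent.Lib.Helper3 Scheme.Modules
open Groth.Agent.Lib.Helper1.CycExt Groth.Agent.Lib.Helper1.CohSubWF
open Groth.Agent.Lib.Helper17.ClImmUnit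

variable {X : Scheme.{u}}

/-- `G` has maximal annihilator: every nonzero quasi-coherent subsheaf has the same annihilator
on every affine open. -/
def IsMaxAnn (G : X.Modules) : Prop :=
  ∀ (G' : X.Modules) (ι' : G' ⟶ G), Mono ι' → G'.IsQuasicoherent → ¬ IsZero G' →
    ∀ (U : X.Opens), IsAffineOpen U → ∀ a : Γ(X, U), (∀ s : Γ(G', U), a • s = 0) →
      ∀ s : Γ(G, U), a • s = 0

theorem exists_max_ann [IsNoetherian X] (N : X.Modules) [N.IsQuasicoherent] [N.IsFiniteType]
    (hN : ¬ IsZero N) :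
    ∃ (G : X.Modules) (ι : G ⟶ N), Mono ι ∧ G.IsQuasicoherent ∧ G.IsFiniteType ∧ ¬ IsZero G ∧
      IsMaxAnn G := by
  haveI := wellFoundedGT_idealSheafData (X := X)
  let 𝒜 : Set X.IdealSheafData := {J | ∃ (G : X.Modules) (ι : G ⟶ N) (hq : G.IsQuasicoherent)
    (hf : G.IsFiniteType), Mono ι ∧ ¬ IsZero G ∧ @annData X G hq hf = J}
  have hne : 𝒜.Nonempty := ⟨annData N, N, 𝟙 N, inferInstance, inferInstance, inferInstance, hN, rfl⟩
  obtain ⟨J, ⟨G, ι, hq, hf, hm, hz, rfl⟩, hmax⟩ :=
    (wellFounded_gt (α := X.IdealSheafData)).has_min 𝒜 hne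
  refine ⟨G, ι, hm, hq, hf, hz, ?_⟩
  intro G' ι' hm' hq' hz' U hU a ha
  haveI := hm
  haveI := hm'
  haveI := hq
  haveI := hf
  haveI := hq'
  haveI hf' : G'.IsFiniteType := QCProps.isFiniteType_of_mono ι'
  have hmem : annData G' ∈ 𝒜 := ⟨G', ι' ≫ ι, hq', hf', mono_comp _ _, hz', rfl⟩
  have hnlt := hmax _ hmem
  have hle : annData G ≤ annData G' := by
    rw [Scheme.IdealSheafData.le_def]
    intro V b hb
    refine Module.mem_annihilator.mpr (fun s => ?_)
    apply QCExact.injective_sections ι' V.1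
    refine Eq.trans ?_ (map_zero _).symm
    rw [Scheme.Modules.Hom.app_smul]
    exact Module.mem_annihilator.mp hb _
  have hge : annData G' ≤ annData G := by
    by_contra hcon
    exact hnlt (lt_of_le_not_ge hle hcon)
  have h1 := Scheme.IdealSheafData.le_def.mp hge ⟨U, hU⟩
  exact fun s => Module.mem_annihilator.mp (h1 (Module.mem_annihilator.mpr ha)) s

/-- in a module with maximal annihilator, the annihilator of a nonzero section over an affine
open is the annihilator of the whole module of sections. -/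
theorem IsMaxAnn.ann_section [IsNoetherian X] {G : X.Modules} [G.IsQuasicoherent]
    (hG : IsMaxAnn G) (U : X.Opens) (hU : IsAffineOpen U) (m : Γ(G, U)) (hm : m ≠ 0)
    (a : Γ(X, U)) (ha : a • m = 0) : ∀ s : Γ(G, U), a • s = 0 :=
  ann_le_of_max G U hU (fun G' ι' h1 h2 h3 => hG G' ι' h1 h2 h3 U hU) m hm a ha

end Groth.Agent.Lib.Helper1.MaxAnn
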