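import Groth.Agent.Lib.Helper1.MaxAnnInt

/-!
# Torsion-freeness of the pullback of a module with maximal annihilator to its support
-/

set_option autoImplicit false
set_option linter.style.haveILetI false
universe u
open CategoryTheory CategoryTheory.Limits AlgebraicGeometry Opposite

namespace Groth.Agent.Lib.Helper1.MaxAnnTF

open Groth.Agent.Lib.Helper3 Scheme.Modules
open Groth.Agent.Lib.Helper1.CycExt Groth.Agent.Lib.Helper1.CohSubWF Groth.Agent.Lib.Helper1.MaxAnn
open Groth.Agent.Lib.Helper17.ClImmUnit Groth.Agent.Lib.Helper1.MaxAnnInt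

variable {X : Scheme.{u}}

/-- a section of `i_* H` over `U`, seen as a section of `H` over `i⁻¹ U`. -/
def asPull {Z : Scheme.{u}} (i : Z ⟶ X) (H : Z.Modules) (U : X.Opens)
    (k : Γ((pushforward i).obj H, U)) : Γ(H, i ⁻¹ᵁ U) := k

theorem push_smul {Z : Scheme.{u}} (i : Z ⟶ X) (H : Z.Modules) (U : X.Opens) (a : Γ(X, U))
    (k : Γ((pushforward i).obj H, U)) :
    asPull i H U (a • k) = (i.app U).hom a • asPull i H U k := rfl

theorem isIso_unit_annData (G : X.Modules) [G.IsQuasicoherent] [G.IsFiniteType] :
    IsIso ((pullbackPushforwardAdjunction (annData G).subschemeι).unit.app G) := by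
  rw [isIso_unit_iff, Scheme.IdealSheafData.ker_subschemeι]
  intro U a ha s
  exact Module.mem_annihilator.mp ha s

theorem tf_pullback [IsNoetherian X] (G : X.Modules) [G.IsQuasicoherent] [G.IsFiniteType]
    (hG : IsMaxAnn G) (U : X.affineOpens)
    (k : Γ((Scheme.Modules.pullback (annData G).subschemeι).obj G, (annData G).subschemeι ⁻¹ᵁ U.1)) (hk : k ≠ 0)
    (b : Γ((annData G).subscheme, (annData G).subschemeι ⁻¹ᵁ U.1)) (hb : b • k = 0) : b = 0 := by
  let i := (annData G).subschemeι
  let u := (pullbackPushforwardAdjunction i).unit.app G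
  haveI : IsIso u := isIso_unit_annData G
  have hbij : Function.Bijective (u.app U.1) :=
    ConcreteCategory.bijective_of_isIso (u.app U.1)
  obtain ⟨m, hm⟩ := hbij.2 k
  obtain ⟨a, ha⟩ := (annData G).subschemeι_app_surjective U b
  have hm0 : m ≠ 0 := by
    rintro rfl
    apply hk
    rw [← hm]
    exact map_zero _
  have h1 : a • m = 0 := by
    apply hbij.1
    refine Eq.trans ?_ (map_zero _).symm
    rw [Scheme.Modules.Hom.app_smul, hm]
    have h2 := push_smul i ((Scheme.Modules.pullback i).obj G) U.1 a k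
    rw [ha] at h2
    exact h2.trans hb
  have h3 := hG.ann_section U.1 U.2 m hm0 a h1
  have h4 : a ∈ (annData G).ideal U := Module.mem_annihilator.mpr h3
  rw [← (annData G).ker_subschemeι_app U] at h4
  rw [← ha]
  exact h4

end Groth.Agent.Lib.Helper1.MaxAnnTF
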