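import Mathlib
import Groth.Agent.Lib.Helper1.DepthOpen1

/-!
# Commutative algebra for torsion-freeness w.r.t. meromorphic functions
-/

set_option autoImplicit false
universe u

namespace Groth.Agent.Lib.Helper1.MeroTF

open Submodule

/-- In a Noetherian local ring whose maximal ideal is not associated, the maximal ideal contains
a nonzerodivisor. -/
theorem exists_nzd_mem_maximalIdeal (A : Type u) [CommRing A] [IsLocalRing A] [IsNoetherianRing A]
    (h : ¬ IsAssociatedPrime (IsLocalRing.maximalIdeal A) A) :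
    ∃ t ∈ IsLocalRing.maximalIdeal A, t ∈ nonZeroDivisors A := by
  by_contra hcon
  push_neg at hcon
  have hsub : ((IsLocalRing.maximalIdeal A : Ideal A) : Set A) ⊆
      ⋃ p ∈ associatedPrimes A A, (p : Set A) := by
    rw [biUnion_associatedPrimes_eq_compl_nonZeroDivisors]
    intro t ht
    exact hcon t ht
  have hfin : (associatedPrimes A A).Finite := associatedPrimes.finite A A
  have hsub' : ((IsLocalRing.maximalIdeal A : Ideal A) : Set A) ⊆
      ⋃ p ∈ ((hfin.toFinset : Finset (Ideal A)) : Set (Ideal A)), ((id p : Ideal A) : Set A) := by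
    simpa using hsub
  rw [Ideal.subset_union_prime (f := id) ⊥ ⊥ (fun p hp _ _ => by
    have : p ∈ associatedPrimes A A := by simpa using hp
    exact this.isPrime)] at hsub'
  obtain ⟨p, hp, hle⟩ := hsub'
  have hp' : p ∈ associatedPrimes A A := by simpa using hp
  have hpr : p.IsPrime := hp'.isPrime
  have : p = IsLocalRing.maximalIdeal A :=
    le_antisymm (IsLocalRing.le_maximalIdeal hpr.ne_top) hle
  exact h (this ▸ hp')

/-- If the maximal ideal of a Noetherian local ring is associated, every nonzerodivisor is a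
unit. -/
theorem isUnit_of_mem_nonZeroDivisors (A : Type u) [CommRing A] [IsLocalRing A]
    [IsNoetherianRing A]
    (h : IsAssociatedPrime (IsLocalRing.maximalIdeal A) A) {s : A}
    (hs : s ∈ nonZeroDivisors A) : IsUnit s := by
  by_contra hns
  have hm : s ∈ IsLocalRing.maximalIdeal A := (IsLocalRing.mem_maximalIdeal s).mpr hns
  obtain ⟨-, r, hr⟩ := (isAssociatedPrime_iff).mp h
  rw [hr, mem_colon_singleton, mem_bot] at hm
  have hr0 : r = 0 := by
    have := hs.2 r (by rw [mul_comm]; exact hm)
    exact this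
  rw [hr0] at hr
  have h1 : (1 : A) ∈ IsLocalRing.maximalIdeal A := by
    rw [hr, mem_colon_singleton, mem_bot, smul_zero]
  exact (IsLocalRing.maximalIdeal.isMaximal A).ne_top ((Ideal.eq_top_iff_one _).mpr h1)

/-- Regularity of an element in a localization at a prime of a Noetherian ring spreads to a
neighbourhood. -/
theorem nzd_spread (R : Type u) [CommRing R] [IsNoetherianRing R] (p : Ideal R) [p.IsPrime]
    (Sp : Type u) [CommRing Sp] [Algebra R Sp] [IsLocalization.AtPrime Sp p] (f : R)
    (hf : algebraMap R Sp f ∈ nonZeroDivisors Sp) :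
    ∃ a ∉ p, ∀ (q : Ideal R) [q.IsPrime] (Sq : Type u) [CommRing Sq] [Algebra R Sq]
      [IsLocalization.AtPrime Sq q], a ∉ q → algebraMap R Sq f ∈ nonZeroDivisors Sq := by
  -- the annihilator of `f`
  let K : Ideal R := LinearMap.ker (LinearMap.lsmul R R f)
  have hKfg : K.FG := IsNoetherian.noetherian K
  have hK : ∀ k ∈ K, ∃ s ∉ p, s * k = 0 := by
    intro k hk
    have hfk : f * k = 0 := hk
    have h0 : algebraMap R Sp k = 0 := by
      apply hf.2
      rw [← map_mul, mul_comm, hfk, map_zero]
    obtain ⟨s, hs⟩ := (IsLocalization.map_eq_zero_iff p.primeCompl Sp k).mp h0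
    exact ⟨s.1, s.2, hs⟩
  have hex : ∃ a ∉ p, ∀ k ∈ K, a * k = 0 := by
    haveI : Module.Finite R K := Module.Finite.iff_fg.mpr hKfg
    obtain ⟨a, hap, ha⟩ := Groth.Agent.Lib.Helper1.DepthOpen.exists_annihilator_notMem
      (R := R) K p (fun k => by
        obtain ⟨s, hs, hsk⟩ := hK k.1 k.2
        exact ⟨s, hs, Subtype.ext hsk⟩)
    exact ⟨a, hap, fun k hk => congrArg Subtype.val (ha ⟨k, hk⟩)⟩
  obtain ⟨a, hap, ha⟩ := hex
  refine ⟨a, hap, fun q _ Sq _ _ _ haq => ?_⟩
  rw [mem_nonZeroDivisors_iff_right]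
  intro w hw
  obtain ⟨r, s, rfl⟩ := IsLocalization.exists_mk'_eq q.primeCompl w
  have h1 : algebraMap R Sq (r * f) = 0 := by
    have h2 : IsLocalization.mk' Sq r s * algebraMap R Sq f * algebraMap R Sq s.1 = 0 := by
      rw [hw, zero_mul]
    rw [mul_right_comm, IsLocalization.mk'_spec] at h2
    rw [map_mul]; exact h2
  obtain ⟨u, hu⟩ := (IsLocalization.map_eq_zero_iff q.primeCompl Sq _).mp h1
  have hK' : u.1 * r ∈ K := by
    show f * (u.1 * r) = 0
    rw [← hu]; ring
  have h3 := ha _ hK'
  rw [IsLocalization.mk'_eq_zero_iff]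
  exact ⟨⟨a, haq⟩ * u, by simpa [mul_assoc] using h3⟩

end Groth.Agent.Lib.Helper1.MeroTF
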