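import Mathlib
import Groth.Prelude.Def_MeroDiv
import Groth.Agent.Lib.Helper1.MeroTF1
import Groth.Agent.Lib.Helper17.AssPt
import Groth.Agent.Lib.Helper3.QCProps
import Groth.Agent.Lib.Helper3.ModBasis

/-!
# Torsion-freeness of a quasi-coherent module in terms of associated points
-/

set_option autoImplicit false
universe u
open CategoryTheory AlgebraicGeometry TopologicalSpace Opposite

namespace Groth.Agent.Lib.Helper1.MeroTF

open Groth.Agent.Lib.Helper3 Groth.Agent.Lib.Helper17.AssPt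

variable {X : Scheme.{u}}

theorem toMerFun_eq_zero_iff (F : X.Modules) (U : X.Opens) (m : Γ(F, U)) :
    Mero.toMerFun F U m = 0 ↔
      ∀ x : U, ∃ s ∈ Mero.regStalk X x.1, s • F.presheaf.germ U x.1 x.2 m = 0 := by
  constructor
  · intro h x
    have h1 : (Mero.toMerFun F U m).1 x = 0 := by rw [h]; rfl
    rw [Mero.toMerFun_apply, ← LocalizedModule.zero_mk 1, LocalizedModule.mk_eq] at h1
    obtain ⟨u, hu⟩ := h1
    refine ⟨u.1, u.2, ?_⟩
    simpa [Submonoid.smul_def] using hu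
  · intro h
    refine Subtype.ext (funext fun x => ?_)
    obtain ⟨s, hs, hsm⟩ := h x
    show LocalizedModule.mk (F.presheaf.germ U x.1 x.2 m) 1 = 0
    rw [← LocalizedModule.zero_mk 1, LocalizedModule.mk_eq]
    exact ⟨⟨s, hs⟩, by simpa [Submonoid.smul_def] using hsm⟩

theorem mono_toMer_iff (F : X.Modules) :
    Mono (Mero.toMer F) ↔ ∀ (U : X.Opens) (m : Γ(F, U)),
      (∀ x : U, ∃ s ∈ Mero.regStalk X x.1, s • F.presheaf.germ U x.1 x.2 m = 0) → m = 0 := by
  rw [QCProps.mono_iff_app_injective]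
  constructor
  · intro h U m hm
    apply h U
    rw [map_zero]
    exact (toMerFun_eq_zero_iff F U m).mpr hm
  · intro h U
    rw [injective_iff_map_eq_zero]
    intro m hm
    exact h U m ((toMerFun_eq_zero_iff F U m).mp hm)

theorem eq_zero_of_ass [IsLocallyNoetherian X] (F : X.Modules) [F.IsQuasicoherent]
    (hAss : ∀ x : X, Curv2.IsAssPoint F x →
      IsAssociatedPrime (IsLocalRing.maximalIdeal (X.presheaf.stalk x)) (X.presheaf.stalk x))
    (U : X.Opens) (m : Γ(F, U))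
    (hm : ∀ x : U, ∃ s ∈ Mero.regStalk X x.1, s • F.presheaf.germ U x.1 x.2 m = 0) : m = 0 := by
  refine QS.eq_zero_of_subsingleton_stalk F U m (fun x hx => ?_)
  by_contra hne
  obtain ⟨_, ⟨W, hW, rfl⟩, hxW, hWU⟩ :=
    X.isBasis_affineOpens.exists_subset_of_mem_open hx U.2
  have hWU' : W ≤ U := hWU
  set m' : Γ(F, W) := F.presheaf.map (homOfLE hWU').op m with hm'
  have hgerm : ∀ (y : X) (hy : y ∈ W), F.presheaf.germ W y hy m' =
      F.presheaf.germ U y (hWU' hy) m := fun y hy =>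
    TopCat.Presheaf.germ_res_apply F.presheaf (homOfLE hWU') y hy m
  have hne' : F.presheaf.germ W x hxW m' ≠ 0 := by rw [hgerm]; exact hne
  obtain ⟨z, hz, hzass, -, hzann⟩ := exists_assPoint_specializes hW F x hxW m' hne'
  obtain ⟨s, hs, hsm⟩ := hm ⟨z, hWU' hz⟩
  haveI : IsNoetherianRing (X.presheaf.stalk z) := inferInstance
  have hu : IsUnit s := isUnit_of_mem_nonZeroDivisors _ (hAss z hzass)
    (Mero.regStalk_le_nonZeroDivisors z hs)
  have h0 : F.presheaf.germ W z hz m' = 0 := by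
    rw [hgerm]
    exact eq_zero_of_isUnit_smul hu hsm
  obtain ⟨c, hc, hcm⟩ := (QS.germ_eq_zero_iff hW F z hz m').mp h0
  exact hc (hzann c hcm)

theorem ass_of_torsionFree [IsLocallyNoetherian X] (F : X.Modules) [F.IsQuasicoherent]
    (hTF : ∀ (U : X.Opens) (m : Γ(F, U)),
      (∀ x : U, ∃ s ∈ Mero.regStalk X x.1, s • F.presheaf.germ U x.1 x.2 m = 0) → m = 0)
    (x : X) (hx : Curv2.IsAssPoint F x) :
    IsAssociatedPrime (IsLocalRing.maximalIdeal (X.presheaf.stalk x)) (X.presheaf.stalk x) := by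
  by_contra hna
  obtain ⟨_, ⟨W, hW, rfl⟩, hxW, -⟩ :=
    X.isBasis_affineOpens.exists_subset_of_mem_open (Set.mem_univ x) isOpen_univ
  haveI : IsNoetherianRing Γ(X, W) := IsLocallyNoetherian.component_noetherian ⟨W, hW⟩
  haveI : IsNoetherianRing (X.presheaf.stalk x) := inferInstance
  obtain ⟨t, htm, htnzd⟩ := exists_nzd_mem_maximalIdeal _ hna
  obtain ⟨-, ξ, hξ⟩ := isAssociatedPrime_iff.mp hx
  have htξ : t • ξ = 0 := by
    rw [hξ, Submodule.mem_colon_singleton, Submodule.mem_bot] at htm; exact htm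
  have hξ0 : ξ ≠ 0 := by
    rintro rfl
    have h1 : (1 : X.presheaf.stalk x) ∈ IsLocalRing.maximalIdeal (X.presheaf.stalk x) := by
      rw [hξ, Submodule.mem_colon_singleton, Submodule.mem_bot, smul_zero]
    exact (IsLocalRing.maximalIdeal.isMaximal _).ne_top ((Ideal.eq_top_iff_one _).mpr h1)
  obtain ⟨c, m, hc, hcm⟩ := QS.exists_smul_eq_germ hW F x hxW ξ
  have hcu : IsUnit (X.presheaf.germ W x hxW c) := isUnit_germ_of_notMem hW x hxW c hc
  letI algx : Algebra Γ(X, W) (X.presheaf.stalk x) :=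
    TopCat.Presheaf.algebra_section_stalk X.presheaf ⟨x, hxW⟩
  haveI locx : IsLocalization.AtPrime (X.presheaf.stalk x)
      (hW.primeIdealOf ⟨x, hxW⟩).asIdeal := hW.isLocalization_stalk ⟨x, hxW⟩
  obtain ⟨⟨f, c'⟩, hfc⟩ := IsLocalization.surj
    (hW.primeIdealOf ⟨x, hxW⟩).asIdeal.primeCompl (S := X.presheaf.stalk x) t
  have hfc' : t * X.presheaf.germ W x hxW c'.1 = X.presheaf.germ W x hxW f := hfc
  have hc'u : IsUnit (X.presheaf.germ W x hxW c'.1) := isUnit_germ_of_notMem hW x hxW c'.1 c'.2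
  have hfnzd : X.presheaf.germ W x hxW f ∈ nonZeroDivisors (X.presheaf.stalk x) := by
    rw [← hfc']
    exact Submonoid.mul_mem _ htnzd hc'u.mem_nonZeroDivisors
  have hfm : F.presheaf.germ W x hxW (f • m) = 0 := by
    rw [Mero.germ_smul, ← hfc', ← hcm, smul_smul, mul_comm t, mul_right_comm, mul_smul, htξ,
      smul_zero]
  obtain ⟨a, hap, ha⟩ := nzd_spread Γ(X, W) (hW.primeIdealOf ⟨x, hxW⟩).asIdeal
    (X.presheaf.stalk x) f hfnzd
  obtain ⟨c2, hc2, hc2m⟩ := (QS.germ_eq_zero_iff hW F x hxW (f • m)).mp hfm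
  have hac2 : a * c2 ∉ (hW.primeIdealOf ⟨x, hxW⟩).asIdeal := fun h =>
    ((hW.primeIdealOf ⟨x, hxW⟩).isPrime.mem_or_mem h).elim hap hc2
  have hVW : X.basicOpen (a * c2) ≤ W := X.basicOpen_le _
  have hxV : x ∈ X.basicOpen (a * c2) :=
    (mem_basicOpen_iff_notMem_primeIdealOf hW x hxW (a * c2)).mpr hac2
  have hnot : ∀ y (hy : y ∈ X.basicOpen (a * c2)),
      a ∉ (hW.primeIdealOf ⟨y, hVW hy⟩).asIdeal ∧ c2 ∉ (hW.primeIdealOf ⟨y, hVW hy⟩).asIdeal := by
    intro y hy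
    have h1 := (mem_basicOpen_iff_notMem_primeIdealOf hW y (hVW hy) (a * c2)).mp hy
    exact ⟨fun h => h1 (Ideal.mul_mem_right _ _ h), fun h => h1 (Ideal.mul_mem_left _ _ h)⟩
  have hreg : X.presheaf.map (homOfLE hVW).op f ∈ Mero.regSub X (X.basicOpen (a * c2)) := by
    intro y
    show X.presheaf.germ _ y.1 y.2 (X.presheaf.map (homOfLE hVW).op f) ∈ _
    rw [TopCat.Presheaf.germ_res_apply]
    letI algy : Algebra Γ(X, W) (X.presheaf.stalk y.1) :=
      TopCat.Presheaf.algebra_section_stalk X.presheaf ⟨y.1, hVW y.2⟩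
    haveI locy : IsLocalization.AtPrime (X.presheaf.stalk y.1)
        (hW.primeIdealOf ⟨y.1, hVW y.2⟩).asIdeal := hW.isLocalization_stalk ⟨y.1, hVW y.2⟩
    exact ha (hW.primeIdealOf ⟨y.1, hVW y.2⟩).asIdeal (X.presheaf.stalk y.1) (hnot y.1 y.2).1
  have hmV : F.presheaf.map (homOfLE hVW).op m = 0 := by
    refine hTF _ _ (fun y => ⟨_, Mero.germ_mem_regStalk y hreg, ?_⟩)
    rw [TopCat.Presheaf.germ_res_apply, TopCat.Presheaf.germ_res_apply, ← Mero.germ_smul]
    exact (QS.germ_eq_zero_iff hW F y.1 (hVW y.2) (f • m)).mpr ⟨c2, (hnot y.1 y.2).2, hc2m⟩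
  have hgm : F.presheaf.germ W x hxW m = 0 := by
    rw [← TopCat.Presheaf.germ_res_apply F.presheaf (homOfLE hVW) x hxV m, hmV, map_zero]
  rw [hgm] at hcm
  exact hξ0 (eq_zero_of_isUnit_smul hcu hcm)

end Groth.Agent.Lib.Helper1.MeroTF
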