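import Mathlib
import Groth.Prelude
import Groth.Agent.Lib.Helper1.KrullPt
import Groth.Agent.Lib.Helper7.ArSurfDegB
import Groth.Agent.Lib.Helper25.ModelGamma
import Groth.Agent.Lib.Helper17.EffCartMod
import Groth.Agent.S1700
import Groth.Agent.S2821

/-!
# Components of the closed fibre of a regular model are Cartier divisors (helper1)

For `X` flat, Noetherian and regular over a discrete valuation ring `R`, a vertical prime divisor
`Γ` whose support is an irreducible component of the closed fibre is an effective Cartier divisor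
(Krull's principal ideal theorem + factoriality of regular local rings, via S1700).  Consequences:
off-diagonal intersection numbers (via helper7's `ArSurfDegB`) and connectedness of the closed fibre.
-/

set_option autoImplicit false
set_option linter.unusedSectionVars false
set_option linter.style.haveILetI false
universe u
open CategoryTheory CategoryTheory.Limits AlgebraicGeometry TopologicalSpace Opposite IsLocalRing

noncomputable section

namespace Groth.Agent.Lib.Helper1.ModelComp

/-- Any irreducible subset of `F` is contained in a maximal irreducible subset of `F`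
(copied from helper6's `GoingDownNormal`). -/
lemma exists_maximal_irreducible_subset {X : Type*} [TopologicalSpace X] (F T : Set X)
    (hT : IsIrreducible T) (hTF : T ⊆ F) :
    ∃ Γ, Maximal (fun S : Set X => IsIrreducible S ∧ S ⊆ F) Γ ∧ T ⊆ Γ := by
  obtain ⟨m, hsm, hm⟩ := zorn_subset_nonempty {t : Set X | IsPreirreducible t ∧ t ⊆ F}
    (fun c hc hcc _ => ⟨⋃₀ c, ⟨fun u v hu hv ⟨y, hy, hyu⟩ ⟨x, hx, hxv⟩ =>
          let ⟨p, hpc, hyp⟩ := Set.mem_sUnion.1 hy
          let ⟨q, hqc, hxq⟩ := Set.mem_sUnion.1 hx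
          Or.casesOn (hcc.total hpc hqc)
            (fun hpq : p ⊆ q =>
              let ⟨x, hxp, hxuv⟩ := (hc hqc).1 u v hu hv ⟨y, hpq hyp, hyu⟩ ⟨x, hxq, hxv⟩
              ⟨x, Set.mem_sUnion_of_mem hxp hqc, hxuv⟩)
            fun hqp : q ⊆ p =>
            let ⟨x, hxp, hxuv⟩ := (hc hpc).1 u v hu hv ⟨y, hyp, hyu⟩ ⟨x, hqp hxq, hxv⟩
            ⟨x, Set.mem_sUnion_of_mem hxp hpc, hxuv⟩,
          Set.sUnion_subset fun t ht => (hc ht).2⟩,
          fun _ hxc => Set.subset_sUnion_of_mem hxc⟩) T ⟨hT.isPreirreducible, hTF⟩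
  refine ⟨m, ⟨⟨⟨hT.nonempty.mono hsm, hm.prop.1⟩, hm.prop.2⟩, ?_⟩, hsm⟩
  intro S hS hmS
  exact hm.le_of_ge ⟨hS.1.isPreirreducible, hS.2⟩ hmS

section Germ

variable {R : Type u} [CommRing R] [IsDomain R]

/-- over a domain, nonzero scalars have nonzero germs on a flat scheme. -/
theorem germ_toGlobal_ne_zero {X : Scheme.{u}} (p : X ⟶ Spec (CommRingCat.of R)) [Flat p]
    (ξ : X) (r : R) (hr : r ≠ 0) :
    (X.presheaf.germ ⊤ ξ trivial).hom (Coh.toGlobal p r) ≠ 0 := by
  set y := p ξ with hy
  -- the germ of `r` at `y` is nonzero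
  have h1 : ((Spec (CommRingCat.of R)).presheaf.germ ⊤ y trivial).hom
      ((Scheme.ΓSpecIso (CommRingCat.of R)).inv.hom r) ≠ 0 := by
    have h := Spec.algebraMap_stalkIso_inv (R := CommRingCat.of R) y
    have h' := congrArg (fun φ => φ.hom r) h
    simp only [CommRingCat.hom_comp, CommRingCat.hom_ofHom, RingHom.coe_comp,
      Function.comp_apply] at h'
    rw [← h']
    intro h0
    have hinj : Function.Injective (Spec.stalkIso (CommRingCat.of R) y).inv.hom :=
      (ConcreteCategory.bijective_of_isIso (Spec.stalkIso (CommRingCat.of R) y).inv).1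
    have h2 : algebraMap R (Localization.AtPrime y.asIdeal) r = 0 := by
      apply hinj
      rw [map_zero]
      exact h0
    have h3 : Function.Injective (algebraMap R (Localization.AtPrime y.asIdeal)) :=
      IsLocalization.injective _ y.asIdeal.primeCompl_le_nonZeroDivisors
    exact hr (h3 (h2.trans (map_zero _).symm))
  -- the stalk map is injective
  have hflat : (p.stalkMap ξ).hom.Flat := Flat.stalkMap p ξ
  letI := (p.stalkMap ξ).hom.toAlgebra
  haveI : Module.Flat ((Spec (CommRingCat.of R)).presheaf.stalk (p ξ)) (X.presheaf.stalk ξ) :=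
    hflat
  haveI : IsLocalHom (algebraMap ((Spec (CommRingCat.of R)).presheaf.stalk (p ξ))
      (X.presheaf.stalk ξ)) := inferInstanceAs (IsLocalHom (p.stalkMap ξ).hom)
  haveI : Module.FaithfullyFlat ((Spec (CommRingCat.of R)).presheaf.stalk (p ξ))
      (X.presheaf.stalk ξ) := Module.FaithfullyFlat.of_flat_of_isLocalHom
  have hinj : Function.Injective (p.stalkMap ξ).hom :=
    FaithfulSMul.algebraMap_injective _ _
  have h2 := Scheme.Hom.germ_stalkMap p ⊤ ξ trivial
  have h3 := congrArg (fun φ => φ.hom ((Scheme.ΓSpecIso (CommRingCat.of R)).inv.hom r)) h2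
  simp only [CommRingCat.hom_comp, RingHom.coe_comp, Function.comp_apply] at h3
  intro h0
  apply h1
  apply hinj
  rw [map_zero, h3]
  exact h0

end Germ

variable (R : Type u) [CommRing R] [IsDomain R] [IsDiscreteValuationRing R]
variable (X : Over (Spec (CommRingCat.of R)))

/-- the closed fibre is the zero locus of (the pullback of) a uniformizer. -/
theorem specialFibreSet_eq (ϖ : R) (hϖ : Irreducible ϖ) :
    Models.specialFibreSet R X = ((X.left.basicOpen (Coh.toGlobal X.hom ϖ) : Set X.left))ᶜ := by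
  ext x
  have h1 : x ∈ X.left.basicOpen (Coh.toGlobal X.hom ϖ) ↔
      ϖ ∉ (X.hom x).asIdeal := by
    have h : X.left.basicOpen (Coh.toGlobal X.hom ϖ) =
        X.hom ⁻¹ᵁ (Spec (CommRingCat.of R)).basicOpen
          ((Scheme.ΓSpecIso (CommRingCat.of R)).inv.hom ϖ) := by
      rw [Scheme.preimage_basicOpen_top]
      rfl
    rw [h, basicOpen_eq_of_affine]
    rfl
  rw [Set.mem_compl_iff, SetLike.mem_coe, h1, not_not]
  change X.hom x = closedPoint R ↔ _
  constructor
  · intro h
    rw [h]
    change ϖ ∈ maximalIdeal R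
    rw [hϖ.maximalIdeal_eq]
    exact Ideal.mem_span_singleton_self ϖ
  · intro h
    apply PrimeSpectrum.ext
    change (X.hom x).asIdeal = maximalIdeal R
    have hle : maximalIdeal R ≤ (X.hom x).asIdeal := by
      rw [hϖ.maximalIdeal_eq, Ideal.span_singleton_le_iff_mem]
      exact h
    exact ((maximalIdeal.isMaximal R).eq_of_le (X.hom x).isPrime.ne_top hle).symm

variable {R X}

theorem maximal_of_mem {Z : Set X.left} (hZ : Z ∈ Models.fibreComponents R X) :
    Maximal (fun S : Set X.left => IsIrreducible S ∧ S ⊆ Models.specialFibreSet R X) Z := hZ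

/-- the support of the kernel of a vertical prime divisor is its range. -/
theorem support_ker (Γ : ArSurf.VertComp R X) :
    (Γ.ι.ker.support : Set X.left) = Set.range Γ.ι := by
  rw [Scheme.Hom.support_ker]
  exact Γ.ι.isClosedEmbedding.isClosed_range.closure_eq

/-- the generic point of a vertical prime divisor -/
theorem closure_genPt (Γ : ArSurf.VertComp R X) :
    closure {Γ.ι (genericPoint Γ.curve.left)} = Set.range Γ.ι := by
  have h := (genericPoint_spec Γ.curve.left).image Γ.ι.continuous
  rw [Set.image_univ] at h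
  have h2 := h.def
  rw [Γ.ι.isClosedEmbedding.isClosed_range.closure_eq] at h2
  exact h2

/-- a generic point of a component of the closed fibre is a maximal point of the closed
fibre. -/
theorem eq_of_specializes_of_closure_eq (Γ : ArSurf.VertComp R X)
    (hΓ : Set.range Γ.ι ∈ Models.fibreComponents R X) (ξ : X.left)
    (hξ : closure {ξ} = Set.range Γ.ι) (x' : X.left)
    (h1 : x' ⤳ ξ) (h2 : x' ∈ Models.specialFibreSet R X) : x' = ξ := by
  have hirr : IsIrreducible (closure {x'}) := isIrreducible_singleton.closure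
  have hsub : closure {x'} ⊆ Models.specialFibreSet R X :=
    (Models.isClosed_specialFibreSet R X).closure_subset_iff.mpr (Set.singleton_subset_iff.mpr h2)
  have hle : Set.range Γ.ι ⊆ closure {x'} := by
    rw [← hξ]
    exact (isClosed_closure.closure_subset_iff).mpr
      (Set.singleton_subset_iff.mpr (specializes_iff_mem_closure.mp h1))
  have hge : closure {x'} ⊆ Set.range Γ.ι := (maximal_of_mem hΓ).le_of_ge ⟨hirr, hsub⟩ hle
  have h3 : ξ ⤳ x' := by
    rw [specializes_iff_mem_closure, hξ]
    exact hge (subset_closure rfl)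
  exact (h1.antisymm h3).eq

/-- a component of the closed fibre of a flat regular Noetherian `R`-scheme is an effective Cartier
divisor. -/
theorem isEffCartierIdeal_ker [Flat X.hom] [IsNoetherian X.left]
    (hreg : ∀ x : X.left, IsRegularLocalRing (X.left.presheaf.stalk x))
    (Γ : ArSurf.VertComp R X) (hΓ : Set.range Γ.ι ∈ Models.fibreComponents R X) :
    BlowUp.IsEffCartierIdeal Γ.ι.ker := by
  haveI hEi : IsIntegral Γ.ι.ker.subscheme :=
    Groth.Agent.Lib.Helper7.ArSurfDeg.isIntegral_ker_subscheme Γ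
  refine Groth.Agent.S1700.result X.left Γ.ι.ker ?_ ?_ ?_
  · -- no embedded points
    intro z hz z' hz'
    obtain ⟨hprime, m, hm⟩ := hz
    have hm0 : m ≠ 0 := by
      rintro rfl
      have : Submodule.colon (⊥ : Submodule (Γ.ι.ker.subscheme.presheaf.stalk z)
          (Γ.ι.ker.subscheme.presheaf.stalk z)) {0} = ⊤ := by
        ext a
        simp [Submodule.mem_colon_singleton]
      rw [this, Ideal.radical_top] at hm
      exact hprime.ne_top hm
    have hcol : Submodule.colon (⊥ : Submodule (Γ.ι.ker.subscheme.presheaf.stalk z)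
        (Γ.ι.ker.subscheme.presheaf.stalk z)) {m} = ⊥ := by
      ext a
      simp only [Submodule.mem_colon_singleton, Submodule.mem_bot, smul_eq_mul, mul_eq_zero]
      constructor
      · rintro (h | h)
        · exact h
        · exact absurd h hm0
      · intro h
        exact Or.inl h
    rw [hcol] at hm
    have hbot : IsLocalRing.maximalIdeal (Γ.ι.ker.subscheme.presheaf.stalk z) = ⊥ := by
      rw [hm]
      exact (Ideal.isPrime_bot).radical
    have hfield : IsField (Γ.ι.ker.subscheme.presheaf.stalk z) :=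
      IsLocalRing.isField_iff_maximalIdeal_eq.mpr hbot
    have hdim0 : ringKrullDim (Γ.ι.ker.subscheme.presheaf.stalk z) = 0 :=
      ringKrullDim_eq_zero_of_isField hfield
    rw [AlgebraicGeometry.ringKrullDim_stalk_eq_coheight] at hdim0
    have hco : Order.coheight z = 0 := by exact_mod_cast hdim0
    have hmax : IsMax z := Order.coheight_eq_zero.mp hco
    have h1 : z ≤ z' := Scheme.le_iff_specializes.mpr hz'
    have h2 : z' ≤ z := hmax h1
    have h3 : z ⤳ z' := Scheme.le_iff_specializes.mp h2
    exact (hz'.antisymm h3).eq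
  · -- codimension one
    intro z hzmax
    have hη : genericPoint Γ.ι.ker.subscheme = z := hzmax _ (genericPoint_specializes z)
    obtain ⟨ϖ, hϖ⟩ := IsDiscreteValuationRing.exists_irreducible R
    have hcl : closure {Γ.ι.ker.subschemeι z} = Set.range Γ.ι := by
      have h := (genericPoint_spec Γ.ι.ker.subscheme).image Γ.ι.ker.subschemeι.continuous
      rw [Set.image_univ, hη] at h
      have h2 := h.def
      rw [Γ.ι.ker.subschemeι.isClosedEmbedding.isClosed_range.closure_eq,
        Scheme.IdealSheafData.range_subschemeι, support_ker] at h2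
      exact h2
    have hξF : Γ.ι.ker.subschemeι z ∈ Models.specialFibreSet R X := by
      apply (maximal_of_mem hΓ).prop.2
      rw [← hcl]
      exact subset_closure rfl
    haveI := hreg (Γ.ι.ker.subschemeι z)
    haveI : IsDomain (X.left.presheaf.stalk (Γ.ι.ker.subschemeι z)) :=
      (Groth.Agent.S2821.result (X.left.presheaf.stalk (Γ.ι.ker.subschemeι z))).1
    refine Groth.Agent.Lib.Helper1.KrullPt.ringKrullDim_stalk_eq_one (Γ.ι.ker.subschemeι z)
      (Coh.toGlobal X.hom ϖ) ?_ ?_ ?_
    · intro h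
      rw [specialFibreSet_eq R X ϖ hϖ] at hξF
      exact hξF h
    · intro x' h1 h2
      apply eq_of_specializes_of_closure_eq Γ hΓ _ hcl x' h1
      rw [specialFibreSet_eq R X ϖ hϖ]
      exact h2
    · exact germ_toGlobal_ne_zero X.hom _ ϖ hϖ.ne_zero
  · intro x _
    haveI := hreg x
    exact Groth.Agent.S2821.result (X.left.presheaf.stalk x)

/-- the generic point of a component does not lie on a different component. -/
theorem genPt_notMem_of_ne (Γ Γ' : ArSurf.VertComp R X)
    (hΓ : Set.range Γ.ι ∈ Models.fibreComponents R X)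
    (hΓ' : Set.range Γ'.ι ∈ Models.fibreComponents R X)
    (hne : Set.range Γ.ι ≠ Set.range Γ'.ι) :
    Γ.ι (genericPoint Γ.curve.left) ∉ (Γ'.ι.ker.support : Set X.left) := by
  rw [support_ker]
  intro h
  apply hne
  have hle : Set.range Γ.ι ⊆ Set.range Γ'.ι := by
    rw [← closure_genPt Γ]
    exact (Γ'.ι.isClosedEmbedding.isClosed_range.closure_subset_iff).mpr
      (Set.singleton_subset_iff.mpr h)
  exact Set.Subset.antisymm hle ((maximal_of_mem hΓ).le_of_ge (maximal_of_mem hΓ').prop hle)

variable (R X)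

/-- off-diagonal intersection numbers of the components of the closed fibre. -/
theorem inter_offDiag (hproper : IsProper X.hom) [Flat X.hom]
    (hreg : ∀ x : X.left, IsRegularLocalRing (X.left.presheaf.stalk x))
    {n : ℕ} (Γ : Fin n → ArSurf.VertComp R X) (hΓ : Models.IsComponentList R X Γ)
    (L : Fin n → X.left.Modules)
    (hL : ∀ i, ClSub.IsInverseOf (L i) (ClSub.idealMod (Γ i).ι.ker)) (i j : Fin n) (hij : i ≠ j) :
    0 ≤ ArSurf.inter R X (L j) (Γ i) ∧
      (ArSurf.inter R X (L j) (Γ i) = 0 ↔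
        Disjoint (Set.range ((Γ i).ι.base : (Γ i).curve.left → X.left))
          (Set.range ((Γ j).ι.base : (Γ j).curve.left → X.left))) := by
  haveI := hproper
  haveI : IsLocallyNoetherian X.left := LocallyOfFiniteType.isLocallyNoetherian X.hom
  haveI : CompactSpace X.left := QuasiCompact.compactSpace_of_compactSpace X.hom
  haveI : IsNoetherian X.left := {}
  have hmem : ∀ k, Set.range (Γ k).ι ∈ Models.fibreComponents R X := fun k => by
    rw [← hΓ.2]
    exact ⟨k, rfl⟩
  have hCart := isEffCartierIdeal_ker hreg (Γ j) (hmem j)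
  have hIE : PicF.IsInvertible (ClSub.idealMod (Γ j).ι.ker) :=
    (Groth.Agent.Lib.Helper17.EffCartMod.isInvertible_idealMod_iff _).mpr hCart
  have hgen := genPt_notMem_of_ne (Γ i) (Γ j) (hmem i) (hmem j) (fun h => hij (hΓ.1 h))
  have h := Groth.Agent.Lib.Helper7.ArSurfDegB.inter_nonneg_and_eq_zero_iff hproper (Γ i)
    (Γ j).ι.ker hIE hgen (L j) (hL j)
  rw [support_ker] at h
  exact h

/-- the intersection graph of the closed fibre is connected when the closed fibre is. -/
theorem exists_inter_ne_zero (hproper : IsProper X.hom) [Flat X.hom]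
    (hreg : ∀ x : X.left, IsRegularLocalRing (X.left.presheaf.stalk x))
    (hconn : _root_.IsPreconnected (Models.specialFibreSet R X))
    {n : ℕ} (Γ : Fin n → ArSurf.VertComp R X) (hΓ : Models.IsComponentList R X Γ)
    (L : Fin n → X.left.Modules)
    (hL : ∀ i, ClSub.IsInverseOf (L i) (ClSub.idealMod (Γ i).ι.ker))
    (I : Finset (Fin n)) (hI : I.Nonempty) (hI' : I ≠ Finset.univ) :
    ∃ i ∈ I, ∃ j ∉ I, ArSurf.inter R X (L j) (Γ i) ≠ 0 := by
  by_contra hcon
  push Not at hcon
  have hmem : ∀ k, Set.range (Γ k).ι ∈ Models.fibreComponents R X := fun k => by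
    rw [← hΓ.2]
    exact ⟨k, rfl⟩
  have hdisj : ∀ i ∈ I, ∀ j ∉ I, Disjoint (Set.range (Γ i).ι) (Set.range (Γ j).ι) := by
    intro i hi j hj
    have hij : i ≠ j := fun h => hj (h ▸ hi)
    exact ((inter_offDiag R X hproper hreg Γ hΓ L hL i j hij).2).mp (hcon i hi j hj)
  set A : Set X.left := ⋃ i ∈ I, Set.range (Γ i).ι with hA
  set B : Set X.left := ⋃ j ∈ Iᶜ, Set.range (Γ j).ι with hB
  have hAc : IsClosed A :=
    I.finite_toSet.isClosed_biUnion fun i _ => (Γ i).ι.isClosedEmbedding.isClosed_range
  have hBc : IsClosed B :=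
    (Iᶜ).finite_toSet.isClosed_biUnion fun i _ => (Γ i).ι.isClosedEmbedding.isClosed_range
  have hcov : Models.specialFibreSet R X ⊆ A ∪ B := by
    intro x hx
    obtain ⟨Z, hZ, hxZ⟩ := exists_maximal_irreducible_subset (Models.specialFibreSet R X) {x}
      isIrreducible_singleton (Set.singleton_subset_iff.mpr hx)
    have hZ' : Z ∈ Models.fibreComponents R X := hZ
    rw [← hΓ.2] at hZ'
    obtain ⟨k, rfl⟩ := hZ'
    by_cases hk : k ∈ I
    · exact Or.inl (Set.mem_biUnion hk (hxZ rfl))
    · exact Or.inr (Set.mem_biUnion (Finset.mem_compl.mpr hk) (hxZ rfl))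
  obtain ⟨i₀, hi₀⟩ := hI
  obtain ⟨j₀, hj₀⟩ : ∃ j, j ∉ I := by
    by_contra h
    push Not at h
    exact hI' (Finset.eq_univ_iff_forall.mpr h)
  have hne : ∀ k, ∃ y, y ∈ Set.range (Γ k).ι ∧ y ∈ Models.specialFibreSet R X := by
    intro k
    haveI : Nonempty (Γ k).curve.left := inferInstance
    obtain ⟨c⟩ := ‹Nonempty (Γ k).curve.left›
    exact ⟨(Γ k).ι c, ⟨c, rfl⟩, (maximal_of_mem (hmem k)).prop.2 ⟨c, rfl⟩⟩
  obtain ⟨y₁, hy₁, hy₁F⟩ := hne i₀
  obtain ⟨y₂, hy₂, hy₂F⟩ := hne j₀
  obtain ⟨w, -, hwA, hwB⟩ := isPreconnected_closed_iff.mp hconn A B hAc hBc hcov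
    ⟨y₁, hy₁F, Set.mem_biUnion hi₀ hy₁⟩
    ⟨y₂, hy₂F, Set.mem_biUnion (Finset.mem_compl.mpr hj₀) hy₂⟩
  obtain ⟨i, hi, hwi⟩ := Set.mem_iUnion₂.mp hwA
  obtain ⟨j, hj, hwj⟩ := Set.mem_iUnion₂.mp hwB
  exact Set.disjoint_left.mp (hdisj i hi j (Finset.mem_compl.mp hj)) hwi hwj

end Groth.Agent.Lib.Helper1.ModelComp
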