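import Mathlib
import Groth.Prelude
import Groth.Agent.Lib.Helper1.ModelComp
import Groth.Agent.Lib.Helper3.IdealComap
import Groth.Agent.S1659

/-!
# The closed fibre of a regular model as a sum of its components

`𝔪_R O_X = ∏ I_{Γ_i}^{m_i}` for a flat Noetherian regular `R`-scheme `X` over a discrete valuation
ring, `Γ_i` the irreducible components of the closed fibre, `m_i` their multiplicities.
-/

set_option autoImplicit false
set_option maxHeartbeats 800000

universe u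

open CategoryTheory CategoryTheory.Limits AlgebraicGeometry TopologicalSpace Opposite IsLocalRing

noncomputable section

namespace Groth.Agent.Lib.Helper1.ModelMult

open Groth.Agent.Lib.Helper1.ModelComp

section General

variable {Y : Scheme.{u}}

theorem ideal_prod {ι : Type*} (s : Finset ι) (I : ι → Y.IdealSheafData) (W : Y.affineOpens) :
    (∏ i ∈ s, I i).ideal W = ∏ i ∈ s, (I i).ideal W := by
  classical
  induction s using Finset.induction_on with
  | empty =>
    rw [Finset.prod_empty, Finset.prod_empty, Ideal.one_eq_top]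
    rfl
  | insert a s ha ih =>
    rw [Finset.prod_insert ha, Finset.prod_insert ha, ← ih]
    rfl

theorem map_germ_eq_top (I : Y.IdealSheafData) (ξ : Y) (hξ : ξ ∉ I.support)
    (W : Y.affineOpens) (hξW : ξ ∈ W.1) :
    Ideal.map (Y.presheaf.germ W.1 ξ hξW).hom (I.ideal W) = ⊤ := by
  rw [Scheme.IdealSheafData.mem_support_iff_of_mem hξW, Scheme.mem_zeroLocus_iff] at hξ
  push Not at hξ
  obtain ⟨f, hf, hfx⟩ := hξ
  exact Ideal.eq_top_of_isUnit_mem _ (Ideal.mem_map_of_mem _ hf)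
    ((Y.mem_basicOpen f ξ hξW).mp hfx)

theorem map_germ_le_maximalIdeal (I : Y.IdealSheafData) (ξ : Y) (hξ : ξ ∈ I.support)
    (W : Y.affineOpens) (hξW : ξ ∈ W.1) :
    Ideal.map (Y.presheaf.germ W.1 ξ hξW).hom (I.ideal W) ≤
      maximalIdeal (Y.presheaf.stalk ξ) := by
  rw [Ideal.map_le_iff_le_comap]
  intro f hf
  rw [Scheme.IdealSheafData.mem_support_iff_of_mem hξW, Scheme.mem_zeroLocus_iff] at hξ
  have h := hξ f hf
  rw [Ideal.mem_comap, IsLocalRing.mem_maximalIdeal, mem_nonunits_iff]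
  rwa [Y.mem_basicOpen f ξ hξW] at h

end General

variable (R : Type u) [CommRing R] [IsDomain R] [IsDiscreteValuationRing R]
variable (X : Over (Spec (CommRingCat.of R)))

/-- the uniformizer as a section over `U`. -/
def piU (ϖ : R) (U : X.left.Opens) : Γ(X.left, U) :=
  X.left.presheaf.map (homOfLE (le_top : U ≤ ⊤)).op (Coh.toGlobal X.hom ϖ)

theorem specialFibreIdeal_ideal (ϖ : R) (hϖ : Irreducible ϖ) (U : X.left.affineOpens) :
    (Models.specialFibreIdeal R X).ideal U = Ideal.span {piU R X ϖ U.1} := by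
  unfold Models.specialFibreIdeal
  rw [hϖ.maximalIdeal_eq]
  rw [Groth.Agent.Lib.Helper3.ideal_comap_of_le X.hom
    (Curv2.idealSheaf R (Ideal.span {ϖ})) U ⟨⊤, isAffineOpen_top _⟩ le_top]
  rw [Curv2.idealSheaf, Scheme.IdealSheafData.ofIdealTop_ideal, Ideal.map_span, Ideal.map_span,
    Ideal.map_span, Set.image_singleton, Set.image_singleton, Set.image_singleton]
  congr 2

theorem piU_mem_nonZeroDivisors [Flat X.hom] (ϖ : R) (hϖ : Irreducible ϖ)
    (U : X.left.affineOpens) : piU R X ϖ U.1 ∈ nonZeroDivisors Γ(X.left, U.1) := by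
  let φ : R →+* Γ(X.left, U.1) :=
    (X.hom.appLE ⊤ U.1 le_top).hom.comp (Scheme.ΓSpecIso (CommRingCat.of R)).inv.hom
  have hφ : φ.Flat := by
    refine RingHom.Flat.comp (RingHom.Flat.of_bijective ?_)
      (Scheme.Hom.flat_appLE X.hom (isAffineOpen_top _) U.2 le_top)
    exact ConcreteCategory.bijective_of_isIso (Scheme.ΓSpecIso (CommRingCat.of R)).inv
  letI := φ.toAlgebra
  haveI : Module.Flat R Γ(X.left, U.1) := hφ
  have hreg : IsSMulRegular R ϖ := fun a b hab => mul_left_cancel₀ hϖ.ne_zero hab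
  have h := IsSMulRegular.of_flat (S := Γ(X.left, U.1)) hreg
  have hφϖ : φ ϖ = piU R X ϖ U.1 := rfl
  rw [← hφϖ]
  rw [mem_nonZeroDivisors_iff_left]
  intro a ha
  apply h
  change φ ϖ * a = φ ϖ * 0
  rw [ha, mul_zero]

theorem isEffCartierIdeal_specialFibreIdeal [Flat X.hom] :
    BlowUp.IsEffCartierIdeal (Models.specialFibreIdeal R X) := by
  obtain ⟨ϖ, hϖ⟩ := IsDiscreteValuationRing.exists_irreducible R
  intro x
  obtain ⟨U, hU, hxU, -⟩ := Opens.isBasis_iff_nbhd.mp X.left.isBasis_affineOpens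
    (show x ∈ (⊤ : X.left.Opens) from trivial)
  exact ⟨⟨U, hU⟩, hxU, piU R X ϖ U, piU_mem_nonZeroDivisors R X ϖ hϖ ⟨U, hU⟩,
    specialFibreIdeal_ideal R X ϖ hϖ ⟨U, hU⟩⟩

theorem support_specialFibreIdeal_subset :
    ((Models.specialFibreIdeal R X).support : Set X.left) ⊆ Models.specialFibreSet R X := by
  obtain ⟨ϖ, hϖ⟩ := IsDiscreteValuationRing.exists_irreducible R
  intro x hx
  obtain ⟨U, hU, hxU, -⟩ := Opens.isBasis_iff_nbhd.mp X.left.isBasis_affineOpens
    (show x ∈ (⊤ : X.left.Opens) from trivial)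
  have hx' : x ∈ (Models.specialFibreIdeal R X).support := hx
  rw [Scheme.IdealSheafData.mem_support_iff_of_mem (U := ⟨U, hU⟩) hxU,
    specialFibreIdeal_ideal R X ϖ hϖ, Scheme.zeroLocus_span, Scheme.zeroLocus_singleton] at hx'
  rw [specialFibreSet_eq R X ϖ hϖ]
  intro h
  apply hx'
  change x ∈ X.left.basicOpen (piU R X ϖ U)
  unfold piU
  rw [Scheme.basicOpen_res]
  exact ⟨hxU, h⟩

theorem support_subset_iUnion {n : ℕ} (Γ : Fin n → ArSurf.VertComp R X)
    (hΓ : Models.IsComponentList R X Γ) :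
    ((Models.specialFibreIdeal R X).support : Set X.left) ⊆
      ⋃ i, (((Γ i).ι.ker).support : Set X.left) := by
  intro x hx
  have hx' := support_specialFibreIdeal_subset R X hx
  obtain ⟨Z, hZ, hxZ⟩ := exists_maximal_irreducible_subset (Models.specialFibreSet R X) {x}
    isIrreducible_singleton (Set.singleton_subset_iff.mpr hx')
  have hZ' : Z ∈ Models.fibreComponents R X := hZ
  rw [← hΓ.2] at hZ'
  obtain ⟨k, rfl⟩ := hZ'
  refine Set.mem_iUnion.mpr ⟨k, ?_⟩
  rw [support_ker]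
  exact hxZ rfl

section DVR

/-- a one-dimensional regular local ring is a discrete valuation ring. -/
theorem isDVR_of_regular_of_dim_one (A : Type u) [CommRing A] [IsDomain A] [IsRegularLocalRing A]
    (hdim : ringKrullDim A = 1) : IsDiscreteValuationRing A := by
  have hnf : ¬ IsField A := by
    intro hf
    rw [ringKrullDim_eq_zero_of_isField hf] at hdim
    exact zero_ne_one hdim
  have h1 := (IsRegularLocalRing.iff_finrank_cotangentSpace A).mp inferInstance
  rw [hdim] at h1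
  have h2 : Module.finrank (ResidueField A) (CotangentSpace A) = 1 := by exact_mod_cast h1
  exact ((IsDiscreteValuationRing.TFAE A hnf).out 5 0).mp h2

end DVR

variable {R X}

theorem isPrime_map_of_atPrime {A S : Type*} [CommRing A] [CommRing S] [IsLocalRing S]
    (g : A →+* S) (q : Ideal A) [q.IsPrime]
    (hloc : @IsLocalization.AtPrime A _ S _ g.toAlgebra q _) (P : Ideal A) (hP : P.IsPrime)
    (hle : Ideal.map g P ≤ maximalIdeal S) : (Ideal.map g P).IsPrime := by
  letI := g.toAlgebra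
  haveI := hloc
  have hdisj : Disjoint (q.primeCompl : Set A) (P : Set A) := by
    rw [Set.disjoint_left]
    intro f hf1 hf2
    apply hf1
    change f ∈ q
    rw [← IsLocalization.AtPrime.to_map_mem_maximal_iff S q f]
    exact hle (Ideal.mem_map_of_mem _ hf2)
  exact IsLocalization.isPrime_of_isPrime_disjoint q.primeCompl S P hP hdisj

theorem isPrime_map_germ (Γ : ArSurf.VertComp R X) (ξ : X.left)
    (hξ : ξ ∈ Γ.ι.ker.support) (W : X.left.affineOpens) (hξW : ξ ∈ W.1) :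
    (Ideal.map (X.left.presheaf.germ W.1 ξ hξW).hom (Γ.ι.ker.ideal W)).IsPrime := by
  have hP : (Γ.ι.ker.ideal W).IsPrime := by
    rw [Scheme.Hom.ker_apply]
    have hξ' : ξ ∈ Set.range Γ.ι := by
      rw [← support_ker]
      exact hξ
    obtain ⟨c, hc⟩ := hξ'
    haveI : Nonempty (Γ.ι ⁻¹ᵁ W.1) := ⟨⟨c, by change Γ.ι c ∈ W.1; rw [hc]; exact hξW⟩⟩
    exact RingHom.ker_isPrime _
  exact isPrime_map_of_atPrime (X.left.presheaf.germ W.1 ξ hξW).hom
    (W.2.primeIdealOf ⟨ξ, hξW⟩).asIdeal (W.2.isLocalization_stalk ⟨ξ, hξW⟩) _ hP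
    (map_germ_le_maximalIdeal _ ξ hξ W hξW)

theorem mult_eq_of_prod [Flat X.hom]
    (hreg : ∀ x : X.left, IsRegularLocalRing (X.left.presheaf.stalk x))
    {n : ℕ} (Γ : Fin n → ArSurf.VertComp R X) (hΓ : Models.IsComponentList R X Γ)
    (a : Fin n → ℕ) (ha : Models.specialFibreIdeal R X = ∏ i, (Γ i).ι.ker ^ a i) (i : Fin n) :
    Models.mult R X (Γ i) = a i := by
  obtain ⟨ϖ, hϖ⟩ := IsDiscreteValuationRing.exists_irreducible R
  have hmem : ∀ k, Set.range (Γ k).ι ∈ Models.fibreComponents R X := fun k => by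
    rw [← hΓ.2]
    exact ⟨k, rfl⟩
  set ξ : X.left := (Γ i).ι (genericPoint (Γ i).curve.left) with hξdef
  have hξsupp : ξ ∈ (Γ i).ι.ker.support := by
    change ξ ∈ ((Γ i).ι.ker.support : Set X.left)
    rw [support_ker]
    exact ⟨_, rfl⟩
  have hξF : ξ ∈ Models.specialFibreSet R X := (maximal_of_mem (hmem i)).prop.2 ⟨_, rfl⟩
  have hξnot : ξ ∉ X.left.basicOpen (Coh.toGlobal X.hom ϖ) := by
    rw [specialFibreSet_eq R X ϖ hϖ] at hξF
    exact hξF
  obtain ⟨W, hW, hξW, -⟩ := Opens.isBasis_iff_nbhd.mp X.left.isBasis_affineOpens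
    (show ξ ∈ (⊤ : X.left.Opens) from trivial)
  set Wa : X.left.affineOpens := ⟨W, hW⟩ with hWa
  set g := (X.left.presheaf.germ W ξ hξW).hom with hg
  haveI := hreg ξ
  haveI : IsDomain (X.left.presheaf.stalk ξ) :=
    (Groth.Agent.S2821.result (X.left.presheaf.stalk ξ)).1
  have hdim : ringKrullDim (X.left.presheaf.stalk ξ) = 1 := by
    refine Groth.Agent.Lib.Helper1.KrullPt.ringKrullDim_stalk_eq_one ξ
      (Coh.toGlobal X.hom ϖ) hξnot ?_ ?_
    · intro x' h1 h2
      apply eq_of_specializes_of_closure_eq (Γ i) (hmem i) ξ (closure_genPt (Γ i)) x' h1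
      rw [specialFibreSet_eq R X ϖ hϖ]
      exact h2
    · exact germ_toGlobal_ne_zero X.hom _ ϖ hϖ.ne_zero
  haveI : IsDiscreteValuationRing (X.left.presheaf.stalk ξ) :=
    isDVR_of_regular_of_dim_one _ hdim
  set ϖξ := (X.left.presheaf.germ ⊤ ξ trivial).hom (Coh.toGlobal X.hom ϖ) with hϖξ
  have hϖξ_mem : ϖξ ∈ maximalIdeal (X.left.presheaf.stalk ξ) :=
    Groth.Agent.Lib.Helper1.KrullPt.germ_mem_maximalIdeal ξ _ hξnot
  have hϖξ_ne : ϖξ ≠ 0 := germ_toGlobal_ne_zero X.hom ξ ϖ hϖ.ne_zero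
  have h1 : Ideal.map (Models.stalkHom R X ξ) (maximalIdeal R) = Ideal.span {ϖξ} := by
    rw [hϖ.maximalIdeal_eq, Ideal.map_span, Set.image_singleton]
    rfl
  have h2 : Ideal.map g ((Models.specialFibreIdeal R X).ideal Wa) = Ideal.span {ϖξ} := by
    rw [specialFibreIdeal_ideal R X ϖ hϖ, Ideal.map_span, Set.image_singleton]
    congr 2
    exact TopCat.Presheaf.germ_res_apply _ _ _ _ _
  set 𝔭 := Ideal.map g ((Γ i).ι.ker.ideal Wa) with h𝔭
  have h3 : Ideal.map g ((Models.specialFibreIdeal R X).ideal Wa) = 𝔭 ^ a i := by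
    rw [ha, ideal_prod, ← Ideal.mapHom_apply, map_prod, Finset.prod_eq_single i]
    · rw [Ideal.mapHom_apply]
      change Ideal.map g (((Γ i).ι.ker.ideal Wa) ^ a i) = _
      rw [Ideal.map_pow]
    · intro j _ hji
      rw [Ideal.mapHom_apply]
      change Ideal.map g (((Γ j).ι.ker.ideal Wa) ^ a j) = _
      rw [Ideal.map_pow, map_germ_eq_top _ ξ (genPt_notMem_of_ne (Γ i) (Γ j) (hmem i) (hmem j)
        (fun h => hji (hΓ.1 h).symm)) Wa hξW, Ideal.top_pow, Ideal.one_eq_top]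
    · intro h
      exact absurd (Finset.mem_univ i) h
  have h4 : Ideal.span {ϖξ} = 𝔭 ^ a i := h2.symm.trans h3
  have hai : a i ≠ 0 := by
    intro h0
    rw [h0, pow_zero, Ideal.one_eq_top, Ideal.span_singleton_eq_top] at h4
    exact hϖξ_mem h4
  have h𝔭mem : ϖξ ∈ 𝔭 := by
    apply Ideal.pow_le_self hai
    rw [← h4]
    exact Ideal.mem_span_singleton_self _
  haveI h𝔭prime : 𝔭.IsPrime := isPrime_map_germ (Γ i) ξ hξsupp Wa hξW
  have h𝔭ne : 𝔭 ≠ ⊥ := by
    intro h
    rw [h] at h𝔭mem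
    exact hϖξ_ne h𝔭mem
  have h𝔭eq : 𝔭 = maximalIdeal (X.left.presheaf.stalk ξ) :=
    IsLocalRing.eq_maximalIdeal (h𝔭prime.isMaximal h𝔭ne)
  change (Module.length (X.left.presheaf.stalk ξ) (X.left.presheaf.stalk ξ ⧸
    Ideal.map (Models.stalkHom R X ξ) (maximalIdeal R))).toNat = a i
  rw [h1, h4, h𝔭eq, IsDiscreteValuationRing.length_quotient_pow_maximalIdeal]
  rfl

variable (R X)

/-- **S3313**: `𝔪_R O_X = ∏ I_{Γ_i}^{m_i}`. -/
theorem specialFibreIdeal_eq_prod [Flat X.hom] [IsNoetherian X.left]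
    (hreg : ∀ x : X.left, IsRegularLocalRing (X.left.presheaf.stalk x))
    {n : ℕ} (Γ : Fin n → ArSurf.VertComp R X) (hΓ : Models.IsComponentList R X Γ) :
    (∀ i, BlowUp.IsEffCartierIdeal (Γ i).ι.ker) ∧
      Models.specialFibreIdeal R X = ∏ i, (Γ i).ι.ker ^ Models.mult R X (Γ i) := by
  have hmem : ∀ k, Set.range (Γ k).ι ∈ Models.fibreComponents R X := fun k => by
    rw [← hΓ.2]
    exact ⟨k, rfl⟩
  have hC : ∀ i, BlowUp.IsEffCartierIdeal (Γ i).ι.ker := fun i =>
    isEffCartierIdeal_ker hreg (Γ i) (hmem i)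
  refine ⟨hC, ?_⟩
  obtain ⟨a, ha⟩ := Groth.Agent.S1659.result X.left (Models.specialFibreIdeal R X)
    (isEffCartierIdeal_specialFibreIdeal R X) n (fun i => (Γ i).ι.ker) hC
    (fun i => Groth.Agent.Lib.Helper7.ArSurfDeg.isIntegral_ker_subscheme (Γ i))
    (support_subset_iUnion R X Γ hΓ)
  have hm : ∀ i, Models.mult R X (Γ i) = a i := mult_eq_of_prod hreg Γ hΓ a ha
  rw [ha]
  exact Finset.prod_congr rfl fun i _ => by rw [hm i]

end Groth.Agent.Lib.Helper1.ModelMult
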