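import Mathlib
import Groth.Prelude
import Groth.Agent.Lib.Helper7.MinusOne
import Groth.Agent.Lib.Helper7.CurveCartier
import Groth.Agent.Lib.Helper7.MTwA
import Groth.Agent.Lib.Helper7.AmpleH1
import Groth.Agent.Lib.Helper23.FBC5

/-!
# Sections vanish to high order along a curve of negative degree (helper1)

* `finrank_H0_twist_ideal` : if the invertible module `N` has negative degree on the integral curve
  `E`, then `H⁰(I_E ⊗ N) → H⁰(N)` is bijective;
* `main` (S16563): on a smooth proper surface, if `E² = -1` and `(L·E) = -s` then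
  `h⁰(L ⊗ I_{E}^s) = h⁰(L)`.
-/

set_option autoImplicit false
set_option linter.unusedSectionVars false
set_option linter.style.haveILetI false
universe u
open CategoryTheory CategoryTheory.Limits AlgebraicGeometry Opposite TopologicalSpace
open Scheme.Modules

namespace Groth.Agent.Lib.Helper1.MinusOneH0

open Groth.Agent.Lib.Helper3 Groth.Agent.Lib.Helper3.InvMonoidal Groth.Agent.Lib.Helper3.InvTensor
open Groth.Agent.Lib.Helper3.InvGen Groth.Agent.Lib.Helper3.InvAmple
open Groth.Agent.Lib.Helper3.SubIdeal Groth.Agent.Lib.Helper3.IdealMod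
open Groth.Agent.Lib.Helper23 Groth.Agent.Lib.Helper23.Snap Groth.Agent.Lib.Helper23.HilbP
open Groth.Agent.Lib.Helper7.SnapAlt Groth.Agent.Lib.Helper7.SnapFGA
open Groth.Agent.Lib.Helper7.IntNumPos Groth.Agent.Lib.Helper7.IntNumDiv
open Groth.Agent.Lib.Helper7.SecDeg Groth.Agent.Lib.Helper7.HilbCoeff
open Groth.Agent.Lib.Helper7.SecDegB Groth.Agent.Lib.Helper7.TwFun
open Groth.Agent.Lib.Helper7.SecDegC Groth.Agent.Lib.Helper7.RegSec Groth.Agent.Lib.Helper17
open Groth.Agent.Lib.Helper7.SurfSecC Groth.Agent.Lib.Helper7.SurfIP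
open Groth.Agent.Lib.Helper7.SurfRows Groth.Agent.Lib.Helper7.NefCoh
open Groth.Agent.Lib.Helper7.NefTrivA Groth.Agent.Lib.Helper7.NumSec
open Groth.Agent.Lib.Helper13.ClMon

theorem cl_tensorPow {Y : Scheme.{u}} (M : Y.Modules) (m : ℕ) :
    PicF.cl (CohB1.tensorPow M m) = PicF.cl M ^ m := by
  induction m with
  | zero => rw [pow_zero]; rfl
  | succ m ih =>
    rw [pow_succ, ← ih]
    rfl

variable (k : Type u) [Field k] (X : Scheme.{u}) [X.Over (Spec (CommRingCat.of k))]
  [IsProper (X ↘ Spec (CommRingCat.of k))]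

/-- if `N` has negative degree on the integral curve `E`, every section of `N` vanishes along
`E`: `h⁰(I_E ⊗ N) = h⁰(N)`. -/
theorem finrank_H0_twist_ideal (E : X.IdealSheafData) (hEi : IsIntegral E.subscheme)
    (hE1 : topologicalKrullDim (E.support : Set X) = 1)
    (N : X.Modules) (hN : PicF.IsInvertible N)
    (hneg : Curv2.euler k X (CohB1.tensorMod (ClSub.quotMod E) N) -
      Curv2.euler k X (ClSub.quotMod E) < 0) :
    Module.finrank k (Coh.HH X (CohB1.tensorMod (ClSub.idealMod E) N) 0) =
      Module.finrank k (Coh.HH X N 0) := by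
  haveI := hEi
  letI : E.subscheme.Over (Spec (CommRingCat.of k)) :=
    ⟨E.subschemeι ≫ (X ↘ Spec (CommRingCat.of k))⟩
  have hov : E.subscheme ↘ Spec (CommRingCat.of k) =
      E.subschemeι ≫ (X ↘ Spec (CommRingCat.of k)) := rfl
  haveI : IsProper (E.subscheme ↘ Spec (CommRingCat.of k)) := by
    show IsProper (E.subschemeι ≫ (X ↘ Spec (CommRingCat.of k)))
    infer_instance
  have hdimC : topologicalKrullDim E.subscheme = 1 := by
    rw [← hE1]
    have hemb : Topology.IsEmbedding E.subschemeι :=
      E.subschemeι.isClosedEmbedding.isEmbedding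
    have h1 := hemb.toHomeomorph.isHomeomorph.topologicalKrullDim_eq
    rw [h1, E.range_subschemeι]
  -- no sections on `E`
  have hsub : Subsingleton (Coh.HH X (CohB1.tensorMod (ClSub.quotMod E) N) 0) := by
    by_contra hns
    have hnt : Nontrivial (Coh.HH X (CohB1.tensorMod (ClSub.quotMod E) N) 0) :=
      not_subsingleton_iff_nontrivial.mp hns
    let e1 : CohB1.tensorMod (ClSub.quotMod E) N ≅
        (Scheme.Modules.pushforward E.subschemeι).obj
          (CohB1.tensorMod (Coh.structureModule E.subscheme)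
            ((Scheme.Modules.pullback E.subschemeι).obj N)) :=
      Groth.Agent.Lib.Helper2.Mon.projIso E.subschemeι _ _
    let e2 := e1 ≪≫ (Scheme.Modules.pushforward E.subschemeι).mapIso (unitorL _)
    have q1 := (T2.HmapEquiv e2 0).toEquiv
    have q2 := (Groth.Agent.Lib.Helper7.PushLinear.pushEquiv E.subschemeι
      ((Scheme.Modules.pullback E.subschemeι).obj N) 0).toEquiv
    have hnt' : Nontrivial (Coh.HH E.subscheme
        ((Scheme.Modules.pullback E.subschemeι).obj N) 0) :=
      (q1.trans q2.symm).symm.nontrivial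
    obtain ⟨t, ht⟩ := exists_section_ne_zero E.subscheme _ hnt'
    have h1 := Groth.Agent.Lib.Helper7.GGNef.euler_le_of_section k E.subscheme hdimC _
      (PbBasic.isInvertible_pullback E.subschemeι hN) t ht
    have h0 : Curv2.euler k X (ClSub.quotMod E) =
        Curv2.euler k E.subscheme (Coh.structureModule E.subscheme) :=
      Groth.Agent.Lib.Helper7.GGNef.euler_push k X E hov (Coh.structureModule E.subscheme)
    rw [Groth.Agent.Lib.Helper7.GGNef.euler_quotMod_tensor k X E hov N, h0] at hneg
    linarith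
  -- the exact sequence
  let S : ShortComplex X.Modules := (ShortComplex.mk (ClSub.idealModι E) (ClSub.toSubscheme E)
    (kernel.condition (ClSub.toSubscheme E))).map (twR N)
  have hS : S.ShortExact :=
    Groth.Agent.Lib.Helper7.AmpleH1.shortExact_tw hN _ (EffCart.shortExact_ideal E)
  haveI : Mono S.f := hS.mono_f
  have hinj : Function.Injective (FBC.HmapK k S.f 0) := T2.Hmap_injective_zero S.f
  have hsurj : Function.Surjective (FBC.HmapK k S.f 0) := by
    intro x
    have hsub' : Subsingleton (Coh.HH X S.X₃ 0) := hsub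
    obtain ⟨y, hy⟩ := T2.exact₂ S hS 0 x (@Subsingleton.elim _ hsub' _ _)
    exact ⟨y, hy⟩
  have e3 : Coh.HH X (CohB1.tensorMod (ClSub.idealMod E) N) 0 ≃ₗ[k]
      Coh.HH X (CohB1.tensorMod (Coh.structureModule X) N) 0 :=
    LinearEquiv.ofBijective (FBC.HmapK k S.f 0) ⟨hinj, hsurj⟩
  rw [e3.finrank_eq, (FBC.HmapEquivK k (unitorL N) 0).finrank_eq]

/-- (S16563) -/
theorem main [IsIntegral X] [Smooth (X ↘ Spec (CommRingCat.of k))]
    (hdim : topologicalKrullDim X = 2) (L : X.Modules) (hL : PicF.IsInvertible L)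
    (E : X.IdealSheafData) (hEi : IsIntegral E.subscheme)
    (hE1 : topologicalKrullDim (E.support : Set X) = 1)
    (hEE : FGA.intNum k X 2 ![ClSub.idealMod E, ClSub.idealMod E] (Coh.structureModule X) = -1)
    (s : ℕ)
    (hLE : Curv2.euler k X (CohB1.tensorMod (ClSub.quotMod E) L) -
      Curv2.euler k X (ClSub.quotMod E) = -(s : ℤ)) :
    Module.finrank k (Coh.HH X (CohB1.tensorMod L (ClSub.idealMod (E ^ s))) 0) =
      Module.finrank k (Coh.HH X L 0) := by
  have hd : topologicalKrullDim X ≤ ((2 : ℕ) : WithBot ℕ∞) := by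
    rw [hdim]
    norm_cast
  have hEc := Groth.Agent.Lib.Helper7.CurveCartier.isEffCartierIdeal_of_smooth k hdim E hEi hE1
  have hIE : PicF.IsInvertible (ClSub.idealMod E) :=
    (EffCartMod.isInvertible_idealMod_iff E).mpr hEc
  have hdeg : ∀ N : X.Modules, PicF.IsInvertible N →
      Curv2.euler k X (CohB1.tensorMod (ClSub.quotMod E) N) - Curv2.euler k X (ClSub.quotMod E) =
        - ip k X (ClSub.idealMod E) N := by
    intro N hN
    rw [ip_ideal k X hd E hIE N hN]
    ring
  have hEE' : ip k X (ClSub.idealMod E) (ClSub.idealMod E) = -1 := hEE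
  have hIL : ip k X (ClSub.idealMod E) L = (s : ℤ) := by
    have := hdeg L hL
    rw [hLE] at this
    linarith
  -- the induction
  have key : ∀ j : ℕ, j ≤ s →
      Module.finrank k (Coh.HH X (CohB1.tensorMod L (CohB1.tensorPow (ClSub.idealMod E) j)) 0) =
        Module.finrank k (Coh.HH X L 0) := by
    intro j
    induction j with
    | zero =>
      intro _
      exact (FBC.HmapEquivK k (SecTwist.unitorR L) 0).finrank_eq
    | succ j ih =>
      intro hj
      have hIj := isInvertible_tensorPow hIE j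
      have hMj : PicF.IsInvertible (CohB1.tensorMod L (CohB1.tensorPow (ClSub.idealMod E) j)) :=
        isInvertible_tensorMod hL hIj
      let ej : CohB1.tensorMod L (CohB1.tensorPow (ClSub.idealMod E) (j + 1)) ≅
          CohB1.tensorMod (ClSub.idealMod E)
            (CohB1.tensorMod L (CohB1.tensorPow (ClSub.idealMod E) j)) :=
        (assoc L (CohB1.tensorPow (ClSub.idealMod E) j) (ClSub.idealMod E)).symm ≪≫ braid _ _
      have hneg : Curv2.euler k X (CohB1.tensorMod (ClSub.quotMod E)
          (CohB1.tensorMod L (CohB1.tensorPow (ClSub.idealMod E) j))) -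
          Curv2.euler k X (ClSub.quotMod E) < 0 := by
        rw [hdeg _ hMj, ip_add_right k X hd hL hIj hIE, ip_pow_right k X hd hIE hIE j, hIL, hEE']
        have : (j : ℤ) < (s : ℤ) := by exact_mod_cast hj
        linarith
      rw [(FBC.HmapEquivK k ej 0).finrank_eq,
        finrank_H0_twist_ideal k X E hEi hE1 _ hMj hneg]
      exact ih (by omega)
  obtain ⟨hpI, hpc⟩ := Groth.Agent.Lib.Helper7.MTwA.cl_idealMod_pow E hIE s
  rw [← cl_tensorPow] at hpc
  obtain ⟨e⟩ := (cl_eq_iff _ _).mp hpc
  rw [(FBC.HmapEquivK k (tensorMapIso (Iso.refl L) e) 0).finrank_eq]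
  exact key s le_rfl

end Groth.Agent.Lib.Helper1.MinusOneH0
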