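import Mathlib
import Groth.Prelude.Def_Formal2
import Groth.Agent.Lib.Helper1.CohFormalBase
set_option autoImplicit false
set_option linter.style.haveILetI false
universe u
open CategoryTheory CategoryTheory.Limits AlgebraicGeometry Opposite
namespace Groth.Agent.Lib.Helper1.ModPowPrincipal

open Groth.Agent.Lib.Helper14.ProIsoAdic Groth.Agent.Lib.Helper1.CohFormalBase

variable {A : Type u} [CommRing A] {X : Scheme.{u}} [X.Over (Spec (CommRingCat.of A))]

theorem kills_span_singleton_iff (g : A) {M T : X.Modules} (φ : M ⟶ T) :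
    Kills (Ideal.span ({g} : Set A)) φ ↔ Formal.smulMod A M g ≫ φ = 0 := by
  constructor
  · intro h
    exact h g (Ideal.mem_span_singleton_self g)
  · intro h a ha
    obtain ⟨b, rfl⟩ := Ideal.mem_span_singleton'.mp ha
    rw [smulMod_mul, Category.assoc, h, comp_zero]

theorem kills_pow_iff (f : A) (k : ℕ) {M T : X.Modules} (φ : M ⟶ T) :
    Kills (Ideal.span ({f} : Set A) ^ k) φ ↔ Formal.smulMod A M (f ^ k) ≫ φ = 0 := by
  rw [Ideal.span_singleton_pow]
  exact kills_span_singleton_iff (f ^ k) φ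

theorem smulMod_pow_π (f : A) (k : ℕ) (F : X.Modules) :
    Formal.smulMod A F (f ^ k) ≫ Formal.modPowπ (Ideal.span ({f} : Set A)) k F = 0 :=
  (kills_pow_iff f k _).1 ((smulFamily_comp_eq_zero_iff _ _).1 (cokernel.condition _))

instance epi_modPowπ (I : Ideal A) (k : ℕ) (F : X.Modules) : Epi (Formal.modPowπ I k F) := by
  unfold Formal.modPowπ
  exact coequalizer.π_epi

/-- descent through `F ⟶ F/f^k F`. -/
noncomputable def descπ (f : A) (k : ℕ) (F : X.Modules) {T : X.Modules} (φ : F ⟶ T)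
    (hφ : Formal.smulMod A F (f ^ k) ≫ φ = 0) :
    Formal.modPow (Ideal.span ({f} : Set A)) k F ⟶ T :=
  cokernel.desc _ φ ((smulFamily_comp_eq_zero_iff _ _).2 ((kills_pow_iff f k φ).2 hφ))

theorem π_descπ (f : A) (k : ℕ) (F : X.Modules) {T : X.Modules} (φ : F ⟶ T)
    (hφ : Formal.smulMod A F (f ^ k) ≫ φ = 0) :
    Formal.modPowπ (Ideal.span ({f} : Set A)) k F ≫ descπ f k F φ hφ = φ :=
  cokernel.π_desc _ _ _

/-- `F ⟶ F/f^k F` is a cokernel of multiplication by `f^k`. -/
noncomputable def isColimitπ (f : A) (k : ℕ) (F : X.Modules) :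
    IsColimit (CokernelCofork.ofπ (Formal.modPowπ (Ideal.span ({f} : Set A)) k F)
      (smulMod_pow_π f k F)) :=
  CokernelCofork.IsColimit.ofπ _ _
    (fun φ hφ => descπ f k F φ hφ)
    (fun φ hφ => π_descπ f k F φ hφ)
    (fun φ hφ m hm => (cancel_epi (Formal.modPowπ (Ideal.span ({f} : Set A)) k F)).1
      (hm.trans (π_descπ f k F φ hφ).symm))

/-- if multiplication by `f^k` is a monomorphism, then it is the kernel of `F ⟶ F/f^kF`. -/
theorem exists_lift (f : A) (k : ℕ) (F : X.Modules) (hm : Mono (Formal.smulMod A F (f ^ k)))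
    {T : X.Modules} (z : T ⟶ F)
    (hz : z ≫ Formal.modPowπ (Ideal.span ({f} : Set A)) k F = 0) :
    ∃ q : T ⟶ F, q ≫ Formal.smulMod A F (f ^ k) = z := by
  have hlim := Abelian.monoIsKernelOfCokernel _ (isColimitπ f k F)
  exact ⟨(KernelFork.IsLimit.lift' hlim z hz).1, (KernelFork.IsLimit.lift' hlim z hz).2⟩

theorem mono_smulMod_pow (f : A) (F : X.Modules) (hF : Mono (Formal.smulMod A F f)) (k : ℕ) :
    Mono (Formal.smulMod A F (f ^ k)) := by
  induction k with
  | zero =>
    have h1 : Formal.smulMod A F (f ^ 0) = 𝟙 F := by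
      rw [pow_zero]
      have h2 : Formal.smulMod A F (1 : A) ≫ Formal.smulMod A F f = 𝟙 F ≫ Formal.smulMod A F f := by
        rw [← smulMod_mul, one_mul, Category.id_comp]
      exact (cancel_mono _).1 h2
    rw [h1]
    infer_instance
  | succ k ih =>
    rw [pow_succ, smulMod_mul]
    exact mono_comp _ _

theorem main (A : Type u) [CommRing A] (X : Scheme.{u}) [X.Over (Spec (CommRingCat.of A))]
    (f : A) (F : X.Modules) (hF : Mono (Formal.smulMod A F f)) (n : ℕ) :
    ∃ i : Formal.modPow (Ideal.span ({f} : Set A)) 1 F ⟶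
        Formal.modPow (Ideal.span ({f} : Set A)) (n + 1) F,
      Mono i ∧ Formal2.modPowLE (Ideal.span ({f} : Set A)) (Nat.le_add_left 1 n) F ≫ i =
        Formal.smulMod A (Formal.modPow (Ideal.span ({f} : Set A)) (n + 1) F) (f ^ n) ∧
      ∃ w : i ≫ Formal.modPowTrans (Ideal.span ({f} : Set A)) n F = 0,
        (ShortComplex.mk i (Formal.modPowTrans (Ideal.span ({f} : Set A)) n F) w).ShortExact := by
  have hi0 : Formal.smulMod A F (f ^ 1) ≫ (Formal.smulMod A F (f ^ n) ≫
      Formal.modPowπ (Ideal.span ({f} : Set A)) (n + 1) F) = 0 := by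
    rw [← Category.assoc, ← smulMod_mul, ← pow_add, add_comm 1 n]
    exact smulMod_pow_π f (n + 1) F
  let i := descπ f 1 F _ hi0
  have hπi : Formal.modPowπ (Ideal.span ({f} : Set A)) 1 F ≫ i =
      Formal.smulMod A F (f ^ n) ≫ Formal.modPowπ (Ideal.span ({f} : Set A)) (n + 1) F :=
    π_descπ f 1 F _ hi0
  haveI hmn := mono_smulMod_pow f F hF n
  haveI hm1 : Mono (Formal.smulMod A F (f ^ 1)) := mono_smulMod_pow f F hF 1
  haveI hmn1 := mono_smulMod_pow f F hF (n + 1)
  have hw : i ≫ Formal.modPowTrans (Ideal.span ({f} : Set A)) n F = 0 := by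
    rw [← cancel_epi (Formal.modPowπ (Ideal.span ({f} : Set A)) 1 F), ← Category.assoc, hπi,
      Category.assoc, Formal.modPowπ_trans, comp_zero]
    exact smulMod_pow_π f n F
  have hmono : Mono i := by
    apply Preadditive.mono_of_cancel_zero
    intro K k hk
    obtain ⟨P, p₁, hp₁, p₂, hp⟩ := surjective_up_to_refinements_of_epi
      (Formal.modPowπ (Ideal.span ({f} : Set A)) 1 F) k
    have h1 : (p₂ ≫ Formal.smulMod A F (f ^ n)) ≫
        Formal.modPowπ (Ideal.span ({f} : Set A)) (n + 1) F = 0 := by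
      rw [Category.assoc, ← hπi, ← Category.assoc, ← hp, Category.assoc, hk, comp_zero]
    obtain ⟨q, hq⟩ := exists_lift f (n + 1) F hmn1 _ h1
    have h2 : p₂ = q ≫ Formal.smulMod A F (f ^ 1) := by
      rw [← cancel_mono (Formal.smulMod A F (f ^ n)), ← hq, Category.assoc, ← smulMod_mul,
        ← pow_add, add_comm 1 n]
    have h3 : p₁ ≫ k = 0 := by
      rw [hp, h2, Category.assoc, smulMod_pow_π f 1 F, comp_zero]
    rw [← cancel_epi p₁, h3, comp_zero]
  refine ⟨i, hmono, ?_, hw, ?_⟩
  · rw [← cancel_epi (Formal.modPowπ (Ideal.span ({f} : Set A)) (n + 1) F), ← Category.assoc,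
      Formal2.modPowπ_modPowLE, hπi]
    exact smulMod_naturality _ _
  · haveI : Epi (Formal.modPowTrans (Ideal.span ({f} : Set A)) n F) := by
      have : Epi (Formal.modPowπ (Ideal.span ({f} : Set A)) (n + 1) F ≫
          Formal.modPowTrans (Ideal.span ({f} : Set A)) n F) := by
        rw [Formal.modPowπ_trans]
        infer_instance
      exact epi_of_epi (Formal.modPowπ (Ideal.span ({f} : Set A)) (n + 1) F) _
    refine ShortComplex.ShortExact.mk' ?_ hmono inferInstance
    rw [ShortComplex.exact_iff_exact_up_to_refinements]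
    intro T x hx
    obtain ⟨T', e, he, z, hz⟩ := surjective_up_to_refinements_of_epi
      (Formal.modPowπ (Ideal.span ({f} : Set A)) (n + 1) F) x
    have h1 : z ≫ Formal.modPowπ (Ideal.span ({f} : Set A)) n F = 0 := by
      rw [← Formal.modPowπ_trans, ← Category.assoc, ← hz, Category.assoc]
      exact (congrArg (e ≫ ·) hx).trans comp_zero
    obtain ⟨q, hq⟩ := exists_lift f n F hmn _ h1
    refine ⟨T', e, he, q ≫ Formal.modPowπ (Ideal.span ({f} : Set A)) 1 F, ?_⟩
    change e ≫ x = (q ≫ Formal.modPowπ (Ideal.span ({f} : Set A)) 1 F) ≫ i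
    rw [hz, Category.assoc, hπi, ← Category.assoc, hq]

end Groth.Agent.Lib.Helper1.ModPowPrincipal
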