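import Mathlib
import Groth.Agent.Lib.Helper3.QCExtend
import Groth.Agent.Lib.Helper3.QCTilde

/-!
# Quasi-coherent submodules of finite type through prescribed sections (qcqs schemes)

On a quasi-compact quasi-separated scheme `X`, for a quasi-coherent module `G` and finitely many
sections of `G` over affine opens, there is a quasi-coherent submodule of finite type of `G` having
all of them among its sections (EGA I 9.4.9, sectionwise form).
-/

set_option autoImplicit false
universe u
open CategoryTheory CategoryTheory.Limits AlgebraicGeometry TopologicalSpace Opposite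
open Scheme.Modules

namespace Groth.Agent.Lib.Helper1.ModSub

open Groth.Agent.Lib.Helper3 Groth.Agent.Lib.Helper3.QCSec

variable {X : Scheme.{u}}

/-- one affine open, finitely many sections. -/
theorem exists_sub_through [CompactSpace X] [QuasiSeparatedSpace X] (G : X.Modules)
    [G.IsQuasicoherent] (V : X.Opens) (hV : IsAffineOpen V) {I : Type u} [Finite I]
    (s : I → Γ(G, V)) :
    ∃ (K : X.Modules) (m : K ⟶ G), Mono m ∧ K.IsQuasicoherent ∧ K.IsFiniteType ∧
      ∀ i, ∃ g : Γ(K, V), m.app V g = s i := by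
  let σ := QCExtend.sigmaMap G V s
  haveI : (QCExtend.freeMod (V : Scheme.{u}) I).IsQuasicoherent :=
    QCExtend.isQuasicoherent_freeMod _ _
  haveI : (QCExtend.freeMod (V : Scheme.{u}) I).IsFiniteType :=
    QCExtend.isFiniteType_freeMod _ _
  haveI : (G.restrict V.ι).IsQuasicoherent := Scheme.Modules.isQuasicoherent_restrictFunctor V.ι G
  haveI hF'q : (Abelian.image σ).IsQuasicoherent := QCLim.isQuasicoherent_image σ
  have hF'ft : (Abelian.image σ).IsFiniteType :=
    QCProps.isFiniteType_of_epi (Abelian.factorThruImage σ)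
  obtain ⟨K, i, e, hi, hKq, hKft, heq⟩ := QCExtend.exists_finiteType_extension V hV.isCompact G
    (Abelian.image σ) hF'ft (Abelian.image.ι σ)
  refine ⟨K, i, hi, hKq, hKft, fun j => ?_⟩
  let e₀ : Γ(QCExtend.freeMod (V : Scheme.{u}) I, ⊤) :=
    (SheafOfModules.freeSection j).val (op ⊤)
  let f₀ : Γ(Abelian.image σ, ⊤) := (Abelian.factorThruImage σ).app ⊤ e₀
  let g₀ : Γ(K, V.ι ''ᵁ ⊤) := e.inv.app ⊤ f₀
  have hle : V ≤ V.ι ''ᵁ ⊤ := le_of_eq V.ι_image_top.symm
  have h1 : σ.app ⊤ e₀ = res G (V.ι_image_le ⊤) (s j) :=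
    QCExtend.sigmaMap_app_freeSection G V s j ⊤
  have h2 : (Abelian.image.ι σ).app ⊤ f₀ = σ.app ⊤ e₀ :=
    congrArg (fun φ => φ.app ⊤ e₀) (Abelian.image.fac σ)
  have h3 : (Abelian.image.ι σ) = e.inv ≫ (Scheme.Modules.restrictFunctor V.ι).map i := by
    rw [← heq, Iso.inv_hom_id_assoc]
  have h4 : i.app (V.ι ''ᵁ ⊤) g₀ = res G (V.ι_image_le ⊤) (s j) := by
    rw [← h1, ← h2, h3]; rfl
  refine ⟨res K hle g₀, ?_⟩
  have h5 : i.app V (res K hle g₀) = res G hle (i.app (V.ι ''ᵁ ⊤) g₀) :=
    QCExact.app_res' i hle g₀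
  have h6 : res G hle (res G (V.ι_image_le ⊤) (s j)) = s j := QCTilde.mod_res_res_self G _ _ (s j)
  exact (h5.trans (by rw [h4])).trans h6

end Groth.Agent.Lib.Helper1.ModSub
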