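import Groth.Agent.Lib.Helper1.ModSub
import Groth.Agent.Lib.Helper3.QCPush
import Groth.Agent.Lib.Helper17.HomDescentAux

/-!
# Finite type quasi-coherent submodules through finitely many sections; finite type modules on the
source of an affine morphism are quotients of pullbacks of finite type modules
-/

set_option autoImplicit false
set_option linter.style.haveILetI false
universe u
open CategoryTheory CategoryTheory.Limits AlgebraicGeometry TopologicalSpace Opposite
open Scheme.Modules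

namespace Groth.Agent.Lib.Helper1.ModSub

open Groth.Agent.Lib.Helper3 Groth.Agent.Lib.Helper3.QCSec Groth.Agent.Lib.Helper17

variable {X : Scheme.{u}}

theorem isFiniteType_biprod (A B : X.Modules) [A.IsQuasicoherent] [B.IsQuasicoherent]
    [A.IsFiniteType] [B.IsFiniteType] : (A ⊞ B : X.Modules).IsFiniteType := by
  haveI := QCLim.isQuasicoherent_biprod A B
  rw [QCProps.isFiniteType_iff_finite_sections]
  intro U hU
  haveI := QCProps.finite_sections A hU
  haveI := QCProps.finite_sections B hU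
  let φ : (Γ(A, U) × Γ(B, U)) →ₗ[Γ(X, U)] Γ((A ⊞ B : X.Modules), U) :=
    (QCProps.appₗ (biprod.inl : A ⟶ A ⊞ B) U).coprod (QCProps.appₗ (biprod.inr : B ⟶ A ⊞ B) U)
  refine Module.Finite.of_surjective φ ?_
  intro m
  refine ⟨((biprod.fst : A ⊞ B ⟶ A).app U m, (biprod.snd : A ⊞ B ⟶ B).app U m), ?_⟩
  have h : ((biprod.fst : A ⊞ B ⟶ A) ≫ biprod.inl + (biprod.snd : A ⊞ B ⟶ B) ≫ biprod.inr) =
      𝟙 (A ⊞ B) := biprod.total
  have h2 := congr($(congrArg (fun k => Scheme.Modules.Hom.app k U) h) m)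
  change (biprod.inl : A ⟶ A ⊞ B).app U ((biprod.fst : A ⊞ B ⟶ A).app U m) +
    (biprod.inr : B ⟶ A ⊞ B).app U ((biprod.snd : A ⊞ B ⟶ B).app U m) = m
  exact h2

/-- finitely many sections over affine opens. -/
theorem exists_sub_through_finset [CompactSpace X] [QuasiSeparatedSpace X] (G : X.Modules)
    [G.IsQuasicoherent] (L : Finset (Σ V : X.affineOpens, Γ(G, V.1))) :
    ∃ (K : X.Modules) (m : K ⟶ G), Mono m ∧ K.IsQuasicoherent ∧ K.IsFiniteType ∧
      ∀ p ∈ L, ∃ g : Γ(K, p.1.1), m.app p.1.1 g = p.2 := by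
  classical
  induction L using Finset.induction_on with
  | empty =>
    obtain ⟨K, m, hm, hq, hft, -⟩ := exists_sub_through G ⊥ (isAffineOpen_bot X)
      (I := PEmpty.{u+1}) (fun i => i.elim)
    exact ⟨K, m, hm, hq, hft, fun p hp => absurd hp (Finset.notMem_empty p)⟩
  | insert p L _ ih =>
    obtain ⟨K₁, m₁, hm₁, hq₁, hft₁, h₁⟩ := ih
    obtain ⟨K₂, m₂, hm₂, hq₂, hft₂, h₂⟩ := exists_sub_through G p.1.1 p.1.2
      (I := PUnit.{u+1}) (fun _ => p.2)
    haveI := hq₁; haveI := hq₂; haveI := hft₁; haveI := hft₂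
    haveI := QCLim.isQuasicoherent_biprod K₁ K₂
    haveI := isFiniteType_biprod K₁ K₂
    let φ : K₁ ⊞ K₂ ⟶ G := biprod.desc m₁ m₂
    haveI : (Abelian.image φ).IsQuasicoherent := QCLim.isQuasicoherent_image φ
    refine ⟨Abelian.image φ, Abelian.image.ι φ, inferInstance, inferInstance,
      QCProps.isFiniteType_of_epi (Abelian.factorThruImage φ), ?_⟩
    intro q hq
    rw [Finset.mem_insert] at hq
    rcases hq with rfl | hq
    · obtain ⟨g, hg⟩ := h₂ PUnit.unit
      refine ⟨(biprod.inr ≫ Abelian.factorThruImage φ).app q.1.1 g, ?_⟩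
      have h : (biprod.inr ≫ Abelian.factorThruImage φ) ≫ Abelian.image.ι φ = m₂ := by
        rw [Category.assoc, Abelian.image.fac]; exact biprod.inr_desc _ _
      have h2 := congr($(congrArg (fun k => Scheme.Modules.Hom.app k q.1.1) h) g)
      exact h2.trans hg
    · obtain ⟨g, hg⟩ := h₁ q hq
      refine ⟨(biprod.inl ≫ Abelian.factorThruImage φ).app q.1.1 g, ?_⟩
      have h : (biprod.inl ≫ Abelian.factorThruImage φ) ≫ Abelian.image.ι φ = m₁ := by
        rw [Category.assoc, Abelian.image.fac]; exact biprod.inl_desc _ _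
      have h2 := congr($(congrArg (fun k => Scheme.Modules.Hom.app k q.1.1) h) g)
      exact h2.trans hg

/-- **EGA I 9.4.7 variant.** On the source of an affine morphism to a quasi-compact
quasi-separated scheme, every quasi-coherent module of finite type is a quotient of the pullback
of a quasi-coherent module of finite type on the target. -/
theorem exists_epi_pullback {S T : Scheme.{u}} (f : S ⟶ T) [IsAffineHom f] [CompactSpace T]
    [QuasiSeparatedSpace T] (F : S.Modules) [F.IsQuasicoherent] [F.IsFiniteType] :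
    ∃ (B : T.Modules) (β : (Scheme.Modules.pullback f).obj B ⟶ F), B.IsQuasicoherent ∧
      B.IsFiniteType ∧ Epi β := by
  classical
  let G : T.Modules := (Scheme.Modules.pushforward f).obj F
  haveI : G.IsQuasicoherent := QCSec.isQuasicoherent_pushforward f F
  obtain ⟨s₀, hs₀fin, hs₀cov⟩ := isCompact_iff_finite_and_eq_biUnion_affineOpens.mp
    (show IsCompact ((⊤ : T.Opens) : Set T) by simpa using isCompact_univ)
  have hgen : ∀ a : T.affineOpens, ∃ t : Finset Γ(F, f ⁻¹ᵁ a.1),
      Submodule.span Γ(S, f ⁻¹ᵁ a.1) (t : Set Γ(F, f ⁻¹ᵁ a.1)) = ⊤ := fun a =>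
    (QCProps.finite_sections F (a.2.preimage f)).fg_top
  choose gen hgen using hgen
  let L : Finset (Σ V : T.affineOpens, Γ(G, V.1)) :=
    hs₀fin.toFinset.biUnion (fun a => (gen a).image
      (fun g => (⟨a, g⟩ : Σ V : T.affineOpens, Γ(G, V.1))))
  obtain ⟨B, m, hm, hBq, hBft, hL⟩ := exists_sub_through_finset G L
  let β : (Scheme.Modules.pullback f).obj B ⟶ F :=
    ((Scheme.Modules.pullbackPushforwardAdjunction f).homEquiv B F).symm m
  refine ⟨B, β, hBq, hBft, ?_⟩
  apply QCExact.epi_of_surjective_on_affine_cover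
  intro x
  have hx : f x ∈ (⨆ i ∈ s₀, (i : T.Opens)) := by rw [← hs₀cov]; trivial
  simp only [Opens.mem_iSup, exists_prop] at hx
  obtain ⟨a, ha, hxa⟩ := hx
  refine ⟨f ⁻¹ᵁ a.1, a.2.preimage f, hxa, ?_⟩
  have hrange : LinearMap.range (QCProps.appₗ β (f ⁻¹ᵁ a.1)) = ⊤ := by
    rw [eq_top_iff, ← hgen a, Submodule.span_le]
    intro g hg
    have hmem : (⟨a, g⟩ : Σ V : T.affineOpens, Γ(G, V.1)) ∈ L := by
      apply Finset.mem_biUnion.2
      exact ⟨a, hs₀fin.mem_toFinset.2 ha, Finset.mem_image_of_mem _ hg⟩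
    obtain ⟨b, hb⟩ := hL _ hmem
    refine ⟨OmegaSh.pullSect f B a.1 b, ?_⟩
    exact (HomDescent.homEquiv_symm_app_pullSect f B F m a.1 b).trans hb
  intro y
  have hy : y ∈ LinearMap.range (QCProps.appₗ β (f ⁻¹ᵁ a.1)) := by rw [hrange]; trivial
  obtain ⟨z, hz⟩ := hy
  exact ⟨z, hz⟩

end Groth.Agent.Lib.Helper1.ModSub
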