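import Mathlib
import Groth.Prelude
import Groth.Agent.Lib.Helper1.ModelMult

/-!
# Positivity of the multiplicity of a component of the closed fibre of a regular model
-/

set_option autoImplicit false
set_option maxHeartbeats 800000

universe u

open CategoryTheory CategoryTheory.Limits AlgebraicGeometry TopologicalSpace Opposite IsLocalRing

noncomputable section

namespace Groth.Agent.Lib.Helper1.ModelMultPos

open Groth.Agent.Lib.Helper1.ModelComp Groth.Agent.Lib.Helper1.ModelMult

variable {R : Type u} [CommRing R] [IsDomain R] [IsDiscreteValuationRing R]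
variable {X : Over (Spec (CommRingCat.of R))}

/-- the local ring at the generic point of a component of the closed fibre of a flat regular
`R`-scheme is a discrete valuation ring. -/
theorem isDVR_stalk_genPt [Flat X.hom]
    (hreg : ∀ x : X.left, IsRegularLocalRing (X.left.presheaf.stalk x))
    (Γ : ArSurf.VertComp R X) (hΓ : Set.range Γ.ι ∈ Models.fibreComponents R X) :
    ∃ (h : IsDomain (X.left.presheaf.stalk (Γ.ι (genericPoint Γ.curve.left)))),
      @IsDiscreteValuationRing (X.left.presheaf.stalk (Γ.ι (genericPoint Γ.curve.left))) _ h := by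
  obtain ⟨ϖ, hϖ⟩ := IsDiscreteValuationRing.exists_irreducible R
  set ξ : X.left := Γ.ι (genericPoint Γ.curve.left) with hξdef
  have hξF : ξ ∈ Models.specialFibreSet R X := (maximal_of_mem hΓ).prop.2 ⟨_, rfl⟩
  have hξnot : ξ ∉ X.left.basicOpen (Coh.toGlobal X.hom ϖ) := by
    rw [specialFibreSet_eq R X ϖ hϖ] at hξF
    exact hξF
  haveI := hreg ξ
  haveI hdom : IsDomain (X.left.presheaf.stalk ξ) :=
    (Groth.Agent.S2821.result (X.left.presheaf.stalk ξ)).1
  have hdim : ringKrullDim (X.left.presheaf.stalk ξ) = 1 := by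
    refine Groth.Agent.Lib.Helper1.KrullPt.ringKrullDim_stalk_eq_one ξ
      (Coh.toGlobal X.hom ϖ) hξnot ?_ ?_
    · intro x' h1 h2
      apply eq_of_specializes_of_closure_eq Γ hΓ ξ (closure_genPt Γ) x' h1
      rw [specialFibreSet_eq R X ϖ hϖ]
      exact h2
    · exact germ_toGlobal_ne_zero X.hom _ ϖ hϖ.ne_zero
  exact ⟨hdom, isDVR_of_regular_of_dim_one _ hdim⟩

/-- the multiplicity of a component of the closed fibre of a flat regular `R`-scheme is
positive. -/
theorem mult_pos [Flat X.hom]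
    (hreg : ∀ x : X.left, IsRegularLocalRing (X.left.presheaf.stalk x))
    (Γ : ArSurf.VertComp R X) (hΓ : Set.range Γ.ι ∈ Models.fibreComponents R X) :
    0 < Models.mult R X Γ := by
  obtain ⟨ϖ, hϖ⟩ := IsDiscreteValuationRing.exists_irreducible R
  obtain ⟨hdom, hdvr⟩ := isDVR_stalk_genPt hreg Γ hΓ
  set ξ : X.left := Γ.ι (genericPoint Γ.curve.left) with hξdef
  haveI : IsDomain (X.left.presheaf.stalk ξ) := hdom
  haveI : IsDiscreteValuationRing (X.left.presheaf.stalk ξ) := hdvr
  have hξF : ξ ∈ Models.specialFibreSet R X := (maximal_of_mem hΓ).prop.2 ⟨_, rfl⟩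
  have hξnot : ξ ∉ X.left.basicOpen (Coh.toGlobal X.hom ϖ) := by
    rw [specialFibreSet_eq R X ϖ hϖ] at hξF
    exact hξF
  set ϖξ := (X.left.presheaf.germ ⊤ ξ trivial).hom (Coh.toGlobal X.hom ϖ) with hϖξ
  have hϖξ_mem : ϖξ ∈ maximalIdeal (X.left.presheaf.stalk ξ) :=
    Groth.Agent.Lib.Helper1.KrullPt.germ_mem_maximalIdeal ξ _ hξnot
  have hϖξ_ne : ϖξ ≠ 0 := germ_toGlobal_ne_zero X.hom ξ ϖ hϖ.ne_zero
  have h1 : Ideal.map (Models.stalkHom R X ξ) (maximalIdeal R) = Ideal.span {ϖξ} := by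
    rw [hϖ.maximalIdeal_eq, Ideal.map_span, Set.image_singleton]
    rfl
  have hne : Ideal.span {ϖξ} ≠ ⊥ := by
    rw [Ne, Ideal.span_singleton_eq_bot]
    exact hϖξ_ne
  have hall : ∀ (I : Ideal (X.left.presheaf.stalk ξ)) (_ : I ≠ ⊥),
      ∃ n : ℕ, I = maximalIdeal (X.left.presheaf.stalk ξ) ^ n :=
    ((IsDiscreteValuationRing.TFAE (X.left.presheaf.stalk ξ)
      (IsDiscreteValuationRing.not_isField _)).out 0 6).mp hdvr
  obtain ⟨k, hk⟩ := hall _ hne
  have hk0 : k ≠ 0 := by
    intro h0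
    rw [h0, pow_zero, Ideal.one_eq_top, Ideal.span_singleton_eq_top] at hk
    exact hϖξ_mem hk
  change 0 < (Module.length (X.left.presheaf.stalk ξ) (X.left.presheaf.stalk ξ ⧸
    Ideal.map (Models.stalkHom R X ξ) (maximalIdeal R))).toNat
  rw [h1, hk, IsDiscreteValuationRing.length_quotient_pow_maximalIdeal]
  exact Nat.pos_of_ne_zero hk0

end Groth.Agent.Lib.Helper1.ModelMultPos
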