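import Mathlib

/-!
# Elementary modifications along the minimal primes over a principal ideal

Helper lemmas for S18364 / S18365: membership in the kernel of
`M ⧸ πM → (M ⧸ πM)_𝔭` in elementary terms, and an avoidance lemma for distinct
minimal primes over `(π)`.
-/

namespace Groth.Agent.Lib.Helper1.ModifLib

variable {A : Type*} [CommRing A]

/-- Elementary description of vanishing in the localisation of `X ⧸ πX`. -/
lemma mkLinearMap_mkQ_eq_zero_iff (π : A) (p : Ideal A) [p.IsPrime]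
    {X : Type*} [AddCommGroup X] [Module A X] (x : X) :
    LocalizedModule.mkLinearMap p.primeCompl (X ⧸ Ideal.span {π} • (⊤ : Submodule A X))
        ((Ideal.span {π} • (⊤ : Submodule A X)).mkQ x) = 0 ↔
      ∃ s : A, s ∉ p ∧ ∃ x' : X, s • x = π • x' := by
  rw [IsLocalizedModule.eq_zero_iff p.primeCompl]
  constructor
  · rintro ⟨s, hs⟩
    rw [Submonoid.smul_def, ← map_smul, Submodule.mkQ_apply, Submodule.Quotient.mk_eq_zero,
      Submodule.ideal_span_singleton_smul, Submodule.mem_smul_pointwise_iff_exists] at hs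
    obtain ⟨x', -, hx'⟩ := hs
    exact ⟨s.1, s.2, x', hx'.symm⟩
  · rintro ⟨s, hs, x', hx'⟩
    refine ⟨⟨s, hs⟩, ?_⟩
    rw [Submonoid.smul_def, ← map_smul, Submodule.mkQ_apply, Submodule.Quotient.mk_eq_zero,
      Submodule.ideal_span_singleton_smul, Submodule.mem_smul_pointwise_iff_exists]
    exact ⟨x', Submodule.mem_top, hx'.symm⟩

/-- Membership in `π X`. -/
lemma mem_span_smul_top_iff (π : A) {X : Type*} [AddCommGroup X] [Module A X] (x : X) :
    x ∈ Ideal.span {π} • (⊤ : Submodule A X) ↔ ∃ x' : X, x = π • x' := by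
  rw [Submodule.ideal_span_singleton_smul, Submodule.mem_smul_pointwise_iff_exists]
  constructor
  · rintro ⟨x', -, h⟩; exact ⟨x', h.symm⟩
  · rintro ⟨x', h⟩; exact ⟨x', Submodule.mem_top, h.symm⟩

/-- If `p` is a minimal prime over `I` and `t ∈ p`, some power of `t` lies in `I` up to a
factor outside `p`. -/
lemma exists_mul_pow_mem_of_mem_minimalPrimes {I p : Ideal A} [hp : p.IsPrime]
    (hpI : p ∈ I.minimalPrimes) {t : A} (ht : t ∈ p) :
    ∃ u : A, u ∉ p ∧ ∃ k : ℕ, u * t ^ k ∈ I := by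
  have h1 := IsLocalization.AtPrime.radical_map_of_mem_minimalPrimes
    (A := Localization.AtPrime p) p I hpI
  have h2 : algebraMap A (Localization.AtPrime p) t ∈
      (I.map (algebraMap A (Localization.AtPrime p))).radical := by
    rw [h1]; exact Ideal.mem_map_of_mem _ ht
  obtain ⟨k, hk⟩ := h2
  rw [← map_pow, IsLocalization.mem_map_algebraMap_iff p.primeCompl] at hk
  obtain ⟨⟨a, s⟩, has⟩ := hk
  rw [← map_mul, IsLocalization.eq_iff_exists p.primeCompl] at has
  obtain ⟨c, hc⟩ := has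
  refine ⟨c.1 * s.1, fun h => ?_, k, ?_⟩
  · rcases hp.mem_or_mem h with h | h
    · exact c.2 h
    · exact s.2 h
  · have : c.1 * s.1 * t ^ k = c.1 * a.1 := by
      rw [← hc]; ring
    rw [this]
    exact I.mul_mem_left _ a.2

/-- Avoidance: given an injective family of minimal primes over `(π)` indexed by a finite type,
an index `i` and a set `Y` of indices not containing `i`, there is `s ∉ 𝔓 i` such that for
every `j ∈ Y` some multiple `u * s` with `u ∉ 𝔓 j` lies in `(π)`. -/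
lemma exists_avoid (π : A) {ι : Type*} [Finite ι] (𝔓 : ι → Ideal A) [∀ i, (𝔓 i).IsPrime]
    (h𝔓 : ∀ i, 𝔓 i ∈ (Ideal.span {π}).minimalPrimes) (h𝔓inj : Function.Injective 𝔓)
    (i : ι) (Y : Set ι) (hi : i ∉ Y) :
    ∃ s : A, s ∉ 𝔓 i ∧ ∀ j ∈ Y, ∃ u : A, u ∉ 𝔓 j ∧ ∃ a : A, u * s = π * a := by
  classical
  haveI : Fintype ι := Fintype.ofFinite ι
  have hstep : ∀ j : ι, ∃ t : A, t ∉ 𝔓 i ∧ (j ∈ Y → ∃ u : A, u ∉ 𝔓 j ∧ u * t ∈ Ideal.span {π}) := by
    intro j
    by_cases hj : j ∈ Y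
    · have hne : ¬ (𝔓 j ≤ 𝔓 i) := by
        intro hle
        have : 𝔓 i ≤ 𝔓 j := (h𝔓 i).2 ⟨inferInstance, (h𝔓 j).1.2⟩ hle
        have : i = j := h𝔓inj (le_antisymm this hle)
        exact hi (this ▸ hj)
      obtain ⟨t, htj, hti⟩ := Set.not_subset.mp hne
      obtain ⟨u, hu, k, hk⟩ := exists_mul_pow_mem_of_mem_minimalPrimes (h𝔓 j) htj
      exact ⟨t ^ k, fun h => hti (Ideal.IsPrime.mem_of_pow_mem inferInstance k h),
        fun _ => ⟨u, hu, hk⟩⟩
    · exact ⟨1, fun h => (Ideal.IsPrime.ne_top inferInstance) ((Ideal.eq_top_iff_one _).mpr h),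
        fun h => absurd h hj⟩
  choose t ht1 ht2 using hstep
  refine ⟨∏ j, t j, ?_, ?_⟩
  · intro h
    rw [Ideal.IsPrime.prod_mem_iff] at h
    obtain ⟨j, -, hj⟩ := h
    exact ht1 j hj
  · intro j hj
    obtain ⟨u, hu, hut⟩ := ht2 j hj
    refine ⟨u, hu, ?_⟩
    obtain ⟨c, hc⟩ := Finset.dvd_prod_of_mem t (Finset.mem_univ j)
    have : u * ∏ j, t j ∈ Ideal.span {π} := by
      rw [hc, ← mul_assoc]
      exact Ideal.mul_mem_right _ _ hut
    rw [Ideal.mem_span_singleton'] at this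
    obtain ⟨a, ha⟩ := this
    exact ⟨a, by rw [← ha, mul_comm]⟩

/-- Elementary description of the preimage in `X` of the elements of `X ⧸ πX` vanishing at all
`𝔓 i`, `i ∈ T`. -/
lemma mem_comap_iInf_ker_iff (π : A) {ι : Type*} (𝔓 : ι → Ideal A) [∀ i, (𝔓 i).IsPrime]
    {X : Type*} [AddCommGroup X] [Module A X] (T : Set ι) (x : X) :
    x ∈ (⨅ i ∈ T, LinearMap.ker (LocalizedModule.mkLinearMap (𝔓 i).primeCompl
        (X ⧸ Ideal.span {π} • (⊤ : Submodule A X)))).comap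
          (Submodule.mkQ (Ideal.span {π} • (⊤ : Submodule A X))) ↔
      ∀ i ∈ T, ∃ s : A, s ∉ 𝔓 i ∧ ∃ x' : X, s • x = π • x' := by
  rw [Submodule.mem_comap]
  simp only [Submodule.mem_iInf, LinearMap.mem_ker]
  exact forall₂_congr fun i _ => mkLinearMap_mkQ_eq_zero_iff π (𝔓 i) x

/-- Same for elements of the quotient written as `mkQ x`. -/
lemma mkQ_mem_iInf_ker_iff (π : A) {ι : Type*} (𝔓 : ι → Ideal A) [∀ i, (𝔓 i).IsPrime]
    {X : Type*} [AddCommGroup X] [Module A X] (T : Set ι) (x : X) :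
    (Submodule.mkQ (Ideal.span {π} • (⊤ : Submodule A X))) x ∈
      (⨅ i ∈ T, LinearMap.ker (LocalizedModule.mkLinearMap (𝔓 i).primeCompl
        (X ⧸ Ideal.span {π} • (⊤ : Submodule A X)))) ↔
      ∀ i ∈ T, ∃ s : A, s ∉ 𝔓 i ∧ ∃ x' : X, s • x = π • x' :=
  mem_comap_iInf_ker_iff π 𝔓 T x

end Groth.Agent.Lib.Helper1.ModifLib
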