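import Mathlib
import Groth.Agent.Lib.Helper1.KummerSeq

set_option autoImplicit false
set_option linter.style.haveILetI false
universe u
open CategoryTheory MonoidalCategory CartesianMonoidalCategory MonObj GrpObj AlgebraicGeometry CategoryTheory.Limits
open Red
open Groth.Agent.Lib.Helper13 Groth.Agent.Lib.Helper1.DiagGa Groth.Agent.Lib.Helper1.Kummer

namespace Groth.Agent.Lib.Helper1.MuSub

/-- A nontrivial finitely generated abelian group surjects onto `ℤ/r` for some prime `r`. -/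
theorem exists_surjective_zmod (M : Type) [AddCommGroup M] [AddGroup.FG M] [Nontrivial M] :
    ∃ (r : ℕ) (_ : r.Prime) (φ : M →+ ZMod r), Function.Surjective φ := by
  haveI : Module.Finite ℤ M := Module.Finite.iff_addGroup_fg.mpr inferInstance
  obtain ⟨N, hN⟩ := (eq_top_or_exists_le_coatom (⊥ : Submodule ℤ M)).resolve_left bot_ne_top
  have hco : IsCoatom N := hN.1
  haveI : IsSimpleModule ℤ (M ⧸ N) := isSimpleModule_iff_isCoatom.mpr hco
  obtain ⟨I, hI, ⟨e⟩⟩ := isSimpleModule_iff_quot_maximal.mp (inferInstance : IsSimpleModule ℤ (M ⧸ N))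
  have hI0 : I ≠ ⊥ := Ring.ne_bot_of_isMaximal_of_not_isField hI Int.not_isField
  have hprime := Submodule.IsPrincipal.prime_generator_of_isPrime I hI0
  set g := Submodule.IsPrincipal.generator I with hg
  have hp : (g.natAbs).Prime := Int.prime_iff_natAbs_prime.mp hprime
  have hIspan : I = Ideal.span {((g.natAbs : ℕ) : ℤ)} := by
    rw [Int.span_natAbs, hg, Ideal.span_singleton_generator]
  refine ⟨g.natAbs, hp, ?_⟩
  let e2 : (ℤ ⧸ I) ≃+* ZMod g.natAbs :=
    (Ideal.quotEquivOfEq hIspan).trans (Int.quotientSpanNatEquivZMod g.natAbs)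
  refine ⟨(e2 : (ℤ ⧸ I) →+ ZMod g.natAbs).comp
    ((e : (M ⧸ N) →+ (ℤ ⧸ I)).comp (N.mkQ : M →+ (M ⧸ N))), ?_⟩
  intro z
  obtain ⟨y, rfl⟩ := e2.surjective z
  obtain ⟨x, rfl⟩ := e.surjective y
  obtain ⟨m, rfl⟩ := N.mkQ_surjective x
  exact ⟨m, rfl⟩

section Closed

variable (S : Scheme.{u}) {M N : Type} [AddCommGroup M] [AddCommGroup N]

lemma isClosedImmersion_DSmap (φ : M →+ N) (hφ : Function.Surjective φ) :
    IsClosedImmersion (DSmap S φ).left := by
  apply Groth.Agent.Lib.Helper18.map_left_of_stableUnderBaseChange @IsClosedImmersion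
  change IsClosedImmersion (Spec.map (CommRingCat.ofHom
    (MonoidAlgebra.mapDomainAlgHom (ULift.{u} ℤ) (ULift.{u} ℤ)
      (AddMonoidHom.toMultiplicative φ)).toRingHom))
  apply IsClosedImmersion.spec_of_surjective
  intro x
  induction x using MonoidAlgebra.induction_on with
  | of m =>
    obtain ⟨m', hm'⟩ := hφ (Multiplicative.toAdd m)
    refine ⟨MonoidAlgebra.of _ _ (Multiplicative.ofAdd m'), ?_⟩
    simp [hm']
  | add a b ha hb =>
    obtain ⟨a', rfl⟩ := ha
    obtain ⟨b', rfl⟩ := hb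
    exact ⟨a' + b', map_add _ _ _⟩
  | smul r a ha =>
    obtain ⟨a', rfl⟩ := ha
    refine ⟨r • a', ?_⟩
    change (MonoidAlgebra.mapDomainAlgHom (ULift.{u} ℤ) (ULift.{u} ℤ)
      (AddMonoidHom.toMultiplicative φ)) (r • a') = r • (MonoidAlgebra.mapDomainAlgHom (ULift.{u} ℤ)
      (ULift.{u} ℤ) (AddMonoidHom.toMultiplicative φ)) a'
    rw [map_smul]

theorem exists_mu_closedSubgroup (M : Type) [AddCommGroup M] [AddGroup.FG M] [Nontrivial M] :
    ∃ (r : ℕ) (_ : r.Prime) (j : Red.DS S (ZMod r) ⟶ Red.DS S M),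
      IsMonHom j ∧ IsClosedImmersion j.left := by
  obtain ⟨r, hr, φ, hφ⟩ := exists_surjective_zmod M
  exact ⟨r, hr, DSmap S φ, inferInstance, isClosedImmersion_DSmap S φ hφ⟩

end Closed

end Groth.Agent.Lib.Helper1.MuSub
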