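import Mathlib
import Groth.Prelude.Def_SGA3b

/-!
# Rigidity of homomorphisms from groups of multiplicative type (Hopf-algebra form)

* `ValIn J n g`: the linear functional `g` takes values in `J ^ n`.
* `eq_zero_of_eq_mul`: in the convolution ring, `d = d * u` with `u` valued in a nilpotent ideal
  forces `d = 0`; corollaries for idempotents.
* `coeffFun m`: coefficient functional on a group algebra; it is a convolution idempotent.
* `convIdem_comp_mk`: base change of convolution idempotents.
* `IsCharFun`, `eq_zero_of_forall_charFun`: for `A` of multiplicative type over `R`, the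
  "character functionals" `A → T` (convolution idempotents with `l 1 ∈ {0,1}`) detect zero.
-/

set_option autoImplicit false

namespace Groth.Agent.Lib.Helper1.MultType

open TensorProduct WithConv Coalgebra

universe u

section ConvIdem

variable {R : Type*} [CommRing R] {C : Type*} [AddCommGroup C] [Module R C] [Coalgebra R C]
  {T : Type*} [CommRing T] [Algebra R T]

/-- the functional `g` takes values in `J ^ n` -/
def ValIn (J : Ideal T) (n : ℕ) (g : C →ₗ[R] T) : Prop := ∀ c, g c ∈ J ^ n

lemma valIn_zero (J : Ideal T) (g : C →ₗ[R] T) : ValIn J 0 g := by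
  intro c
  rw [pow_zero, Ideal.one_eq_top]
  exact Submodule.mem_top

lemma valIn_mul {J : Ideal T} {a b : ℕ} {g g' : WithConv (C →ₗ[R] T)}
    (hg : ValIn J a g.ofConv) (hg' : ValIn J b g'.ofConv) : ValIn J (a + b) (g * g').ofConv := by
  intro c
  change LinearMap.mul' R T (TensorProduct.map g.ofConv g'.ofConv (comul (R := R) c)) ∈ J ^ (a + b)
  generalize comul (R := R) c = t
  induction t with
  | zero => simp
  | tmul x y =>
    rw [map_tmul, LinearMap.mul'_apply, pow_add]
    exact Ideal.mul_mem_mul (hg x) (hg' y)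
  | add x y hx hy =>
    rw [map_add, map_add]
    exact Ideal.add_mem _ hx hy

lemma eq_zero_of_eq_mul {J : Ideal T} (hJ : IsNilpotent J) (d u : WithConv (C →ₗ[R] T))
    (hu : ValIn J 1 u.ofConv) (hd : d = d * u) : d = 0 := by
  have key : ∀ n, ValIn J n d.ofConv := by
    intro n
    induction n with
    | zero => exact valIn_zero J _
    | succ n ih =>
      have := valIn_mul ih hu
      rwa [← hd] at this
  obtain ⟨k, hk⟩ := hJ
  apply WithConv.ofConv_injective
  ext c
  have := key k c
  rw [hk] at this
  simpa using this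

/-- a convolution idempotent with values in a nilpotent ideal vanishes -/
lemma eq_zero_of_idem {J : Ideal T} (hJ : IsNilpotent J) (g : C →ₗ[R] T)
    (hg : toConv g * toConv g = toConv g) (hv : ∀ c, g c ∈ J) : g = 0 := by
  have h1 : toConv g = 0 := by
    refine eq_zero_of_eq_mul hJ (toConv g) (toConv g) ?_ hg.symm
    intro c
    rw [pow_one]
    exact hv c
  exact WithConv.toConv_injective h1

/-- two convolution idempotents over a cocommutative coalgebra that agree modulo a nilpotent ideal
are equal -/
lemma eq_of_idem_of_cocomm [IsCocomm R C] {J : Ideal T} (hJ : IsNilpotent J) (g g' : C →ₗ[R] T)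
    (hg : toConv g * toConv g = toConv g) (hg' : toConv g' * toConv g' = toConv g')
    (hv : ∀ c, g c - g' c ∈ J) : g = g' := by
  set d : WithConv (C →ₗ[R] T) := toConv g - toConv g' with hd
  have hd1 : ValIn J 1 d.ofConv := by
    intro c
    rw [pow_one]
    exact hv c
  have hd2 : ValIn J 1 (d * d).ofConv := by
    intro c
    have := valIn_mul hd1 hd1 c
    exact Ideal.pow_le_pow_right (by norm_num : 1 ≤ 1 + 1) this
  have hd3 : d = d * (d * d) := by
    rw [hd]
    linear_combination (-(toConv g + 1 - 3 * toConv g')) * hg +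
      (-(-(toConv g') - 1 + 3 * toConv g)) * hg'
  have h0 : d = 0 := eq_zero_of_eq_mul hJ d (d * d) hd2 hd3
  rw [hd, sub_eq_zero] at h0
  exact WithConv.toConv_injective h0

end ConvIdem

section GroupAlgebra

variable {T : Type*} [CommRing T] {M : Type*} [CommGroup M]

/-- the coefficient functional of a group algebra -/
noncomputable def coeffFun (m : M) : MonoidAlgebra T M →ₗ[T] T :=
  (Finsupp.lapply m : (M →₀ T) →ₗ[T] T).comp (MonoidAlgebra.coeffLinearEquiv T).toLinearMap

lemma coeffFun_single [DecidableEq M] (m m' : M) (r : T) :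
    coeffFun m (MonoidAlgebra.single m' r) = if m' = m then r else 0 := by
  simp [coeffFun, Finsupp.single_apply]

lemma coeffFun_idem (m : M) :
    toConv (coeffFun (T := T) m) * toConv (coeffFun m) = toConv (coeffFun m) := by
  classical
  apply WithConv.ofConv_injective
  apply MonoidAlgebra.lhom_ext'
  intro m'
  refine LinearMap.ext fun r => ?_
  change LinearMap.mul' T T (TensorProduct.map (coeffFun m) (coeffFun m)
    (comul (R := T) (MonoidAlgebra.single m' r))) = coeffFun m (MonoidAlgebra.single m' r)
  rw [MonoidAlgebra.comul_single]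
  simp only [CommSemiring.comul_apply, map_tmul, MonoidAlgebra.lsingle_apply,
    LinearMap.mul'_apply, coeffFun_single]
  split_ifs <;> simp

lemma eq_zero_of_coeffFun (x : MonoidAlgebra T M) (h : ∀ m, coeffFun m x = 0) : x = 0 := by
  apply (MonoidAlgebra.coeffLinearEquiv T (S := T) (M := M)).injective
  rw [map_zero]
  ext m
  exact h m

lemma coeffFun_one [DecidableEq M] (m : M) :
    coeffFun (T := T) m 1 = if (1 : M) = m then 1 else 0 := by
  rw [MonoidAlgebra.one_def, coeffFun_single]

end GroupAlgebra

section BaseChange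

variable {R S : Type*} [CommRing R] [CommRing S] [Algebra R S]
  {A : Type*} [AddCommGroup A] [Module R A] [Coalgebra R A]
  {T : Type*} [CommRing T] [Algebra S T] [Algebra R T] [IsScalarTower R S T]

/-- restriction of an `S`-linear functional on `S ⊗[R] A` along `a ↦ 1 ⊗ a` -/
noncomputable def restr (μ : S ⊗[R] A →ₗ[S] T) : A →ₗ[R] T :=
  (μ.restrictScalars R).comp (TensorProduct.mk R S A 1)

lemma restr_apply (μ : S ⊗[R] A →ₗ[S] T) (a : A) : restr μ a = μ (1 ⊗ₜ a) := rfl

lemma restr_idem (μ : S ⊗[R] A →ₗ[S] T) (hμ : toConv μ * toConv μ = toConv μ) :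
    toConv (restr μ) * toConv (restr μ) = toConv (restr μ) := by
  apply WithConv.ofConv_injective
  refine LinearMap.ext fun a => ?_
  have h1 : (toConv μ * toConv μ).ofConv ((1 : S) ⊗ₜ[R] a) = μ (1 ⊗ₜ a) := by rw [hμ]
  change LinearMap.mul' R T (TensorProduct.map (restr μ) (restr μ) (comul (R := R) a)) =
    μ (1 ⊗ₜ a)
  rw [← h1]
  change _ = LinearMap.mul' S T (TensorProduct.map μ μ (comul (R := S) ((1 : S) ⊗ₜ[R] a)))
  rw [TensorProduct.comul_tmul, CommSemiring.comul_apply]
  generalize comul (R := R) a = t
  induction t with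
  | zero => simp
  | tmul x y =>
    simp only [map_tmul, LinearMap.mul'_apply, restr_apply,
      AlgebraTensorModule.tensorTensorTensorComm_tmul]
  | add x y hx hy =>
    simp only [map_add, tmul_add] at hx hy ⊢
    rw [hx, hy]

end BaseChange

section Family

variable (R : Type u) [CommRing R] (A : Type u) [CommRing A] [HopfAlgebra R A]

/-- "character functionals": convolution idempotents `l : A → T` with `l 1 ∈ {0, 1}` -/
structure IsCharFun {T : Type u} [CommRing T] [Algebra R T] (l : A →ₗ[R] T) : Prop where
  idem : toConv l * toConv l = toConv l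
  one : l 1 = 0 ∨ l 1 = 1

variable {R A}

/-- For `A` of multiplicative type, character functionals detect zero. -/
theorem eq_zero_of_forall_charFun (h : SGA3b.IsMultType R A) (x : A)
    (hx : ∀ (T : Type u) [CommRing T] [Algebra R T] (l : A →ₗ[R] T), IsCharFun R A l → l x = 0) :
    x = 0 := by
  classical
  obtain ⟨s, hs, hf⟩ := h
  -- it suffices to kill `x` by a power of each `f ∈ s`
  suffices hkey : ∀ f ∈ s, ∃ n : ℕ, f ^ n • x = 0 by
    let I : Ideal R := (⊥ : Submodule R A).colon {x}
    have hI : I.radical = ⊤ := by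
      rw [eq_top_iff, ← hs, Ideal.span_le]
      intro f hfs
      obtain ⟨n, hn⟩ := hkey f hfs
      refine ⟨n, ?_⟩
      rw [Submodule.mem_colon_singleton, hn]
      exact Submodule.zero_mem _
    have hI' : I = ⊤ := Ideal.radical_eq_top.mp hI
    have h1 : (1 : R) ∈ I := hI' ▸ Submodule.mem_top
    rw [Submodule.mem_colon_singleton, one_smul] at h1
    simpa using h1
  intro f hfs
  obtain ⟨R', _, _, hff, M, _, ⟨e⟩⟩ := hf f hfs
  letI : Algebra R R' :=
    ((algebraMap (Localization.Away f) R').comp (algebraMap R (Localization.Away f))).toAlgebra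
  haveI : IsScalarTower R (Localization.Away f) R' := IsScalarTower.of_algebraMap_eq fun _ => rfl
  -- the functionals
  let μ : M → (R' ⊗[Localization.Away f] (Localization.Away f ⊗[R] A) →ₗ[R'] R') := fun m =>
    (coeffFun m).comp e.toCoalgEquiv.toCoalgHom.toLinearMap
  have hμ : ∀ m, toConv (μ m) * toConv (μ m) = toConv (μ m) := by
    intro m
    have h1 := LinearMap.convMul_comp_coalgHom_distrib (toConv (coeffFun (T := R') m))
      (toConv (coeffFun m)) e.toCoalgEquiv.toCoalgHom
    rw [coeffFun_idem] at h1
    apply WithConv.ofConv_injective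
    exact h1.symm
  let l : M → (A →ₗ[R] R') := fun m => restr (restr (μ m))
  have hl : ∀ m, IsCharFun R A (l m) := by
    intro m
    refine ⟨restr_idem _ (restr_idem _ (hμ m)), ?_⟩
    have h1 : l m 1 = coeffFun m (e 1) := by
      change μ m ((1 : R') ⊗ₜ ((1 : Localization.Away f) ⊗ₜ (1 : A))) = _
      rfl
    rw [h1, map_one, coeffFun_one]
    split_ifs
    · right; rfl
    · left; rfl
  -- all coefficients of the image of `x` vanish
  have h2 : e ((1 : R') ⊗ₜ ((1 : Localization.Away f) ⊗ₜ x)) = 0 := by
    apply eq_zero_of_coeffFun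
    intro m
    exact hx R' (l m) (hl m)
  have h3 : (1 : R') ⊗ₜ[Localization.Away f] ((1 : Localization.Away f) ⊗ₜ[R] x) = 0 := by
    exact e.injective (h2.trans (map_zero e).symm)
  have h4 : (1 : Localization.Away f) ⊗ₜ[R] x = 0 := by
    apply Module.FaithfullyFlat.tensorProduct_mk_injective (A := Localization.Away f) (B := R')
      (Localization.Away f ⊗[R] A)
    change (1 : R') ⊗ₜ[Localization.Away f] ((1 : Localization.Away f) ⊗ₜ[R] x) = _
    rw [h3, map_zero]
  have : IsLocalizedModule (Submonoid.powers f) (TensorProduct.mk R (Localization.Away f) A 1) :=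
    (isLocalizedModule_iff_isBaseChange (Submonoid.powers f) (Localization.Away f) _).mpr
      (TensorProduct.isBaseChange R A (Localization.Away f))
  obtain ⟨⟨_, n, rfl⟩, hn⟩ := (IsLocalizedModule.eq_zero_iff (Submonoid.powers f)
    (TensorProduct.mk R (Localization.Away f) A 1)).mp h4
  exact ⟨n, hn⟩

end Family

section Apply

variable {R : Type u} [CommRing R] {A : Type u} [CommRing A] [HopfAlgebra R A]
  {T : Type u} [CommRing T] [Algebra R T]

/-- equality after `(R ⧸ I) ⊗ -` gives congruence of values of functionals modulo `I T` -/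
lemma sub_mem_map_of_tmul_eq (I : Ideal R) (l : A →ₗ[R] T) (y y' : A)
    (h : (1 : R ⧸ I) ⊗ₜ[R] y = (1 : R ⧸ I) ⊗ₜ[R] y') :
    l y - l y' ∈ Ideal.map (algebraMap R T) I := by
  have h1 := congrArg (LinearMap.lTensor (R ⧸ I) l) h
  rw [LinearMap.lTensor_tmul, LinearMap.lTensor_tmul] at h1
  have h2 := congrArg (TensorProduct.quotTensorEquivQuotSMul T I) h1
  rw [TensorProduct.quotTensorEquivQuotSMul_mk_one_tmul,
    TensorProduct.quotTensorEquivQuotSMul_mk_one_tmul] at h2
  have h3 : l y - l y' ∈ (I • ⊤ : Submodule R T) := (Submodule.Quotient.eq _).mp h2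
  have hle : (I • ⊤ : Submodule R T) ≤ (Ideal.map (algebraMap R T) I).restrictScalars R := by
    rw [Submodule.smul_le]
    intro r hr t _
    rw [Submodule.restrictScalars_mem, Algebra.smul_def]
    exact Ideal.mul_mem_right _ _ (Ideal.mem_map_of_mem _ hr)
  exact hle h3

lemma isNilpotent_map {I : Ideal R} (hI : IsNilpotent I) :
    IsNilpotent (Ideal.map (algebraMap R T) I) := by
  obtain ⟨k, hk⟩ := hI
  refine ⟨k, ?_⟩
  rw [← Ideal.map_pow, hk, Ideal.zero_eq_bot, Ideal.map_bot]
  exact Ideal.zero_eq_bot.symm

variable {C : Type u} [CommRing C] [HopfAlgebra R C]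

lemma comp_idem (l : A →ₗ[R] T) (hl : toConv l * toConv l = toConv l) (φ : C →ₐc[R] A) :
    toConv (l.comp φ.toCoalgHom.toLinearMap) * toConv (l.comp φ.toCoalgHom.toLinearMap) =
      toConv (l.comp φ.toCoalgHom.toLinearMap) := by
  have h1 := LinearMap.convMul_comp_coalgHom_distrib (toConv l) (toConv l) φ.toCoalgHom
  rw [hl] at h1
  apply WithConv.ofConv_injective
  exact h1.symm

/-- **Rigidity** (SGA3 IX 3.4, affine target): a homomorphism from a group of multiplicative type
which is trivial modulo a nilpotent ideal is trivial. -/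
theorem bialgHom_eq_trivial (I : Ideal R) (hI : IsNilpotent I) (hH : SGA3b.IsMultType R A)
    (φ : C →ₐc[R] A)
    (h0 : ∀ c : C, (1 : R ⧸ I) ⊗ₜ[R] (φ c) =
      (1 : R ⧸ I) ⊗ₜ[R] (algebraMap R A (Coalgebra.counit c))) :
    ∀ c : C, φ c = algebraMap R A (Coalgebra.counit c) := by
  intro c
  rw [← sub_eq_zero]
  apply eq_zero_of_forall_charFun hH
  intro T _ _ l hl
  have hJ := isNilpotent_map (T := T) hI
  set g : C →ₗ[R] T := l.comp φ.toCoalgHom.toLinearMap with hg
  have hgi := comp_idem l hl.idem φ
  have hval : ∀ c' : C, g c' - (Coalgebra.counit (R := R) c') • l 1 ∈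
      Ideal.map (algebraMap R T) I := by
    intro c'
    have := sub_mem_map_of_tmul_eq I l _ _ (h0 c')
    rwa [Algebra.algebraMap_eq_smul_one, map_smul] at this
  rw [map_sub, Algebra.algebraMap_eq_smul_one, map_smul]
  change g c - _ = 0
  rcases hl.one with h1 | h1
  · have hg0 : g = 0 := by
      refine eq_zero_of_idem hJ g hgi fun c' => ?_
      have := hval c'
      rwa [h1, smul_zero, sub_zero] at this
    rw [hg0, h1, smul_zero, sub_zero, LinearMap.zero_apply]
  · have hidem : (1 - toConv g) * (1 - toConv g) = 1 - toConv g :=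
      (IsIdempotentElem.one_sub (show IsIdempotentElem (toConv g) from hgi)).eq
    have hh0 : (1 - toConv g : WithConv (C →ₗ[R] T)).ofConv = 0 := by
      refine eq_zero_of_idem hJ _ hidem fun c' => ?_
      have := hval c'
      rw [h1] at this
      have h2 : (1 - toConv g : WithConv (C →ₗ[R] T)).ofConv c' =
          algebraMap R T (Coalgebra.counit c') - g c' := rfl
      rw [h2, Algebra.algebraMap_eq_smul_one]
      have h3 := Ideal.neg_mem_iff _ |>.mpr this
      rwa [neg_sub] at h3
    have h2 : algebraMap R T (Coalgebra.counit c) - g c = 0 := by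
      have := congrArg (fun q : C →ₗ[R] T => q c) hh0
      exact this
    rw [h1, ← Algebra.algebraMap_eq_smul_one, ← neg_sub, h2, neg_zero]

/-- **Rigidity** (SGA3 IX 3.4 bis, commutative affine target): two homomorphisms from a group of
multiplicative type to a commutative group which agree modulo a nilpotent ideal are equal. -/
theorem bialgHom_eq_of_cocomm [Coalgebra.IsCocomm R C] (I : Ideal R) (hI : IsNilpotent I)
    (hH : SGA3b.IsMultType R A) (φ ψ : C →ₐc[R] A)
    (h0 : ∀ c : C, (1 : R ⧸ I) ⊗ₜ[R] (φ c) = (1 : R ⧸ I) ⊗ₜ[R] (ψ c)) :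
    φ = ψ := by
  apply DFunLike.ext
  intro c
  rw [← sub_eq_zero]
  apply eq_zero_of_forall_charFun hH
  intro T _ _ l hl
  have hJ := isNilpotent_map (T := T) hI
  have h1 : l.comp φ.toCoalgHom.toLinearMap = l.comp ψ.toCoalgHom.toLinearMap :=
    eq_of_idem_of_cocomm hJ _ _ (comp_idem l hl.idem φ) (comp_idem l hl.idem ψ)
      fun c' => sub_mem_map_of_tmul_eq I l _ _ (h0 c')
  rw [map_sub, sub_eq_zero]
  exact congrArg (fun q : C →ₗ[R] T => q c) h1

end Apply

end Groth.Agent.Lib.Helper1.MultType
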