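import Mathlib

set_option autoImplicit false
open TopologicalSpace Set

namespace Groth.Agent.Lib.Helper1.NagataTop

variable {α : Type*} [TopologicalSpace α]

/-- Nagata's topological criterion for openness in a Noetherian sober space. -/
theorem isClosed_compl_inter [NoetherianSpace α] [QuasiSober α] (E : Set α)
    (hgen : StableUnderGeneralization E)
    (hN : ∀ x ∈ E, ∃ U : Set α, IsOpen U ∧ (U ∩ closure {x}).Nonempty ∧ U ∩ closure {x} ⊆ E) :
    ∀ Z : Closeds α, IsClosed (Eᶜ ∩ (Z : Set α)) := by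
  intro Z
  induction Z using WellFounded.induction (r := ((· < ·) : Closeds α → Closeds α → Prop))
    (hwf := wellFounded_lt) with
  | _ Z IH => ?_
  by_cases hirr : IsIrreducible (Z : Set α)
  swap
  · by_cases hne : (Z : Set α).Nonempty
    swap
    · rw [Set.not_nonempty_iff_eq_empty] at hne
      rw [hne, Set.inter_empty]
      exact isClosed_empty
    have hpre : ¬ IsPreirreducible (Z : Set α) := fun h => hirr ⟨hne, h⟩
    rw [isPreirreducible_iff_isClosed_union_isClosed] at hpre
    push Not at hpre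
    obtain ⟨z₁, z₂, hz₁, hz₂, hsub, hn₁, hn₂⟩ := hpre
    have key : ∀ z : Set α, IsClosed z → ¬ (Z : Set α) ⊆ z → IsClosed (Eᶜ ∩ ((Z : Set α) ∩ z)) := by
      intro z hz hn
      let Z' : Closeds α := ⟨(Z : Set α) ∩ z, Z.isClosed.inter hz⟩
      have hlt : Z' < Z := by
        refine lt_of_le_of_ne (Set.inter_subset_left) fun h => hn ?_
        have : (Z : Set α) = (Z : Set α) ∩ z := congrArg (fun W : Closeds α => (W : Set α)) h.symm
        rw [this]
        exact Set.inter_subset_right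
      exact IH Z' hlt
    have : Eᶜ ∩ (Z : Set α) = (Eᶜ ∩ ((Z : Set α) ∩ z₁)) ∪ (Eᶜ ∩ ((Z : Set α) ∩ z₂)) := by
      rw [← Set.inter_union_distrib_left, ← Set.inter_union_distrib_left,
        Set.inter_eq_left.2 hsub]
    rw [this]
    exact (key z₁ hz₁ hn₁).union (key z₂ hz₂ hn₂)
  -- irreducible case
  set η := hirr.genericPoint with hη_def
  have hη : closure {η} = (Z : Set α) := hirr.isGenericPoint_genericPoint Z.isClosed
  by_cases hηE : η ∈ E
  · obtain ⟨U, hU, hne, hsub⟩ := hN η hηE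
    rw [hη] at hne hsub
    let Z' : Closeds α := ⟨(Z : Set α) ∩ Uᶜ, Z.isClosed.inter hU.isClosed_compl⟩
    have hlt : Z' < Z := by
      refine lt_of_le_of_ne (Set.inter_subset_left) fun h => ?_
      have h1 : (Z : Set α) = (Z : Set α) ∩ Uᶜ := congrArg (fun W : Closeds α => (W : Set α)) h.symm
      obtain ⟨y, hyU, hyZ⟩ := hne
      rw [h1] at hyZ
      exact hyZ.2 hyU
    have h2 : Eᶜ ∩ (Z : Set α) = Eᶜ ∩ ((Z : Set α) ∩ Uᶜ) := by
      ext y
      constructor
      · rintro ⟨hyE, hyZ⟩
        exact ⟨hyE, hyZ, fun hyU => hyE (hsub ⟨hyU, hyZ⟩)⟩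
      · rintro ⟨hyE, hyZ, -⟩
        exact ⟨hyE, hyZ⟩
    rw [h2]
    exact IH Z' hlt
  · have h2 : Eᶜ ∩ (Z : Set α) = (Z : Set α) := by
      apply Set.inter_eq_right.2
      intro y hyZ hyE
      apply hηE
      have : η ⤳ y := by
        rw [specializes_iff_mem_closure, hη]; exact hyZ
      exact hgen this hyE
    rw [h2]
    exact Z.isClosed

theorem isOpen_of_nagata [NoetherianSpace α] [QuasiSober α] (E : Set α)
    (hgen : StableUnderGeneralization E)
    (hN : ∀ x ∈ E, ∃ U : Set α, IsOpen U ∧ (U ∩ closure {x}).Nonempty ∧ U ∩ closure {x} ⊆ E) :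
    IsOpen E := by
  rw [← isClosed_compl_iff]
  have := isClosed_compl_inter E hgen hN ⊤
  simpa using this

end Groth.Agent.Lib.Helper1.NagataTop
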