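import Mathlib

/-!
# Nakayama/Krull-type lemmas for spreading out from `V(J)` (helper1)
-/
set_option autoImplicit false
universe u

namespace Groth.Agent.Lib.Helper1.NearSuppAlg

variable {B C : Type u} [CommRing B] [CommRing C]

/-- If `φ : B → C` is finite and `C = φ(B) + J C`, then `φ` becomes surjective after inverting some
`b₀ ≡ 1 mod J`. -/
theorem exists_mul_mem_range (φ : B →+* C) (hφ : φ.Finite) (J : Ideal B)
    (h : ∀ c : C, ∃ b : B, c - φ b ∈ J.map φ) :
    ∃ b₀ : B, b₀ - 1 ∈ J ∧ ∀ c : C, ∃ b : B, φ b₀ * c = φ b := by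
  letI := φ.toAlgebra
  haveI : Module.Finite B C := hφ
  let R : Submodule B C := LinearMap.range (Algebra.linearMap B C)
  have hfg : (⊤ : Submodule B (C ⧸ R)).FG := Module.Finite.fg_top
  have hle : (⊤ : Submodule B (C ⧸ R)) ≤ J • (⊤ : Submodule B (C ⧸ R)) := by
    intro m _
    obtain ⟨c, rfl⟩ := R.mkQ_surjective m
    obtain ⟨b, hb⟩ := h c
    have h1 : R.mkQ c = R.mkQ (c - φ b) := by
      have h0 : R.mkQ (φ b) = 0 := (Submodule.Quotient.mk_eq_zero R).2 ⟨b, rfl⟩
      rw [map_sub, h0, sub_zero]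
    rw [h1]
    have h2 : c - φ b ∈ J • (⊤ : Submodule B C) := by
      rw [Ideal.smul_top_eq_map]
      exact hb
    have h3 : R.mkQ (c - φ b) ∈ Submodule.map R.mkQ (J • (⊤ : Submodule B C)) :=
      ⟨_, h2, rfl⟩
    rw [Submodule.map_smul''] at h3
    exact Submodule.smul_mono le_rfl le_top h3
  obtain ⟨r, hr1, hr2⟩ :=
    Submodule.exists_sub_one_mem_and_smul_eq_zero_of_fg_of_le_smul J ⊤ hfg hle
  refine ⟨r, hr1, fun c => ?_⟩
  have h1 := hr2 (R.mkQ c) trivial
  rw [← map_smul, Submodule.mkQ_apply, Submodule.Quotient.mk_eq_zero] at h1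
  obtain ⟨b, hb⟩ := h1
  refine ⟨b, ?_⟩
  have h4 : r • c = φ r * c := Algebra.smul_def r c
  rw [← h4, ← hb]
  rfl

/-- Krull: an ideal contained in all powers of `J` (Noetherian ring) is killed by some
`b₀ ≡ 1 mod J`. -/
theorem exists_mul_eq_zero [IsNoetherianRing B] (J K : Ideal B) (h : ∀ n : ℕ, K ≤ J ^ n) :
    ∃ b₀ : B, b₀ - 1 ∈ J ∧ ∀ k ∈ K, b₀ * k = 0 := by
  classical
  have hmem : ∀ k ∈ K, ∃ r ∈ J, r * k = k := by
    intro k hk
    have h1 : k ∈ (⨅ i : ℕ, J ^ i • ⊤ : Submodule B B) := by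
      rw [Submodule.mem_iInf]
      intro i
      have : J ^ i • (⊤ : Submodule B B) = J ^ i := by
        rw [smul_eq_mul, Ideal.mul_top]
      rw [this]
      exact h i hk
    obtain ⟨r, hr⟩ := (Ideal.mem_iInf_smul_pow_eq_bot_iff J k).1 h1
    exact ⟨r.1, r.2, hr⟩
  obtain ⟨S, hS⟩ := (isNoetherian_def.1 (inferInstance : IsNoetherian B B)) K
  have hSK : ∀ s ∈ S, s ∈ K := fun s hs => hS ▸ Submodule.subset_span hs
  choose! r hrJ hrk using hmem
  refine ⟨∏ s ∈ S, (1 - r s), ?_, ?_⟩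
  · -- product of elements ≡ 1 mod J
    have : ∀ T : Finset B, (∏ s ∈ T, (1 - r s)) - 1 ∈ J ∨ True := fun _ => Or.inr trivial
    have key : ∀ T : Finset B, T ⊆ S → (∏ s ∈ T, (1 - r s)) - 1 ∈ J := by
      intro T
      induction T using Finset.induction_on with
      | empty => intro _; simp
      | insert a T ha ih =>
        intro hT
        rw [Finset.prod_insert ha]
        have h1 := ih (fun x hx => hT (Finset.mem_insert_of_mem hx))
        have h2 : r a ∈ J := hrJ a (hSK a (hT (Finset.mem_insert_self a T)))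
        have : (1 - r a) * ∏ s ∈ T, (1 - r s) - 1 =
            (∏ s ∈ T, (1 - r s) - 1) - r a * ∏ s ∈ T, (1 - r s) := by ring
        rw [this]
        exact J.sub_mem h1 (J.mul_mem_right _ h2)
    exact key S le_rfl
  · intro k hk
    rw [← hS] at hk
    refine Submodule.span_induction (p := fun k _ => (∏ s ∈ S, (1 - r s)) * k = 0) ?_ ?_ ?_ ?_ hk
    · intro s hs
      have hs' : s ∈ S := hs
      rw [← Finset.mul_prod_erase S _ hs', mul_comm (1 - r s), mul_assoc]
      have : (1 - r s) * s = 0 := by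
        rw [sub_mul, one_mul, hrk s (hSK s hs'), sub_self]
      rw [this, mul_zero]
    · exact mul_zero _
    · intro x y _ _ hx hy
      rw [mul_add, hx, hy, add_zero]
    · intro a x _ hx
      rw [smul_eq_mul, mul_left_comm, hx, mul_zero]

end Groth.Agent.Lib.Helper1.NearSuppAlg
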