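import Mathlib
import Groth.Agent.Lib.Helper1.NearSuppAlg

/-!
# Spreading out properties of a morphism from the infinitesimal neighbourhoods of a closed subset
(helper1)
-/
set_option autoImplicit false
universe u
open CategoryTheory CategoryTheory.Limits AlgebraicGeometry TopologicalSpace Opposite

namespace Groth.Agent.Lib.Helper1.NearSupp

variable {X Y : Scheme.{u}} (f : X ⟶ Y)

section Restrict

variable (P : MorphismProperty Scheme.{u}) [IsZariskiLocalAtTarget P]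

theorem restrict_of_le {D D' : Y.Opens} (h : D' ≤ D) (hf : P (f ∣_ D)) : P (f ∣_ D') := by
  have h1 : P (f ∣_ D ∣_ D.ι ⁻¹ᵁ D') := IsZariskiLocalAtTarget.restrict hf _
  rw [P.arrow_mk_iso_iff (morphismRestrictRestrict f D _)] at h1
  have e : D.ι ''ᵁ (D.ι ⁻¹ᵁ D') = D' := by
    rw [Scheme.Hom.image_preimage_eq_opensRange_inf, Scheme.Opens.opensRange_ι, inf_eq_right.2 h]
  exact (P.arrow_mk_iso_iff (morphismRestrictEq f e)).1 h1

theorem restrict_of_cover (V : Y.Opens)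
    (H : ∀ y ∈ V, ∃ D : Y.Opens, y ∈ D ∧ P (f ∣_ D)) : P (f ∣_ V) := by
  apply IsZariskiLocalAtTarget.of_forall_exists_morphismRestrict
  intro x
  obtain ⟨D, hyD, hD⟩ := H x.1 x.2
  refine ⟨V.ι ⁻¹ᵁ D, hyD, ?_⟩
  rw [P.arrow_mk_iso_iff (morphismRestrictRestrict f V _)]
  have e : V.ι ''ᵁ (V.ι ⁻¹ᵁ D) = V ⊓ D := by
    rw [Scheme.Hom.image_preimage_eq_opensRange_inf, Scheme.Opens.opensRange_ι]
  rw [P.arrow_mk_iso_iff (morphismRestrictEq f e)]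
  exact restrict_of_le f P inf_le_right hD

end Restrict

section Square

variable {𝓘' : X.IdealSheafData} {𝓚' : Y.IdealSheafData} (fn : 𝓘'.subscheme ⟶ 𝓚'.subscheme)
  (hfn : fn ≫ 𝓚'.subschemeι = 𝓘'.subschemeι ≫ f)

include hfn in
theorem exists_app_comm (W : Y.Opens) :
    ∃ e : Γ(𝓘'.subscheme, 𝓘'.subschemeι ⁻¹ᵁ (f ⁻¹ᵁ W)) →+*
        Γ(𝓘'.subscheme, fn ⁻¹ᵁ (𝓚'.subschemeι ⁻¹ᵁ W)),
      Function.Bijective e ∧ ∀ b : Γ(Y, W),
        (fn.app (𝓚'.subschemeι ⁻¹ᵁ W)).hom ((𝓚'.subschemeι.app W).hom b) =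
          e ((𝓘'.subschemeι.app (f ⁻¹ᵁ W)).hom ((f.app W).hom b)) := by
  have h1 := Scheme.Hom.congr_app hfn W
  have heq : fn ⁻¹ᵁ 𝓚'.subschemeι ⁻¹ᵁ W = 𝓘'.subschemeι ⁻¹ᵁ f ⁻¹ᵁ W := by
    change (fn ≫ 𝓚'.subschemeι) ⁻¹ᵁ W = (𝓘'.subschemeι ≫ f) ⁻¹ᵁ W
    rw [hfn]
  refine ⟨(𝓘'.subscheme.presheaf.map (eqToHom heq).op).hom,
    ConcreteCategory.bijective_of_isIso _, fun b => ?_⟩
  exact ConcreteCategory.congr_hom h1 b

include hfn in
/-- surjectivity of the level map on sections gives `C = φ(B) + I(f⁻¹W)`. -/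
theorem exists_sub_mem_ker (W : Y.Opens) (hW : IsAffineOpen W)
    (hs : Function.Surjective (fn.app (𝓚'.subschemeι ⁻¹ᵁ W)).hom) (c : Γ(X, f ⁻¹ᵁ W)) :
    ∃ b : Γ(Y, W), c - (f.app W).hom b ∈ RingHom.ker (𝓘'.subschemeι.app (f ⁻¹ᵁ W)).hom := by
  obtain ⟨e, he, hcomm⟩ := exists_app_comm f fn hfn W
  obtain ⟨t, ht⟩ := hs (e ((𝓘'.subschemeι.app (f ⁻¹ᵁ W)).hom c))
  obtain ⟨b, rfl⟩ := 𝓚'.subschemeι_app_surjective ⟨W, hW⟩ t
  refine ⟨b, ?_⟩
  rw [RingHom.mem_ker, map_sub, sub_eq_zero]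
  apply he.1
  rw [← hcomm b]
  exact ht.symm

include hfn in
/-- injectivity of the level map on sections gives `ker φ ⊆ K(W)`. -/
theorem mem_ker_of_app_eq_zero (W : Y.Opens)
    (hi : Function.Injective (fn.app (𝓚'.subschemeι ⁻¹ᵁ W)).hom) (b : Γ(Y, W))
    (hb : (f.app W).hom b = 0) : b ∈ RingHom.ker (𝓚'.subschemeι.app W).hom := by
  obtain ⟨e, he, hcomm⟩ := exists_app_comm f fn hfn W
  rw [RingHom.mem_ker]
  apply hi
  rw [hcomm b, hb, map_zero, map_zero, map_zero]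

end Square

end Groth.Agent.Lib.Helper1.NearSupp
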