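import Mathlib
import Groth.Agent.Lib.Helper1.NearSuppSch
import Groth.Agent.Lib.Helper3.IdealComap
import Groth.Agent.Lib.Helper6.IdealComap

/-!
# Spreading out closed immersions / isomorphisms from the formal neighbourhood: local part (helper1)
-/
set_option autoImplicit false
universe u
open CategoryTheory CategoryTheory.Limits AlgebraicGeometry TopologicalSpace Opposite

namespace Groth.Agent.Lib.Helper1.NearSupp

variable {X Y : Scheme.{u}} (f : X ⟶ Y)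

theorem app_surjective_of_eq {D D' : Y.Opens} (e : D' = D)
    (h : Function.Surjective (f.app D).hom) : Function.Surjective (f.app D').hom := by
  subst e; exact h

theorem app_bijective_of_eq {D D' : Y.Opens} (e : D' = D)
    (h : Function.Bijective (f.app D).hom) : Function.Bijective (f.app D').hom := by
  subst e; exact h

theorem finite_app_comp_iso {D D' : Y.Opens} (e : D' = D) {T : CommRingCat.{u}}
    (i : Γ(X, f ⁻¹ᵁ D') ⟶ T) (hi : IsIso i) (h : (f.app D' ≫ i).hom.Finite) :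
    (f.app D).hom.Finite := by
  subst e
  have h1 : f.app D' = (f.app D' ≫ i) ≫ inv i := by simp
  rw [h1, CommRingCat.hom_comp]
  refine RingHom.Finite.comp ?_ h
  apply RingHom.Finite.of_surjective
  exact (ConcreteCategory.bijective_of_isIso (inv i)).2

/-- If `f` is finite over `V`, then for affine `W ≤ V` the preimage is affine and the map on sections
is finite. -/
theorem finite_app_of_isFinite_restrict (V W : Y.Opens) (hWV : W ≤ V) (hW : IsAffineOpen W)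
    (hfin : IsFinite (f ∣_ V)) : IsAffineOpen (f ⁻¹ᵁ W) ∧ (f.app W).hom.Finite := by
  have h1 : IsAffineOpen (V.ι ⁻¹ᵁ W) :=
    hW.preimage_of_isOpenImmersion V.ι (by rw [Scheme.Opens.opensRange_ι]; exact hWV)
  have e : V.ι ''ᵁ (V.ι ⁻¹ᵁ W) = W := by
    rw [Scheme.Hom.image_preimage_eq_opensRange_inf, Scheme.Opens.opensRange_ι,
      inf_eq_right.mpr hWV]
  constructor
  · have h2 : IsAffineOpen ((f ∣_ V) ⁻¹ᵁ (V.ι ⁻¹ᵁ W)) := h1.preimage (f ∣_ V)
    have h3 : IsAffineOpen ((f ⁻¹ᵁ V).ι ''ᵁ ((f ∣_ V) ⁻¹ᵁ (V.ι ⁻¹ᵁ W))) :=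
      h2.image_of_isOpenImmersion _
    have h4 : (f ⁻¹ᵁ V).ι ''ᵁ ((f ∣_ V) ⁻¹ᵁ (V.ι ⁻¹ᵁ W)) = f ⁻¹ᵁ W := by
      rw [image_morphismRestrict_preimage, e]
    rw [h4] at h3
    exact h3
  · have fin1 : ((f ∣_ V).app (V.ι ⁻¹ᵁ W)).hom.Finite := IsFinite.finite_app _ _ h1
    rw [morphismRestrict_app] at fin1
    refine finite_app_comp_iso f e _ ?_ fin1
    haveI : IsIso (eqToHom (image_morphismRestrict_preimage f V (V.ι ⁻¹ᵁ W))).op :=
      isIso_op _
    exact Functor.map_isIso _ _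

theorem isIso_presheaf_map_eqToHom {U V : X.Opens} (e : U = V) :
    IsIso (X.presheaf.map (eqToHom e).op) := by
  haveI : IsIso (eqToHom e).op := isIso_op _
  exact Functor.map_isIso _ _

theorem isClosedImmersion_restrict_of_app_surjective (D : Y.Opens) (hD : IsAffineOpen D)
    (hfD : IsAffineOpen (f ⁻¹ᵁ D)) (h : Function.Surjective (f.app D).hom) :
    IsClosedImmersion (f ∣_ D) := by
  haveI : IsAffine D.toScheme := hD
  haveI : IsAffine (f ⁻¹ᵁ D).toScheme := hfD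
  apply IsClosedImmersion.of_surjective_of_isAffine
  intro x
  have hb : Function.Bijective (X.presheaf.map
      (eqToHom (image_morphismRestrict_preimage f D ⊤)).op).hom := by
    haveI := isIso_presheaf_map_eqToHom (X := X) (image_morphismRestrict_preimage f D ⊤)
    exact ConcreteCategory.bijective_of_isIso _
  obtain ⟨y, hy⟩ := hb.2 x
  obtain ⟨z, hz⟩ := app_surjective_of_eq f (D.ι_image_top) h y
  refine ⟨z, ?_⟩
  refine (ConcreteCategory.congr_hom (morphismRestrict_appTop f D) z).trans ?_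
  exact (congrArg _ hz).trans hy

theorem isIso_restrict_of_app_bijective (D : Y.Opens) (hD : IsAffineOpen D)
    (hfD : IsAffineOpen (f ⁻¹ᵁ D)) (h : Function.Bijective (f.app D).hom) :
    IsIso (f ∣_ D) := by
  haveI : IsAffine D.toScheme := hD
  have : (MorphismProperty.isomorphisms Scheme) (f ∣_ D) := by
    rw [HasAffineProperty.iff_of_isAffine (P := MorphismProperty.isomorphisms Scheme)]
    refine ⟨hfD, ?_⟩
    rw [ConcreteCategory.isIso_iff_bijective]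
    have key : ∀ z, (f ∣_ D).appTop.hom z = (X.presheaf.map
        (eqToHom (image_morphismRestrict_preimage f D ⊤)).op).hom
          ((f.app (D.ι ''ᵁ ⊤)).hom z) :=
      fun z => ConcreteCategory.congr_hom (morphismRestrict_appTop f D) z
    have hb : Function.Bijective (X.presheaf.map
        (eqToHom (image_morphismRestrict_preimage f D ⊤)).op).hom := by
      haveI := isIso_presheaf_map_eqToHom (X := X) (image_morphismRestrict_preimage f D ⊤)
      exact ConcreteCategory.bijective_of_isIso _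
    have hb2 := app_bijective_of_eq f (D.ι_image_top) h
    constructor
    · intro z z' hzz'
      apply hb2.1
      apply hb.1
      exact (key z).symm.trans (hzz'.trans (key z'))
    · intro x
      obtain ⟨y, hy⟩ := hb.2 x
      obtain ⟨z, hz⟩ := hb2.2 y
      exact ⟨z, (key z).trans ((congrArg _ hz).trans hy)⟩
  exact this

theorem app_basicOpen_surjective (W : Y.Opens) (hW : IsAffineOpen W)
    (hfW : IsAffineOpen (f ⁻¹ᵁ W)) (r : Γ(Y, W))
    (h : ∀ c : Γ(X, f ⁻¹ᵁ W), ∃ b : Γ(Y, W), (f.app W).hom r * c = (f.app W).hom b) :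
    Function.Surjective (f.app (Y.basicOpen r)).hom := by
  have i1 := hW.isLocalization_basicOpen r
  have i2 := hfW.isLocalization_basicOpen (f.app W r)
  have e : f ⁻¹ᵁ Y.basicOpen r = X.basicOpen (f.app W r) := by simp
  rw [hW.app_basicOpen_eq_away_map f hfW r, CommRingCat.hom_comp, RingHom.coe_comp]
  refine Function.Surjective.comp ?_ ?_
  · haveI := isIso_presheaf_map_eqToHom (X := X) e
    exact (ConcreteCategory.bijective_of_isIso (X.presheaf.map (eqToHom e).op)).2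
  · rw [CommRingCat.hom_ofHom, IsLocalization.Away.map_surjective_iff]
    intro a
    obtain ⟨b, hb⟩ := h a
    exact ⟨b, 1, by rw [pow_one]; exact hb.symm⟩

theorem app_basicOpen_injective (W : Y.Opens) (hW : IsAffineOpen W)
    (hfW : IsAffineOpen (f ⁻¹ᵁ W)) (r : Γ(Y, W))
    (h : ∀ k : Γ(Y, W), (f.app W).hom k = 0 → r * k = 0) :
    Function.Injective (f.app (Y.basicOpen r)).hom := by
  have i1 := hW.isLocalization_basicOpen r
  have i2 := hfW.isLocalization_basicOpen (f.app W r)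
  have e : f ⁻¹ᵁ Y.basicOpen r = X.basicOpen (f.app W r) := by simp
  rw [hW.app_basicOpen_eq_away_map f hfW r, CommRingCat.hom_comp, RingHom.coe_comp]
  refine Function.Injective.comp ?_ ?_
  · haveI := isIso_presheaf_map_eqToHom (X := X) e
    exact (ConcreteCategory.bijective_of_isIso (X.presheaf.map (eqToHom e).op)).1
  · rw [CommRingCat.hom_ofHom, IsLocalization.Away.map_injective_iff]
    intro a ha
    exact ⟨1, by rw [pow_one]; exact h a ha⟩

section Level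

variable {𝓘' : X.IdealSheafData} {𝓚' : Y.IdealSheafData} (fn : 𝓘'.subscheme ⟶ 𝓚'.subscheme)
  (hfn : fn ≫ 𝓚'.subschemeι = 𝓘'.subschemeι ≫ f)

include hfn in
/-- a closed immersion at a level gives `C = φ(B) + K C` on affine charts. -/
theorem exists_sub_mem_map (h𝓘' : 𝓘' = 𝓚'.comap f) [IsClosedImmersion fn] (W : Y.Opens)
    (hW : IsAffineOpen W) (hfW : IsAffineOpen (f ⁻¹ᵁ W)) (c : Γ(X, f ⁻¹ᵁ W)) :
    ∃ b : Γ(Y, W), c - (f.app W).hom b ∈ (𝓚'.ideal ⟨W, hW⟩).map (f.app W).hom := by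
  have hs : Function.Surjective (fn.app (𝓚'.subschemeι ⁻¹ᵁ W)).hom :=
    fn.app_surjective _ (hW.preimage 𝓚'.subschemeι)
  obtain ⟨b, hb⟩ := exists_sub_mem_ker f fn hfn W hW hs c
  refine ⟨b, ?_⟩
  have h1 := 𝓘'.ker_subschemeι_app ⟨f ⁻¹ᵁ W, hfW⟩
  have hb' : c - (f.app W).hom b ∈ 𝓘'.ideal ⟨f ⁻¹ᵁ W, hfW⟩ := h1 ▸ hb
  subst h𝓘'
  rw [Groth.Agent.Lib.Helper3.ideal_comap_of_le f 𝓚' ⟨f ⁻¹ᵁ W, hfW⟩ ⟨W, hW⟩ le_rfl] at hb'
  rwa [← Scheme.Hom.app_eq_appLE] at hb'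

include hfn in
theorem exists_basicOpen_surjective (h𝓘' : 𝓘' = 𝓚'.comap f) [IsClosedImmersion fn] (W : Y.Opens)
    (hW : IsAffineOpen W) (hfW : IsAffineOpen (f ⁻¹ᵁ W)) (hfin : (f.app W).hom.Finite) :
    ∃ b₀ : Γ(Y, W), b₀ - 1 ∈ 𝓚'.ideal ⟨W, hW⟩ ∧
      ∀ c : Γ(X, f ⁻¹ᵁ W), ∃ b : Γ(Y, W), (f.app W).hom b₀ * c = (f.app W).hom b :=
  NearSuppAlg.exists_mul_mem_range (f.app W).hom hfin (𝓚'.ideal ⟨W, hW⟩)
    (exists_sub_mem_map f fn hfn h𝓘' W hW hfW)

end Level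

theorem exists_basicOpen_injective (𝓘 : X.IdealSheafData) (𝓚 : Y.IdealSheafData)
    (fn : ∀ n : ℕ, (𝓘 ^ (n + 1)).subscheme ⟶ (𝓚 ^ (n + 1)).subscheme)
    (hfn : ∀ n, fn n ≫ (𝓚 ^ (n + 1)).subschemeι = (𝓘 ^ (n + 1)).subschemeι ≫ f)
    [∀ n, IsIso (fn n)] (W : Y.Opens) (hW : IsAffineOpen W) [IsNoetherianRing Γ(Y, W)] :
    ∃ b₁ : Γ(Y, W), b₁ - 1 ∈ 𝓚.ideal ⟨W, hW⟩ ∧
      ∀ k : Γ(Y, W), (f.app W).hom k = 0 → b₁ * k = 0 := by
  have hle : ∀ n : ℕ, RingHom.ker (f.app W).hom ≤ (𝓚.ideal ⟨W, hW⟩) ^ n := by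
    intro n k hk
    rcases n with _ | n
    · simp
    · have h3 := mem_ker_of_app_eq_zero f (fn n) (hfn n) W
        (ConcreteCategory.bijective_of_isIso ((fn n).app _)).1 k hk
      have h4 := (𝓚 ^ (n + 1)).ker_subschemeι_app ⟨W, hW⟩
      have h5 : k ∈ (𝓚 ^ (n + 1)).ideal ⟨W, hW⟩ := h4 ▸ h3
      exact h5
  obtain ⟨b₁, h1, h2⟩ := NearSuppAlg.exists_mul_eq_zero (𝓚.ideal ⟨W, hW⟩)
    (RingHom.ker (f.app W).hom) hle
  exact ⟨b₁, h1, fun k hk => h2 k hk⟩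

theorem mem_basicOpen_of_sub_one_mem (𝓚 : Y.IdealSheafData) (W : Y.Opens) (hW : IsAffineOpen W)
    (b : Γ(Y, W)) (hb : b - 1 ∈ 𝓚.ideal ⟨W, hW⟩) (y : Y) (hyW : y ∈ W) (hy : y ∈ 𝓚.support) :
    y ∈ Y.basicOpen b := by
  have h1 := (Scheme.IdealSheafData.mem_support_iff_of_mem (I := 𝓚) (U := ⟨W, hW⟩) hyW).1 hy
  rw [Scheme.mem_zeroLocus_iff] at h1
  have h2 := h1 (b - 1) hb
  by_contra h3
  rw [Scheme.mem_basicOpen _ _ _ hyW] at h2 h3
  have h4 : (Y.presheaf.germ W y hyW).hom b - (Y.presheaf.germ W y hyW).hom (b - 1) = 1 := by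
    rw [← map_sub, sub_sub_cancel, map_one]
  have h5 : (Y.presheaf.germ W y hyW).hom b - (Y.presheaf.germ W y hyW).hom (b - 1) ∈
      nonunits (Y.presheaf.stalk y) := by
    rw [sub_eq_add_neg]
    refine IsLocalRing.nonunits_add h3 ?_
    rw [mem_nonunits_iff, IsUnit.neg_iff]
    exact h2
  rw [h4] at h5
  exact h5 isUnit_one

/-- Local spreading out of a closed immersion. -/
theorem exists_nhd_isClosedImmersion {𝓘' : X.IdealSheafData} {𝓚' : Y.IdealSheafData}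
    (fn : 𝓘'.subscheme ⟶ 𝓚'.subscheme) (hfn : fn ≫ 𝓚'.subschemeι = 𝓘'.subschemeι ≫ f)
    (h𝓘' : 𝓘' = 𝓚'.comap f) [IsClosedImmersion fn] (W : Y.Opens)
    (hW : IsAffineOpen W) (hfW : IsAffineOpen (f ⁻¹ᵁ W)) (hfin : (f.app W).hom.Finite)
    (y : Y) (hyW : y ∈ W) (hy : y ∈ 𝓚'.support) :
    ∃ D : Y.Opens, y ∈ D ∧ IsClosedImmersion (f ∣_ D) := by
  obtain ⟨b₀, h1, h2⟩ := exists_basicOpen_surjective f fn hfn h𝓘' W hW hfW hfin
  refine ⟨Y.basicOpen b₀, mem_basicOpen_of_sub_one_mem 𝓚' W hW b₀ h1 y hyW hy, ?_⟩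
  refine isClosedImmersion_restrict_of_app_surjective f _ (hW.basicOpen b₀) ?_
    (app_basicOpen_surjective f W hW hfW b₀ h2)
  rw [Scheme.preimage_basicOpen]
  exact hfW.basicOpen _

/-- Local spreading out of an isomorphism. -/
theorem exists_nhd_isIso (𝓘 : X.IdealSheafData) (𝓚 : Y.IdealSheafData) (h𝓘 : 𝓘 = 𝓚.comap f)
    (fn : ∀ n : ℕ, (𝓘 ^ (n + 1)).subscheme ⟶ (𝓚 ^ (n + 1)).subscheme)
    (hfn : ∀ n, fn n ≫ (𝓚 ^ (n + 1)).subschemeι = (𝓘 ^ (n + 1)).subschemeι ≫ f)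
    [∀ n, IsIso (fn n)] (W : Y.Opens) (hW : IsAffineOpen W) [IsNoetherianRing Γ(Y, W)]
    (hfW : IsAffineOpen (f ⁻¹ᵁ W)) (hfin : (f.app W).hom.Finite)
    (y : Y) (hyW : y ∈ W) (hy : y ∈ 𝓚.support) :
    ∃ D : Y.Opens, y ∈ D ∧ IsIso (f ∣_ D) := by
  have h𝓘' : 𝓘 ^ (0 + 1) = (𝓚 ^ (0 + 1)).comap f := by
    rw [h𝓘, Groth.Agent.Lib.Helper6.IdealComap.comap_pow]
  obtain ⟨b₀, h1, h2⟩ := exists_basicOpen_surjective f (fn 0) (hfn 0) h𝓘' W hW hfW hfin
  obtain ⟨b₁, h3, h4⟩ := exists_basicOpen_injective f 𝓘 𝓚 fn hfn W hW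
  have h1' : b₀ - 1 ∈ 𝓚.ideal ⟨W, hW⟩ := by
    have e : (𝓚 ^ (0 + 1)).ideal ⟨W, hW⟩ = 𝓚.ideal ⟨W, hW⟩ := by simp
    exact e ▸ h1
  have h5 : b₀ * b₁ - 1 ∈ 𝓚.ideal ⟨W, hW⟩ := by
    have e : b₀ * b₁ - 1 = (b₀ - 1) * b₁ + (b₁ - 1) := by ring
    rw [e]
    exact Ideal.add_mem _ (Ideal.mul_mem_right _ _ h1') h3
  refine ⟨Y.basicOpen (b₀ * b₁), mem_basicOpen_of_sub_one_mem 𝓚 W hW _ h5 y hyW hy, ?_⟩
  refine isIso_restrict_of_app_bijective f _ (hW.basicOpen _) ?_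
    ⟨app_basicOpen_injective f W hW hfW _ ?_, app_basicOpen_surjective f W hW hfW _ ?_⟩
  · rw [Scheme.preimage_basicOpen]
    exact hfW.basicOpen _
  · intro k hk
    rw [mul_assoc, h4 k hk, mul_zero]
  · intro c
    obtain ⟨b, hb⟩ := h2 c
    refine ⟨b₁ * b, ?_⟩
    rw [map_mul, map_mul, mul_comm ((f.app W).hom b₀), mul_assoc, hb]

end Groth.Agent.Lib.Helper1.NearSupp
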