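import Mathlib
import Groth.Agent.Lib.Helper1.NearSuppLocal

/-!
# Spreading out closed immersions / isomorphisms from the formal neighbourhood: global part
(helper1)
-/
set_option autoImplicit false
universe u
open CategoryTheory CategoryTheory.Limits AlgebraicGeometry TopologicalSpace Opposite

namespace Groth.Agent.Lib.Helper1.NearSupp

variable {X Y : Scheme.{u}} (f : X ⟶ Y)

/-- if the level map is injective on points, the fibres of `f` over the support are
subsingletons. -/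
theorem preimage_singleton_subsingleton {𝓘' : X.IdealSheafData} {𝓚' : Y.IdealSheafData}
    (fn : 𝓘'.subscheme ⟶ 𝓚'.subscheme) (hfn : fn ≫ 𝓚'.subschemeι = 𝓘'.subschemeι ≫ f)
    (h𝓘' : 𝓘' = 𝓚'.comap f) (hinj : Function.Injective fn) (y : Y)
    (hy : y ∈ 𝓚'.support) : (f ⁻¹' {y}).Subsingleton := by
  have key : ∀ x : X, f x = y → ∃ x₀ : 𝓘'.subscheme, 𝓘'.subschemeι x₀ = x := by
    intro x hx
    have hxs : x ∈ 𝓘'.support := by
      rw [h𝓘', Scheme.IdealSheafData.support_comap]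
      change f x ∈ 𝓚'.support
      rw [hx]
      exact hy
    have : x ∈ Set.range 𝓘'.subschemeι := by
      rw [Scheme.IdealSheafData.range_subschemeι]
      exact hxs
    exact this
  have e1 : ∀ x₀ : 𝓘'.subscheme, 𝓚'.subschemeι (fn x₀) = f (𝓘'.subschemeι x₀) := by
    intro x₀
    rw [← Scheme.Hom.comp_apply, hfn, Scheme.Hom.comp_apply]
  intro x hx x' hx'
  obtain ⟨x₀, rfl⟩ := key x hx
  obtain ⟨x₀', rfl⟩ := key x' hx'
  have h1 : fn x₀ = fn x₀' :=
    𝓚'.subschemeι.isClosedEmbedding.injective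
      ((e1 x₀).trans ((hx : f _ = y).trans ((hx' : f _ = y).symm.trans (e1 x₀').symm)))
  exact congrArg _ (hinj h1)

/-- a property stable under base change passes from `f ∣_ U` to any base change of `f` along a
morphism landing in `U`. -/
theorem of_isPullback_of_range_subset (P : MorphismProperty Scheme.{u}) [P.IsStableUnderBaseChange]
    {X' Y' : Scheme.{u}} (i' : X' ⟶ X) (f' : X' ⟶ Y') (i : Y' ⟶ Y) (sq : IsPullback i' f' f i)
    (U : Y.Opens) (hU : Set.range i ⊆ U) (hP : P (f ∣_ U)) : P f' := by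
  have hr : Set.range i ⊆ Set.range U.ι := by
    rw [Scheme.Opens.range_ι]
    exact hU
  let j : Y' ⟶ U.toScheme := IsOpenImmersion.lift U.ι i hr
  have hj : j ≫ U.ι = i := IsOpenImmersion.lift_fac _ _ _
  have s : IsPullback i' f' f (j ≫ U.ι) := by rw [hj]; exact sq
  have t : IsPullback (f ⁻¹ᵁ U).ι (f ∣_ U) f U.ι := (isPullback_morphismRestrict f U).flip
  exact P.of_isPullback (IsPullback.of_right' s t) hP

/-- Global spreading out of a closed immersion along a proper morphism. -/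
theorem exists_opens_isClosedImmersion [IsProper f] {𝓘' : X.IdealSheafData}
    {𝓚' : Y.IdealSheafData} (fn : 𝓘'.subscheme ⟶ 𝓚'.subscheme)
    (hfn : fn ≫ 𝓚'.subschemeι = 𝓘'.subschemeι ≫ f) (h𝓘' : 𝓘' = 𝓚'.comap f)
    (hcl : IsClosedImmersion fn) :
    ∃ V : Y.Opens, (𝓚'.support : Set Y) ⊆ V ∧ IsClosedImmersion (f ∣_ V) := by
  let V : Y.Opens := sSup {D | IsClosedImmersion (f ∣_ D)}
  refine ⟨V, ?_, ?_⟩
  · intro y hy
    have hsub := preimage_singleton_subsingleton f fn hfn h𝓘' fn.isClosedEmbedding.injective y hy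
    obtain ⟨V₁, hyV₁, hfin⟩ :=
      exists_isFinite_morphismRestrict_of_finite_preimage_singleton f y hsub.finite
    obtain ⟨W, hW, hyW, hWV⟩ :=
      TopologicalSpace.Opens.isBasis_iff_nbhd.1 Y.isBasis_affineOpens hyV₁
    obtain ⟨hfW, hfinW⟩ := finite_app_of_isFinite_restrict f V₁ W hWV hW hfin
    obtain ⟨D, hyD, hD⟩ := exists_nhd_isClosedImmersion f fn hfn h𝓘' W hW hfW hfinW y hyW hy
    exact TopologicalSpace.Opens.mem_sSup.2 ⟨D, hD, hyD⟩
  · apply restrict_of_cover f @IsClosedImmersion V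
    intro y hy
    obtain ⟨D, hD, hyD⟩ := TopologicalSpace.Opens.mem_sSup.1 hy
    exact ⟨D, hyD, hD⟩

/-- Global spreading out of an isomorphism along a proper morphism. -/
theorem exists_opens_isIso [IsProper f] [IsLocallyNoetherian Y] (𝓘 : X.IdealSheafData)
    (𝓚 : Y.IdealSheafData) (h𝓘 : 𝓘 = 𝓚.comap f)
    (fn : ∀ n : ℕ, (𝓘 ^ (n + 1)).subscheme ⟶ (𝓚 ^ (n + 1)).subscheme)
    (hfn : ∀ n, fn n ≫ (𝓚 ^ (n + 1)).subschemeι = (𝓘 ^ (n + 1)).subschemeι ≫ f)
    (hiso : ∀ n, IsIso (fn n)) :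
    ∃ V : Y.Opens, (𝓚.support : Set Y) ⊆ V ∧ IsIso (f ∣_ V) := by
  let V : Y.Opens := sSup {D | IsIso (f ∣_ D)}
  have h𝓘' : 𝓘 ^ (0 + 1) = (𝓚 ^ (0 + 1)).comap f := by
    rw [h𝓘, Groth.Agent.Lib.Helper6.IdealComap.comap_pow]
  refine ⟨V, ?_, ?_⟩
  · intro y hy
    have hy' : y ∈ (𝓚 ^ (0 + 1)).support := hy
    have hsub := preimage_singleton_subsingleton f (fn 0) (hfn 0) h𝓘'
      (fn 0).isClosedEmbedding.injective y hy'
    obtain ⟨V₁, hyV₁, hfin⟩ :=
      exists_isFinite_morphismRestrict_of_finite_preimage_singleton f y hsub.finite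
    obtain ⟨W, hW, hyW, hWV⟩ :=
      TopologicalSpace.Opens.isBasis_iff_nbhd.1 Y.isBasis_affineOpens hyV₁
    obtain ⟨hfW, hfinW⟩ := finite_app_of_isFinite_restrict f V₁ W hWV hW hfin
    haveI : IsNoetherianRing Γ(Y, W) := IsLocallyNoetherian.component_noetherian ⟨W, hW⟩
    obtain ⟨D, hyD, hD⟩ := exists_nhd_isIso f 𝓘 𝓚 h𝓘 fn hfn W hW hfW hfinW y hyW hy
    exact TopologicalSpace.Opens.mem_sSup.2 ⟨D, hD, hyD⟩
  · have : (MorphismProperty.isomorphisms Scheme.{u}) (f ∣_ V) := by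
      apply restrict_of_cover f (MorphismProperty.isomorphisms Scheme.{u}) V
      intro y hy
      obtain ⟨D, hD, hyD⟩ := TopologicalSpace.Opens.mem_sSup.1 hy
      exact ⟨D, hyD, hD⟩
    exact this

end Groth.Agent.Lib.Helper1.NearSupp
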