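import Mathlib
import Groth.Prelude
import Groth.Agent.S3862
import Groth.Agent.Lib.Helper1.NearSuppGlobal

/-!
# The completion of a morphism near the support: statement-level glue (helper1)
-/
set_option autoImplicit false
universe u
open CategoryTheory CategoryTheory.Limits AlgebraicGeometry TopologicalSpace Opposite FCompl

namespace Groth.Agent.Lib.Helper1.NearSupp

variable {X Y : Scheme.{u}} (f : X ⟶ Y)

theorem isPullback_level (𝓘 : X.IdealSheafData) (𝓚 : Y.IdealSheafData) (h𝓘 : 𝓘 = 𝓚.comap f)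
    (hc : FSch.PowCompat f 𝓘 𝓚) (n : ℕ) :
    IsPullback (𝓘 ^ (n + 1)).subschemeι
      ((FSch.completionMap f 𝓘 𝓚 hc : FSch.Hom _ _).app n) f (𝓚 ^ (n + 1)).subschemeι := by
  subst h𝓘
  exact (Groth.Agent.S3862.result f 𝓚 hc).1 n

theorem level_sq (𝓘 : X.IdealSheafData) (𝓚 : Y.IdealSheafData)
    (hc : FSch.PowCompat f 𝓘 𝓚) (n : ℕ) :
    (FSch.completionMap f 𝓘 𝓚 hc : FSch.Hom _ _).app n ≫ (𝓚 ^ (n + 1)).subschemeι =
      (𝓘 ^ (n + 1)).subschemeι ≫ f :=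
  (FSch.completionMap_sq f 𝓘 𝓚 hc n).symm

/-- `(⇐)`: near the support the property passes to every level. -/
theorem level_of_restrict (P : MorphismProperty Scheme.{u}) [P.IsStableUnderBaseChange]
    (𝓘 : X.IdealSheafData) (𝓚 : Y.IdealSheafData) (h𝓘 : 𝓘 = 𝓚.comap f)
    (hc : FSch.PowCompat f 𝓘 𝓚) (V : Y.Opens) (hV : (𝓚.support : Set Y) ⊆ V)
    (hP : P (f ∣_ V)) (n : ℕ) : P ((FSch.completionMap f 𝓘 𝓚 hc : FSch.Hom _ _).app n) := by
  have hr : Set.range (𝓚 ^ (n + 1)).subschemeι ⊆ V := by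
    rw [Scheme.IdealSheafData.range_subschemeι]
    exact hV
  exact of_isPullback_of_range_subset f P _ _ _ (isPullback_level f 𝓘 𝓚 h𝓘 hc n) V hr hP

/-- passing from an open of `Y` containing `h⁻¹(supp 𝓙)` to an open of the base `Z`. -/
theorem exists_base_opens {Z : Scheme.{u}} (h : Y ⟶ Z) [IsProper h] (𝓙 : Z.IdealSheafData)
    (V : Y.Opens) (hV : ((𝓙.comap h).support : Set Y) ⊆ V) :
    ∃ U : Z.Opens, (𝓙.support : Set Z) ⊆ U ∧ h ⁻¹ᵁ U ≤ V := by
  have hcl : IsClosed (h '' (V : Set Y)ᶜ) := h.isClosedMap _ V.isOpen.isClosed_compl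
  refine ⟨⟨(h '' (V : Set Y)ᶜ)ᶜ, hcl.isOpen_compl⟩, ?_, ?_⟩
  · rintro z hz ⟨y, hyV, rfl⟩
    apply hyV
    apply hV
    rw [Scheme.IdealSheafData.support_comap]
    exact hz
  · intro y hy
    by_contra hyV
    exact hy ⟨y, hyV, rfl⟩

theorem support_comap_subset {Z : Scheme.{u}} (h : Y ⟶ Z) (𝓙 : Z.IdealSheafData)
    (U : Z.Opens) (hU : (𝓙.support : Set Z) ⊆ U) :
    ((𝓙.comap h).support : Set Y) ⊆ (h ⁻¹ᵁ U : Y.Opens) := by
  rw [Scheme.IdealSheafData.support_comap]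
  intro y hy
  exact hU hy

end Groth.Agent.Lib.Helper1.NearSupp
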