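import Groth.Agent.Lib.Helper1.NoCurveAff
import Groth.Agent.Lib.Helper23.AmpleCurve6
import Groth.Agent.Lib.Helper7.DegRestr
import Groth.Agent.Lib.Helper3.AmpleQA
import Groth.Agent.Lib.Helper3.GlobGen
import Groth.Agent.Lib.Helper3.PbTensor

/-!
# Ample = strictly nef + semiample (on a proper scheme over a field)
-/

set_option autoImplicit false
set_option linter.style.haveILetI false
universe u
open CategoryTheory CategoryTheory.Limits AlgebraicGeometry TopologicalSpace Opposite
open Scheme.Modules

namespace Groth.Agent.Lib.Helper1.NoCurveAmple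

open Groth.Agent.Lib.Helper3 Groth.Agent.Lib.Helper3.QCSec Groth.Agent.Lib.Helper3.InvGen
  Groth.Agent.Lib.Helper3.InvTensor Groth.Agent.Lib.Helper3.InvTwist
  Groth.Agent.Lib.Helper3.InvMonoidal Groth.Agent.Lib.Helper3.InvCoh
  Groth.Agent.Lib.Helper3.InvAmple
open Groth.Agent.Lib.Helper1.NoCurveAff

/-- the dimension of a closed subscheme is that of its support -/
theorem dim_subscheme_eq {X : Scheme.{u}} (C : X.IdealSheafData) :
    topologicalKrullDim C.subscheme = topologicalKrullDim (C.support : Set X) := by
  have hemb := C.subschemeι.isEmbedding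
  have hrange : Set.range C.subschemeι.base = (C.support : Set X) := C.range_subschemeι
  let e : C.subscheme ≃ₜ ↥(C.support : Set X) :=
    hemb.toHomeomorph.trans (Homeomorph.setCongr hrange)
  exact IsHomeomorph.topologicalKrullDim_eq e e.isHomeomorph

/-- the pullback of an ample module to a closed subscheme is ample -/
theorem isAmple_pullback_subschemeι {X : Scheme.{u}} [CompactSpace X] {L : X.Modules}
    (hA : CohB1.IsAmple L) (C : X.IdealSheafData) :
    CohB1.IsAmple ((Scheme.Modules.pullback C.subschemeι).obj L) := by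
  haveI : CompactSpace C.subscheme :=
    QuasiCompact.compactSpace_of_compactSpace C.subschemeι
  apply Groth.Agent.Lib.Helper3.AmpleQA.isAmple_pullback_of_quasiAffine C.subschemeι hA
  intro A hA'
  haveI : IsAffine ((C.subschemeι ⁻¹ᵁ A : C.subscheme.Opens) : Scheme.{u}) :=
    hA'.preimage C.subschemeι
  infer_instance

/-- on an integral closed curve, ampleness of the restriction is positivity of the degree,
computed on the ambient scheme -/
theorem isAmple_pullback_iff_pos (k : Type u) [Field k] (X : Scheme.{u})
    [X.Over (Spec (CommRingCat.of k))] [IsProper (X ↘ Spec (CommRingCat.of k))]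
    (L : X.Modules) (hL : PicF.IsInvertible L) (C : X.IdealSheafData)
    (hint : IsIntegral C.subscheme) (hdim : topologicalKrullDim (C.support : Set X) = 1) :
    CohB1.IsAmple ((Scheme.Modules.pullback C.subschemeι).obj L) ↔
      0 < Curv2.euler k X (CohB1.tensorMod (ClSub.quotMod C) L) -
        Curv2.euler k X (ClSub.quotMod C) := by
  letI : C.subscheme.Over (Spec (CommRingCat.of k)) :=
    ⟨C.subschemeι ≫ (X ↘ Spec (CommRingCat.of k))⟩
  have hov : C.subscheme ↘ Spec (CommRingCat.of k) =
      C.subschemeι ≫ (X ↘ Spec (CommRingCat.of k)) := rfl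
  haveI : IsProper (C.subscheme ↘ Spec (CommRingCat.of k)) := by
    rw [hov]; infer_instance
  haveI := hint
  have hdimC : topologicalKrullDim C.subscheme = 1 := by rw [dim_subscheme_eq, hdim]
  have hker : C.subschemeι.ker = C := Scheme.IdealSheafData.ker_subschemeι C
  have h1 := Groth.Agent.Lib.Helper7.DegRestr.euler_quotMod_ker k X C.subschemeι hov
  have h2 := Groth.Agent.Lib.Helper7.DegRestr.euler_quotMod_ker_tensor k X C.subschemeι hov L
  rw [hker] at h1 h2
  have hdeg : Curv2.deg k C.subscheme ((Scheme.Modules.pullback C.subschemeι).obj L) 1 =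
      Curv2.euler k X (CohB1.tensorMod (ClSub.quotMod C) L) -
        Curv2.euler k X (ClSub.quotMod C) := by
    unfold Curv2.deg
    rw [h1, h2]
    push_cast
    ring
  rw [← hdeg]
  have hLC := Groth.Agent.Lib.Helper3.PbBasic.isInvertible_pullback C.subschemeι hL
  exact ⟨fun hA => Groth.Agent.Lib.Helper23.AmpleCurve.deg_pos_of_isAmple k hdimC hLC hA,
    fun h => Groth.Agent.Lib.Helper23.AmpleCurve.isAmple_of_deg_pos k hdimC.le hLC h⟩

/-- **ample ⇔ strictly nef and semiample** on a proper scheme over a field -/
theorem isAmple_iff (k : Type u) [Field k] (X : Scheme.{u})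
    [X.Over (Spec (CommRingCat.of k))] [IsProper (X ↘ (Spec (CommRingCat.of k)))]
    (L : X.Modules) (hL : PicF.IsInvertible L) :
    CohB1.IsAmple L ↔
      ((∀ C : X.IdealSheafData, IsIntegral C.subscheme →
          topologicalKrullDim (C.support : Set X) = 1 →
            0 < Curv2.euler k X (CohB1.tensorMod (ClSub.quotMod C) L) -
              Curv2.euler k X (ClSub.quotMod C)) ∧
        ∃ m : ℕ, Curv2.IsGloballyGenerated (CohB1.tensorPow L (m + 1))) := by
  classical
  haveI : CompactSpace X :=
    QuasiCompact.compactSpace_of_compactSpace (X ↘ Spec (CommRingCat.of k))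
  haveI : IsLocallyNoetherian X :=
    LocallyOfFiniteType.isLocallyNoetherian (X ↘ Spec (CommRingCat.of k))
  haveI : IsNoetherian X := {}
  constructor
  · intro hA
    refine ⟨fun C hint hdim => ?_, ?_⟩
    · exact (isAmple_pullback_iff_pos k X L hL C hint hdim).mp (isAmple_pullback_subschemeι hA C)
    · have hO := isInvertible_structureModule X
      haveI : (Coh.structureModule X).IsQuasicoherent := isQuasicoherent_of_isInvertible hO
      haveI : (Coh.structureModule X).IsFiniteType := isFiniteType_of_isInvertible hO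
      obtain ⟨n₀, hn₀⟩ := Groth.Agent.Lib.Helper3.GlobGen.exists_isGloballyGenerated_twist hA
        (Coh.structureModule X)
      exact ⟨n₀, Groth.Agent.Lib.Helper3.GlobGen.isGloballyGenerated_of_iso
        (unitorL (CohB1.tensorPow L (n₀ + 1))) (hn₀ (n₀ + 1) (Nat.le_succ n₀))⟩
  · rintro ⟨hnef, m, hgg⟩
    have hM : PicF.IsInvertible (CohB1.tensorPow L (m + 1)) := isInvertible_tensorPow hL (m + 1)
    rw [isAmple_pow_iff hL (Nat.succ_pos m)]
    apply isAmple_of_secLocus hM
    intro x
    obtain ⟨t, hxt⟩ :=
      Groth.Agent.Lib.Helper3.FreeSec.exists_mem_genLocus_of_isGloballyGenerated hM hgg x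
    refine ⟨CohB1.genLocus (CohB1.tensorPow L (m + 1)) t,
      ⟨0, t ≫ (powOne (CohB1.tensorPow L (m + 1))).hom,
        (genLocus_comp_iso t (powOne (CohB1.tensorPow L (m + 1))).hom).symm⟩, hxt, ?_⟩
    apply isAffineOpen_genLocus_of_no_curves k X (CohB1.tensorPow L (m + 1)) hM hgg t
    intro C hint hdim hsub
    have hAC : CohB1.IsAmple ((Scheme.Modules.pullback C.subschemeι).obj L) :=
      (isAmple_pullback_iff_pos k X L hL C hint hdim).mpr (hnef C hint hdim)
    haveI : CompactSpace C.subscheme :=
      QuasiCompact.compactSpace_of_compactSpace C.subschemeι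
    have hLC := Groth.Agent.Lib.Helper3.PbBasic.isInvertible_pullback C.subschemeι hL
    have hACm : CohB1.IsAmple
        (CohB1.tensorPow ((Scheme.Modules.pullback C.subschemeι).obj L) (m + 1)) :=
      (isAmple_pow_iff hLC (Nat.succ_pos m)).mp hAC
    have hAM : CohB1.IsAmple
        ((Scheme.Modules.pullback C.subschemeι).obj (CohB1.tensorPow L (m + 1))) :=
      isAmple_of_iso (Groth.Agent.Lib.Helper3.PbTensor.pbPowIso C.subschemeι L hL (m + 1)).symm hACm
    exact false_of_isAmple_of_subset k X (CohB1.tensorPow L (m + 1)) t C hint hdim hsub hAM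

end Groth.Agent.Lib.Helper1.NoCurveAmple
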