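import Mathlib
import Groth.Prelude
import Groth.Agent.Lib.Helper1.NoCurveAmple
import Groth.Agent.Lib.Helper7.AmpleComp
import Groth.Agent.Lib.Helper7.SecDeg
import Groth.Agent.Lib.Helper7.RegSec
import Groth.Agent.Lib.Helper23.Inverse
import Groth.Agent.Lib.Helper3.PbAmple
import Groth.Agent.Lib.Helper3.PbTensor
import Groth.Agent.Lib.Helper3.GlobGen
import Groth.Agent.Lib.Helper17.DevInt

/-!
# (helper21 + helper1) strictly nef + effective on every integral subvariety ⇒ ample (S16711), modulo the
Zariski–Fujita type statement S17288 (taken as a hypothesis `hZF`).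

Noetherian induction over integral closed subschemes `Z`: a nonzero section of `L_Z^{m+1}` has a
zero scheme `D` (helper7's `RegSec.zeroDiv`), `L|_D` is ample by induction and helper7's
`AmpleComp.isAmple_of_irreducibleComponents`, so `L_Z^{(m+1)n}` is globally generated (`hZF`), and
helper1's `NoCurveAmple.isAmple_iff` gives ampleness of `L_Z`.
-/

set_option autoImplicit false
set_option linter.style.haveILetI false
set_option linter.unusedVariables false
set_option linter.style.longLine false
universe u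
open CategoryTheory CategoryTheory.Limits AlgebraicGeometry TopologicalSpace Opposite
open Scheme.Modules

namespace Groth.Agent.Lib.Helper1.Nef16711

open Groth.Agent.Lib.Helper3 Groth.Agent.Lib.Helper3.QCSec Groth.Agent.Lib.Helper3.InvGen
  Groth.Agent.Lib.Helper3.InvTensor Groth.Agent.Lib.Helper3.InvMonoidal
  Groth.Agent.Lib.Helper3.InvCoh Groth.Agent.Lib.Helper3.InvAmple

/-! ### closed immersions and their scheme-theoretic images -/

theorem isAmple_pullback_of_ker {W X : Scheme.{u}} [CompactSpace W] (c : W ⟶ X)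
    [IsClosedImmersion c] (L : X.Modules)
    (h : CohB1.IsAmple ((Scheme.Modules.pullback c.ker.subschemeι).obj L)) :
    CohB1.IsAmple ((Scheme.Modules.pullback c).obj L) := by
  have h1 : CohB1.IsAmple ((Scheme.Modules.pullback c.toImage).obj
      ((Scheme.Modules.pullback c.ker.subschemeι).obj L)) :=
    Groth.Agent.Lib.Helper3.PbAmple.isAmple_pullback_of_isEmbedding c.toImage
      c.toImage.homeomorph.isEmbedding h
  exact isAmple_of_iso ((Scheme.Modules.pullbackComp c.toImage c.ker.subschemeι).app L ≪≫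
    (Scheme.Modules.pullbackCongr c.toImage_imageι).app L) h1

theorem isIntegral_ker_subscheme {W X : Scheme.{u}} (c : W ⟶ X) [IsClosedImmersion c]
    [IsIntegral W] : IsIntegral c.ker.subscheme := by
  haveI : Nonempty c.ker.subscheme := ⟨c.toImage.base (Classical.arbitrary W)⟩
  exact isIntegral_of_isOpenImmersion (inv c.toImage)

theorem support_ker_eq_range {W X : Scheme.{u}} (c : W ⟶ X) [IsClosedImmersion c] :
    (c.ker.support : Set X) = Set.range c.base := by
  rw [← c.ker.range_subschemeι]
  ext x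
  constructor
  · rintro ⟨z, rfl⟩
    obtain ⟨w, rfl⟩ := c.toImage.surjective z
    have h : (c.toImage ≫ c.imageι) w = c w := by rw [c.toImage_imageι]
    exact ⟨w, h.symm⟩
  · rintro ⟨w, rfl⟩
    have h : (c.toImage ≫ c.imageι) w = c w := by rw [c.toImage_imageι]
    exact ⟨c.toImage w, h⟩

theorem dim_support_ker {W X : Scheme.{u}} (c : W ⟶ X) [IsClosedImmersion c] :
    topologicalKrullDim (c.ker.support : Set X) = topologicalKrullDim W := by
  rw [← Groth.Agent.Lib.Helper1.NoCurveAmple.dim_subscheme_eq]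
  exact (IsHomeomorph.topologicalKrullDim_eq _ c.toImage.homeomorph.isHomeomorph).symm

/-! ### strict nefness restricts to closed subschemes -/

theorem strictNef_of_closedImmersion (k : Type u) [Field k] (X Z : Scheme.{u})
    [X.Over (Spec (CommRingCat.of k))] [IsProper (X ↘ (Spec (CommRingCat.of k)))]
    [Z.Over (Spec (CommRingCat.of k))] [IsProper (Z ↘ (Spec (CommRingCat.of k)))]
    (i : Z ⟶ X) [IsClosedImmersion i]
    (L : X.Modules) (hL : PicF.IsInvertible L)
    (hnef : ∀ C : X.IdealSheafData, IsIntegral C.subscheme →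
      topologicalKrullDim (C.support : Set X) = 1 →
        0 < Curv2.euler k X (CohB1.tensorMod (ClSub.quotMod C) L) -
          Curv2.euler k X (ClSub.quotMod C))
    (C' : Z.IdealSheafData) (hint : IsIntegral C'.subscheme)
    (hdim : topologicalKrullDim (C'.support : Set Z) = 1) :
    0 < Curv2.euler k Z (CohB1.tensorMod (ClSub.quotMod C')
        ((Scheme.Modules.pullback i).obj L)) - Curv2.euler k Z (ClSub.quotMod C') := by
  haveI := hint
  haveI : CompactSpace Z :=
    QuasiCompact.compactSpace_of_compactSpace (Z ↘ Spec (CommRingCat.of k))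
  haveI : CompactSpace C'.subscheme :=
    QuasiCompact.compactSpace_of_compactSpace C'.subschemeι
  have hLZ := Groth.Agent.Lib.Helper3.PbBasic.isInvertible_pullback i hL
  refine (Groth.Agent.Lib.Helper1.NoCurveAmple.isAmple_pullback_iff_pos k Z _ hLZ C' hint hdim).mp ?_
  obtain ⟨c, hc⟩ : ∃ c : C'.subscheme ⟶ X, c = C'.subschemeι ≫ i := ⟨_, rfl⟩
  haveI : IsClosedImmersion c := by rw [hc]; infer_instance
  have hKint : IsIntegral c.ker.subscheme := isIntegral_ker_subscheme c
  have hKdim : topologicalKrullDim (c.ker.support : Set X) = 1 := by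
    rw [dim_support_ker c, Groth.Agent.Lib.Helper1.NoCurveAmple.dim_subscheme_eq, hdim]
  have hK : CohB1.IsAmple ((Scheme.Modules.pullback c.ker.subschemeι).obj L) :=
    (Groth.Agent.Lib.Helper1.NoCurveAmple.isAmple_pullback_iff_pos k X L hL c.ker hKint hKdim).mpr
      (hnef c.ker hKint hKdim)
  have hc' := isAmple_pullback_of_ker c L hK
  rw [hc] at hc'
  exact isAmple_of_iso ((Scheme.Modules.pullbackComp C'.subschemeι i).app L).symm hc'

/-! ### global generation of powers from a section, by induction on the zero scheme -/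

theorem eventually_gg_of_section (k : Type u) [Field k]
    (hZF : ∀ (X : Scheme.{u}) [X.Over (Spec (CommRingCat.of k))]
      [IsProper (X ↘ (Spec (CommRingCat.of k)))] (D : X.IdealSheafData),
      PicF.IsInvertible (ClSub.idealMod D) → ∀ (LD : X.Modules),
      ClSub.IsInverseOf LD (ClSub.idealMod D) →
      CohB1.IsAmple ((Scheme.Modules.pullback D.subschemeι).obj LD) →
      ∀ᶠ m : ℕ in Filter.atTop, Curv2.IsGloballyGenerated (CohB1.tensorPow LD m))
    (Z : Scheme.{u}) [Z.Over (Spec (CommRingCat.of k))]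
    [IsProper (Z ↘ (Spec (CommRingCat.of k)))] [IsIntegral Z]
    (N : Z.Modules) (hN : PicF.IsInvertible N) (s : Coh.structureModule Z ⟶ N) (hs : s ≠ 0)
    (hind : ∀ (W : Scheme.{u}) (c : W ⟶ Z) [IsClosedImmersion c] [IsIntegral W],
      ¬ Function.Surjective c.base → CohB1.IsAmple ((Scheme.Modules.pullback c).obj N)) :
    ∀ᶠ n : ℕ in Filter.atTop, Curv2.IsGloballyGenerated (CohB1.tensorPow N n) := by
  obtain ⟨N', hN', ⟨e⟩⟩ := Groth.Agent.Lib.Helper23.Inverse.exists_isInverseOf hN
  haveI : N'.IsQuasicoherent := isQuasicoherent_of_isInvertible hN'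
  obtain ⟨ι, -⟩ : ∃ ι : CohB1.tensorMod N' N ≅ Coh.structureModule Z, True :=
    ⟨braid N' N ≪≫ e, trivial⟩
  have hreg := Groth.Agent.Lib.Helper7.SecDeg.isRegSec_of_ne_zero hN s hs
  obtain ⟨D, hDdef⟩ : ∃ D : Z.IdealSheafData, D = Groth.Agent.Lib.Helper7.RegSec.zeroDiv ι s :=
    ⟨_, rfl⟩
  obtain ⟨e'⟩ : Nonempty (N' ≅ ClSub.idealMod D) := by
    rw [hDdef]; exact Groth.Agent.Lib.Helper7.RegSec.idealMod_zeroDiv_iso ι hreg
  have hD : PicF.IsInvertible (ClSub.idealMod D) := isInvertible_of_iso e' hN'
  have hLD : ClSub.IsInverseOf N (ClSub.idealMod D) :=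
    ⟨tensorMapIso (Iso.refl N) e'.symm ≪≫ e⟩
  -- a point off the zero scheme
  obtain ⟨z₀, hz₀⟩ : ∃ z₀ : Z, z₀ ∉ D.support := by
    obtain ⟨U, ε, a, hU, hxU, hg, ha, hsa⟩ := hreg (Classical.arbitrary Z)
    haveI : Nonempty U := ⟨⟨_, hxU⟩⟩
    have ha0 : a ≠ 0 := nonZeroDivisors.ne_zero ha
    have hbo : Z.basicOpen a ≠ ⊥ := fun h => ha0 ((basicOpen_eq_bot_iff a).mp h)
    obtain ⟨z₀, hz₀⟩ := (Opens.ne_bot_iff_nonempty _).mp hbo
    have h1 : CohB1.genLocus N s ⊓ U = Z.basicOpen a := genLocus_inf_eq_basicOpen s hg a hsa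
    have h2 : z₀ ∈ CohB1.genLocus N s ⊓ U := by rw [h1]; exact hz₀
    refine ⟨z₀, ?_⟩
    rw [hDdef]
    exact Groth.Agent.Lib.Helper7.RegSec.notMem_support_zeroDiv ι h2.1
  apply hZF Z D hD N hLD
  -- ampleness on the zero scheme, via its irreducible components
  haveI : IsProper (D.subschemeι ≫ (Z ↘ Spec (CommRingCat.of k))) := inferInstance
  apply Groth.Agent.Lib.Helper7.AmpleComp.isAmple_of_irreducibleComponents k
    (D.subschemeι ≫ (Z ↘ Spec (CommRingCat.of k)))
    (Groth.Agent.Lib.Helper3.PbBasic.isInvertible_pullback D.subschemeι hN)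
  intro Y hY
  haveI : IsIntegral (Scheme.IdealSheafData.vanishingIdeal Y).subscheme :=
    Groth.Agent.Lib.Helper17.DevInt.isIntegral_sub Y hY.1
  obtain ⟨c, hc⟩ : ∃ c : (Scheme.IdealSheafData.vanishingIdeal Y).subscheme ⟶ Z,
      c = (Scheme.IdealSheafData.vanishingIdeal Y).subschemeι ≫ D.subschemeι := ⟨_, rfl⟩
  haveI : IsClosedImmersion c := by rw [hc]; infer_instance
  have hns : ¬ Function.Surjective c.base := by
    intro hsurj
    obtain ⟨w, hw⟩ := hsurj z₀
    apply hz₀
    have h1 : D.subschemeι.base ((Scheme.IdealSheafData.vanishingIdeal Y).subschemeι.base w) = z₀ := by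
      rw [← hw, hc]; rfl
    have h2 : z₀ ∈ Set.range D.subschemeι := ⟨_, h1⟩
    rw [D.range_subschemeι] at h2
    exact h2
  have h3 := hind _ c hns
  rw [hc] at h3
  exact isAmple_of_iso ((Scheme.Modules.pullbackComp
    (Scheme.IdealSheafData.vanishingIdeal Y).subschemeι D.subschemeι).app N).symm h3

/-! ### the induction -/

theorem isAmple_integral (k : Type u) [Field k]
    (hZF : ∀ (X : Scheme.{u}) [X.Over (Spec (CommRingCat.of k))]
      [IsProper (X ↘ (Spec (CommRingCat.of k)))] (D : X.IdealSheafData),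
      PicF.IsInvertible (ClSub.idealMod D) → ∀ (LD : X.Modules),
      ClSub.IsInverseOf LD (ClSub.idealMod D) →
      CohB1.IsAmple ((Scheme.Modules.pullback D.subschemeι).obj LD) →
      ∀ᶠ m : ℕ in Filter.atTop, Curv2.IsGloballyGenerated (CohB1.tensorPow LD m))
    (X : Scheme.{u}) [X.Over (Spec (CommRingCat.of k))]
    [IsProper (X ↘ (Spec (CommRingCat.of k)))]
    (L : X.Modules) (hL : PicF.IsInvertible L)
    (hnef : ∀ C : X.IdealSheafData, IsIntegral C.subscheme →
      topologicalKrullDim (C.support : Set X) = 1 →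
        0 < Curv2.euler k X (CohB1.tensorMod (ClSub.quotMod C) L) -
          Curv2.euler k X (ClSub.quotMod C))
    (heff : ∀ Z : X.IdealSheafData, IsIntegral Z.subscheme →
      ∃ (m : ℕ) (s : Coh.structureModule Z.subscheme ⟶
          CohB1.tensorPow ((Scheme.Modules.pullback Z.subschemeι).obj L) (m + 1)), s ≠ 0)
    (T : Closeds X) : ∀ J : X.IdealSheafData, IsIntegral J.subscheme → J.support = T →
      CohB1.IsAmple ((Scheme.Modules.pullback J.subschemeι).obj L) := by
  haveI : CompactSpace X :=
    QuasiCompact.compactSpace_of_compactSpace (X ↘ Spec (CommRingCat.of k))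
  haveI : IsLocallyNoetherian X :=
    LocallyOfFiniteType.isLocallyNoetherian (X ↘ Spec (CommRingCat.of k))
  haveI : IsNoetherian X := {}
  haveI : NoetherianSpace X := inferInstance
  refine WellFoundedLT.induction (motive := fun T : Closeds X => ∀ J : X.IdealSheafData,
    IsIntegral J.subscheme → J.support = T →
      CohB1.IsAmple ((Scheme.Modules.pullback J.subschemeι).obj L)) T ?_
  intro T ih J hJint hJT
  haveI := hJint
  letI oZ : J.subscheme.Over (Spec (CommRingCat.of k)) :=
    ⟨J.subschemeι ≫ (X ↘ Spec (CommRingCat.of k))⟩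
  haveI : IsProper (J.subscheme ↘ Spec (CommRingCat.of k)) := by
    show IsProper (J.subschemeι ≫ (X ↘ Spec (CommRingCat.of k)))
    infer_instance
  haveI : CompactSpace J.subscheme := QuasiCompact.compactSpace_of_compactSpace J.subschemeι
  have hLZ : PicF.IsInvertible ((Scheme.Modules.pullback J.subschemeι).obj L) :=
    Groth.Agent.Lib.Helper3.PbBasic.isInvertible_pullback J.subschemeι hL
  rw [Groth.Agent.Lib.Helper1.NoCurveAmple.isAmple_iff k J.subscheme _ hLZ]
  refine ⟨fun C' hint hdim =>
    strictNef_of_closedImmersion k X J.subscheme J.subschemeι L hL hnef C' hint hdim, ?_⟩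
  obtain ⟨m, s, hs⟩ := heff J hJint
  have hind : ∀ (W : Scheme.{u}) (c : W ⟶ J.subscheme) [IsClosedImmersion c] [IsIntegral W],
      ¬ Function.Surjective c.base → CohB1.IsAmple ((Scheme.Modules.pullback c).obj
        (CohB1.tensorPow ((Scheme.Modules.pullback J.subschemeι).obj L) (m + 1))) := by
    intro W c _ _ hns
    haveI : CompactSpace W := QuasiCompact.compactSpace_of_compactSpace c
    have hlt : (c ≫ J.subschemeι).ker.support < T := by
      rw [← hJT]
      refine lt_of_le_of_ne ?_ ?_
      · rw [← SetLike.coe_subset_coe, support_ker_eq_range]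
        rintro _ ⟨w, rfl⟩
        rw [← J.range_subschemeι]
        exact ⟨c.base w, rfl⟩
      · intro heq
        apply hns
        intro z
        have h1 : J.subschemeι.base z ∈ (J.support : Set X) := by
          rw [← J.range_subschemeι]; exact ⟨z, rfl⟩
        rw [← heq, support_ker_eq_range] at h1
        obtain ⟨w, hw⟩ := h1
        exact ⟨w, J.subschemeι.isEmbedding.injective hw⟩
    have h1 : CohB1.IsAmple ((Scheme.Modules.pullback (c ≫ J.subschemeι).ker.subschemeι).obj L) :=
      ih _ hlt _ (isIntegral_ker_subscheme (c ≫ J.subschemeι)) rfl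
    have h2 : CohB1.IsAmple ((Scheme.Modules.pullback (c ≫ J.subschemeι)).obj L) :=
      isAmple_pullback_of_ker (c ≫ J.subschemeι) L h1
    have h3 : CohB1.IsAmple ((Scheme.Modules.pullback c).obj
        ((Scheme.Modules.pullback J.subschemeι).obj L)) :=
      isAmple_of_iso ((Scheme.Modules.pullbackComp c J.subschemeι).app L).symm h2
    have h4 : CohB1.IsAmple (CohB1.tensorPow ((Scheme.Modules.pullback c).obj
        ((Scheme.Modules.pullback J.subschemeι).obj L)) (m + 1)) :=
      (isAmple_pow_iff (Groth.Agent.Lib.Helper3.PbBasic.isInvertible_pullback c hLZ)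
        (Nat.succ_pos m)).mp h3
    exact isAmple_of_iso (Groth.Agent.Lib.Helper3.PbTensor.pbPowIso c
      ((Scheme.Modules.pullback J.subschemeι).obj L) hLZ (m + 1)).symm h4
  have hE := eventually_gg_of_section k hZF J.subscheme
    (CohB1.tensorPow ((Scheme.Modules.pullback J.subschemeι).obj L) (m + 1))
    (isInvertible_tensorPow hLZ (m + 1)) s hs hind
  obtain ⟨n, hgg, hn1⟩ := (hE.and (Filter.eventually_ge_atTop 1)).exists
  have hgg' : Curv2.IsGloballyGenerated
      (CohB1.tensorPow ((Scheme.Modules.pullback J.subschemeι).obj L) ((m + 1) * n)) :=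
    Groth.Agent.Lib.Helper3.GlobGen.isGloballyGenerated_of_iso
      (powMul ((Scheme.Modules.pullback J.subschemeι).obj L) (m + 1) n) hgg
  obtain ⟨m', hm'⟩ : ∃ m' : ℕ, (m + 1) * n = m' + 1 :=
    ⟨(m + 1) * n - 1, by have : 0 < (m + 1) * n := Nat.mul_pos (Nat.succ_pos m) hn1; omega⟩
  rw [hm'] at hgg'
  exact ⟨m', hgg'⟩

/-- **S16711** modulo S17288 (`hZF`). -/
theorem main16711 (k : Type u) [Field k]
    (hZF : ∀ (X : Scheme.{u}) [X.Over (Spec (CommRingCat.of k))]
      [IsProper (X ↘ (Spec (CommRingCat.of k)))] (D : X.IdealSheafData),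
      PicF.IsInvertible (ClSub.idealMod D) → ∀ (LD : X.Modules),
      ClSub.IsInverseOf LD (ClSub.idealMod D) →
      CohB1.IsAmple ((Scheme.Modules.pullback D.subschemeι).obj LD) →
      ∀ᶠ m : ℕ in Filter.atTop, Curv2.IsGloballyGenerated (CohB1.tensorPow LD m))
    (X : Scheme.{u}) [X.Over (Spec (CommRingCat.of k))]
    [IsProper (X ↘ (Spec (CommRingCat.of k)))]
    (L : X.Modules) (hL : PicF.IsInvertible L)
    (hnef : ∀ C : X.IdealSheafData, IsIntegral C.subscheme →
      topologicalKrullDim (C.support : Set X) = 1 →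
        0 < Curv2.euler k X (CohB1.tensorMod (ClSub.quotMod C) L) -
          Curv2.euler k X (ClSub.quotMod C))
    (heff : ∀ Z : X.IdealSheafData, IsIntegral Z.subscheme →
      ∃ (m : ℕ) (s : Coh.structureModule Z.subscheme ⟶
          CohB1.tensorPow ((Scheme.Modules.pullback Z.subschemeι).obj L) (m + 1)), s ≠ 0) :
    CohB1.IsAmple L := by
  apply Groth.Agent.Lib.Helper7.AmpleComp.isAmple_of_irreducibleComponents k
    (X ↘ Spec (CommRingCat.of k)) hL
  intro Zc hZc
  exact isAmple_integral k hZF X L hL hnef heff _ (Scheme.IdealSheafData.vanishingIdeal Zc)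
    (Groth.Agent.Lib.Helper17.DevInt.isIntegral_sub Zc hZc.1) rfl

end Groth.Agent.Lib.Helper1.Nef16711
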