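import Groth.Agent.Lib.Helper1.NoCurveAmple
import Groth.Agent.Lib.Helper6.CurveLift
import Groth.Agent.Lib.Helper7.DegPull
import Groth.Agent.Lib.Helper11.ResDegScheme

/-!
# Nefness and pullback along surjective morphisms of proper schemes
-/

set_option autoImplicit false
set_option linter.style.haveILetI false
universe u
open CategoryTheory CategoryTheory.Limits AlgebraicGeometry TopologicalSpace Opposite
open Scheme.Modules

namespace Groth.Agent.Lib.Helper1.NefPull

open Groth.Agent.Lib.Helper1.NoCurveAmple

section Top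

variable {α : Type*} [TopologicalSpace α]

/-- in an irreducible closed set of dimension one, every non-generic point is closed -/
theorem isClosed_singleton_of_dim_one [T0Space α] (c : α)
    (hdim : topologicalKrullDim ↥(closure ({c} : Set α)) = 1) :
    ∀ y ∈ closure ({c} : Set α), y ≠ c → IsClosed ({y} : Set α) := by
  intro y hy hyc
  haveI : IrreducibleSpace ↥(closure ({c} : Set α)) :=
    Subtype.irreducibleSpace isIrreducible_singleton.closure
  have hle : Order.krullDim (IrreducibleCloseds ↥(closure ({c} : Set α))) ≤ 1 := hdim.le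
  rw [Order.krullDim_le_one_iff] at hle
  -- the irreducible closed set `closure {z}` in the subspace
  let Zc : ∀ z : ↥(closure ({c} : Set α)), IrreducibleCloseds ↥(closure ({c} : Set α)) :=
    fun z => ⟨closure {z}, isIrreducible_singleton.closure, isClosed_closure⟩
  have hmem : ∀ z w : ↥(closure ({c} : Set α)), w ∈ (Zc z : Set _) ↔ (w : α) ∈ closure ({(z : α)} : Set α) := by
    intro z w
    show w ∈ closure ({z} : Set ↥(closure ({c} : Set α))) ↔ _
    rw [closure_subtype, Set.image_singleton]
  rcases hle (Zc ⟨y, hy⟩) with hmin | hmax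
  · -- minimal: `closure {y} = {y}`
    have hsub : closure ({y} : Set α) ⊆ {y} := by
      intro z hz
      have hzS : z ∈ closure ({c} : Set α) :=
        (isClosed_closure.closure_subset_iff.mpr (Set.singleton_subset_iff.mpr hy)) hz
      have h1 : Zc ⟨z, hzS⟩ ≤ Zc ⟨y, hy⟩ := by
        rw [← SetLike.coe_subset_coe]
        intro w hw
        rw [hmem] at hw ⊢
        exact (isClosed_closure.closure_subset_iff.mpr (Set.singleton_subset_iff.mpr hz)) hw
      have h2 := hmin h1
      rw [← SetLike.coe_subset_coe] at h2
      have h3 : (⟨y, hy⟩ : ↥(closure ({c} : Set α))) ∈ (Zc ⟨z, hzS⟩ : Set _) :=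
        h2 ((hmem _ _).mpr (subset_closure rfl))
      rw [hmem] at h3
      -- `y ∈ closure {z}` and `z ∈ closure {y}`
      have h4 : closure ({z} : Set α) = closure {y} :=
        le_antisymm (isClosed_closure.closure_subset_iff.mpr (Set.singleton_subset_iff.mpr hz))
          (isClosed_closure.closure_subset_iff.mpr (Set.singleton_subset_iff.mpr h3))
      exact (inseparable_iff_closure_eq.mpr h4).eq
    have heq : closure ({y} : Set α) = {y} :=
      le_antisymm hsub subset_closure
    rw [← heq]
    exact isClosed_closure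
  · -- maximal: `c ∈ closure {y}`, so `y = c`
    exfalso
    apply hyc
    let Top : IrreducibleCloseds ↥(closure ({c} : Set α)) :=
      ⟨Set.univ, IrreducibleSpace.isIrreducible_univ _, isClosed_univ⟩
    have h1 : Zc ⟨y, hy⟩ ≤ Top := by
      rw [← SetLike.coe_subset_coe]
      exact Set.subset_univ _
    have h2 := hmax h1
    rw [← SetLike.coe_subset_coe] at h2
    have h3 : (⟨c, subset_closure rfl⟩ : ↥(closure ({c} : Set α))) ∈ (Zc ⟨y, hy⟩ : Set _) :=
      h2 (Set.mem_univ _)
    rw [hmem] at h3
    have h4 : closure ({y} : Set α) = closure {c} :=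
      le_antisymm (isClosed_closure.closure_subset_iff.mpr (Set.singleton_subset_iff.mpr hy))
        (isClosed_closure.closure_subset_iff.mpr (Set.singleton_subset_iff.mpr h3))
    exact (inseparable_iff_closure_eq.mpr h4).eq

/-- the closure of a non-closed point all of whose proper specializations are closed has
dimension one -/
theorem dim_closure_eq_one [T0Space α] [QuasiSober α] (c : α)
    (hcl : ∀ y ∈ closure ({c} : Set α), y ≠ c → IsClosed ({y} : Set α))
    (hcncl : ¬ IsClosed ({c} : Set α)) :
    topologicalKrullDim ↥(closure ({c} : Set α)) = 1 := by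
  have hS'cl : IsClosed (closure ({c} : Set α)) := isClosed_closure
  haveI : QuasiSober ↥(closure ({c} : Set α)) :=
    hS'cl.isClosedEmbedding_subtypeVal.quasiSober
  apply le_antisymm
  · unfold topologicalKrullDim
    rw [Order.krullDim_le_one_iff]
    intro Z
    obtain ⟨z, hz⟩ := QuasiSober.sober Z.isIrreducible Z.isClosed
    by_cases hzc : (z : α) = c
    · right
      intro Z' _
      rw [← SetLike.coe_subset_coe]
      intro w _
      rw [← hz.def, closure_subtype, Set.image_singleton, hzc]
      exact w.2
    · left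
      have hzcl : IsClosed ({(z : α)} : Set α) := hcl z z.2 hzc
      have hzcl' : IsClosed ({z} : Set ↥(closure ({c} : Set α))) := by
        have h1 : ({z} : Set ↥(closure ({c} : Set α))) = Subtype.val ⁻¹' {(z : α)} := by
          ext w
          simp [Subtype.ext_iff]
        rw [h1]
        exact hzcl.preimage continuous_subtype_val
      have hZeq : (Z : Set ↥(closure ({c} : Set α))) = {z} := by
        rw [← hz.def, hzcl'.closure_eq]
      intro Z' hZ'Z
      rw [← SetLike.coe_subset_coe] at hZ'Z ⊢
      rw [hZeq] at hZ'Z ⊢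
      obtain ⟨w, hw⟩ := Z'.isIrreducible.nonempty
      have hwz : w = z := hZ'Z hw
      rw [Set.singleton_subset_iff, ← hwz]
      exact hw
  · have hne : ∃ y ∈ closure ({c} : Set α), y ≠ c := by
      by_contra hcon
      push Not at hcon
      apply hcncl
      have h1 : closure ({c} : Set α) = {c} :=
        Set.eq_singleton_iff_unique_mem.mpr ⟨subset_closure rfl, hcon⟩
      rw [← h1]
      exact hS'cl
    obtain ⟨y, hyS, hyc⟩ := hne
    have hycl := hcl y hyS hyc
    have hycl' : IsClosed ({⟨y, hyS⟩} : Set ↥(closure ({c} : Set α))) := by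
      have h1 : ({⟨y, hyS⟩} : Set ↥(closure ({c} : Set α))) = Subtype.val ⁻¹' {y} := by
        ext w
        simp [Subtype.ext_iff]
      rw [h1]
      exact hycl.preimage continuous_subtype_val
    haveI : IrreducibleSpace ↥(closure ({c} : Set α)) :=
      Subtype.irreducibleSpace isIrreducible_singleton.closure
    unfold topologicalKrullDim
    rw [Order.one_le_krullDim_iff]
    refine ⟨⟨{⟨y, hyS⟩}, isIrreducible_singleton, hycl'⟩,
      ⟨Set.univ, IrreducibleSpace.isIrreducible_univ _, isClosed_univ⟩, ?_⟩
    rw [lt_iff_le_and_ne]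
    refine ⟨?_, ?_⟩
    · rw [← SetLike.coe_subset_coe]
      exact Set.subset_univ _
    · intro heq
      have h1 : ({⟨y, hyS⟩} : Set ↥(closure ({c} : Set α))) = Set.univ :=
        congrArg (fun Z : IrreducibleCloseds ↥(closure ({c} : Set α)) => Z.carrier) heq
      have h2 : (⟨c, subset_closure rfl⟩ : ↥(closure ({c} : Set α))) ∈
          ({⟨y, hyS⟩} : Set ↥(closure ({c} : Set α))) := by rw [h1]; trivial
      exact hyc (congrArg Subtype.val (Set.mem_singleton_iff.mp h2)).symm

end Top

section Sch

/-- the kernel of a morphism with reduced source (copied from helper16's `SchImgRed`) -/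
theorem ker_eq_vanishingIdeal_of_isReduced {X Y : Scheme.{u}} (f : X ⟶ Y) [IsReduced X] :
    f.ker = Scheme.IdealSheafData.vanishingIdeal (.closure (Set.range f)) := by
  rw [← Scheme.IdealSheafData.map_bot, ← Scheme.nilradical_eq_bot,
    ← Scheme.IdealSheafData.vanishingIdeal_top, Scheme.IdealSheafData.map_vanishingIdeal]
  congr 2
  simp

/-- the degree of `M` on the closed subscheme `C`, computed on `C` and on the ambient scheme -/
theorem euler_subscheme_sub (k : Type u) [Field k] (X : Scheme.{u})
    [X.Over (Spec (CommRingCat.of k))] (M : X.Modules) (C : X.IdealSheafData) :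
    @Curv2.euler k _ C.subscheme ⟨C.subschemeι ≫ (X ↘ Spec (CommRingCat.of k))⟩
        ((Scheme.Modules.pullback C.subschemeι).obj M) -
      @Curv2.euler k _ C.subscheme ⟨C.subschemeι ≫ (X ↘ Spec (CommRingCat.of k))⟩
        (Coh.structureModule C.subscheme) =
      Curv2.euler k X (CohB1.tensorMod (ClSub.quotMod C) M) -
        Curv2.euler k X (ClSub.quotMod C) := by
  letI : C.subscheme.Over (Spec (CommRingCat.of k)) :=
    ⟨C.subschemeι ≫ (X ↘ Spec (CommRingCat.of k))⟩
  have hov : C.subscheme ↘ Spec (CommRingCat.of k) =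
      C.subschemeι ≫ (X ↘ Spec (CommRingCat.of k)) := rfl
  have hker : C.subschemeι.ker = C := Scheme.IdealSheafData.ker_subschemeι C
  have h1 := Groth.Agent.Lib.Helper7.DegRestr.euler_quotMod_ker k X C.subschemeι hov
  have h2 := Groth.Agent.Lib.Helper7.DegRestr.euler_quotMod_ker_tensor k X C.subschemeι hov M
  rw [hker] at h1 h2
  rw [h1, h2]

variable (k : Type u) [Field k] (X X' : Scheme.{u})
  [X.Over (Spec (CommRingCat.of k))] [IsProper (X ↘ (Spec (CommRingCat.of k)))]
  [X'.Over (Spec (CommRingCat.of k))] [IsProper (X' ↘ (Spec (CommRingCat.of k)))]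
  (f : X' ⟶ X) (hf : f ≫ (X ↘ (Spec (CommRingCat.of k))) = X' ↘ (Spec (CommRingCat.of k)))
  (L : X.Modules) (hL : PicF.IsInvertible L)

include hL in
/-- a curve contracted to a point: the degree of the pullback is zero -/
theorem deg_eq_zero_of_const (C' : X'.IdealSheafData) (x : X)
    (himg : f.base '' (C'.support : Set X') = {x}) :
    Curv2.euler k X' (CohB1.tensorMod (ClSub.quotMod C') ((Scheme.Modules.pullback f).obj L)) -
      Curv2.euler k X' (ClSub.quotMod C') = 0 := by
  rw [← euler_subscheme_sub k X' ((Scheme.Modules.pullback f).obj L) C']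
  letI : C'.subscheme.Over (Spec (CommRingCat.of k)) :=
    ⟨C'.subschemeι ≫ (X' ↘ Spec (CommRingCat.of k))⟩
  obtain ⟨V, hxV, ⟨eV⟩⟩ := hL x
  have hrange : Set.range (C'.subschemeι ≫ f).base ⊆ Set.range V.ι.base := by
    rw [Scheme.Opens.range_ι]
    rintro _ ⟨z, rfl⟩
    have h1 : f.base (C'.subschemeι.base z) ∈ f.base '' (C'.support : Set X') := by
      refine ⟨C'.subschemeι.base z, ?_, rfl⟩
      rw [← C'.range_subschemeι]
      exact ⟨z, rfl⟩
    rw [himg] at h1
    have h2 : f.base (C'.subschemeι.base z) = x := h1
    show f.base (C'.subschemeι.base z) ∈ V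
    rw [h2]
    exact hxV
  let g' : C'.subscheme ⟶ (V : Scheme.{u}) := IsOpenImmersion.lift V.ι (C'.subschemeι ≫ f) hrange
  have hg' : g' ≫ V.ι = C'.subschemeι ≫ f := IsOpenImmersion.lift_fac _ _ _
  let e1 : (Scheme.Modules.pullback C'.subschemeι).obj ((Scheme.Modules.pullback f).obj L) ≅
      (Scheme.Modules.pullback (C'.subschemeι ≫ f)).obj L :=
    (Scheme.Modules.pullbackComp C'.subschemeι f).app L
  let e2 : (Scheme.Modules.pullback (C'.subschemeι ≫ f)).obj L ≅
      (Scheme.Modules.pullback (g' ≫ V.ι)).obj L :=
    (Scheme.Modules.pullbackCongr hg'.symm).app L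
  let e3 : (Scheme.Modules.pullback (g' ≫ V.ι)).obj L ≅
      (Scheme.Modules.pullback g').obj ((Scheme.Modules.pullback V.ι).obj L) :=
    ((Scheme.Modules.pullbackComp g' V.ι).app L).symm
  let e4 : (Scheme.Modules.pullback V.ι).obj L ≅ L.restrict V.ι :=
    ((Scheme.Modules.restrictFunctorIsoPullback V.ι).app L).symm
  let e5 : (Scheme.Modules.pullback g').obj ((Scheme.Modules.pullback V.ι).obj L) ≅
      (Scheme.Modules.pullback g').obj (Coh.structureModule (V : Scheme.{u})) :=
    (Scheme.Modules.pullback g').mapIso (e4 ≪≫ eV)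
  let e : (Scheme.Modules.pullback C'.subschemeι).obj ((Scheme.Modules.pullback f).obj L) ≅
      Coh.structureModule C'.subscheme :=
    e1 ≪≫ e2 ≪≫ e3 ≪≫ e5 ≪≫ Groth.Agent.Lib.Helper3.PbBasic.pbUnit g'
  rw [Groth.Agent.Lib.Helper23.FBC.euler_eq_of_iso' k e, sub_self]

include hf hL in
/-- the degree of the pullback on a curve dominating a curve -/
theorem deg_pullback_curve (C' : X'.IdealSheafData) (C : X.IdealSheafData)
    (hint' : IsIntegral C'.subscheme) (hdim' : topologicalKrullDim (C'.support : Set X') = 1)
    (hint : IsIntegral C.subscheme) (hdim : topologicalKrullDim (C.support : Set X) = 1)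
    (himg : f.base '' (C'.support : Set X') = (C.support : Set X)) :
    ∃ d : ℕ, 0 < d ∧
      Curv2.euler k X' (CohB1.tensorMod (ClSub.quotMod C') ((Scheme.Modules.pullback f).obj L)) -
        Curv2.euler k X' (ClSub.quotMod C') =
      (d : ℤ) * (Curv2.euler k X (CohB1.tensorMod (ClSub.quotMod C) L) -
        Curv2.euler k X (ClSub.quotMod C)) := by
  haveI := hint'
  haveI := hint
  haveI : IsProper (f ≫ (X ↘ (Spec (CommRingCat.of k)))) := by rw [hf]; infer_instance
  haveI : IsProper f := IsProper.of_comp f (X ↘ (Spec (CommRingCat.of k)))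
  rw [← euler_subscheme_sub k X' ((Scheme.Modules.pullback f).obj L) C',
    ← euler_subscheme_sub k X L C]
  letI oC : C.subscheme.Over (Spec (CommRingCat.of k)) :=
    ⟨C.subschemeι ≫ (X ↘ Spec (CommRingCat.of k))⟩
  letI oC' : C'.subscheme.Over (Spec (CommRingCat.of k)) :=
    ⟨C'.subschemeι ≫ (X' ↘ Spec (CommRingCat.of k))⟩
  haveI : IsProper (C.subscheme ↘ Spec (CommRingCat.of k)) := by
    show IsProper (C.subschemeι ≫ (X ↘ Spec (CommRingCat.of k)))
    infer_instance
  haveI : IsProper (C'.subscheme ↘ Spec (CommRingCat.of k)) := by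
    show IsProper (C'.subschemeι ≫ (X' ↘ Spec (CommRingCat.of k)))
    infer_instance
  have hdimC : topologicalKrullDim C.subscheme = 1 := by rw [dim_subscheme_eq, hdim]
  have hdimC' : topologicalKrullDim C'.subscheme = 1 := by rw [dim_subscheme_eq, hdim']
  -- the induced morphism of curves
  have hrange : Set.range (C'.subschemeι ≫ f).base ⊆ (C.support : Set X) := by
    rintro _ ⟨z, rfl⟩
    rw [← himg]
    refine ⟨C'.subschemeι.base z, ?_, rfl⟩
    rw [← C'.range_subschemeι]
    exact ⟨z, rfl⟩
  have hker : C.subschemeι.ker ≤ (C'.subschemeι ≫ f).ker := by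
    rw [Scheme.IdealSheafData.ker_subschemeι, ker_eq_vanishingIdeal_of_isReduced,
      ← Scheme.IdealSheafData.le_support_iff_le_vanishingIdeal]
    exact Closeds.closure_le.mpr hrange
  let h : C'.subscheme ⟶ C.subscheme :=
    IsClosedImmersion.lift C.subschemeι (C'.subschemeι ≫ f) hker
  have hfac : h ≫ C.subschemeι = C'.subschemeι ≫ f := IsClosedImmersion.lift_fac _ _ _
  have hh : h ≫ (C.subscheme ↘ Spec (CommRingCat.of k)) =
      C'.subscheme ↘ Spec (CommRingCat.of k) := by
    show h ≫ (C.subschemeι ≫ (X ↘ Spec (CommRingCat.of k))) =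
      C'.subschemeι ≫ (X' ↘ Spec (CommRingCat.of k))
    rw [← Category.assoc, hfac, Category.assoc, hf]
  have hξ : h.base (genericPoint C'.subscheme) = genericPoint C.subscheme := by
    apply C.subschemeι.isEmbedding.injective
    have h1 : C.subschemeι.base (h.base (genericPoint C'.subscheme)) =
        f.base (C'.subschemeι.base (genericPoint C'.subscheme)) :=
      congrArg (fun φ : C'.subscheme ⟶ X => φ.base (genericPoint C'.subscheme)) hfac
    have e0 := Groth.Agent.Lib.Helper6.CurveLift.closure_generic C'
    have e1 : closure {f.base (C'.subschemeι.base (genericPoint C'.subscheme))} =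
        (C.support : Set X) := by
      rw [← himg, ← e0, ← f.isClosedMap.closure_image_eq_of_continuous f.base.hom.continuous,
        Set.image_singleton]
    have e2 := Groth.Agent.Lib.Helper6.CurveLift.closure_generic C
    refine h1.trans ?_
    exact (inseparable_iff_closure_eq.mpr (e1.trans e2.symm)).eq
  have hLC := Groth.Agent.Lib.Helper3.PbBasic.isInvertible_pullback C.subschemeι hL
  have hdp := Groth.Agent.Lib.Helper7.DegPull.deg_pullback k hdimC'.le hdimC h hh hξ 1
    ((Scheme.Modules.pullback C.subschemeι).obj L)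
    (Groth.Agent.Lib.Helper23.Curve.isFinLocFreeOfRank_one_of_isInvertible hLC)
  let e : (Scheme.Modules.pullback h).obj ((Scheme.Modules.pullback C.subschemeι).obj L) ≅
      (Scheme.Modules.pullback C'.subschemeι).obj ((Scheme.Modules.pullback f).obj L) :=
    (Scheme.Modules.pullbackComp h C.subschemeι).app L ≪≫
      (Scheme.Modules.pullbackCongr hfac).app L ≪≫
      ((Scheme.Modules.pullbackComp C'.subschemeι f).app L).symm
  have he := Groth.Agent.Lib.Helper23.FBC.euler_eq_of_iso' k e
  -- positivity of the degree
  haveI : IsFinite h :=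
    Groth.Agent.Lib.Helper7.DegPull.isFinite_of_generic k hdimC'.le hdimC h hh hξ
  haveI : CompactSpace C.subscheme :=
    QuasiCompact.compactSpace_of_compactSpace (C.subscheme ↘ Spec (CommRingCat.of k))
  obtain ⟨N, hN⟩ := Groth.Agent.Lib.Helper11.ResDeg.exists_bound h
  have hfin := (hN (genericPoint C'.subscheme)).1
  have hpos : 0 < h.residueDegree (genericPoint C'.subscheme) := by
    unfold Scheme.Hom.residueDegree
    letI := (h.residueFieldMap (genericPoint C'.subscheme)).hom.toAlgebra
    haveI : Module.Finite (C.subscheme.residueField (h (genericPoint C'.subscheme)))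
      (C'.subscheme.residueField (genericPoint C'.subscheme)) := hfin
    exact Module.finrank_pos
  refine ⟨h.residueDegree (genericPoint C'.subscheme), hpos, ?_⟩
  unfold Curv2.deg at hdp
  rw [he] at hdp
  push_cast at hdp
  linarith

include hf hL in
/-- **nef ⇔ nef after pullback** along a surjective morphism of proper schemes -/
theorem nef_iff [Surjective f] :
    (∀ C : X.IdealSheafData, IsIntegral C.subscheme →
        topologicalKrullDim (C.support : Set X) = 1 →
          0 ≤ Curv2.euler k X (CohB1.tensorMod (ClSub.quotMod C) L) -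
            Curv2.euler k X (ClSub.quotMod C)) ↔
      (∀ C' : X'.IdealSheafData, IsIntegral C'.subscheme →
        topologicalKrullDim (C'.support : Set X') = 1 →
          0 ≤ Curv2.euler k X' (CohB1.tensorMod (ClSub.quotMod C')
              ((Scheme.Modules.pullback f).obj L)) -
            Curv2.euler k X' (ClSub.quotMod C')) := by
  haveI : IsProper (f ≫ (X ↘ (Spec (CommRingCat.of k)))) := by rw [hf]; infer_instance
  haveI : IsProper f := IsProper.of_comp f (X ↘ (Spec (CommRingCat.of k)))
  constructor
  · intro hnef C' hint' hdim'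
    haveI := hint'
    have hclos' := Groth.Agent.Lib.Helper6.CurveLift.closure_generic C'
    obtain ⟨ξ', hξ'⟩ : ∃ ξ' : X', ξ' = C'.subschemeι (genericPoint C'.subscheme) := ⟨_, rfl⟩
    rw [← hξ'] at hclos'
    have himg : f.base '' (C'.support : Set X') = closure {f.base ξ'} := by
      rw [← hclos', ← f.isClosedMap.closure_image_eq_of_continuous f.base.hom.continuous,
        Set.image_singleton]
    by_cases hxc : IsClosed ({f.base ξ'} : Set X)
    · rw [hxc.closure_eq] at himg
      rw [deg_eq_zero_of_const k X X' f L hL C' (f.base ξ') himg]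
    · have hdimξ : topologicalKrullDim ↥(closure ({ξ'} : Set X')) = 1 := by
        rw [hclos']; exact hdim'
      have hcl' := isClosed_singleton_of_dim_one ξ' hdimξ
      have hcl : ∀ t ∈ closure ({f.base ξ'} : Set X), t ≠ f.base ξ' → IsClosed ({t} : Set X) := by
        intro t ht htx
        rw [← himg] at ht
        obtain ⟨y, hy, rfl⟩ := ht
        have hyξ : y ≠ ξ' := fun h => htx (by rw [h])
        have h1 := hcl' y (by rw [hclos']; exact hy) hyξ
        have h2 := f.isClosedMap _ h1
        rwa [Set.image_singleton] at h2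
      have hdimT := dim_closure_eq_one (f.base ξ') hcl hxc
      let Cl : Closeds X := ⟨closure {f.base ξ'}, isClosed_closure⟩
      have hint : IsIntegral (Scheme.IdealSheafData.vanishingIdeal Cl).subscheme :=
        Groth.Agent.Lib.Helper17.DevInt.isIntegral_sub Cl isIrreducible_singleton.closure
      have hsupp : ((Scheme.IdealSheafData.vanishingIdeal Cl).support : Set X) =
          closure {f.base ξ'} := Scheme.IdealSheafData.coe_support_vanishingIdeal _
      have hdim : topologicalKrullDim
          ((Scheme.IdealSheafData.vanishingIdeal Cl).support : Set X) = 1 := by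
        rw [hsupp]; exact hdimT
      obtain ⟨d, -, hE⟩ := deg_pullback_curve k X X' f hf L hL C'
        (Scheme.IdealSheafData.vanishingIdeal Cl) hint' hdim' hint hdim (himg.trans hsupp.symm)
      rw [hE]
      exact mul_nonneg (Int.natCast_nonneg d) (hnef _ hint hdim)
  · intro hnef' C hint hdim
    haveI := hint
    haveI : LocallyOfFiniteType f :=
      locallyOfFiniteType_of_comp f (X ↘ (Spec (CommRingCat.of k)))
    obtain ⟨C', hint', hdim', himg⟩ := Groth.Agent.Lib.Helper6.CurveLift.main k
      (X ↘ (Spec (CommRingCat.of k))) f f.isClosedMap C hdim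
    obtain ⟨d, hd, hE⟩ := deg_pullback_curve k X X' f hf L hL C' C hint' hdim' hint hdim himg
    have h1 := hnef' C' hint' hdim'
    rw [hE] at h1
    by_contra hneg
    push Not at hneg
    have hdpos : (0 : ℤ) < (d : ℤ) := by exact_mod_cast hd
    have h2 := mul_neg_of_pos_of_neg hdpos hneg
    linarith

end Sch

end Groth.Agent.Lib.Helper1.NefPull
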