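import Groth.Agent.Lib.Helper1.NefPull

/-!
# Strict nefness restricts along injective morphisms of proper schemes (helper1)
-/

set_option autoImplicit false
set_option linter.style.haveILetI false
universe u
open CategoryTheory CategoryTheory.Limits AlgebraicGeometry TopologicalSpace Opposite
open Scheme.Modules

namespace Groth.Agent.Lib.Helper1.NefPullStrict

open Groth.Agent.Lib.Helper1.NefPull

variable (k : Type u) [Field k] (X X' : Scheme.{u})
  [X.Over (Spec (CommRingCat.of k))] [IsProper (X ↘ (Spec (CommRingCat.of k)))]
  [X'.Over (Spec (CommRingCat.of k))] [IsProper (X' ↘ (Spec (CommRingCat.of k)))]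
  (f : X' ⟶ X) (hf : f ≫ (X ↘ (Spec (CommRingCat.of k))) = X' ↘ (Spec (CommRingCat.of k)))
  (L : X.Modules) (hL : PicF.IsInvertible L)

include hf hL in
/-- positivity on curves is inherited by the pullback along an injective morphism (e.g. a closed
immersion). -/
theorem strictNef_pullback (hinj : Function.Injective f.base)
    (hpos : ∀ C : X.IdealSheafData, IsIntegral C.subscheme →
        topologicalKrullDim (C.support : Set X) = 1 →
          0 < Curv2.euler k X (CohB1.tensorMod (ClSub.quotMod C) L) -
            Curv2.euler k X (ClSub.quotMod C)) :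
    ∀ C' : X'.IdealSheafData, IsIntegral C'.subscheme →
      topologicalKrullDim (C'.support : Set X') = 1 →
        0 < Curv2.euler k X' (CohB1.tensorMod (ClSub.quotMod C')
            ((Scheme.Modules.pullback f).obj L)) -
          Curv2.euler k X' (ClSub.quotMod C') := by
  haveI : IsProper (f ≫ (X ↘ (Spec (CommRingCat.of k)))) := by rw [hf]; infer_instance
  haveI : IsProper f := IsProper.of_comp f (X ↘ (Spec (CommRingCat.of k)))
  intro C' hint' hdim'
  haveI := hint'
  have hclos' := Groth.Agent.Lib.Helper6.CurveLift.closure_generic C'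
  obtain ⟨ξ', hξ'⟩ : ∃ ξ' : X', ξ' = C'.subschemeι (genericPoint C'.subscheme) := ⟨_, rfl⟩
  rw [← hξ'] at hclos'
  have himg : f.base '' (C'.support : Set X') = closure {f.base ξ'} := by
    rw [← hclos', ← f.isClosedMap.closure_image_eq_of_continuous f.base.hom.continuous,
      Set.image_singleton]
  have hdimξ : topologicalKrullDim ↥(closure ({ξ'} : Set X')) = 1 := by
    rw [hclos']; exact hdim'
  have hcl' := isClosed_singleton_of_dim_one ξ' hdimξ
  have hxc : ¬ IsClosed ({f.base ξ'} : Set X) := by
    intro hxc
    rw [hxc.closure_eq] at himg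
    -- the support of `C'` is a single point
    have hsub : (C'.support : Set X') ⊆ {ξ'} := by
      intro y hy
      have h1 : f.base y ∈ f.base '' (C'.support : Set X') := ⟨y, hy, rfl⟩
      rw [himg] at h1
      exact hinj h1
    have hclosed : IsClosed ({ξ'} : Set X') := by
      have h2 : (C'.support : Set X') = {ξ'} := by
        apply Set.Subset.antisymm hsub
        rw [← hclos']
        exact fun y hy => subset_closure hy
      rw [← h2]
      exact C'.support.isClosed
    rw [hclosed.closure_eq] at hdimξ
    haveI : Subsingleton ↥({ξ'} : Set X') :=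
      (Set.subsingleton_coe _).mpr Set.subsingleton_singleton
    have h0 : topologicalKrullDim ↥({ξ'} : Set X') ≤ 0 := by
      unfold topologicalKrullDim
      haveI : Subsingleton (IrreducibleCloseds ↥({ξ'} : Set X')) := by
        refine ⟨fun A B => ?_⟩
        apply IrreducibleCloseds.ext
        have hA := A.isIrreducible'.nonempty
        have hB := B.isIrreducible'.nonempty
        ext z
        constructor
        · intro _
          obtain ⟨b, hb⟩ := hB
          rwa [Subsingleton.elim z b]
        · intro _
          obtain ⟨a, ha⟩ := hA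
          rwa [Subsingleton.elim z a]
      exact Order.krullDim_nonpos_of_subsingleton
    rw [hdimξ] at h0
    exact absurd h0 (by norm_num)
  have hcl : ∀ t ∈ closure ({f.base ξ'} : Set X), t ≠ f.base ξ' → IsClosed ({t} : Set X) := by
    intro t ht htx
    rw [← himg] at ht
    obtain ⟨y, hy, rfl⟩ := ht
    have hyξ : y ≠ ξ' := fun h => htx (by rw [h])
    have h1 := hcl' y (by rw [hclos']; exact hy) hyξ
    have h2 := f.isClosedMap _ h1
    rwa [Set.image_singleton] at h2
  have hdimT := dim_closure_eq_one (f.base ξ') hcl hxc
  let Cl : Closeds X := ⟨closure {f.base ξ'}, isClosed_closure⟩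
  have hint : IsIntegral (Scheme.IdealSheafData.vanishingIdeal Cl).subscheme :=
    Groth.Agent.Lib.Helper17.DevInt.isIntegral_sub Cl isIrreducible_singleton.closure
  have hsupp : ((Scheme.IdealSheafData.vanishingIdeal Cl).support : Set X) =
      closure {f.base ξ'} := Scheme.IdealSheafData.coe_support_vanishingIdeal _
  have hdim : topologicalKrullDim
      ((Scheme.IdealSheafData.vanishingIdeal Cl).support : Set X) = 1 := by
    rw [hsupp]; exact hdimT
  obtain ⟨d, hd, hE⟩ := deg_pullback_curve k X X' f hf L hL C'
    (Scheme.IdealSheafData.vanishingIdeal Cl) hint' hdim' hint hdim (himg.trans hsupp.symm)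
  rw [hE]
  have hdpos : (0 : ℤ) < (d : ℤ) := by exact_mod_cast hd
  exact mul_pos hdpos (hpos _ hint hdim)

end Groth.Agent.Lib.Helper1.NefPullStrict
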