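import Mathlib
import Groth.Prelude
import Groth.Agent.Lib.Helper3.VACore
import Groth.Agent.Lib.Helper3.FreeSec
import Groth.Agent.Lib.Helper3.SubIdeal
import Groth.Agent.Lib.Helper3.QProj
import Groth.Agent.Lib.Helper3.PbBasic
import Groth.Agent.Lib.Helper17.DevInt

/-!
# Opens `X_s` without complete curves are affine

`X` proper over a field, `L` invertible and globally generated, `s` a global section.
If `X_s` contains no integral closed curve of `X`, then `X_s` is affine
(the morphism to projective space defined by `L` is finite over `D₊(x₀)` by Zariski's main theorem).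
-/

set_option autoImplicit false
universe u
open CategoryTheory CategoryTheory.Limits AlgebraicGeometry TopologicalSpace Opposite
open Scheme.Modules

namespace Groth.Agent.Lib.Helper1.NoCurveAff

section Top

variable {α : Type*} [TopologicalSpace α]

/-- In a Noetherian quasi-sober T0 space, an infinite closed set contains a "curve": a point `c`
whose closure lies in the set and has dimension one. -/
theorem exists_curve_of_infinite [NoetherianSpace α] [T0Space α] [QuasiSober α] {F : Set α}
    (hF : IsClosed F) (hinf : F.Infinite) :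
    ∃ c : α, closure {c} ⊆ F ∧ topologicalKrullDim ↥(closure ({c} : Set α)) = 1 := by
  classical
  obtain ⟨S, hSf, hSc, hSi, hSU⟩ := NoetherianSpace.exists_finite_set_isClosed_irreducible hF
  obtain ⟨T, hTS, hTinf⟩ : ∃ T ∈ S, T.Infinite := by
    by_contra hcon
    push Not at hcon
    apply hinf
    rw [hSU]
    exact hSf.sUnion (fun T hT => hcon T hT)
  have hTcl := hSc T hTS
  have hTirr := hSi T hTS
  have hTF : T ⊆ F := by rw [hSU]; exact Set.subset_sUnion_of_mem hTS
  obtain ⟨η, hη⟩ := QuasiSober.sober hTirr hTcl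
  have hηT : η ∈ T := by rw [← hη.def]; exact subset_closure rfl
  have hηncl : ¬ IsClosed ({η} : Set α) := by
    intro h
    apply hTinf
    rw [← hη.def, h.closure_eq]
    exact Set.finite_singleton η
  let 𝒮 : Set (Closeds α) :=
    {Z | ∃ y ∈ T, ¬ IsClosed ({y} : Set α) ∧ Z = ⟨closure {y}, isClosed_closure⟩}
  have h𝒮ne : 𝒮.Nonempty := ⟨_, η, hηT, hηncl, rfl⟩
  obtain ⟨Z, ⟨c, hcT, hcncl, rfl⟩, hmin⟩ :=
    WellFounded.has_min (wellFounded_lt (α := Closeds α)) 𝒮 h𝒮ne
  have hcl : ∀ y ∈ closure ({c} : Set α), y ≠ c → IsClosed ({y} : Set α) := by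
    intro y hy hyc
    by_contra hycl
    have hyT : y ∈ T := hTcl.closure_subset_iff.mpr (Set.singleton_subset_iff.mpr hcT) hy
    apply hmin ⟨closure {y}, isClosed_closure⟩ ⟨y, hyT, hycl, rfl⟩
    rw [lt_iff_le_and_ne]
    refine ⟨?_, ?_⟩
    · rw [← SetLike.coe_subset_coe]
      exact isClosed_closure.closure_subset_iff.mpr (Set.singleton_subset_iff.mpr hy)
    · intro heq
      apply hyc
      have h1 : closure ({y} : Set α) = closure {c} :=
        congrArg (fun Z : Closeds α => (Z : Set α)) heq
      exact (inseparable_iff_closure_eq.mpr h1).eq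
  refine ⟨c, (hTcl.closure_subset_iff.mpr (Set.singleton_subset_iff.mpr hcT)).trans hTF, ?_⟩
  have hS'cl : IsClosed (closure ({c} : Set α)) := isClosed_closure
  haveI : QuasiSober ↥(closure ({c} : Set α)) :=
    hS'cl.isClosedEmbedding_subtypeVal.quasiSober
  apply le_antisymm
  · unfold topologicalKrullDim
    rw [Order.krullDim_le_one_iff]
    intro Z
    obtain ⟨z, hz⟩ := QuasiSober.sober Z.isIrreducible Z.isClosed
    by_cases hzc : (z : α) = c
    · right
      intro Z' _
      rw [← SetLike.coe_subset_coe]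
      intro w _
      rw [← hz.def, closure_subtype, Set.image_singleton, hzc]
      exact w.2
    · left
      have hzcl : IsClosed ({(z : α)} : Set α) := hcl z z.2 hzc
      have hzcl' : IsClosed ({z} : Set ↥(closure ({c} : Set α))) := by
        have h1 : ({z} : Set ↥(closure ({c} : Set α))) = Subtype.val ⁻¹' {(z : α)} := by
          ext w
          simp [Subtype.ext_iff]
        rw [h1]
        exact hzcl.preimage continuous_subtype_val
      have hZeq : (Z : Set ↥(closure ({c} : Set α))) = {z} := by
        rw [← hz.def, hzcl'.closure_eq]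
      intro Z' hZ'Z
      rw [← SetLike.coe_subset_coe] at hZ'Z ⊢
      rw [hZeq] at hZ'Z ⊢
      obtain ⟨w, hw⟩ := Z'.isIrreducible.nonempty
      have hwz : w = z := hZ'Z hw
      rw [Set.singleton_subset_iff, ← hwz]
      exact hw
  · have hne : ∃ y ∈ closure ({c} : Set α), y ≠ c := by
      by_contra hcon
      push Not at hcon
      apply hcncl
      have h1 : closure ({c} : Set α) = {c} :=
        Set.eq_singleton_iff_unique_mem.mpr ⟨subset_closure rfl, hcon⟩
      rw [← h1]
      exact hS'cl
    obtain ⟨y, hyS, hyc⟩ := hne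
    have hycl := hcl y hyS hyc
    have hycl' : IsClosed ({⟨y, hyS⟩} : Set ↥(closure ({c} : Set α))) := by
      have h1 : ({⟨y, hyS⟩} : Set ↥(closure ({c} : Set α))) = Subtype.val ⁻¹' {y} := by
        ext w
        simp [Subtype.ext_iff]
      rw [h1]
      exact hycl.preimage continuous_subtype_val
    haveI : IrreducibleSpace ↥(closure ({c} : Set α)) :=
      Subtype.irreducibleSpace isIrreducible_singleton.closure
    unfold topologicalKrullDim
    rw [Order.one_le_krullDim_iff]
    refine ⟨⟨{⟨y, hyS⟩}, isIrreducible_singleton, hycl'⟩,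
      ⟨Set.univ, IrreducibleSpace.isIrreducible_univ _, isClosed_univ⟩, ?_⟩
    rw [lt_iff_le_and_ne]
    refine ⟨?_, ?_⟩
    · rw [← SetLike.coe_subset_coe]
      exact Set.subset_univ _
    · intro heq
      have h1 : ({⟨y, hyS⟩} : Set ↥(closure ({c} : Set α))) = Set.univ :=
        congrArg (fun Z : IrreducibleCloseds ↥(closure ({c} : Set α)) => Z.carrier) heq
      have h2 : (⟨c, subset_closure rfl⟩ : ↥(closure ({c} : Set α))) ∈
          ({⟨y, hyS⟩} : Set ↥(closure ({c} : Set α))) := by rw [h1]; trivial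
      exact hyc (congrArg Subtype.val (Set.mem_singleton_iff.mp h2)).symm

/-- a subsingleton space has dimension at most zero -/
theorem topologicalKrullDim_le_zero_of_subsingleton (β : Type*) [TopologicalSpace β]
    [Subsingleton β] : topologicalKrullDim β ≤ 0 :=
  topologicalKrullDim_zero_of_discreteTopology β

end Top

section Sch

open Groth.Agent.Lib.Helper3 Groth.Agent.Lib.Helper3.QCSec Groth.Agent.Lib.Helper3.InvGen
  Groth.Agent.Lib.Helper3.InvTensor Groth.Agent.Lib.Helper3.InvTwist
  Groth.Agent.Lib.Helper3.InvMonoidal Groth.Agent.Lib.Helper3.InvCoh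
  Groth.Agent.Lib.Helper3.InvAmple Groth.Agent.Lib.Helper3.SecCoord
  Groth.Agent.Lib.Helper3.VACore

/-- the pullback of `L` along a morphism landing in `X_s` is trivial -/
theorem nonempty_pullback_iso_unit {Z X : Scheme.{u}} (ι : Z ⟶ X) (L : X.Modules)
    (s : Coh.structureModule X ⟶ L)
    (h : Set.range ι.base ⊆ (CohB1.genLocus L s : Set X)) :
    Nonempty ((Scheme.Modules.pullback ι).obj L ≅ Coh.structureModule Z) := by
  haveI : IsIso ((restrictFunctor (CohB1.genLocus L s).ι).map s) :=
    (isIso_restrict_iff s (CohB1.genLocus L s)).mpr (isGen_genLocus s)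
  have eV : L.restrict (CohB1.genLocus L s).ι ≅
      Coh.structureModule (CohB1.genLocus L s : Scheme.{u}) :=
    (asIso ((restrictFunctor (CohB1.genLocus L s).ι).map s)).symm ≪≫
      restrictUnitIso (CohB1.genLocus L s).ι
  have hrange : Set.range ι.base ⊆ Set.range (CohB1.genLocus L s).ι.base := by
    rw [Scheme.Opens.range_ι]
    exact h
  let g' : Z ⟶ (CohB1.genLocus L s : Scheme.{u}) :=
    IsOpenImmersion.lift (CohB1.genLocus L s).ι ι hrange
  have hg' : g' ≫ (CohB1.genLocus L s).ι = ι := IsOpenImmersion.lift_fac _ _ _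
  let e2 : (Scheme.Modules.pullback ι).obj L ≅
      (Scheme.Modules.pullback (g' ≫ (CohB1.genLocus L s).ι)).obj L :=
    (Scheme.Modules.pullbackCongr hg'.symm).app L
  let e3 : (Scheme.Modules.pullback (g' ≫ (CohB1.genLocus L s).ι)).obj L ≅
      (Scheme.Modules.pullback g').obj
        ((Scheme.Modules.pullback (CohB1.genLocus L s).ι).obj L) :=
    ((Scheme.Modules.pullbackComp g' (CohB1.genLocus L s).ι).app L).symm
  let e4 : (Scheme.Modules.pullback (CohB1.genLocus L s).ι).obj L ≅
      L.restrict (CohB1.genLocus L s).ι :=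
    ((Scheme.Modules.restrictFunctorIsoPullback (CohB1.genLocus L s).ι).app L).symm
  let e5 : (Scheme.Modules.pullback g').obj
        ((Scheme.Modules.pullback (CohB1.genLocus L s).ι).obj L) ≅
      (Scheme.Modules.pullback g').obj
        (Coh.structureModule (CohB1.genLocus L s : Scheme.{u})) :=
    (Scheme.Modules.pullback g').mapIso (e4 ≪≫ eV)
  exact ⟨e2 ≪≫ e3 ≪≫ e5 ≪≫ Groth.Agent.Lib.Helper3.PbBasic.pbUnit g'⟩

/-- an integral scheme, universally closed over a field, whose structure sheaf is ample, is a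
point -/
theorem subsingleton_of_isAmple_unit (k : Type u) [Field k] (Z : Scheme.{u})
    (f : Z ⟶ Spec (CommRingCat.of k)) [IsIntegral Z] [UniversallyClosed f]
    (hA : CohB1.IsAmple (Coh.structureModule Z)) : Subsingleton Z := by
  haveI : Z.IsQuasiAffine := isQuasiAffine_iff_isAmple_unit.mpr hA
  obtain ⟨x⟩ : Nonempty Z := inferInstance
  obtain ⟨_, ⟨r, hr, rfl⟩, hxr, -⟩ := Opens.isBasis_iff_nbhd.mp
    (Scheme.IsQuasiAffine.isBasis_basicOpen Z) (show x ∈ (⊤ : Z.Opens) from trivial)
  have hfield : IsField Γ(Z, ⊤) := isField_of_universallyClosed (K := k) f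
  have hr0 : r ≠ 0 := by
    rintro rfl
    rw [Scheme.basicOpen_zero] at hxr
    exact hxr
  obtain ⟨r', hr'⟩ := hfield.mul_inv_cancel hr0
  have hu : IsUnit r := IsUnit.of_mul_eq_one r' hr'
  have htop : Z.basicOpen r = ⊤ := Scheme.basicOpen_of_isUnit _ hu
  rw [htop] at hr
  haveI : IsAffine (⊤ : Z.Opens).toScheme := hr
  haveI : IsAffine Z := IsAffine.of_isIso (Z.topIso.inv)
  have hsimple : IsSimpleOrder (Ideal Γ(Z, ⊤)) := Ring.isField_iff_isSimpleOrder_ideal.mp hfield
  have hsub : Subsingleton (PrimeSpectrum Γ(Z, ⊤)) := ⟨fun p q => PrimeSpectrum.ext (by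
    rw [(eq_bot_or_eq_top p.asIdeal).resolve_right p.2.ne_top,
      (eq_bot_or_eq_top q.asIdeal).resolve_right q.2.ne_top])⟩
  have hsub' : Subsingleton ↥(Spec Γ(Z, ⊤)) := hsub
  exact (Scheme.Hom.homeomorph Z.isoSpec.hom).injective.subsingleton

/-- an integral closed curve inside `X_t` on which `L` is ample: impossible -/
theorem false_of_isAmple_of_subset (k : Type u) [Field k] (X : Scheme.{u})
    [X.Over (Spec (CommRingCat.of k))] [IsProper (X ↘ Spec (CommRingCat.of k))] (L : X.Modules) (t : Coh.structureModule X ⟶ L)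
    (C : X.IdealSheafData) (hint : IsIntegral C.subscheme)
    (hdim : topologicalKrullDim (C.support : Set X) = 1)
    (hsub : (C.support : Set X) ⊆ (CohB1.genLocus L t : Set X))
    (hA : CohB1.IsAmple ((Scheme.Modules.pullback C.subschemeι).obj L)) : False := by
  have hr := C.range_subschemeι
  have hrange : Set.range C.subschemeι.base ⊆ (CohB1.genLocus L t : Set X) := by
    intro x hx
    apply hsub
    rw [← hr]
    exact hx
  obtain ⟨e⟩ := nonempty_pullback_iso_unit C.subschemeι L t hrange
  have hA' : CohB1.IsAmple (Coh.structureModule C.subscheme) := isAmple_of_iso e hA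
  haveI : Subsingleton C.subscheme :=
    subsingleton_of_isAmple_unit k C.subscheme (C.subschemeι ≫ (X ↘ Spec (CommRingCat.of k))) hA'
  haveI : Subsingleton ↥(C.support : Set X) := by
    refine ⟨fun a b => Subtype.ext ?_⟩
    obtain ⟨a', ha'⟩ : a.1 ∈ Set.range C.subschemeι := by rw [hr]; exact a.2
    obtain ⟨b', hb'⟩ : b.1 ∈ Set.range C.subschemeι := by rw [hr]; exact b.2
    rw [← ha', ← hb', Subsingleton.elim a' b']
  have h0 := topologicalKrullDim_le_zero_of_subsingleton ↥(C.support : Set X)
  rw [hdim] at h0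
  exact absurd h0 (by decide)

/-- **Key lemma.** `X` proper over a field, `L` invertible and globally generated, `s` a global
section. If `X_s` contains no integral closed curve of `X` then `X_s` is affine. -/
theorem isAffineOpen_genLocus_of_no_curves (k : Type u) [Field k] (X : Scheme.{u})
    [X.Over (Spec (CommRingCat.of k))] [IsProper (X ↘ Spec (CommRingCat.of k))]
    (L : X.Modules) (hL : PicF.IsInvertible L) (hgen : Curv2.IsGloballyGenerated L)
    (s : Coh.structureModule X ⟶ L)
    (hcurves : ∀ C : X.IdealSheafData, IsIntegral C.subscheme →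
      topologicalKrullDim (C.support : Set X) = 1 →
        ¬ ((C.support : Set X) ⊆ (CohB1.genLocus L s : Set X))) :
    IsAffineOpen (CohB1.genLocus L s) := by
  classical
  haveI : CompactSpace X :=
    QuasiCompact.compactSpace_of_compactSpace (X ↘ Spec (CommRingCat.of k))
  haveI : IsLocallyNoetherian X :=
    LocallyOfFiniteType.isLocallyNoetherian (X ↘ Spec (CommRingCat.of k))
  haveI : IsNoetherian X := {}
  -- a finite family of sections whose loci cover, starting with `s`
  have hcov0 : ∀ x : X, ∃ t : Coh.structureModule X ⟶ L, x ∈ CohB1.genLocus L t :=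
    fun x => Groth.Agent.Lib.Helper3.FreeSec.exists_mem_genLocus_of_isGloballyGenerated hL hgen x
  choose t ht using hcov0
  obtain ⟨I, hI⟩ := isCompact_univ.elim_finite_subcover
    (fun x => (CohB1.genLocus L (t x) : Set X)) (fun x => (CohB1.genLocus L (t x)).isOpen)
    (fun x _ => Set.mem_iUnion.mpr ⟨x, ht x⟩)
  let n := I.card
  let σ : Fin (n + 1) → Γ(L, ⊤) :=
    Fin.cons (sec s ⊤) (fun i => sec (t (I.equivFin.symm i).1) ⊤)
  have hσ0 : σ 0 = sec s ⊤ := Fin.cons_zero _ _
  have hσS : ∀ i : Fin n, σ i.succ = sec (t (I.equivFin.symm i).1) ⊤ := fun i => Fin.cons_succ _ _ i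
  have hloc : ∀ u : Coh.structureModule X ⟶ L, locus L (sec u ⊤) = CohB1.genLocus L u := by
    intro u
    show CohB1.genLocus L (globalHom L (sec u ⊤)) = _
    rw [Groth.Agent.Lib.Helper3.SubIdeal.globalHom_sec]
  have hcov' : ∀ x : X, ∃ i, x ∈ locus L (σ i) := by
    intro x
    have hx := hI (Set.mem_univ x)
    simp only [Set.mem_iUnion] at hx
    obtain ⟨y, hyI, hxy⟩ := hx
    refine ⟨(I.equivFin ⟨y, hyI⟩).succ, ?_⟩
    rw [hσS, Equiv.symm_apply_apply, hloc]
    exact hxy
  obtain ⟨r0, hr0, τ, hτ⟩ := exists_hom_projSpace n (X ↘ Spec (CommRingCat.of k)) L σ hcov'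
  -- view `r0` as a morphism to `Proj`
  let r : X ⟶ Proj (CohB1.polyGrading n k) := r0
  let q : Proj (CohB1.polyGrading n k) ⟶ Spec (CommRingCat.of k) := CohB1.ProjSpace.toSpec n k
  have hr : r ≫ q = X ↘ Spec (CommRingCat.of k) := hr0
  have hpre : r ⁻¹ᵁ Proj.basicOpen (CohB1.polyGrading n k) (MvPolynomial.X 0) =
      CohB1.genLocus L s := by
    have h1 := preimage_basicOpen_eq_locus (𝒜 := CohB1.polyGrading n k) r0
      (hasUnitFrac_projSpace k n) τ (MvPolynomial.isHomogeneous_X k 0) (hτ 0)
    rw [hσ0, hloc] at h1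
    exact h1
  have hDaff : IsAffineOpen (Proj.basicOpen (CohB1.polyGrading n k) (MvPolynomial.X 0)) :=
    Proj.isAffineOpen_basicOpen (CohB1.polyGrading n k) (MvPolynomial.X 0)
      (MvPolynomial.isHomogeneous_X k 0) Nat.one_pos
  haveI : IsProper q := Groth.Agent.Lib.Helper3.QProj.isProper_toSpec k n
  haveI : IsProper (r ≫ q) := by rw [hr]; infer_instance
  haveI : IsProper r := IsProper.of_comp r q
  haveI : JacobsonSpace ↥(Proj (CohB1.polyGrading n k)) :=
    LocallyOfFiniteType.jacobsonSpace q
  rw [← hpre]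
  set D := Proj.basicOpen (CohB1.polyGrading n k) (MvPolynomial.X 0) with hD
  haveI : IsAffine D.toScheme := hDaff
  -- fibres over closed points are finite
  have key : ∀ a : ↥D, IsClosed ({a} : Set ↥D) → ((r ∣_ D) ⁻¹' {a}).Finite := by
    intro a ha
    by_contra hinf
    have hinf' : ((r ∣_ D) ⁻¹' {a}).Infinite := hinf
    -- `a` is a closed point of projective space
    have hacl : IsClosed ({a.1} : Set ↥(Proj (CohB1.polyGrading n k))) := by
      apply isClosed_singleton_of_isLocallyClosed_singleton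
      obtain ⟨Cl, hCl, hCla⟩ := isClosed_induced_iff.mp ha
      have h1 : ({a.1} : Set ↥(Proj (CohB1.polyGrading n k))) = (D : Set _) ∩ Cl := by
        ext w
        constructor
        · intro hw
          rw [Set.mem_singleton_iff] at hw
          subst hw
          refine ⟨a.2, ?_⟩
          have : a ∈ Subtype.val ⁻¹' Cl := by rw [hCla]; exact rfl
          exact this
        · rintro ⟨hwD, hwC⟩
          have : (⟨w, hwD⟩ : ↥D) ∈ Subtype.val ⁻¹' Cl := hwC
          rw [hCla] at this
          exact congrArg Subtype.val (Set.mem_singleton_iff.mp this)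
      rw [h1]
      exact D.isOpen.isLocallyClosed.inter hCl.isLocallyClosed
    have hFcl : IsClosed (r.base ⁻¹' {a.1}) := hacl.preimage r.base.hom.continuous
    have hFsub : r.base ⁻¹' {a.1} ⊆ ((r ⁻¹ᵁ D : X.Opens) : Set X) := by
      intro x hx
      rw [Set.mem_preimage, Set.mem_singleton_iff] at hx
      show r.base x ∈ D
      rw [hx]
      exact a.2
    have hFinf : (r.base ⁻¹' {a.1}).Infinite := by
      refine (hinf'.image (f := Subtype.val) Subtype.val_injective.injOn).mono ?_
      rintro _ ⟨x, hx, rfl⟩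
      have hx' : (r ∣_ D) x = a := hx
      show r.base x.1 = a.1
      rw [← hx']
      exact (morphismRestrict_base_coe r D x).symm
    obtain ⟨c, hcF, hcdim⟩ := exists_curve_of_infinite hFcl hFinf
    let Cl : Closeds X := ⟨closure {c}, isClosed_closure⟩
    have hint : IsIntegral (Scheme.IdealSheafData.vanishingIdeal Cl).subscheme :=
      Groth.Agent.Lib.Helper17.DevInt.isIntegral_sub Cl isIrreducible_singleton.closure
    have hsupp : ((Scheme.IdealSheafData.vanishingIdeal Cl).support : Set X) = closure {c} :=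
      Scheme.IdealSheafData.coe_support_vanishingIdeal _
    refine hcurves (Scheme.IdealSheafData.vanishingIdeal Cl) hint ?_ ?_
    · rw [hsupp]
      exact hcdim
    · rw [hsupp, ← hpre]
      exact hcF.trans hFsub
  have key2 : ∀ a : {a : ↥(D : Scheme.{u}) // IsClosed ({a} : Set ↥(D : Scheme.{u}))},
      ∃ V : (D : Scheme.{u}).Opens, a.1 ∈ V ∧ IsFinite ((r ∣_ D) ∣_ V) := fun a =>
    exists_isFinite_morphismRestrict_of_finite_preimage_singleton (r ∣_ D) a.1 (key a.1 a.2)
  choose V hV1 hV2 using key2
  have hsup : ⨆ a, V a = ⊤ := by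
    rw [eq_top_iff]
    intro x _
    by_contra hx
    have hZc : IsClosed (((⨆ a, V a : (D : Scheme.{u}).Opens) : Set ↥(D : Scheme.{u}))ᶜ) :=
      (Opens.isOpen _).isClosed_compl
    obtain ⟨a, haZ, hacl⟩ := hZc.exists_closed_singleton ⟨x, hx⟩
    exact haZ (Opens.mem_iSup.mpr ⟨⟨a, hacl⟩, hV1 ⟨a, hacl⟩⟩)
  haveI : IsFinite (r ∣_ D) :=
    (IsZariskiLocalAtTarget.iff_of_iSup_eq_top (P := @IsFinite) V hsup).mpr hV2
  exact isAffine_of_isAffineHom (r ∣_ D)

end Sch

end Groth.Agent.Lib.Helper1.NoCurveAff
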