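import Mathlib
import Groth.Prelude
import Groth.Agent.Lib.Helper1.AssPrim1
import Groth.Agent.Lib.Helper17.AssPt
import Groth.Agent.Lib.Helper1.MaxAnnInt

/-!
# Generic and embedded associated points of a coherent module
-/

set_option autoImplicit false
set_option linter.style.haveILetI false
universe u
open CategoryTheory CategoryTheory.Limits AlgebraicGeometry TopologicalSpace Opposite

namespace Groth.Agent.Lib.Helper1.NoEmb

open Groth.Agent.Lib.Helper3 Groth.Agent.Lib.Helper17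

variable {X : Scheme.{u}} (F : X.Modules)

/-- generic associated points -/
def Gen : Set X := {a | Curv2.IsAssPoint F a ∧ ∀ b, Curv2.IsAssPoint F b → b ⤳ a → b = a}

/-- embedded associated points -/
def Emb : Set X := {a | Curv2.IsAssPoint F a ∧ ∃ b, Curv2.IsAssPoint F b ∧ b ⤳ a ∧ b ≠ a}

/-- the embedded locus -/
def T : Set X := {x | ∃ e ∈ Emb F, e ⤳ x}

theorem gen_or_emb (a : X) (ha : Curv2.IsAssPoint F a) : a ∈ Gen F ∨ a ∈ Emb F := by
  by_cases h : ∀ b, Curv2.IsAssPoint F b → b ⤳ a → b = a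
  · exact Or.inl ⟨ha, h⟩
  · push Not at h
    obtain ⟨b, hb, hba, hne⟩ := h
    exact Or.inr ⟨ha, b, hb, hba, hne⟩

theorem gen_notMem_T (ξ : X) (hξ : ξ ∈ Gen F) : ξ ∉ T F := by
  rintro ⟨e, he, heξ⟩
  have h1 : e = ξ := hξ.2 e he.1 heξ
  subst h1
  obtain ⟨b, hb, hbe, hne⟩ := he.2
  exact hne (hξ.2 b hb hbe)

theorem mem_support_of_mem_T (x : X) (hx : x ∈ T F) (hcl : IsClosed (CohB1.support F)) :
    x ∈ CohB1.support F := by
  obtain ⟨e, he, hex⟩ := hx
  have h1 : e ∈ CohB1.support F := by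
    haveI := AssPt.nontrivial_stalk_of_isAssPoint F e he.1
    exact not_subsingleton _
  exact hex.mem_closed hcl h1

variable [IsLocallyNoetherian X]

theorem exists_gen (hF : Coh.IsCoh F) (x : X) (hx : x ∈ CohB1.support F) :
    ∃ ξ ∈ Gen F, ξ ⤳ x := by
  haveI := hF.1
  obtain ⟨z, hz, hzx⟩ := AssPt.exists_assPoint_specializes_of_nontrivial F x
    (not_subsingleton_iff_nontrivial.mp hx)
  obtain ⟨U, hU, hxU⟩ := QCProps.exists_affine_nbhd x
  have hfin : {a | Curv2.IsAssPoint F a ∧ a ⤳ x}.Finite := by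
    refine (AssPrim.finite_ass_inter F hF hU).subset ?_
    rintro a ⟨ha, hax⟩
    exact ⟨ha, hax.mem_open U.2 hxU⟩
  letI := specializationPreorder X
  obtain ⟨ξ, hzξ, hmax⟩ := hfin.exists_le_maximal (a := z) ⟨hz, hzx⟩
  refine ⟨ξ, ⟨hmax.1.1, fun b hb hbξ => ?_⟩, hmax.1.2⟩
  have hb' : b ∈ {a | Curv2.IsAssPoint F a ∧ a ⤳ x} := ⟨hb, hbξ.trans hmax.1.2⟩
  have h2 : ξ ⤳ b := hmax.2 hb' hbξ
  exact (hbξ.antisymm h2).eq

theorem isClosed_T (hF : Coh.IsCoh F) : IsClosed (T F) := by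
  rw [← isOpen_compl_iff, isOpen_iff_forall_mem_open]
  intro x hx
  obtain ⟨U, hU, hxU⟩ := QCProps.exists_affine_nbhd x
  have hfin : (Emb F ∩ (U : Set X)).Finite := by
    refine (AssPrim.finite_ass_inter F hF hU).subset ?_
    rintro a ⟨ha, haU⟩
    exact ⟨ha.1, haU⟩
  have hC : IsClosed (⋃ e ∈ Emb F ∩ (U : Set X), closure ({e} : Set X)) :=
    hfin.isClosed_biUnion (fun e _ => isClosed_closure)
  refine ⟨(U : Set X) ∩ (⋃ e ∈ Emb F ∩ (U : Set X), closure ({e} : Set X))ᶜ, ?_,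
    U.2.inter hC.isOpen_compl, ⟨hxU, ?_⟩⟩
  · rintro y ⟨hyU, hyC⟩ ⟨e, he, hey⟩
    apply hyC
    simp only [Set.mem_iUnion]
    exact ⟨e, ⟨he, hey.mem_open U.2 hyU⟩, specializes_iff_mem_closure.mp hey⟩
  · intro hxC
    simp only [Set.mem_iUnion] at hxC
    obtain ⟨e, ⟨he, -⟩, hex⟩ := hxC
    exact hx ⟨e, he, specializes_iff_mem_closure.mpr hex⟩

/-- the complement of the embedded locus -/
noncomputable def V (hF : Coh.IsCoh F) : X.Opens := ⟨(T F)ᶜ, (isClosed_T F hF).isOpen_compl⟩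

theorem mem_V_iff (hF : Coh.IsCoh F) (x : X) : x ∈ V F hF ↔ x ∉ T F := Iff.rfl

/-- the embedded locus is nowhere dense in the support -/
theorem nowhereDense (hF : Coh.IsCoh F) (U : X.Opens)
    (h : (U : Set X) ∩ CohB1.support F ⊆ T F) : (U : Set X) ∩ CohB1.support F = ∅ := by
  rw [Set.eq_empty_iff_forall_notMem]
  rintro x ⟨hxU, hxF⟩
  obtain ⟨ξ, hξ, hξx⟩ := exists_gen F hF x hxF
  have h1 : ξ ∈ CohB1.support F := by
    haveI := AssPt.nontrivial_stalk_of_isAssPoint F ξ hξ.1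
    exact not_subsingleton _
  exact gen_notMem_T F ξ hξ (h ⟨hξx.mem_open U.2 hxU, h1⟩)

end Groth.Agent.Lib.Helper1.NoEmb
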