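import Mathlib
import Groth.Prelude
import Groth.Agent.Lib.Helper1.NoEmb1
import Groth.Agent.Lib.Helper1.GabLoc3
import Groth.Agent.Lib.Helper27.ModSections
import Groth.Agent.Lib.Helper17.DevKey

/-!
# Removing embedded components of a coherent module
-/

set_option autoImplicit false
set_option linter.style.haveILetI false
universe u
open CategoryTheory CategoryTheory.Limits AlgebraicGeometry TopologicalSpace Opposite
open Scheme.Modules

namespace Groth.Agent.Lib.Helper1.NoEmb

open Groth.Agent.Lib.Helper3 Groth.Agent.Lib.Helper17 Groth.Agent.Lib.Helper17.DevBasic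
  Groth.Agent.Lib.Helper17.DevTF Groth.Agent.Lib.Helper1.AssPrim

variable {X : Scheme.{u}} [IsLocallyNoetherian X] (F : X.Modules) (hF : Coh.IsCoh F)

theorem support_tors_subset : CohB1.support (tors (V F hF) F) ⊆ T F := by
  intro x hx
  by_contra hxT
  exact notMem_support_tors (V F hF) F x hxT hx

include hF in
theorem support_subset_T_of_nowhereDense (K' : X.Modules) (hK' : Coh.IsCoh K') (i : K' ⟶ F)
    [Mono i]
    (hnd : ∀ U : X.Opens, (U : Set X) ∩ CohB1.support F ⊆ CohB1.support K' →
      (U : Set X) ∩ CohB1.support F = ∅) :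
    CohB1.support K' ⊆ T F := by
  intro x hx
  haveI := hF.1
  haveI := hF.2
  haveI := hK'.1
  haveI := hK'.2
  obtain ⟨a, ha, hax⟩ := AssPt.exists_assPoint_specializes_of_nontrivial K' x
    (not_subsingleton_iff_nontrivial.mp hx)
  have haF : Curv2.IsAssPoint F a :=
    (Groth.Agent.Lib.Helper27.ModSections.ass_of_shortExact _ (DevKey.shortExact_of_mono i)
      hK'.1 hF.1 (QCProps.isQuasicoherent_cokernel _)).1 ha
  rcases gen_or_emb F a haF with hgen | hemb
  · exfalso
    obtain ⟨W, hW, haW⟩ := QCProps.exists_affine_nbhd a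
    have hfin : {b | Curv2.IsAssPoint F b ∧ b ∈ W ∧ ¬ a ⤳ b}.Finite := by
      refine (finite_ass_inter F hF hW).subset ?_
      rintro b ⟨hb, hbW, -⟩
      exact ⟨hb, hbW⟩
    have hC : IsClosed (⋃ b ∈ {b | Curv2.IsAssPoint F b ∧ b ∈ W ∧ ¬ a ⤳ b},
        closure ({b} : Set X)) := hfin.isClosed_biUnion (fun e _ => isClosed_closure)
    have haC : a ∉ ⋃ b ∈ {b | Curv2.IsAssPoint F b ∧ b ∈ W ∧ ¬ a ⤳ b},
        closure ({b} : Set X) := by
      intro h
      simp only [Set.mem_iUnion] at h
      obtain ⟨b, ⟨hb, -, hnab⟩, hab⟩ := h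
      have hba : b ⤳ a := specializes_iff_mem_closure.mpr hab
      have : b = a := hgen.2 b hb hba
      subst this
      exact hnab specializes_rfl
    have haK : a ∈ CohB1.support K' := by
      haveI := AssPt.nontrivial_stalk_of_isAssPoint K' a ha
      exact not_subsingleton _
    have haFs : a ∈ CohB1.support F := by
      haveI := AssPt.nontrivial_stalk_of_isAssPoint F a haF
      exact not_subsingleton _
    have hcl : IsClosed (CohB1.support K') := MaxAnnInt.isClosed_support K'
    have hU := hnd ⟨(W : Set X) ∩ (⋃ b ∈ {b | Curv2.IsAssPoint F b ∧ b ∈ W ∧ ¬ a ⤳ b},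
        closure ({b} : Set X))ᶜ, W.2.inter hC.isOpen_compl⟩ (by
      rintro y ⟨⟨hyW, hyC⟩, hyF⟩
      obtain ⟨b, hb, hby⟩ := AssPt.exists_assPoint_specializes_of_nontrivial F y
        (not_subsingleton_iff_nontrivial.mp hyF)
      have hbW : b ∈ W := hby.mem_open W.2 hyW
      have hab : a ⤳ b := by
        by_contra hnab
        apply hyC
        simp only [Set.mem_iUnion]
        exact ⟨b, ⟨hb, hbW, hnab⟩, specializes_iff_mem_closure.mp hby⟩
      exact (hab.trans hby).mem_closed hcl haK)
    have : a ∈ (∅ : Set X) := by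
      rw [← hU]
      exact ⟨⟨haW, haC⟩, haFs⟩
    exact this
  · exact ⟨a, hemb, hax⟩

omit [IsLocallyNoetherian X] in
theorem comp_un_eq_zero (W : X.Opens) (K' : X.Modules) (i : K' ⟶ F)
    (hK : CohB1.support K' ⊆ (W : Set X)ᶜ) : i ≫ un W F = 0 := by
  have hZ : IsZero ((pushforward W.ι).obj ((restrictFunctor W.ι).obj K')) :=
    isZero_of_sections (fun O =>
      (GabLoc.subsingleton_sections_of_support (K := K') (U := W)
        (O := W.ι ''ᵁ (W.ι ⁻¹ᵁ O)) (W.ι_image_le _) hK : Subsingleton Γ(K', _)))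
  have hnat : i ≫ un W F =
      un W K' ≫ (pushforward W.ι).map ((restrictFunctor W.ι).map i) :=
    ((restrictAdjunction W.ι).unit.naturality i)
  rw [hnat, hZ.eq_of_tgt (un W K') 0, zero_comp]

theorem support_tf_eq : CohB1.support (tf (V F hF) F) = CohB1.support F := by
  haveI := hF.1
  haveI := hF.2
  apply Set.Subset.antisymm
  · exact support_subset_of_epi (cokernel.π (kernel.ι (un (V F hF) F)))
  · intro x hx
    obtain ⟨ξ, hξ, hξx⟩ := exists_gen F hF x hx
    have hξV : ξ ∈ V F hF := gen_notMem_T F ξ hξ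
    have hT := isCoh_tf' (V F hF) F hF
    haveI := hT.1
    haveI := hT.2
    have hcl : IsClosed (CohB1.support (tf (V F hF) F)) := MaxAnnInt.isClosed_support _
    refine hξx.mem_closed hcl ?_
    haveI : Nontrivial (F.presheaf.stalk ξ) := AssPt.nontrivial_stalk_of_isAssPoint F ξ hξ.1
    haveI := (stalkLin_tfπ_injective (V F hF) F ξ hξV).nontrivial
    exact not_subsingleton _

theorem ass_tf_mem_gen (x : X) (hx : Curv2.IsAssPoint (tf (V F hF) F) x) : x ∈ Gen F := by
  obtain ⟨h1, h2⟩ := ass_tf_subset' (V F hF) F hF hx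
  rcases gen_or_emb F x h1 with h | h
  · exact h
  · exact absurd ⟨x, h, specializes_rfl⟩ h2

theorem dense_V : Dense ((V F hF : X.Opens) : Set X) := by
  haveI := hF.1
  haveI := hF.2
  have hcl : IsClosed (CohB1.support F) := MaxAnnInt.isClosed_support F
  show Dense (T F)ᶜ
  rw [← interior_eq_empty_iff_dense_compl, Set.eq_empty_iff_forall_notMem]
  intro x hx
  have hsub : interior (T F) ⊆ CohB1.support F := fun y hy =>
    mem_support_of_mem_T F y (interior_subset hy) hcl
  have h1 := nowhereDense F hF ⟨interior (T F), isOpen_interior⟩ (by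
    rintro y ⟨hy, -⟩
    exact interior_subset hy)
  have : x ∈ (∅ : Set X) := by
    rw [← h1]
    exact ⟨hx, hsub hx⟩
  exact this

theorem support_subset_closure :
    CohB1.support F ⊆ closure (((V F hF : X.Opens) : Set X) ∩ CohB1.support F) := by
  intro x hx
  obtain ⟨ξ, hξ, hξx⟩ := exists_gen F hF x hx
  have hξV : ξ ∈ V F hF := gen_notMem_T F ξ hξ
  have h1 : ξ ∈ CohB1.support F := by
    haveI := AssPt.nontrivial_stalk_of_isAssPoint F ξ hξ.1
    exact not_subsingleton _
  have h2 : ({ξ} : Set X) ⊆ ((V F hF : X.Opens) : Set X) ∩ CohB1.support F :=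
    Set.singleton_subset_iff.mpr ⟨hξV, h1⟩
  exact closure_mono h2 (specializes_iff_mem_closure.mp hξx)

theorem isIso_restrict_π :
    IsIso ((restrictFunctor (V F hF).ι).map (cokernel.π (kernel.ι (un (V F hF) F)))) := by
  haveI := hF.1
  have hT := isCoh_tf' (V F hF) F hF
  haveI := hT.1
  apply GabLoc.isIso_restrict_of_support
  · let e : kernel (cokernel.π (kernel.ι (un (V F hF) F))) ≅ kernel (un (V F hF) F) :=
      IsLimit.conePointUniqueUpToIso (limit.isLimit _)
        (Abelian.monoIsKernelOfCokernel _ (colimit.isColimit _))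
    rw [support_eq_of_iso e]
    intro x hx hxV
    exact notMem_support_tors (V F hF) F x hxV hx
  · rw [support_eq_empty_of_isZero (isZero_cokernel_of_epi _)]
    exact Set.empty_subset _

end Groth.Agent.Lib.Helper1.NoEmb
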