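import Mathlib
import Groth.Agent.Lib.Helper6.OpenConnAlg
import Groth.Agent.Lib.Helper14.OnePlusJDom

/-!
# A Noetherian local ring `B` with a regular element `c` such that `B/c` is reduced and `B[1/c]`
is normal is a normal domain
-/

set_option autoImplicit false
universe u

namespace Groth.Agent.Lib.Helper1.NodNorm

theorem exists_pow_mem_span_of_isIntegral {B K : Type*} [CommRing B] [CommRing K] [Algebra B K]
    (hinj : Function.Injective (algebraMap B K)) (c b : B) (x : K) (hx : IsIntegral B x)
    (h : algebraMap B K c * x = algebraMap B K b) : ∃ m : ℕ, b ^ m ∈ Ideal.span {c} := by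
  obtain ⟨p, hp, hpx⟩ := hx
  have h1 : Polynomial.eval₂ (algebraMap B K) (algebraMap B K c * x) (Polynomial.scaleRoots p c) = 0 :=
    Polynomial.scaleRoots_eval₂_eq_zero (algebraMap B K) hpx
  rw [h, Polynomial.eval₂_at_apply] at h1
  have h2 : Polynomial.eval b (Polynomial.scaleRoots p c) = 0 := hinj (by rw [h1, map_zero])
  refine ⟨p.natDegree, ?_⟩
  rw [Polynomial.eval_eq_sum_range, Polynomial.natDegree_scaleRoots, Finset.sum_range_succ] at h2
  have h3 : (Polynomial.scaleRoots p c).coeff p.natDegree = 1 := by
    rw [Polynomial.coeff_scaleRoots_natDegree]; exact hp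
  rw [h3, one_mul] at h2
  have h4 := eq_neg_of_add_eq_zero_right h2
  rw [h4]
  apply Submodule.neg_mem
  apply Ideal.sum_mem
  intro i hi
  rw [Polynomial.coeff_scaleRoots]
  have hlt := Finset.mem_range.mp hi
  have : p.natDegree - i = (p.natDegree - i - 1) + 1 := by omega
  rw [this, pow_succ]
  exact Ideal.mem_span_singleton'.mpr ⟨p.coeff i * c ^ (p.natDegree - i - 1) * b ^ i, by ring⟩

theorem isIntegrallyClosed_of_away {B : Type*} [CommRing B] [IsDomain B] (c : B) (hc : c ≠ 0)
    (hrad : (Ideal.span {c}).IsRadical)
    (S : Type*) [CommRing S] [Algebra B S] [IsLocalization.Away c S] [IsDomain S]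
    (hS : IsIntegrallyClosed S) : IsIntegrallyClosed B := by
  let K := FractionRing B
  have hcK0 : algebraMap B K c ≠ 0 :=
    (map_ne_zero_iff _ (IsFractionRing.injective B K)).mpr hc
  have hcK : IsUnit (algebraMap B K c) := hcK0.isUnit
  let g : S →+* K := IsLocalization.Away.lift c hcK
  letI : Algebra S K := g.toAlgebra
  haveI : IsScalarTower B S K := IsScalarTower.of_algebraMap_eq
    (fun b => (IsLocalization.Away.lift_eq c hcK b).symm)
  haveI : IsFractionRing S K :=
    IsFractionRing.isFractionRing_of_isDomain_of_isLocalization (Submonoid.powers c) S K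
  rw [isIntegrallyClosed_iff K]
  intro x hx
  have hxS : IsIntegral S x := hx.tower_top
  obtain ⟨y, hy⟩ := (isIntegrallyClosed_iff K).mp hS hxS
  have key : ∀ (n : ℕ) (b : B), x * algebraMap B K c ^ n = algebraMap B K b →
      ∃ b' : B, algebraMap B K b' = x := by
    intro n
    induction n with
    | zero =>
      intro b hb
      exact ⟨b, by rw [← hb, pow_zero, mul_one]⟩
    | succ n ih =>
      intro b hb
      have hx' : IsIntegral B (x * algebraMap B K c ^ n) :=
        hx.mul (isIntegral_algebraMap.pow n)
      have h1 : algebraMap B K c * (x * algebraMap B K c ^ n) = algebraMap B K b := by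
        rw [← hb, pow_succ]; ring
      obtain ⟨m, hm⟩ := exists_pow_mem_span_of_isIntegral (IsFractionRing.injective B K) c b _ hx' h1
      have h2 : b ∈ Ideal.span {c} := hrad ⟨m, hm⟩
      obtain ⟨b', rfl⟩ := Ideal.mem_span_singleton'.mp h2
      apply ih b'
      have h3 : (x * algebraMap B K c ^ n) * algebraMap B K c =
          algebraMap B K b' * algebraMap B K c := by
        rw [← map_mul, ← hb, pow_succ]; ring
      exact hcK.mul_left_injective h3
  obtain ⟨n, b, hb⟩ := IsLocalization.Away.surj c y
  apply key n b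
  rw [← hy, IsScalarTower.algebraMap_apply B S K b, ← hb, map_mul, map_pow,
    ← IsScalarTower.algebraMap_apply B S K c]

theorem isDomain_of_away {B : Type u} [CommRing B] [IsLocalRing B] [IsNoetherianRing B] (c : B)
    (hreg : ∀ b : B, c * b = 0 → b = 0) (hred : IsReduced (B ⧸ Ideal.span {c}))
    (S : Type u) [CommRing S] [Algebra B S] [IsLocalization.Away c S]
    (hloc : ∀ (Q : Ideal S) [Q.IsPrime], IsDomain (Localization.AtPrime Q)) : IsDomain S := by
  haveI : IsNoetherianRing S :=
    IsLocalization.isNoetherianRing (Submonoid.powers c) S inferInstance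
  haveI : Nontrivial S :=
    (Groth.Agent.Lib.Helper6.OpenConn.algebraMap_injective_away c hreg S).nontrivial
  haveI : PreconnectedSpace (PrimeSpectrum S) :=
    Groth.Agent.Lib.Helper6.OpenConn.preconnectedSpace_away c hreg hred S
  haveI : ConnectedSpace (PrimeSpectrum S) := { toNonempty := inferInstance }
  exact Groth.Agent.Lib.Helper14.OnePlusJDom.isDomain_of_connected_of_locally S hloc

theorem normal_of_reduced_quot {B : Type u} [CommRing B] [IsLocalRing B] [IsNoetherianRing B]
    (c : B) (hreg : ∀ b : B, c * b = 0 → b = 0)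
    (hred : IsReduced (B ⧸ Ideal.span {c}))
    (hloc : ∀ (q : Ideal B) [q.IsPrime], c ∉ q →
      IsDomain (Localization.AtPrime q) ∧ IsIntegrallyClosed (Localization.AtPrime q)) :
    IsDomain B ∧ IsIntegrallyClosed B := by
  let S := Localization.Away c
  have hinj : Function.Injective (algebraMap B S) :=
    Groth.Agent.Lib.Helper6.OpenConn.algebraMap_injective_away c hreg S
  have hlocS : ∀ (Q : Ideal S) [Q.IsPrime],
      IsDomain (Localization.AtPrime Q) ∧ IsIntegrallyClosed (Localization.AtPrime Q) := by
    intro Q hQ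
    haveI : IsLocalization.AtPrime (Localization.AtPrime Q) (Q.comap (algebraMap B S)) :=
      IsLocalization.isLocalization_isLocalization_atPrime_isLocalization (Submonoid.powers c)
        (Localization.AtPrime Q) Q
    have hcQ : c ∉ Q.comap (algebraMap B S) := by
      intro h
      have hu : IsUnit (algebraMap B S c) := IsLocalization.Away.algebraMap_isUnit c
      exact hQ.ne_top (Ideal.eq_top_of_isUnit_mem _ h hu)
    obtain ⟨h1, h2⟩ := hloc (Q.comap (algebraMap B S)) hcQ
    let e : Localization.AtPrime (Q.comap (algebraMap B S)) ≃ₐ[B] Localization.AtPrime Q :=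
      IsLocalization.algEquiv (Q.comap (algebraMap B S)).primeCompl _ _
    exact ⟨e.symm.toMulEquiv.isDomain _, IsIntegrallyClosed.of_equiv e.toRingEquiv⟩
  haveI hSdom : IsDomain S := isDomain_of_away c hreg hred S (fun Q _ => (hlocS Q).1)
  have hSic : IsIntegrallyClosed S :=
    IsIntegrallyClosed.of_localization_maximal (fun p _ _ => (hlocS p).2)
  haveI hBdom : IsDomain B := hinj.isDomain _
  have hc0 : c ≠ 0 := by
    intro h
    have := hreg 1 (by rw [h, zero_mul])
    exact one_ne_zero this
  exact ⟨hBdom, isIntegrallyClosed_of_away c hc0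
    ((Ideal.isRadical_iff_quotient_reduced _).mpr hred) S hSic⟩

end Groth.Agent.Lib.Helper1.NodNorm
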