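import Mathlib
import Groth.Prelude
import Groth.Agent.Lib.Helper23.NodalGlueA

/-!
# Local rings of an at-worst-nodal curve over a field are reduced
-/

set_option autoImplicit false
universe u
open CategoryTheory CategoryTheory.Limits AlgebraicGeometry

namespace Groth.Agent.Lib.Helper1.NodNorm

variable (k : Type u) [Field k] (Y : Scheme.{u}) [Y.Over (Spec (CommRingCat.of k))]
  [LocallyOfFiniteType (Y ↘ Spec (CommRingCat.of k))]

theorem isReduced_stalk_of_isNode (y : Y) (h : Curv2.IsNode k Y y) :
    IsReduced (Y.presheaf.stalk y) := by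
  obtain ⟨-, yb, hyb, hodp⟩ := h
  subst hyb
  haveI : IsLocallyNoetherian (Curv2.bc k Y (AlgebraicClosure k)) :=
    LocallyOfFiniteType.isLocallyNoetherian (Curv2.bcSnd k Y (AlgebraicClosure k))
  have hred : IsReduced ((Curv2.bc k Y (AlgebraicClosure k)).presheaf.stalk yb) := by
    letI : (Curv2.bc k Y (AlgebraicClosure k)).Over (Spec (CommRingCat.of (AlgebraicClosure k))) :=
      ⟨Curv2.bcSnd k Y (AlgebraicClosure k)⟩
    letI := Curv2.stalkAlgebra (AlgebraicClosure k) (Curv2.bc k Y (AlgebraicClosure k)) yb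
    exact Groth.Agent.Lib.Helper23.NodalGlue.isReduced_of_isOrdDoublePt (AlgebraicClosure k) _ hodp
  haveI : Flat (Spec.map (CommRingCat.ofHom (algebraMap k (AlgebraicClosure k)))) := by
    rw [Flat.SpecMap_iff]
    show (algebraMap k (AlgebraicClosure k)).Flat
    rw [RingHom.flat_algebraMap_iff]
    infer_instance
  haveI : Flat (Curv2.bcFst k Y (AlgebraicClosure k)) := by
    unfold Curv2.bcFst
    infer_instance
  have hflat := Flat.stalkMap (Curv2.bcFst k Y (AlgebraicClosure k)) yb
  have hinj : Function.Injective ((Curv2.bcFst k Y (AlgebraicClosure k)).stalkMap yb).hom := by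
    algebraize [((Curv2.bcFst k Y (AlgebraicClosure k)).stalkMap yb).hom]
    have : Module.FaithfullyFlat (Y.presheaf.stalk ((Curv2.bcFst k Y (AlgebraicClosure k)) yb))
        ((Curv2.bc k Y (AlgebraicClosure k)).presheaf.stalk yb) :=
      @Module.FaithfullyFlat.of_flat_of_isLocalHom _ _ _ _ _ _ _ hflat
        ((Curv2.bcFst k Y (AlgebraicClosure k)).toLRSHom.prop yb)
    exact ‹RingHom.FaithfullyFlat _›.injective
  exact isReduced_of_injective _ hinj

theorem isReduced_stalk_of_atWorstNodal (h : Curv2.AtWorstNodal k Y) (y : Y) :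
    IsReduced (Y.presheaf.stalk y) := by
  haveI : JacobsonSpace Y := LocallyOfFiniteType.jacobsonSpace (Y ↘ Spec (CommRingCat.of k))
  -- a closed specialization
  obtain ⟨z, hyz, hz⟩ : ∃ z : Y, y ⤳ z ∧ IsClosed ({z} : Set Y) := by
    have h1 := closure_inter_closedPoints (X := Y) (Z := closure {y}) isClosed_closure
    have hne : (closure {y} ∩ closedPoints Y).Nonempty := by
      by_contra hempty
      rw [Set.not_nonempty_iff_eq_empty] at hempty
      rw [hempty, closure_empty] at h1
      have : y ∈ closure ({y} : Set Y) := subset_closure rfl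
      rw [← h1] at this
      exact this
    obtain ⟨z, hz1, hz2⟩ := hne
    exact ⟨z, specializes_iff_mem_closure.mpr hz1, hz2⟩
  haveI : IsReduced (Y.presheaf.stalk z) := by
    rcases h z hz with ⟨U, hzU, hsm⟩ | hnode
    · haveI := hsm
      haveI := Groth.Agent.Lib.Helper23.NodalGlue.regular_of_smooth_nhd k Y z U hzU
      haveI := Groth.Agent.Lib.Helper9.RegLocal.isDomain_of_isRegularLocalRing (Y.presheaf.stalk z)
      infer_instance
    · exact isReduced_stalk_of_isNode k Y z hnode
  exact Groth.Agent.Lib.Helper23.NodalGlue.isReduced_stalk_of_specializes Y hyz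

end Groth.Agent.Lib.Helper1.NodNorm
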