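import Mathlib
import Groth.Prelude
import Groth.Agent.Lib.Helper1.NodNorm1
import Groth.Agent.Lib.Helper17.FibreStalkMap
import Groth.Agent.Lib.Lead.CycPullGeo

/-!
# Flat families over a Dedekind scheme with reduced closed fibres and normal generic fibre
have normal total space (pointwise statement)
-/

set_option autoImplicit false
universe u
open CategoryTheory CategoryTheory.Limits AlgebraicGeometry IsLocalRing

namespace Groth.Agent.Lib.Helper1.NodNorm

open Groth.Agent.Lib.Lead.CycPull

variable {R : Type u} [CommRing R] [IsDedekindDomain R] {X : Scheme.{u}}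
  (f : X ⟶ Spec (CommRingCat.of R))

theorem normal_stalk_fibre [Flat f] [LocallyOfFiniteType f] (s : Spec (CommRingCat.of R))
    (y : f.fiber s) (hs : (f ((f.fiberι s) y)).asIdeal ≠ ⊥)
    (hred : IsReduced ((f.fiber s).presheaf.stalk y))
    (hgen : ∀ w : X, (f w).asIdeal = ⊥ →
      IsDomain (X.presheaf.stalk w) ∧ IsIntegrallyClosed (X.presheaf.stalk w)) :
    IsDomain (X.presheaf.stalk ((f.fiberι s) y)) ∧
      IsIntegrallyClosed (X.presheaf.stalk ((f.fiberι s) y)) := by
  haveI : IsLocallyNoetherian X := LocallyOfFiniteType.isLocallyNoetherian f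
  letI k : Algebra R ((Spec (CommRingCat.of R)).presheaf.stalk (f ((f.fiberι s) y))) :=
    StructureSheaf.stalkAlgebra R (f ((f.fiberι s) y))
  haveI : IsLocalization.AtPrime
      ((Spec (CommRingCat.of R)).presheaf.stalk (f ((f.fiberι s) y)))
      (f ((f.fiberι s) y)).asIdeal :=
    StructureSheaf.IsLocalization.to_stalk R (f ((f.fiberι s) y))
  haveI : IsDomain ((Spec (CommRingCat.of R)).presheaf.stalk (f ((f.fiberι s) y))) :=
    inferInstance
  haveI : IsDiscreteValuationRing
      ((Spec (CommRingCat.of R)).presheaf.stalk (f ((f.fiberι s) y))) :=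
    IsLocalization.AtPrime.isDiscreteValuationRing_of_dedekind_domain R hs _
  obtain ⟨ϖ, hϖ⟩ := IsDiscreteValuationRing.exists_irreducible
    ((Spec (CommRingCat.of R)).presheaf.stalk (f ((f.fiberι s) y)))
  have hm : maximalIdeal ((Spec (CommRingCat.of R)).presheaf.stalk (f ((f.fiberι s) y))) =
      Ideal.span {ϖ} := hϖ.maximalIdeal_eq
  have hflat : (f.stalkMap ((f.fiberι s) y)).hom.Flat := Flat.stalkMap f _
  have hreg : ∀ b : X.presheaf.stalk ((f.fiberι s) y),
      (f.stalkMap ((f.fiberι s) y)).hom ϖ * b = 0 → b = 0 := by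
    algebraize [(f.stalkMap ((f.fiberι s) y)).hom]
    have h1 : IsSMulRegular (X.presheaf.stalk ((f.fiberι s) y)) ϖ :=
      Module.Flat.isSMulRegular_of_nonZeroDivisors (mem_nonZeroDivisors_of_ne_zero hϖ.ne_zero)
    intro b hb
    apply h1
    simp only [smul_zero]
    rw [Algebra.smul_def]
    exact hb
  obtain ⟨hsurj, hker⟩ := Groth.Agent.Lib.Helper17.FibreStalkMap.stalkMap_fiberι f s y
  rw [hm, Ideal.map_span, Set.image_singleton] at hker
  have hredq : IsReduced (X.presheaf.stalk ((f.fiberι s) y) ⧸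
      Ideal.span {(f.stalkMap ((f.fiberι s) y)).hom ϖ}) := by
    rw [← Ideal.isRadical_iff_quotient_reduced, ← hker]
    exact (RingHom.ker_isRadical_iff_reduced_of_surjective hsurj).mpr hred
  apply normal_of_reduced_quot _ hreg hredq
  intro q hq hcq
  obtain ⟨w, hw, rfl⟩ := exists_eq_ker_specMap ((f.fiberι s) y) q hq
  have hfw : (f w).asIdeal = ⊥ := by
    by_contra hne
    have hsp : f w ⤳ f ((f.fiberι s) y) := f.base.hom.map_specializes hw
    have hle : (f w).asIdeal ≤ (f ((f.fiberι s) y)).asIdeal :=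
      (PrimeSpectrum.le_iff_specializes _ _).mpr hsp
    have hmax : (f w).asIdeal.IsMaximal := (f w).isPrime.isMaximal hne
    have heq : f w = f ((f.fiberι s) y) :=
      PrimeSpectrum.ext (hmax.eq_of_le (f ((f.fiberι s) y)).isPrime.ne_top hle)
    apply hcq
    have h1 := comap_primeOf f ((f.fiberι s) y) w hw
    have h2 : ϖ ∈ (primeOf (f ((f.fiberι s) y)) (f w) hsp).asIdeal := by
      rw [primeOf_asIdeal, ker_specMap_congr _ _ _ heq hsp specializes_rfl, ker_specMap_self, hm]
      exact Ideal.mem_span_singleton_self ϖ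
    rw [← h1] at h2
    rw [← primeOf_asIdeal]
    exact h2
  obtain ⟨hd, hic⟩ := hgen w hfw
  letI := (X.presheaf.stalkSpecializes hw).hom.toAlgebra
  haveI := isLocalization_stalkSpecializes ((f.fiberι s) y) w hw
  let e : X.presheaf.stalk w ≃ₐ[X.presheaf.stalk ((f.fiberι s) y)]
      Localization.AtPrime (RingHom.ker (Cyc.specMap ((f.fiberι s) y) w hw)) :=
    IsLocalization.algEquiv (RingHom.ker (Cyc.specMap ((f.fiberι s) y) w hw)).primeCompl _ _
  exact ⟨e.symm.toMulEquiv.isDomain _, IsIntegrallyClosed.of_equiv e.toRingEquiv⟩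

end Groth.Agent.Lib.Helper1.NodNorm
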