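import Mathlib
import Groth.Agent.Lib.Helper1.OmSect

set_option autoImplicit false
set_option linter.style.haveILetI false
set_option linter.unusedVariables false
universe u
open CategoryTheory CategoryTheory.Limits AlgebraicGeometry TopologicalSpace Opposite

namespace Groth.Agent.Lib.Helper1.OmSect

open Groth.Agent.Lib.Helper3 Groth.Agent.Lib.Helper1.PbSect

variable {X Y : Scheme.{u}} (f : X ⟶ Y) [QuasiSeparated f] {U : X.Opens} (hU : IsAffineOpen U)
  {V : Y.Opens} (hV : IsAffineOpen V) (h : U ≤ f ⁻¹ᵁ V)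

include hU hV in
/-- Flexible form of the affine computation of the frozen sheaf of differentials: any module `M` with a
derivation `D` relative to `Γ(Y,V) → Γ(X,U)` whose values span `M`, with a linear comparison map `t`
to `Γ(U, Ω)` sending `D b` to `d b`, has `t` bijective as soon as... nothing more: `(M, D)` is then
automatically universal. -/
theorem bijective_of_der (M : Type u) [AddCommGroup M] [Module Γ(X, U) M] (D : Γ(X, U) →+ M)
    (hD_mul : ∀ a b, D (a * b) = a • D b + b • D a)
    (hD_map : ∀ a, D (f.appLE V U h a) = 0)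
    (hspan : Submodule.span Γ(X, U) (Set.range D) = ⊤)
    (t : M →ₗ[Γ(X, U)] Γ(Omega.sheaf f, U)) (ht : ∀ b, t (D b) = OmegaSh.dSect f U b) :
    Function.Bijective t := by
  let Δ := pullback.diagonal f
  let W₀ := OmegaSh.diagNbhd f U
  have hW₀ : IsAffineOpen W₀ := isAffineOpen_diagNbhd f hU hV h
  let e₀ : U ≤ Δ ⁻¹ᵁ W₀ := OmegaSh.le_preimage_diagNbhd f U
  let I := ClSub.idealMod Δ.ker
  let φ := f.appLE V U h
  let p₁ := (pullback.fst f f).appLE U W₀ inf_le_left
  let p₂ := (pullback.snd f f).appLE U W₀ inf_le_right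
  have hpo : IsPushout φ φ p₁ p₂ := isPushout_diag f hU hV h
  let θ := pullRes Δ I e₀
  have hθd : ∀ b, OmegaSh.dSect f U b = θ (OmegaSh.idealLift f U b) := fun b => rfl
  have hval0 : ∀ i : Γ(I, W₀), mu f (IdealMod.val Δ.ker i) = 0 := fun i =>
    mu_eq_zero_of_app f _ (app_val_eq_zero Δ hW₀ i)
  constructor
  · -- injectivity via a retraction
    obtain ⟨l, hl₁, hl₂⟩ := exists_l hpo (fst_mu f) (snd_mu f) M D hD_mul hD_map
    let g : Γ(I, W₀) →+ M :=
      AddMonoidHom.mk' (fun i => l (IdealMod.val Δ.ker i)) (fun a b => by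
        rw [IdealMod.val_add, map_add])
    obtain ⟨ρ, hρ, -⟩ := existsUnique_lift Δ I hW₀ hU e₀ (ModuleCat.of Γ(X, U) M) g
      (fun r i => by
        change l (IdealMod.val Δ.ker (r • i)) = _
        rw [IdealMod.val_smul, hl₂ _ _ (hval0 i)]
        rfl)
    have hcomp : ρ.comp t = LinearMap.id := by
      apply LinearMap.ext_on_range hspan
      intro b
      change ρ (t (D b)) = D b
      rw [ht, hθd, hρ]
      change l (IdealMod.val Δ.ker (OmegaSh.idealLift f U b)) = _
      rw [val_idealLift]
      exact hl₁ b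
    intro x y hxy
    have := congrArg ρ hxy
    have hx := congr($hcomp x)
    have hy := congr($hcomp y)
    change ρ (t x) = x at hx
    change ρ (t y) = y at hy
    rw [hx, hy] at this
    exact this
  · -- surjectivity
    let T : Submodule Γ(X, U) Γ((Scheme.Modules.pullback Δ).obj I, U) :=
      LinearMap.range t
    have hval_zero : IdealMod.val Δ.ker (0 : Γ(I, W₀)) = 0 := by
      have := IdealMod.val_add Δ.ker (0 : Γ(I, W₀)) 0
      rw [add_zero] at this
      exact left_eq_add.mp this
    have key : ∀ r ∈ Ideal.span (Set.range (fun b : Γ(X, U) => p₂ b - p₁ b)),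
        ∃ i : Γ(I, W₀), IdealMod.val Δ.ker i = r ∧ θ i ∈ T := by
      intro r hr
      induction hr using Submodule.span_induction with
      | mem x hx =>
        obtain ⟨b, rfl⟩ := hx
        refine ⟨OmegaSh.idealLift f U b, val_idealLift f b, ?_⟩
        rw [← hθd, ← ht]
        exact ⟨_, rfl⟩
      | zero => exact ⟨0, hval_zero, by rw [map_zero]; exact T.zero_mem⟩
      | add x y _ _ ihx ihy =>
        obtain ⟨ix, hix, hix'⟩ := ihx
        obtain ⟨iy, hiy, hiy'⟩ := ihy
        exact ⟨ix + iy, by rw [IdealMod.val_add, hix, hiy], by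
          rw [map_add]; exact T.add_mem hix' hiy'⟩
      | smul r x _ ihx =>
        obtain ⟨ix, hix, hix'⟩ := ihx
        refine ⟨r • ix, by rw [IdealMod.val_smul, hix]; rfl, ?_⟩
        have := pullRes_smul Δ I e₀ r ix
        change θ (r • ix) = _ at this
        rw [this]
        exact T.smul_mem _ hix'
    have hT : ∀ i : Γ(I, W₀), θ i ∈ T := by
      intro i
      obtain ⟨i', hi', hi''⟩ := key _
        (mem_span_of_map_eq_zero hpo (fst_mu f) (snd_mu f) _ (hval0 i))
      rwa [IdealMod.val_injective Δ.ker W₀ hi'] at hi''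
    have htop : (⊤ : Submodule Γ(X, U) Γ((Scheme.Modules.pullback Δ).obj I, U)) ≤ T := by
      have h1 := span_range_pullRes Δ I hW₀ hU e₀
      have h2 : Submodule.span Γ(X, U) (Set.range θ) ≤ T := by
        refine Submodule.span_le.mpr ?_
        rintro _ ⟨i, rfl⟩
        exact hT i
      exact (le_of_eq h1.symm).trans h2
    intro x
    obtain ⟨y, hy⟩ := htop (Submodule.mem_top (x := x))
    exact ⟨y, hy⟩

end Groth.Agent.Lib.Helper1.OmSect
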