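import Mathlib
import Groth.Agent.Lib.Helper1.ConormMap
import Groth.Agent.Lib.Helper1.OmSeq2
set_option autoImplicit false
set_option linter.style.haveILetI false
universe u
open CategoryTheory CategoryTheory.Limits AlgebraicGeometry TopologicalSpace Opposite TensorProduct
open Groth.Agent.Lib.Helper1.PbSect Groth.Agent.Lib.Helper3 Groth.Agent.Lib.Helper1.ConormMap
open Groth.Agent.Lib.Helper1

namespace Groth.Agent.Lib.Helper1.OmSeq3

/-- sections of a sheaf of differentials over an affine pair -/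
theorem exists_equiv_sections {X Y : Scheme.{u}} (f : X ⟶ Y) {Ω' : X.Modules} (d : OmegaSh.Der f Ω')
    (hd : OmegaSh.IsUniversal d) {U : X.Opens} (hU : IsAffineOpen U) {V : Y.Opens}
    (hV : IsAffineOpen V) (h : U ≤ f ⁻¹ᵁ V) :
    letI := (f.appLE V U h).hom.toAlgebra
    ∃ T : Ω[Γ(X, U)⁄Γ(Y, V)] ≃ₗ[Γ(X, U)] Γ(Ω', U),
      ∀ b, T (KaehlerDifferential.D Γ(Y, V) Γ(X, U) b) = d.app U b := by
  letI := (f.appLE V U h).hom.toAlgebra
  have b₁ := DerStruct.toSect_bijective f d hU hV h hd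
  exact ⟨LinearEquiv.ofBijective (DerStruct.toSect f d V U h).hom b₁,
    fun b => DerStruct.toSect_d f d V U h b⟩

variable {X Y Z : Scheme.{u}} (f : X ⟶ Y) (g : Y ⟶ Z)
  {ΩY : Y.Modules} (dY : OmegaSh.Der g ΩY) (hY : OmegaSh.IsUniversal dY)
  {ΩX : X.Modules} (dX : OmegaSh.Der (f ≫ g) ΩX) (hX : OmegaSh.IsUniversal dX)
  {ΩXY : X.Modules} (dXY : OmegaSh.Der f ΩXY) (hXY : OmegaSh.IsUniversal dXY)
  (c₁ : (Scheme.Modules.pullback f).obj ΩY ⟶ ΩX) (hc₁ : OmegaSh.IsDiffCompat f dY dX c₁)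
  (c₂ : ΩX ⟶ ΩXY) (hc₂ : ∀ (U : X.Opens) (s : Γ(X, U)), c₂.app U (dX.app U s) = dXY.app U s)
  {V : Z.Opens} (hV : IsAffineOpen V) {U₁ : Y.Opens} (hU₁ : IsAffineOpen U₁)
  {U₂ : X.Opens} (hU₂ : IsAffineOpen U₂) (e : U₂ ≤ f ⁻¹ᵁ U₁) (e₁ : U₁ ≤ g ⁻¹ᵁ V)

include hY hX hXY hc₁ hc₂ hV hU₁ hU₂ e e₁ in
theorem exact_and_surjective_on_triple :
    (∀ m : Γ(ΩX, U₂), c₂.app U₂ m = 0 →
      ∃ m' : Γ((Scheme.Modules.pullback f).obj ΩY, U₂), c₁.app U₂ m' = m) ∧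
    Function.Surjective (c₂.app U₂) ∧
    ∀ m' : Γ((Scheme.Modules.pullback f).obj ΩY, U₂), c₂.app U₂ (c₁.app U₂ m') = 0 := by
  letI alg₁ := (g.appLE V U₁ e₁).hom.toAlgebra
  letI alg₃ := (f.appLE U₁ U₂ e).hom.toAlgebra
  letI alg₅ := ((f.appLE U₁ U₂ e).hom.comp (g.appLE V U₁ e₁).hom).toAlgebra
  haveI t₁ : IsScalarTower Γ(Z, V) Γ(Y, U₁) Γ(X, U₂) := IsScalarTower.of_algebraMap_eq fun _ => rfl
  obtain ⟨E, T, h1, -, -, h4, h5⟩ :=
    OmSeq2.exists_equivs_tower g f dY hY dX hX c₁ hc₁ hV hU₁ hU₂ e e₁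
  obtain ⟨T', hT'⟩ := exists_equiv_sections f dXY hXY hU₂ hU₁ e
  -- the key compatibility
  have key : ∀ ω : Ω[Γ(X, U₂)⁄Γ(Z, V)], c₂.app U₂ (T ω) =
      T' (KaehlerDifferential.map Γ(Z, V) Γ(Y, U₁) Γ(X, U₂) Γ(X, U₂) ω) := by
    intro ω
    have hω : ω ∈ Submodule.span Γ(X, U₂)
        (Set.range (KaehlerDifferential.D Γ(Z, V) Γ(X, U₂))) := by
      rw [KaehlerDifferential.span_range_derivation]; trivial
    induction hω using Submodule.span_induction with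
    | mem y hy =>
      obtain ⟨b, rfl⟩ := hy
      rw [h4, hc₂, KaehlerDifferential.map_D, hT']
      rfl
    | zero => simp only [map_zero]
    | add y z _ _ hy hz => simp only [map_add, hy, hz]
    | smul r y _ hy =>
      rw [h5, Scheme.Modules.Hom.app_smul, hy, map_smul, map_smul]
  refine ⟨?_, ?_, ?_⟩
  · intro m hm
    obtain ⟨ω, rfl⟩ := T.surjective m
    rw [key] at hm
    have hω : KaehlerDifferential.map Γ(Z, V) Γ(Y, U₁) Γ(X, U₂) Γ(X, U₂) ω = 0 := by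
      apply T'.injective
      rw [hm, map_zero]
    obtain ⟨z, rfl⟩ := (KaehlerDifferential.exact_mapBaseChange_map Γ(Z, V) Γ(Y, U₁) Γ(X, U₂) ω).mp
      hω
    exact ⟨E z, h1 z⟩
  · intro y
    obtain ⟨ω', rfl⟩ := T'.surjective y
    obtain ⟨ω, rfl⟩ := KaehlerDifferential.map_surjective Γ(Z, V) Γ(Y, U₁) Γ(X, U₂) ω'
    exact ⟨T ω, key ω⟩
  · intro m'
    obtain ⟨z, rfl⟩ := E.surjective m'
    rw [h1, key]
    have := (KaehlerDifferential.exact_mapBaseChange_map Γ(Z, V) Γ(Y, U₁) Γ(X, U₂)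
      (KaehlerDifferential.mapBaseChange Γ(Z, V) Γ(Y, U₁) Γ(X, U₂) z)).mpr ⟨z, rfl⟩
    rw [this, map_zero]

/-- two morphisms of modules which agree on sections over a basis of opens are equal -/
theorem hom_ext_basis {X : Scheme.{u}} {M P : X.Modules} (α β : M ⟶ P)
    (h : ∀ (x : X) (W : X.Opens), x ∈ W → ∃ U : X.Opens, x ∈ U ∧ U ≤ W ∧
      ∀ m : Γ(M, U), α.app U m = β.app U m) : α = β := by
  apply Scheme.Modules.hom_ext
  intro W
  ext s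
  let Ps : TopCat.Sheaf Ab X := ⟨P.presheaf, P.isSheaf⟩
  refine Ps.eq_of_locally_eq' (fun U : {U : X.Opens // U ≤ W ∧
      ∀ m : Γ(M, U), α.app U m = β.app U m} => U.1) W
    (fun U => homOfLE U.2.1) ?_ _ _ ?_
  · intro x hx
    obtain ⟨U, hxU, hUW, hU⟩ := h x W hx
    exact Opens.mem_iSup.mpr ⟨⟨U, hUW, hU⟩, hxU⟩
  · rintro ⟨U, hUW, hU⟩
    have h1 := QCExact.app_res' α hUW s
    have h2 := QCExact.app_res' β hUW s
    exact h1.symm.trans ((hU _).trans h2)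

end Groth.Agent.Lib.Helper1.OmSeq3
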