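import Mathlib

set_option autoImplicit false
open CategoryTheory AlgebraicGeometry Limits IsLocalRing
universe u
namespace Groth.Agent.Lib.Helper1.OnePoint

variable {X S : Scheme.{u}} (f : X ⟶ S)

set_option backward.isDefEq.respectTransparency.types false in
set_option backward.defeqAttrib.useBackward true in
/-- two `K`-points at `x` agreeing after `f` are equal when `κ(f x) → κ(x)` is surjective. -/
theorem specMap_eq_of_residue_surjective (x : X)
    (hκ : Function.Surjective (f.residueFieldMap x))
    (K : Type u) [Field K] (g₁ g₂ : Spec (.of K) ⟶ X) (hg : g₁ ≫ f = g₂ ≫ f)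
    (h₁ : g₁.base (closedPoint K) = x) (h₂ : g₂.base (closedPoint K) = x) : g₁ = g₂ := by
  obtain ⟨e, h⟩ := Scheme.SpecToEquivOfField_eq_iff.mp congr((S.SpecToEquivOfField K) $(hg))
  apply (X.SpecToEquivOfField K).injective
  dsimp at e h
  simp only [Scheme.descResidueField_stalkClosedPointTo_comp] at e h
  have e' : g₁.base (closedPoint K) = g₂.base (closedPoint K) := h₁.trans h₂.symm
  rw [← f.residueFieldMap_congr'_assoc e', CommRingCat.hom_ext_iff] at h
  rw [Scheme.SpecToEquivOfField_eq_iff]
  refine ⟨e', CommRingCat.hom_ext ?_⟩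
  have hsurj : Function.Surjective (f.residueFieldMap (g₁.base (closedPoint K))).hom := by
    rw [h₁]; exact hκ
  exact (RingHom.cancel_right hsurj).1 h

theorem formallyUnramified_restrict [FormallyUnramified f] (U : S.Opens) :
    FormallyUnramified (f ∣_ U) :=
  MorphismProperty.of_isPullback (P := @FormallyUnramified) (isPullback_morphismRestrict f U).flip
    ‹_›

theorem exists_isClosedImmersion_restrict [IsFinite f] [FormallyUnramified f] (s : S) (x : X)
    (hx : f.base ⁻¹' {s} = {x}) (hκ : Function.Surjective (f.residueFieldMap x)) :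
    ∃ U : S.Opens, s ∈ U ∧ IsClosedImmersion (f ∣_ U) := by
  have hΔopen : IsOpen (Set.range (pullback.diagonal f).base) :=
    (pullback.diagonal f).isOpenEmbedding.isOpen_range
  have hπ : IsClosedMap (pullback.fst f f ≫ f).base := (pullback.fst f f ≫ f).isClosedMap
  have hZ : IsClosed ((pullback.fst f f ≫ f).base '' (Set.range (pullback.diagonal f).base)ᶜ) :=
    hπ _ hΔopen.isClosed_compl
  have hsZ : s ∉ (pullback.fst f f ≫ f).base '' (Set.range (pullback.diagonal f).base)ᶜ := by
    rintro ⟨z, hzC, hzs⟩
    apply hzC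
    set φ := (pullback f f).fromSpecResidueField z with hφdef
    have hpt : ∀ t, φ.base t = z := fun t => Scheme.fromSpecResidueField_apply z t
    have hg : (φ ≫ pullback.fst f f) ≫ f = (φ ≫ pullback.snd f f) ≫ f := by
      rw [Category.assoc, Category.assoc, pullback.condition]
    have h1 : (φ ≫ pullback.fst f f).base (closedPoint _) = x := by
      have h3 : f.base ((φ ≫ pullback.fst f f).base (closedPoint _)) = s := by
        have h8 : (φ ≫ pullback.fst f f).base (closedPoint _) = (pullback.fst f f).base z :=
          congrArg (pullback.fst f f).base (hpt _)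
        rw [h8]
        exact hzs
      have h4 : (φ ≫ pullback.fst f f).base (closedPoint _) ∈ f.base ⁻¹' {s} := h3
      rw [hx] at h4
      exact h4
    have h2 : (φ ≫ pullback.snd f f).base (closedPoint _) = x := by
      have h3 : f.base ((φ ≫ pullback.snd f f).base (closedPoint _)) = s := by
        have h5 : f.base ((φ ≫ pullback.snd f f).base (closedPoint _)) =
            ((φ ≫ pullback.snd f f) ≫ f).base (closedPoint _) := rfl
        rw [h5, ← hg]
        have h8 : ((φ ≫ pullback.fst f f) ≫ f).base (closedPoint _) =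
            (pullback.fst f f ≫ f).base z :=
          congrArg (pullback.fst f f ≫ f).base (hpt _)
        rw [h8]
        exact hzs
      have h4 : (φ ≫ pullback.snd f f).base (closedPoint _) ∈ f.base ⁻¹' {s} := h3
      rw [hx] at h4
      exact h4
    have heq := specMap_eq_of_residue_surjective f x hκ _ _ _ hg h1 h2
    have hφ : φ = (φ ≫ pullback.fst f f) ≫ pullback.diagonal f := by
      apply pullback.hom_ext
      · rw [Category.assoc, pullback.diagonal_fst, Category.comp_id]
      · rw [Category.assoc, pullback.diagonal_snd, Category.comp_id, heq]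
    refine ⟨(φ ≫ pullback.fst f f).base (closedPoint _), ?_⟩
    have h9 : (pullback.diagonal f).base ((φ ≫ pullback.fst f f).base (closedPoint _)) =
        ((φ ≫ pullback.fst f f) ≫ pullback.diagonal f).base (closedPoint _) := rfl
    rw [h9, ← hφ]
    exact hpt _
  set U : S.Opens := ⟨_, hZ.isOpen_compl⟩ with hU
  refine ⟨U, hsZ, ?_⟩
  rw [IsClosedImmersion.iff_isFinite_and_mono]
  refine ⟨inferInstance, ?_⟩
  haveI := formallyUnramified_restrict f U
  rw [← pullback.isIso_diagonal_iff]
  have hsurj : Surjective (pullback.diagonal (f ∣_ U)) := by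
    rw [← UniversallyInjective.iff_diagonal]
    apply ((tfae_universallyInjective (f ∣_ U)).out 0 1).2
    intro K _ g₁ g₂ hg
    replace hg : g₁ ≫ f ∣_ U = g₂ ≫ f ∣_ U := hg
    have hh : (g₁ ≫ (f ⁻¹ᵁ U).ι) ≫ f = (g₂ ≫ (f ⁻¹ᵁ U).ι) ≫ f := by
      rw [Category.assoc, Category.assoc, ← morphismRestrict_ι, ← Category.assoc, ← Category.assoc,
        hg]
    set ψ := pullback.lift (g₁ ≫ (f ⁻¹ᵁ U).ι) (g₂ ≫ (f ⁻¹ᵁ U).ι) hh with hψ
    have hrange : Set.range ψ.base ⊆ Set.range (pullback.diagonal f).base := by
      rintro _ ⟨t, rfl⟩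
      by_contra hcon
      have hmemZ : (pullback.fst f f ≫ f).base (ψ.base t) ∈
          (pullback.fst f f ≫ f).base '' (Set.range (pullback.diagonal f).base)ᶜ :=
        ⟨_, hcon, rfl⟩
      have hmemU : (pullback.fst f f ≫ f).base (ψ.base t) ∈ U := by
        have h6 : (pullback.fst f f ≫ f).base (ψ.base t) =
            f.base ((f ⁻¹ᵁ U).ι.base (g₁.base t)) := by
          have h7 : (pullback.fst f f ≫ f).base (ψ.base t) =
              ((ψ ≫ pullback.fst f f) ≫ f).base t := rfl
          rw [h7, hψ, pullback.lift_fst]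
          rfl
        rw [h6]
        exact (g₁.base t).2
      exact hmemU hmemZ
    have hfac := IsOpenImmersion.lift_fac (pullback.diagonal f) ψ hrange
    have e1 : g₁ ≫ (f ⁻¹ᵁ U).ι = IsOpenImmersion.lift (pullback.diagonal f) ψ hrange := by
      have := congrArg (fun k => k ≫ pullback.fst f f) hfac
      simp only [Category.assoc, pullback.diagonal_fst, Category.comp_id] at this
      rw [this, hψ, pullback.lift_fst]
    have e2 : g₂ ≫ (f ⁻¹ᵁ U).ι = IsOpenImmersion.lift (pullback.diagonal f) ψ hrange := by
      have := congrArg (fun k => k ≫ pullback.snd f f) hfac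
      simp only [Category.assoc, pullback.diagonal_snd, Category.comp_id] at this
      rw [this, hψ, pullback.lift_snd]
    exact (cancel_mono (f ⁻¹ᵁ U).ι).1 (e1.trans e2.symm)
  haveI : Epi (pullback.diagonal (f ∣_ U)).base := (TopCat.epi_iff_surjective _).2 hsurj.surj
  exact IsOpenImmersion.isIso _

end Groth.Agent.Lib.Helper1.OnePoint
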