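import Mathlib
import Groth.Agent.Lib.Helper1.OnePoint

set_option autoImplicit false
open CategoryTheory AlgebraicGeometry Limits IsLocalRing
universe u
namespace Groth.Agent.Lib.Helper1.OnePoint

/-- A flat local homomorphism that is surjective is bijective. -/
theorem bijective_of_flat_of_surjective {A B : Type u} [CommRing A] [CommRing B] [IsLocalRing A]
    [IsLocalRing B] (φ : A →+* B) [IsLocalHom φ] (hflat : φ.Flat) (hsurj : Function.Surjective φ) :
    Function.Bijective φ := by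
  letI := φ.toAlgebra
  haveI : Module.Flat A B := hflat
  haveI : IsLocalHom (algebraMap A B) := ‹IsLocalHom φ›
  haveI : Module.FaithfullyFlat A B := Module.FaithfullyFlat.of_flat_of_isLocalHom
  exact ⟨FaithfulSMul.algebraMap_injective A B, hsurj⟩

/-- A closed immersion which is étale is an isomorphism onto its (clopen) image. -/
theorem isIso_restrict_range {Y T : Scheme.{u}} (g : Y ⟶ T) [IsClosedImmersion g] [Etale g]
    (V : T.Opens) (hV : (V : Set T) = Set.range g.base) : IsIso (g ∣_ V) := by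
  haveI : ∀ y, IsIso ((g ∣_ V).stalkMap y) := by
    intro y
    rw [ConcreteCategory.isIso_iff_bijective]
    exact bijective_of_flat_of_surjective ((g ∣_ V).stalkMap y).hom (Flat.stalkMap (g ∣_ V) y)
      ((g ∣_ V).stalkMap_surjective y)
  haveI : IsOpenImmersion (g ∣_ V) :=
    IsOpenImmersion.of_isIso_stalkMap (g ∣_ V)
      (Topology.IsOpenEmbedding.of_continuous_injective_isOpenMap (g ∣_ V).continuous
        (g ∣_ V).isClosedEmbedding.injective (g ∣_ V).isOpenMap)
  haveI : Epi (g ∣_ V).base := by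
    rw [TopCat.epi_iff_surjective]
    intro v
    have hv : v.1 ∈ Set.range g.base := by rw [← hV]; exact v.2
    obtain ⟨y, hy⟩ := hv
    have hyV : y ∈ g ⁻¹ᵁ V := by
      change g.base y ∈ V
      rw [hy]; exact v.2
    refine ⟨⟨y, hyV⟩, ?_⟩
    apply Subtype.ext
    exact (morphismRestrict_base_coe g V ⟨y, hyV⟩).trans hy
  exact IsOpenImmersion.isIso _

theorem exists_isIso_restrict {X S : Scheme.{u}} (f : X ⟶ S) [IsFinite f] [Etale f] (s : S) (x : X)
    (hx : f.base ⁻¹' {s} = {x}) (hκ : Function.Surjective (f.residueFieldMap x)) :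
    ∃ U : S.Opens, s ∈ U ∧ IsIso (f ∣_ U) := by
  obtain ⟨U₀, hsU₀, hcl⟩ := exists_isClosedImmersion_restrict f s x hx hκ
  have hopen : IsOpen (Set.range (f ∣_ U₀).base) := (f ∣_ U₀).isOpenMap.isOpen_range
  set V : (↑U₀ : Scheme.{u}).Opens := ⟨_, hopen⟩ with hV
  have hiso : IsIso (f ∣_ U₀ ∣_ V) := isIso_restrict_range (f ∣_ U₀) V rfl
  have hfx : f.base x = s := by
    have : x ∈ f.base ⁻¹' {s} := by rw [hx]; rfl
    exact this
  refine ⟨U₀.ι ''ᵁ V, ?_, ?_⟩
  · have hxU : x ∈ f ⁻¹ᵁ U₀ := by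
      change f.base x ∈ U₀
      rw [hfx]; exact hsU₀
    refine ⟨(f ∣_ U₀).base ⟨x, hxU⟩, ⟨⟨x, hxU⟩, rfl⟩, ?_⟩
    exact (morphismRestrict_base_coe f U₀ ⟨x, hxU⟩).trans hfx
  · exact ((MorphismProperty.isomorphisms Scheme.{u}).arrow_mk_iso_iff
      (morphismRestrictRestrict f U₀ V)).1 hiso

end Groth.Agent.Lib.Helper1.OnePoint
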