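import Mathlib

/-!
# Attaching a complex along a morphism to a mapping cocone

Let `u : E ⟶ F` be a morphism of cochain complexes in an abelian category, and
`ψ : K ⟶ mappingCocone u`.  Then `ψ` consists of a morphism `attφ : K ⟶ E` together with a
null-homotopy of `attφ ≫ u`, so that `u` extends to `attMap : att ⟶ F` where
`att := mappingCone attφ`.  We show (`att_epi`, `att_mono`) that the homology of `attMap` is
controlled by the homology of `ψ` (four lemma applied to the morphism of long exact sequences,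
which needs a homotopy `attHomotopy` for the commutativity of the third square).

Consequences: `cocone_exactAt` (exactness of the cocone of an `n`-quasi-isomorphism) and
`factor_of_cocone_exact` (factorisation of an `n`-quasi-isomorphism as a termwise mono which is an
iso in degrees `≥ n` followed by a quasi-isomorphism).
-/

open CategoryTheory CategoryTheory.Limits HomologicalComplex CochainComplex
open CochainComplex.HomComplex Category Preadditive

universe w v u

namespace Groth.Agent.Lib.Helper1.PCohCone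

section S1

variable {C : Type u} [Category.{v} C] [Abelian C]
variable {E F : CochainComplex C ℤ} (u : E ⟶ F)

/-- The isomorphism `(mappingCocone u)⟦1⟧ ≅ mappingCone u`. -/
noncomputable def J : (mappingCocone u)⟦(1 : ℤ)⟧ ≅ mappingCone u :=
  (shiftFunctorCompIsoId (CochainComplex C ℤ) (-1 : ℤ) 1 (by omega)).app (mappingCone u)

lemma J_hom_f_fst (p q : ℤ) (hpq : p + 1 = q) :
    (J u).hom.f p ≫ (mappingCone.fst u).1.v p q hpq =
      ((mappingCocone u).shiftFunctorObjXIso 1 p q hpq.symm).hom ≫ (mappingCocone.fst u).f q := by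
  subst hpq
  simp [J, mappingCocone.fst, mappingCocone, shiftFunctorCompIsoId, shiftFunctorAdd'_inv_app_f',
    shiftFunctorZero_hom_app_f,
    Cochain.leftShift_v (n := 1) _ _ _ _ (p + 1) (p + 1) (add_zero _) p (by omega)]
  erw [Category.id_comp]
  exact (neg_neg _).symm

lemma J_hom_f_snd (p q : ℤ) (hpq : p + 1 = q) :
    (J u).hom.f p ≫ (mappingCone.snd u).v p p (add_zero p) =
      ((mappingCocone u).shiftFunctorObjXIso 1 p q hpq.symm).hom ≫
        (mappingCocone.snd u).v q p (by omega) := by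
  subst hpq
  simp [J, mappingCocone.snd, mappingCocone, shiftFunctorCompIsoId, shiftFunctorAdd'_inv_app_f',
    shiftFunctorZero_hom_app_f,
    Cochain.leftShift_v (n := 0) _ (-1) (-1) _ (p + 1) p (by omega) p (by omega),
    Int.negOnePow_even 2 ⟨1, rfl⟩]
  erw [Category.id_comp]
  rfl

lemma δ_cocone_snd :
    δ (-1) 0 (mappingCocone.snd u) = -Cochain.ofHom (mappingCocone.fst u ≫ u) := by
  ext p
  have h := mappingCocone.δ_descCochain u (0 : Cochain E F (-1)) (Cochain.ofHom (𝟙 F))
    (neg_add_cancel 1) 1 (zero_add 1)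
  have hs : mappingCocone.snd u = mappingCocone.descCochain u (0 : Cochain E F (-1))
      (Cochain.ofHom (𝟙 F)) (neg_add_cancel 1) := by
    ext p q hpq
    have hid := mappingCocone.id_X u p q hpq
    rw [← Category.id_comp ((mappingCocone.snd u).v p q hpq),
      ← Category.id_comp ((mappingCocone.descCochain u (0 : Cochain E F (-1))
      (Cochain.ofHom (𝟙 F)) (neg_add_cancel 1)).v p q hpq), ← hid]
    simp
  rw [hs, h]
  simp

end S1

section S2

variable {C : Type u} [Category.{v} C] [Abelian C]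
variable {E F K : CochainComplex C ℤ} (u : E ⟶ F) (ψ : K ⟶ mappingCocone u)

/-- The morphism `K ⟶ E` along which we attach. -/
noncomputable def attφ : K ⟶ E := ψ ≫ mappingCocone.fst u

/-- The null-homotopy of `attφ ≫ u`. -/
noncomputable def attα : Cochain K F (-1) :=
  -(Cochain.ofHom ψ).comp (mappingCocone.snd u) (zero_add (-1))

lemma δ_attα : δ (-1) 0 (attα u ψ) = Cochain.ofHom (attφ u ψ ≫ u) := by
  rw [attα, δ_neg, δ_ofHom_comp, δ_cocone_snd, attφ]
  simp

/-- The complex obtained from `E` by attaching `K` along `ψ`. -/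
noncomputable abbrev att : CochainComplex C ℤ := mappingCone (attφ u ψ)

noncomputable abbrev attι : E ⟶ att u ψ := mappingCone.inr (attφ u ψ)

noncomputable def attMap : att u ψ ⟶ F :=
  mappingCone.desc (attφ u ψ) (attα u ψ) u (δ_attα u ψ)

@[reassoc (attr := simp)]
lemma attι_attMap : attι u ψ ≫ attMap u ψ = u := by
  simp [attMap]

/-- The morphism `K⟦1⟧ ⟶ mappingCone u` induced by `ψ`. -/
noncomputable def Θ : K⟦(1 : ℤ)⟧ ⟶ mappingCone u := ψ⟦(1 : ℤ)⟧' ≫ (J u).hom

lemma Θ_f_fst (p q : ℤ) (hpq : p + 1 = q) :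
    (Θ u ψ).f p ≫ (mappingCone.fst u).1.v p q hpq =
      (K.shiftFunctorObjXIso 1 p q hpq.symm).hom ≫ (attφ u ψ).f q := by
  rw [Θ, comp_f, Category.assoc, J_hom_f_fst u p q hpq]
  subst hpq
  simp [shiftFunctorObjXIso, attφ]
  erw [Category.id_comp, Category.id_comp]

lemma Θ_f_snd (p q : ℤ) (hpq : p + 1 = q) :
    (Θ u ψ).f p ≫ (mappingCone.snd u).v p p (add_zero p) =
      (K.shiftFunctorObjXIso 1 p q hpq.symm).hom ≫ ψ.f q ≫
        (mappingCocone.snd u).v q p (by omega) := by
  rw [Θ, comp_f, Category.assoc, J_hom_f_snd u p q hpq]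
  subst hpq
  simp [shiftFunctorObjXIso]
  erw [Category.id_comp, Category.id_comp]

end S2

section S3

variable {C : Type u} [Category.{v} C] [Abelian C]
variable {E F K : CochainComplex C ℤ} (u : E ⟶ F) (ψ : K ⟶ mappingCocone u)

lemma att_h₂ :
    Cochain.ofHom (mappingCone.inr (attφ u ψ) ≫ (mappingCone.triangle (attφ u ψ)).mor₃ ≫ Θ u ψ) =
      δ (-1) 0 (-(mappingCone.inl u)) +
        Cochain.ofHom (mappingCone.inr (attφ u ψ) ≫ attMap u ψ ≫ mappingCone.inr u) := by
  rw [mappingCone.inr_triangleδ_assoc, zero_comp, δ_neg, mappingCone.δ_inl]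
  have : mappingCone.inr (attφ u ψ) ≫ attMap u ψ ≫ mappingCone.inr u = u ≫ mappingCone.inr u := by
    rw [← Category.assoc]
    congr 1
    exact attι_attMap u ψ
  rw [this]
  simp

set_option backward.isDefEq.respectTransparency false in
set_option backward.defeqAttrib.useBackward true in
lemma att_h₁ :
    (mappingCone.inl (attφ u ψ)).comp
        (Cochain.ofHom ((mappingCone.triangle (attφ u ψ)).mor₃ ≫ Θ u ψ)) (add_zero (-1)) =
      δ (-2) (-1) (0 : Cochain K (mappingCone u) (-2)) +
        (Cochain.ofHom (attφ u ψ)).comp (-(mappingCone.inl u)) (zero_add (-1)) +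
      (mappingCone.inl (attφ u ψ)).comp
        (Cochain.ofHom (attMap u ψ ≫ mappingCone.inr u)) (add_zero (-1)) := by
  ext p q hpq
  obtain rfl : p = q + 1 := by omega
  rw [mappingCone.ext_to_iff u q (q + 1) rfl]
  constructor
  · simp [attMap, Θ_f_fst u ψ q (q + 1) rfl, shiftFunctorObjXIso]
  · simp [attMap, Θ_f_snd u ψ q (q + 1) rfl, shiftFunctorObjXIso, attα]

end S3

section S4

variable {C : Type u} [Category.{v} C] [Abelian C]
variable {E F K : CochainComplex C ℤ} (u : E ⟶ F) (ψ : K ⟶ mappingCocone u)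

noncomputable def attHomotopy :
    Homotopy ((mappingCone.triangle (attφ u ψ)).mor₃ ≫ Θ u ψ) (attMap u ψ ≫ mappingCone.inr u) :=
  mappingCone.descHomotopy (attφ u ψ) _ _ 0 (-(mappingCone.inl u)) (att_h₁ u ψ) (att_h₂ u ψ)

lemma att_mor₃_eq :
    (mappingCone.triangle (attφ u ψ)).mor₃ ≫ ψ⟦(1 : ℤ)⟧' =
      ((mappingCone.triangle (attφ u ψ)).mor₃ ≫ Θ u ψ) ≫ (J u).inv := by
  simp [Θ]

lemma cocone_mor₃_eq :
    (mappingCocone.triangle u).mor₃ = mappingCone.inr u ≫ (J u).inv := rfl

set_option backward.isDefEq.respectTransparency false in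
lemma att_homologyMap_eq (n₀ : ℤ) :
    homologyMap ((mappingCone.triangle (attφ u ψ)).mor₃ ≫ ψ⟦(1 : ℤ)⟧') n₀ =
      homologyMap (attMap u ψ ≫ (mappingCocone.triangle u).mor₃) n₀ := by
  have e1 := att_mor₃_eq u ψ
  have e2 : attMap u ψ ≫ (mappingCocone.triangle u).mor₃ =
      (attMap u ψ ≫ mappingCone.inr u) ≫ (J u).inv := by
    rw [cocone_mor₃_eq, Category.assoc]
  have h := (attHomotopy u ψ).homologyMap_eq n₀
  calc homologyMap ((mappingCone.triangle (attφ u ψ)).mor₃ ≫ ψ⟦(1 : ℤ)⟧') n₀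
      = homologyMap (((mappingCone.triangle (attφ u ψ)).mor₃ ≫ Θ u ψ) ≫ (J u).inv) n₀ := by
        rw [e1]
    _ = homologyMap ((mappingCone.triangle (attφ u ψ)).mor₃ ≫ Θ u ψ) n₀ ≫
          homologyMap (J u).inv n₀ := homologyMap_comp _ _ _
    _ = homologyMap (attMap u ψ ≫ mappingCone.inr u) n₀ ≫ homologyMap (J u).inv n₀ := by rw [h]
    _ = homologyMap ((attMap u ψ ≫ mappingCone.inr u) ≫ (J u).inv) n₀ :=
        (homologyMap_comp _ _ _).symm
    _ = _ := by rw [e2]

set_option backward.isDefEq.respectTransparency false in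
lemma att_δ_naturality (n₀ n₁ : ℤ) (h : n₀ + 1 = n₁) :
    homologyδOfTriangle (mappingCone.triangle (attφ u ψ)) n₀ n₁ h ≫ homologyMap ψ n₁ =
      homologyMap (attMap u ψ) n₀ ≫ homologyδOfTriangle (mappingCocone.triangle u) n₀ n₁ h := by
  dsimp only [homologyδOfTriangle]
  have nat := ((homologyFunctor C (ComplexShape.up ℤ) 0).shiftIso 1 n₀ n₁ (by omega)).hom.naturality ψ
  rw [Category.assoc]
  erw [← nat]
  rw [← Category.assoc, ← Category.assoc]
  congr 1
  have := att_homologyMap_eq u ψ n₀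
  rw [homologyMap_comp, homologyMap_comp] at this
  exact this

end S4

section S5

variable {C : Type u} [Category.{v} C] [Abelian C]

/-- Mono version of the four lemma, in unbundled form. -/
theorem four_mono {A B Cc D A' B' C' D' : C}
    (f : A ⟶ B) (g : B ⟶ Cc) (h : Cc ⟶ D) (f' : A' ⟶ B') (g' : B' ⟶ C') (h' : C' ⟶ D')
    (α : A ⟶ A') (β : B ⟶ B') (γ : Cc ⟶ C') (δ : D ⟶ D')
    (c₁ : f ≫ β = α ≫ f') (c₂ : g ≫ γ = β ≫ g') (c₃ : h ≫ δ = γ ≫ h')
    (w₁ : f ≫ g = 0) (w₂ : g ≫ h = 0) (w' : f' ≫ g' = 0)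
    (ex₂ : (ShortComplex.mk g h w₂).Exact) (ex' : (ShortComplex.mk f' g' w').Exact)
    [Epi α] [Mono β] [Mono δ] : Mono γ := by
  apply mono_of_cancel_zero
  intro X x hx
  have h₂ : x ≫ h = 0 := by
    rw [← cancel_mono δ, assoc, c₃, reassoc_of% hx, zero_comp, zero_comp]
  obtain ⟨X₁, π₁, _, y, hy⟩ := ex₂.exact_up_to_refinements x h₂
  dsimp at y hy
  have h₃ : (y ≫ β) ≫ g' = 0 := by
    rw [assoc, ← c₂, ← reassoc_of% hy, hx, comp_zero]
  obtain ⟨X₂, π₂, _, z, hz⟩ := ex'.exact_up_to_refinements _ h₃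
  dsimp at z hz
  obtain ⟨X₃, π₃, _, t, ht⟩ := surjective_up_to_refinements_of_epi α z
  have h₄ : t ≫ f = π₃ ≫ π₂ ≫ y := by
    rw [← cancel_mono β, assoc, assoc, assoc, c₁, ← reassoc_of% ht, hz]
  rw [← cancel_epi π₁, comp_zero, hy, ← cancel_epi π₂, ← cancel_epi π₃, comp_zero,
    comp_zero, ← reassoc_of% h₄, w₁, comp_zero]

/-- Epi version of the four lemma, in unbundled form. -/
theorem four_epi {A B Cc D A' B' C' D' : C}
    (f : A ⟶ B) (g : B ⟶ Cc) (h : Cc ⟶ D) (f' : A' ⟶ B') (g' : B' ⟶ C') (h' : C' ⟶ D')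
    (α : A ⟶ A') (β : B ⟶ B') (γ : Cc ⟶ C') (δ : D ⟶ D')
    (c₁ : f ≫ β = α ≫ f') (c₂ : g ≫ γ = β ≫ g') (c₃ : h ≫ δ = γ ≫ h')
    (w₂ : g ≫ h = 0) (w' : f' ≫ g' = 0) (w₂' : g' ≫ h' = 0)
    (ex₂ : (ShortComplex.mk g h w₂).Exact) (ex' : (ShortComplex.mk f' g' w').Exact)
    [Epi α] [Epi γ] [Mono δ] : Epi β := by
  rw [epi_iff_surjective_up_to_refinements]
  intro X x
  obtain ⟨X₁, π₁, _, y, hy⟩ := surjective_up_to_refinements_of_epi γ (x ≫ g')
  have h₂ : y ≫ h = 0 := by
    rw [← cancel_mono δ, assoc, zero_comp, c₃, ← reassoc_of% hy, w₂', comp_zero, comp_zero]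
  obtain ⟨X₂, π₂, _, z, hz⟩ := ex₂.exact_up_to_refinements _ h₂
  dsimp at z hz
  have h₄ : (π₂ ≫ π₁ ≫ x - z ≫ β) ≫ g' = 0 := by
    rw [sub_comp, assoc, assoc, assoc, ← c₂, ← reassoc_of% hz, hy, sub_self]
  obtain ⟨X₃, π₃, _, t, ht⟩ := ex'.exact_up_to_refinements _ h₄
  dsimp at t ht
  rw [comp_sub] at ht
  obtain ⟨X₄, π₄, _, s, hs⟩ := surjective_up_to_refinements_of_epi α t
  refine ⟨X₄, π₄ ≫ π₃ ≫ π₂ ≫ π₁, inferInstance, π₄ ≫ π₃ ≫ z + s ≫ f, ?_⟩
  rw [assoc, assoc, assoc, add_comp, assoc, assoc, assoc, c₁, ← reassoc_of% hs, ← ht, comp_sub]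
  abel

end S5

section S6

variable {C : Type u} [Category.{v} C] [Abelian C]
variable {E F K : CochainComplex C ℤ} (u : E ⟶ F) (ψ : K ⟶ mappingCocone u)

attribute [local instance] HasDerivedCategory.standard

set_option backward.isDefEq.respectTransparency false in
lemma att_epi (j j' : ℤ) (hj : j + 1 = j') [Epi (homologyMap ψ j')] :
    Epi (homologyMap (attMap u ψ) j) := by
  have hT₁ := DerivedCategory.mappingCone_triangle_distinguished (attφ u ψ)
  have hT₂ := DerivedCategory.mappingCocone_triangle_distinguished u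
  have e₁ := CochainComplex.homologyMap_exact₃_of_distTriang _ hT₁ j j' hj
  have e₂ := CochainComplex.homologyMap_exact₂_of_distTriang _ hT₂ j
  have e₃ := CochainComplex.homologyMap_exact₃_of_distTriang _ hT₂ j j' hj
  have e₂' := CochainComplex.homologyMap_exact₁_of_distTriang _ hT₂ j j' hj
  have e₁' := CochainComplex.homologyMap_exact₁_of_distTriang _ hT₁ j j' hj
  -- rows: H^j(E) → H^j(att) → H^{j'}(K) → H^{j'}(E)
  --       H^j(E) → H^j(F) → H^{j'}(cocone) → H^{j'}(E)
  refine four_epi (A := E.homology j) (A' := E.homology j)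
    (homologyMap (attι u ψ) j) (homologyδOfTriangle (mappingCone.triangle (attφ u ψ)) j j' hj)
    (homologyMap (attφ u ψ) j')
    (homologyMap u j) (homologyδOfTriangle (mappingCocone.triangle u) j j' hj)
    (homologyMap (mappingCocone.fst u) j')
    (𝟙 _) (homologyMap (attMap u ψ) j) (homologyMap ψ j') (𝟙 _) ?_ ?_ ?_ ?_ ?_ ?_ ?_ ?_
  · rw [Category.id_comp, ← homologyMap_comp, attι_attMap]
  · exact att_δ_naturality u ψ j j' hj
  · rw [Category.comp_id, ← homologyMap_comp]
    rfl
  · exact CochainComplex.homologyδOfTriangle_homologyMap _ hT₁ j j' hj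
  · exact CochainComplex.homologyMap_homologyδOfTriangle _ hT₂ j j' hj
  · exact CochainComplex.homologyδOfTriangle_homologyMap _ hT₂ j j' hj
  · exact e₁'
  · exact e₃

set_option backward.isDefEq.respectTransparency false in
lemma att_mono (j j' : ℤ) (hj : j + 1 = j') [Epi (homologyMap ψ j)] [Mono (homologyMap ψ j')] :
    Mono (homologyMap (attMap u ψ) j) := by
  have hT₁ := DerivedCategory.mappingCone_triangle_distinguished (attφ u ψ)
  have hT₂ := DerivedCategory.mappingCocone_triangle_distinguished u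
  have e₁ := CochainComplex.homologyMap_exact₃_of_distTriang _ hT₁ j j' hj
  have e₂ := CochainComplex.homologyMap_exact₂_of_distTriang _ hT₂ j
  -- rows: H^j(K) → H^j(E) → H^j(att) → H^{j'}(K)
  --       H^j(cocone) → H^j(E) → H^j(F) → H^{j'}(cocone)
  refine four_mono
    (homologyMap (attφ u ψ) j) (homologyMap (attι u ψ) j)
    (homologyδOfTriangle (mappingCone.triangle (attφ u ψ)) j j' hj)
    (homologyMap (mappingCocone.fst u) j) (homologyMap u j)
    (homologyδOfTriangle (mappingCocone.triangle u) j j' hj)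
    (homologyMap ψ j) (𝟙 _) (homologyMap (attMap u ψ) j) (homologyMap ψ j') ?_ ?_ ?_ ?_ ?_ ?_ ?_ ?_
  · rw [Category.comp_id, ← homologyMap_comp]
    rfl
  · rw [Category.id_comp, ← homologyMap_comp, attι_attMap]
  · exact att_δ_naturality u ψ j j' hj
  · exact CochainComplex.homologyMap_comp_eq_zero_of_distTriang _ hT₁ j
  · exact CochainComplex.homologyMap_homologyδOfTriangle _ hT₁ j j' hj
  · exact CochainComplex.homologyMap_comp_eq_zero_of_distTriang _ hT₂ j
  · exact e₁
  · exact e₂

end S6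

section S7

variable {C : Type u} [Category.{v} C] [Abelian C]
variable {E F K : CochainComplex C ℤ} (u : E ⟶ F) (ψ : K ⟶ mappingCocone u)

instance attι_f_mono (i : ℤ) : Mono ((attι u ψ).f i) :=
  (IsSplitMono.mk' ⟨(mappingCone.snd (attφ u ψ)).v i i (add_zero i),
    mappingCone.inr_f_snd_v (attφ u ψ) i⟩).mono

lemma attι_f_isIso (i j : ℤ) (hij : i + 1 = j) (h : IsZero (K.X j)) : IsIso ((attι u ψ).f i) := by
  refine ⟨(mappingCone.snd (attφ u ψ)).v i i (add_zero i), mappingCone.inr_f_snd_v (attφ u ψ) i, ?_⟩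
  have h1 := mappingCone.id_X (attφ u ψ) i j hij
  rw [h.eq_of_tgt ((mappingCone.fst (attφ u ψ)).1.v i j hij) 0, zero_comp, zero_add] at h1
  exact h1

attribute [local instance] HasDerivedCategory.standard

set_option backward.isDefEq.respectTransparency false in
/-- If `u` is an isomorphism on `H^i` for `i ≥ m` and an epimorphism on `H^{m-1}`, then the
mapping cocone of `u` is exact in degrees `≥ m`. -/
lemma cocone_exactAt (m : ℤ) (hiso : ∀ i, m ≤ i → IsIso (homologyMap u i))
    (m' : ℤ) (hm' : m' + 1 = m) (hepi : Epi (homologyMap u m')) (j : ℤ) (hj : m ≤ j) :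
    (mappingCocone u).ExactAt j := by
  have hT := DerivedCategory.mappingCocone_triangle_distinguished u
  rw [exactAt_iff_isZero_homology]
  have hj' : (j - 1) + 1 = j := by omega
  have e₁ := CochainComplex.homologyMap_exact₁_of_distTriang _ hT (j - 1) j hj'
  have e₃ := CochainComplex.homologyMap_exact₃_of_distTriang _ hT (j - 1) j hj'
  have hepi' : Epi (homologyMap u (j - 1)) := by
    rcases eq_or_lt_of_le hj with h | h
    · have : j - 1 = m' := by omega
      rw [this]; exact hepi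
    · have := hiso (j - 1) (by omega)
      infer_instance
  have hmono : Mono (homologyMap u j) := by
    have := hiso j hj
    infer_instance
  refine e₁.isZero_X₂ ?_ ?_
  · -- δ = 0
    have h0 := CochainComplex.homologyMap_homologyδOfTriangle _ hT (j - 1) j hj'
    exact (cancel_epi (homologyMap u (j - 1))).1 (by rw [comp_zero]; exact h0)
  · -- fst_* = 0
    have h0 := CochainComplex.homologyMap_comp_eq_zero_of_distTriang _ hT j
    exact (cancel_mono (homologyMap u j)).1 (by rw [zero_comp]; exact h0)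

end S7

section S8

variable {C : Type u} [Category.{v} C] [Abelian C]
variable {E F : CochainComplex C ℤ} (u : E ⟶ F)

/-- Factorisation of an `n`-quasi-isomorphism: formulated with the cocone exactness hypothesis. -/
theorem factor_of_cocone_exact (n : ℤ)
    (hex : ∀ j : ℤ, n < j → (mappingCocone u).ExactAt j) :
    ∃ (E' : CochainComplex C ℤ) (v : E ⟶ E') (u' : E' ⟶ F), v ≫ u' = u ∧ QuasiIso u' ∧
      (∀ i : ℤ, Mono (v.f i)) ∧ (∀ i : ℤ, n ≤ i → IsIso (v.f i)) := by
  have hLE : (mappingCocone u).IsLE n := by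
    rw [CochainComplex.isLE_iff]
    exact hex
  let ψ := (mappingCocone u).ιTruncLE n
  have hψ : QuasiIso ψ := inferInstance
  refine ⟨att u ψ, attι u ψ, attMap u ψ, attι_attMap u ψ, ?_, fun i => inferInstance, ?_⟩
  · rw [quasiIso_iff]
    intro j
    rw [quasiIsoAt_iff_isIso_homologyMap]
    have h1 : IsIso (homologyMap ψ j) := inferInstance
    have h2 : IsIso (homologyMap ψ (j + 1)) := inferInstance
    have hepi : Epi (homologyMap (attMap u ψ) j) := att_epi u ψ j (j + 1) rfl
    have hmono : Mono (homologyMap (attMap u ψ) j) := att_mono u ψ j (j + 1) rfl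
    exact isIso_of_mono_of_epi _
  · intro i hi
    exact attι_f_isIso u ψ i (i + 1) rfl
      (((mappingCocone u).truncLE n).isZero_of_isStrictlyLE n (i + 1) (by omega))

end S8

end Groth.Agent.Lib.Helper1.PCohCone
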