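import Mathlib

/-!
# Basic tools for (pseudo-)coherence / perfect complexes relative to an object property `P`
in an abelian category (SGA 6 Exp. I, punctual case)

* `projective_of_lift`: if every epi onto an object of `P` splits, objects of `P` are projective.
* `exists_map_of_isKProjective`: morphisms in the derived category out of a K-projective complex are
  induced by morphisms of complexes.
* `acyclic_mappingCone`, `coneXIso`, `isZero_coneX`, `kernelFstIso`: mapping cone bookkeeping.
* `P_kernel_d`: descending induction for kernels in an exact bounded above complex with terms in `P`.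
-/

open CategoryTheory CategoryTheory.Limits HomologicalComplex CochainComplex

universe w v u

namespace Groth.Agent.Lib.Helper1.PCohLib

variable {C : Type u} [Category.{v} C] [Abelian C]

lemma projective_of_lift (P : ObjectProperty C)
    (hlift : ∀ (E F : C) (u : E ⟶ F), Epi u → P F → IsSplitEpi u) (X : C) (hX : P X) :
    Projective X := by
  constructor
  intro E Y f e he
  have h1 : Epi (pullback.fst f e) := Abelian.epi_pullback_of_epi_g f e
  have h2 : IsSplitEpi (pullback.fst f e) := hlift _ _ (pullback.fst f e) h1 hX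
  refine ⟨section_ (pullback.fst f e) ≫ pullback.snd f e, ?_⟩
  rw [Category.assoc, ← pullback.condition, IsSplitEpi.id_assoc]

section

variable (P : ObjectProperty C) [P.IsClosedUnderIsomorphisms] [P.ContainsZero]
  (hst : ∀ (E F : C) (u : E ⟶ F), Epi u → P E → P F → P (kernel u))

include hst in
/-- Descending induction: in a bounded above complex, exact in degrees `> a + 1` and with terms in
`P` in degrees `> a`, the kernels of the differentials in degrees `> a` are in `P`. -/
lemma P_kernel_d (K : CochainComplex C ℤ) (a b : ℤ) (hK : ∀ n, a + 1 < n → K.ExactAt n)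
    (hb : ∀ i, b < i → IsZero (K.X i)) (hP : ∀ i, a < i → P (K.X i)) :
    ∀ (k : ℕ) (i : ℤ), b < i + k → a < i → P (kernel (K.d i (i + 1))) := by
  intro k
  induction k with
  | zero =>
    intro i hi _
    apply P.prop_of_isZero
    exact IsZero.of_mono (kernel.ι _) (hb i (by simpa using hi))
  | succ k ih =>
    intro i hi hai
    have h1 : P (kernel (K.d (i + 1) (i + 1 + 1))) :=
      ih (i + 1) (by push_cast at hi; omega) (by omega)
    let L : K.X i ⟶ kernel (K.d (i + 1) (i + 1 + 1)) :=
      kernel.lift _ (K.d i (i + 1)) (K.d_comp_d _ _ _)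
    have hex : (K.sc' i (i + 1) (i + 1 + 1)).Exact :=
      (K.exactAt_iff' i (i + 1) (i + 1 + 1) (by simp) (by simp)).1 (hK (i + 1) (by omega))
    have hL : Epi L := hex.epi_kernelLift
    have h2 : P (kernel L) := hst _ _ L hL (hP i hai) h1
    have h3 : L ≫ kernel.ι _ = K.d i (i + 1) := kernel.lift_ι _ _ _
    exact P.prop_of_iso ((kernelCompMono L (kernel.ι _)).symm ≪≫ kernelIsoOfEq h3) h2

include hst in
lemma P_kernel_d' (K : CochainComplex C ℤ) (a b : ℤ) (hK : ∀ n, a + 1 < n → K.ExactAt n)
    (hb : ∀ i, b < i → IsZero (K.X i)) (hP : ∀ i, a < i → P (K.X i)) (i : ℤ) (hi : a < i) :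
    P (kernel (K.d i (i + 1))) :=
  P_kernel_d P hst K a b hK hb hP ((b - i).toNat + 1) i (by omega) hi

end

section DerivedCategory

open DerivedCategory

variable [HasDerivedCategory.{w} C]

/-- A morphism in the derived category from a K-projective complex is induced by a
morphism of complexes. -/
lemma exists_map_of_isKProjective (E F : CochainComplex C ℤ)
    [E.IsKProjective] (φ : Q.obj E ⟶ Q.obj F) : ∃ f : E ⟶ F, Q.map f = φ := by
  obtain ⟨g, hg⟩ := (CochainComplex.IsKProjective.Qh_map_bijective E
    ((HomotopyCategory.quotient _ _).obj F)).2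
      ((quotientCompQhIso C).hom.app E ≫ φ ≫ (quotientCompQhIso C).inv.app F)
  obtain ⟨f, rfl⟩ := (HomotopyCategory.quotient _ _).map_surjective g
  refine ⟨f, ?_⟩
  have h : Q.map f = (quotientCompQhIso C).inv.app E ≫
      Qh.map ((HomotopyCategory.quotient C (ComplexShape.up ℤ)).map f) ≫
        (quotientCompQhIso C).hom.app F := by
    have := (quotientCompQhIso C).hom.naturality f
    simp only [Functor.comp_map] at this
    rw [this, Iso.inv_hom_id_app_assoc]
  rw [h, hg]
  simp

/-- An isomorphism in the derived category from a K-projective complex is induced by a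
quasi-isomorphism. -/
lemma exists_quasiIso_of_iso (E F : CochainComplex C ℤ)
    [E.IsKProjective] (e : Q.obj E ≅ Q.obj F) : ∃ f : E ⟶ F, QuasiIso f ∧ Q.map f = e.hom := by
  obtain ⟨f, hf⟩ := exists_map_of_isKProjective E F e.hom
  refine ⟨f, ?_, hf⟩
  rw [← isIso_Q_map_iff_quasiIso, hf]
  infer_instance

lemma acyclic_mappingCone {E F : CochainComplex C ℤ} (f : E ⟶ F)
    [QuasiIso f] (n : ℤ) : (mappingCone f).ExactAt n := by
  have hdist := mappingCone_triangle_distinguished f
  have hiso : IsIso (Q.map f) := (isIso_Q_map_iff_quasiIso (φ := f)).2 inferInstance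
  have hz : IsZero (Q.obj (mappingCone f)) :=
    (Pretriangulated.Triangle.isZero₃_iff_isIso₁ _ hdist).2 hiso
  rw [exactAt_iff_isZero_homology]
  have e := (homologyFunctorFactors C n).app (mappingCone f)
  refine IsZero.of_iso ?_ e.symm
  exact (homologyFunctor C n).map_isZero hz

end DerivedCategory

section Cone

variable {E F : CochainComplex C ℤ} (f : E ⟶ F)

/-- The terms of the mapping cone are biproducts. -/
noncomputable def coneXIso (p q : ℤ) (hpq : p + 1 = q) :
    (mappingCone f).X p ≅ E.X q ⊞ F.X p where
  hom := biprod.lift ((mappingCone.fst f).1.v p q hpq) ((mappingCone.snd f).v p p (add_zero p))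
  inv := biprod.desc ((mappingCone.inl f).v q p (by omega)) ((mappingCone.inr f).f p)
  hom_inv_id := by
    rw [biprod.lift_desc]
    exact mappingCone.id_X f p q hpq
  inv_hom_id := by
    ext <;> simp

lemma isZero_coneX (p q : ℤ) (hpq : p + 1 = q) (h1 : IsZero (E.X q)) (h2 : IsZero (F.X p)) :
    IsZero ((mappingCone f).X p) := by
  rw [IsZero.iff_id_eq_zero, ← mappingCone.id_X f p q hpq]
  rw [h1.eq_of_tgt ((mappingCone.fst f).1.v p q hpq) 0,
    h2.eq_of_tgt ((mappingCone.snd f).v p p (add_zero p)) 0]
  simp

lemma P_coneX (P : ObjectProperty C) [P.IsClosedUnderIsomorphisms]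
    (hsum : ∀ X Y : C, P X → P Y → P (X ⨯ Y)) (p q : ℤ) (hpq : p + 1 = q)
    (h1 : P (E.X q)) (h2 : P (F.X p)) : P ((mappingCone f).X p) :=
  P.prop_of_iso ((biprod.isoProd _ _).symm ≪≫ (coneXIso f p q hpq).symm) (hsum _ _ h1 h2)

/-- `F.X p` is the kernel of the first projection of the cone. -/
noncomputable def kernelFstIso (p q : ℤ) (hpq : p + 1 = q) :
    kernel ((mappingCone.fst f).1.v p q hpq) ≅ F.X p where
  hom := kernel.ι _ ≫ (mappingCone.snd f).v p p (add_zero p)
  inv := kernel.lift _ ((mappingCone.inr f).f p) (mappingCone.inr_f_fst_v f p q hpq)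
  hom_inv_id := by
    rw [← cancel_mono (kernel.ι _)]
    simp only [Category.assoc, kernel.lift_ι, Category.id_comp]
    have h := mappingCone.id_X f p q hpq
    have h2 : (mappingCone.snd f).v p p (add_zero p) ≫ (mappingCone.inr f).f p =
        𝟙 _ - (mappingCone.fst f).1.v p q hpq ≫ (mappingCone.inl f).v q p (by omega) := by
      rw [← h]; abel
    rw [h2, Preadditive.comp_sub, Category.comp_id, kernel.condition_assoc, zero_comp, sub_zero]
  inv_hom_id := by
    rw [kernel.lift_ι_assoc, mappingCone.inr_f_snd_v]

end Cone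

end Groth.Agent.Lib.Helper1.PCohLib
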