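import Mathlib
import Groth.Prelude.Def_PCoh
import Groth.Agent.Lib.Helper1.PCohLib
import Groth.Agent.Lib.Helper1.PCohCone

/-!
# Construction of strictly `n`-pseudo-coherent resolutions (SGA 6 I 2.2, punctual case)

* `finiteType_kernel`: quasi-stability gives finite type of the kernel of a differential in an
  exact bounded above complex with terms in `P`.
* `exists_cell`, `step`, `induction`: the inductive construction attaching cells.
* `core`: if `u : E ⟶ F` is a quasi-isomorphism with `F` strictly `n`-pseudo-coherent and `E`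
  acyclic in degrees `≥ m`, there is a quasi-isomorphism `F' ⟶ E` with `F'` strictly
  `n`-pseudo-coherent, vanishing in degrees `≥ max m n`.
-/

open CategoryTheory CategoryTheory.Limits HomologicalComplex CochainComplex
open CochainComplex.HomComplex ZeroObject

universe w v u

namespace Groth.Agent.Lib.Helper1.PCohFT

section K1

variable {C : Type u} [Category.{v} C] [Abelian C] (P : ObjectProperty C)

lemma isOfFiniteType_of_iso {X Y : C} (e : X ≅ Y) (h : PCoh.IsOfFiniteType P X) :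
    PCoh.IsOfFiniteType P Y := by
  obtain ⟨N, π, hN, hπ⟩ := h
  exact ⟨N, π ≫ e.hom, hN, inferInstance⟩

lemma isOfFiniteType_of_epi {X Y : C} (f : X ⟶ Y) [Epi f] (h : PCoh.IsOfFiniteType P X) :
    PCoh.IsOfFiniteType P Y := by
  obtain ⟨N, π, hN, hπ⟩ := h
  exact ⟨N, π ≫ f, hN, epi_comp _ _⟩

section

variable (K : CochainComplex C ℤ) (i : ℤ)

/-- The `ℕ`-indexed complex `0 → Z^i → K^i → K^{i+1} → ⋯`. -/
noncomputable def augKer : CochainComplex C ℕ :=
  CochainComplex.augment (K.restriction (ComplexShape.embeddingUpIntGE i))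
    (kernel.ι ((K.restriction (ComplexShape.embeddingUpIntGE i)).d 0 1)) (kernel.condition _)

lemma augKer_exactAt_zero : (augKer K i).ExactAt 0 := by
  rw [exactAt_iff' _ 0 0 1 (by simp) (by simp)]
  rw [ShortComplex.exact_iff_mono _ ((augKer K i).shape 0 0 (by simp))]
  show Mono (kernel.ι ((K.restriction (ComplexShape.embeddingUpIntGE i)).d 0 1))
  infer_instance

lemma augKer_exactAt_one : (augKer K i).ExactAt 1 := by
  rw [exactAt_iff' _ 0 1 2 (by simp) (by simp)]
  exact ShortComplex.exact_of_f_is_kernel _ (kernelIsKernel _)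

lemma augKer_exactAt_succ_succ (j : ℕ) (h : K.ExactAt (i + (j + 1 : ℕ))) :
    (augKer K i).ExactAt (j + 2) := by
  rw [exactAt_iff' _ (j + 1) (j + 2) (j + 3) (by simp) (by simp)]
  have h' := (K.exactAt_iff' (i + (j : ℕ)) (i + (j + 1 : ℕ)) (i + (j + 2 : ℕ))
    (by simp; omega) (by simp; omega)).1 h
  refine ShortComplex.exact_of_iso ?_ h'
  exact (restriction.sc'Iso K (ComplexShape.embeddingUpIntGE i) j (j + 1) (j + 2) rfl rfl rfl
    (by simp; omega) (by simp; omega)).symm

lemma augKer_exactAt (hex : ∀ j, i < j → K.ExactAt j) (j : ℕ) : (augKer K i).ExactAt j := by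
  match j with
  | 0 => exact augKer_exactAt_zero K i
  | 1 => exact augKer_exactAt_one K i
  | (j + 2) => exact augKer_exactAt_succ_succ K i j (hex _ (by push_cast; omega))

/-- The degree zero term of `augKer` is the kernel of `K.d i (i + 1)`. -/
noncomputable def augKerXZeroIso : (augKer K i).X 0 ≅ kernel (K.d i (i + 1)) :=
  kernel.mapIso _ _ (K.XIsoOfEq (by simp [ComplexShape.embeddingUpIntGE]))
    (K.XIsoOfEq (by simp [ComplexShape.embeddingUpIntGE]))
    (by
      show K.d _ _ ≫ _ = _ ≫ K.d _ _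
      simp)

end

variable {P} in
/-- In a bounded above complex which is exact in degrees `> i` and has terms in `P` in degrees
`≥ i`, the kernel of the differential in degree `i` is of `P`-finite type. -/
lemma finiteType_kernel (hqs : PCoh.IsQuasiStableUnderKernels P)
    (K : CochainComplex C ℤ) (i b : ℤ) (hb : ∀ j, b < j → IsZero (K.X j))
    (hP : ∀ j, i ≤ j → P (K.X j)) (hex : ∀ j, i < j → K.ExactAt j) :
    PCoh.IsOfFiniteType P (kernel (K.d i (i + 1))) := by
  refine isOfFiniteType_of_iso P (augKerXZeroIso K i) ?_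
  refine hqs (augKer K i) (augKer_exactAt K i hex) ⟨(b - i).toNat + 1, ?_⟩ ?_
  · intro j hj
    obtain ⟨j', rfl⟩ : ∃ j', j = j' + 1 := ⟨j - 1, by omega⟩
    exact hb (i + (j' : ℕ)) (by omega)
  · intro j hj
    obtain ⟨j', rfl⟩ : ∃ j', j = j' + 1 := ⟨j - 1, by omega⟩
    exact hP (i + (j' : ℕ)) (by omega)

end K1

section K2

variable {C : Type u} [Category.{v} C] [Abelian C]

section Cocone

variable {E F : CochainComplex C ℤ} (u : E ⟶ F)

/-- The terms of the mapping cocone are biproducts. -/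
noncomputable def coconeXIso (p q : ℤ) (hpq : p + -1 = q) :
    (mappingCocone u).X p ≅ E.X p ⊞ F.X q where
  hom := biprod.lift ((mappingCocone.fst u).f p) ((mappingCocone.snd u).v p q hpq)
  inv := biprod.desc ((mappingCocone.inl u).v p p (add_zero p))
    ((mappingCocone.inr u).1.v q p (by omega))
  hom_inv_id := by
    rw [biprod.lift_desc]
    exact mappingCocone.id_X u p q hpq
  inv_hom_id := by
    ext <;> simp

lemma isZero_coconeX (p q : ℤ) (hpq : p + -1 = q) (h1 : IsZero (E.X p)) (h2 : IsZero (F.X q)) :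
    IsZero ((mappingCocone u).X p) := by
  rw [IsZero.iff_id_eq_zero, ← mappingCocone.id_X u p q hpq]
  rw [h1.eq_of_tgt ((mappingCocone.fst u).f p) 0,
    h2.eq_of_tgt ((mappingCocone.snd u).v p q hpq) 0]
  simp

lemma P_coconeX (P : ObjectProperty C) [P.IsClosedUnderIsomorphisms]
    (hsum : ∀ X Y : C, P X → P Y → P (X ⨯ Y)) (p q : ℤ) (hpq : p + -1 = q)
    (h1 : P (E.X p)) (h2 : P (F.X q)) : P ((mappingCocone u).X p) :=
  P.prop_of_iso ((biprod.isoProd _ _).symm ≪≫ (coconeXIso u p q hpq).symm) (hsum _ _ h1 h2)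

end Cocone

section Rho

variable {G E F : CochainComplex C ℤ} (w : G ⟶ E) (u : E ⟶ F)

attribute [local instance] HasDerivedCategory.standard

lemma quasiIso_coneMap [QuasiIso u] :
    QuasiIso (mappingCone.map w (w ≫ u) (𝟙 G) u (by simp)) := by
  let φ := mappingCone.triangleMap w (w ≫ u) (𝟙 G) u (by simp)
  have h1 := DerivedCategory.mappingCone_triangle_distinguished w
  have h2 := DerivedCategory.mappingCone_triangle_distinguished (w ≫ u)
  have hiso : IsIso (DerivedCategory.Q.map u) :=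
    (DerivedCategory.isIso_Q_map_iff_quasiIso (φ := u)).2 inferInstance
  have := Pretriangulated.isIso₃_of_isIso₁₂ (DerivedCategory.Q.mapTriangle.map φ) h1 h2
    (by
      show IsIso (DerivedCategory.Q.map (𝟙 G))
      infer_instance)
    (by
      show IsIso (DerivedCategory.Q.map u)
      exact hiso)
  rw [← DerivedCategory.isIso_Q_map_iff_quasiIso]
  exact this

/-- The comparison map between mapping cocones. -/
noncomputable def ρ : mappingCocone w ⟶ mappingCocone (w ≫ u) :=
  (mappingCone.map w (w ≫ u) (𝟙 G) u (by simp))⟦(-1 : ℤ)⟧'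

instance quasiIso_ρ [QuasiIso u] : QuasiIso (ρ w u) := by
  have := quasiIso_coneMap w u
  exact (quasiIso_shift_iff _ (-1)).2 this

end Rho

end K2

section K3

variable {C : Type u} [Category.{v} C] [Abelian C]
  (P : ObjectProperty C) [P.IsClosedUnderIsomorphisms] [P.ContainsZero]
  (hsum : ∀ X Y : C, P X → P Y → P (X ⨯ Y))
  (hqs : PCoh.IsQuasiStableUnderKernels P) (hql : PCoh.IsQuasiLiftable P)

include hsum hqs hql in
/-- Existence of a cell killing the top cohomology of the cocone. -/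
lemma exists_cell {G E F : CochainComplex C ℤ} (w : G ⟶ E) (u : E ⟶ F) [QuasiIso u]
    (n bF bG : ℤ) (hFb : ∀ j, bF < j → IsZero (F.X j)) (hFP : ∀ j, n ≤ j → P (F.X j))
    (hGP : ∀ j, P (G.X j)) (hGb : ∀ j, bG < j → IsZero (G.X j))
    (c : ℤ) (hc : n ≤ c) (hex : ∀ j, c + 1 < j → (mappingCocone w).ExactAt j) :
    ∃ (N : C) (z' : N ⟶ (mappingCocone w).cycles (c + 1)), P N ∧
      Epi (z' ≫ (mappingCocone w).homologyπ (c + 1)) := by
  let D' := mappingCocone w
  let D'' := mappingCocone (w ≫ u)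
  have hqi : QuasiIso (ρ w u) := inferInstance
  -- exactness of D''
  have hex'' : ∀ j, c + 1 < j → D''.ExactAt j := by
    intro j hj
    have h1 := hex j hj
    rw [exactAt_iff_isZero_homology] at h1 ⊢
    exact IsZero.of_iso h1 (asIso (homologyMap (ρ w u) j)).symm
  -- terms of D''
  have hP'' : ∀ j, c + 1 ≤ j → P (D''.X j) := fun j hj =>
    P_coconeX (w ≫ u) P hsum j (j - 1) (by omega) (hGP j) (hFP _ (by omega))
  have hb'' : ∀ j, max bG (bF + 1) < j → IsZero (D''.X j) := fun j hj =>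
    isZero_coconeX (w ≫ u) j (j - 1) (by omega) (hGb j (by omega)) (hFb _ (by omega))
  obtain ⟨N₀, π₀, hN₀, hπ₀⟩ := finiteType_kernel hqs D'' (c + 1) (max bG (bF + 1)) hb'' hP'' hex''
  -- the kernel is the cycles
  let e : kernel (D''.d (c + 1) (c + 1 + 1)) ≅ D''.cycles (c + 1) :=
    (IsLimit.conePointUniqueUpToIso (D''.cyclesIsKernel (c + 1) (c + 1 + 1) (by simp))
      (limit.isLimit _)).symm
  let a₀ : N₀ ⟶ D''.cycles (c + 1) := π₀ ≫ e.hom
  have ha₀ : Epi a₀ := epi_comp _ _
  let H := homologyMap (ρ w u) (c + 1)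
  have hH : IsIso H := inferInstance
  let p₁ : D'.cycles (c + 1) ⟶ D''.homology (c + 1) := D'.homologyπ (c + 1) ≫ H
  let p₂ : N₀ ⟶ D''.homology (c + 1) := a₀ ≫ D''.homologyπ (c + 1)
  have hp₁ : Epi p₁ := epi_comp _ _
  have hp₂ : Epi p₂ := epi_comp _ _
  have hfst : Epi (pullback.fst p₂ p₁) := Abelian.epi_pullback_of_epi_g p₂ p₁
  obtain ⟨N, v, hN, hv⟩ := hql _ _ (pullback.fst p₂ p₁) hfst hN₀
  refine ⟨N, v ≫ pullback.snd p₂ p₁, hN, ?_⟩
  have h1 : (v ≫ pullback.snd p₂ p₁ ≫ D'.homologyπ (c + 1)) ≫ H = (v ≫ pullback.fst p₂ p₁) ≫ p₂ := by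
    rw [Category.assoc, Category.assoc, Category.assoc, pullback.condition]
  have h2 : Epi ((v ≫ pullback.snd p₂ p₁ ≫ D'.homologyπ (c + 1)) ≫ H) := by
    rw [h1]
    exact epi_comp _ _
  have h3 : v ≫ pullback.snd p₂ p₁ ≫ D'.homologyπ (c + 1) =
      ((v ≫ pullback.snd p₂ p₁ ≫ D'.homologyπ (c + 1)) ≫ H) ≫ inv H := by
    rw [Category.assoc, IsIso.hom_inv_id, Category.comp_id]
  rw [Category.assoc, h3]
  exact epi_comp _ _

end K3

section K4

variable {C : Type u} [Category.{v} C] [Abelian C]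

/-- The morphism from a single complex given by a cycle. -/
noncomputable def cellMap (D : CochainComplex C ℤ) (k : ℤ) (N : C) (z' : N ⟶ D.cycles k) :
    (single C (ComplexShape.up ℤ) k).obj N ⟶ D :=
  mkHomFromSingle (z' ≫ D.iCycles k) (by
    intro l hl
    rw [Category.assoc, D.iCycles_d, comp_zero])

lemma epi_homologyMap_cellMap (D : CochainComplex C ℤ) (k : ℤ) (N : C) (z' : N ⟶ D.cycles k)
    (hz : Epi (z' ≫ D.homologyπ k)) : Epi (homologyMap (cellMap D k N z') k) := by
  let S := (single C (ComplexShape.up ℤ) k).obj N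
  let t : N ⟶ S.cycles k := S.liftCycles (singleObjXSelf (ComplexShape.up ℤ) k N).inv (k + 1)
    (by simp) (by simp [S])
  have h1 : t ≫ cyclesMap (cellMap D k N z') k = z' := by
    rw [← cancel_mono (D.iCycles k), Category.assoc, cyclesMap_i, liftCycles_i_assoc]
    simp [cellMap]
  have h2 : z' ≫ D.homologyπ k = (t ≫ S.homologyπ k) ≫ homologyMap (cellMap D k N z') k := by
    rw [Category.assoc, homologyπ_naturality, ← Category.assoc, h1]
  rw [h2] at hz
  exact epi_of_epi (t ≫ S.homologyπ k) _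

end K4

section K5

open Groth.Agent.Lib.Helper1.PCohCone

variable {C : Type u} [Category.{v} C] [Abelian C]
  (P : ObjectProperty C) [P.IsClosedUnderIsomorphisms] [P.ContainsZero]
  (hsum : ∀ X Y : C, P X → P Y → P (X ⨯ Y))
  (hqs : PCoh.IsQuasiStableUnderKernels P) (hql : PCoh.IsQuasiLiftable P)

omit [P.IsClosedUnderIsomorphisms] [P.ContainsZero] in
lemma epi_of_isZero_tgt {X Y : C} (f : X ⟶ Y) (h : IsZero Y) : Epi f :=
  ⟨fun g g' _ => h.eq_of_src g g'⟩

omit [P.IsClosedUnderIsomorphisms] [P.ContainsZero] in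
lemma mono_of_isZero_src {X Y : C} (f : X ⟶ Y) (h : IsZero X) : Mono f :=
  ⟨fun g g' _ => h.eq_of_tgt g g'⟩

lemma P_single_X (k : ℤ) (N : C) (hN : P N) (j : ℤ) :
    P (((single C (ComplexShape.up ℤ) k).obj N).X j) := by
  by_cases h : j = k
  · subst h
    exact P.prop_of_iso (singleObjXSelf (ComplexShape.up ℤ) j N).symm hN
  · exact P.prop_of_isZero (isZero_single_obj_X (ComplexShape.up ℤ) k N j h)

include hsum hqs hql in
/-- The inductive step: attaching one cell. -/
lemma step {G E F : CochainComplex C ℤ} (w : G ⟶ E) (u : E ⟶ F) [QuasiIso u]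
    (n bF m : ℤ) (hFb : ∀ j, bF < j → IsZero (F.X j)) (hFP : ∀ j, n ≤ j → P (F.X j))
    (hGP : ∀ j, P (G.X j)) (hGb : ∀ j, m ≤ j → IsZero (G.X j))
    (c : ℤ) (hc : n ≤ c) (hcm : c < m)
    (hex : ∀ j, c + 1 < j → (mappingCocone w).ExactAt j) :
    ∃ (G' : CochainComplex C ℤ) (w' : G' ⟶ E), (∀ j, P (G'.X j)) ∧
      (∀ j, m ≤ j → IsZero (G'.X j)) ∧ ∀ j, c < j → (mappingCocone w').ExactAt j := by
  obtain ⟨N, z', hN, hz⟩ := exists_cell P hsum hqs hql w u n bF (m - 1) hFb hFP hGP
    (fun j hj => hGb j (by omega)) c hc hex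
  let D' := mappingCocone w
  let ψ := cellMap D' (c + 1) N z'
  have hψ0 : Epi (homologyMap ψ (c + 1)) := epi_homologyMap_cellMap D' (c + 1) N z' hz
  have hψepi : ∀ i, c + 1 ≤ i → Epi (homologyMap ψ i) := by
    intro i hi
    rcases eq_or_lt_of_le hi with h | h
    · rw [← h]; exact hψ0
    · exact epi_of_isZero_tgt _ ((exactAt_iff_isZero_homology _ _).1 (hex i h))
  have hψmono : ∀ i, c + 1 < i → Mono (homologyMap ψ i) := by
    intro i hi
    exact mono_of_isZero_src _ ((exactAt_iff_isZero_homology _ _).1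
      (exactAt_single_obj (ComplexShape.up ℤ) (c + 1) N i (by omega)))
  refine ⟨att w ψ, attMap w ψ, ?_, ?_, ?_⟩
  · intro j
    exact Groth.Agent.Lib.Helper1.PCohLib.P_coneX (attφ w ψ) P hsum j (j + 1) rfl
      (P_single_X P (c + 1) N hN (j + 1)) (hGP j)
  · intro j hj
    exact Groth.Agent.Lib.Helper1.PCohLib.isZero_coneX (attφ w ψ) j (j + 1) rfl
      (isZero_single_obj_X (ComplexShape.up ℤ) (c + 1) N (j + 1) (by omega)) (hGb j hj)
  · intro j hj
    have hepi : ∀ i, c ≤ i → Epi (homologyMap (attMap w ψ) i) := by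
      intro i hi
      have := hψepi (i + 1) (by omega)
      exact att_epi w ψ i (i + 1) rfl
    have hmono : ∀ i, c + 1 ≤ i → Mono (homologyMap (attMap w ψ) i) := by
      intro i hi
      have := hψepi i hi
      have := hψmono (i + 1) (by omega)
      exact att_mono w ψ i (i + 1) rfl
    refine cocone_exactAt (attMap w ψ) (c + 1) ?_ c rfl (hepi c le_rfl) j (by omega)
    intro i hi
    have := hepi i (by omega)
    have := hmono i hi
    exact isIso_of_mono_of_epi _

end K5

section K6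

open Groth.Agent.Lib.Helper1.PCohCone

variable {C : Type u} [Category.{v} C] [Abelian C]
  (P : ObjectProperty C) [P.IsClosedUnderIsomorphisms] [P.ContainsZero]
  (hsum : ∀ X Y : C, P X → P Y → P (X ⨯ Y))
  (hqs : PCoh.IsQuasiStableUnderKernels P) (hql : PCoh.IsQuasiLiftable P)

omit [P.IsClosedUnderIsomorphisms] [P.ContainsZero] in
lemma isIso_of_isZero_isZero {X Y : C} (f : X ⟶ Y) (hX : IsZero X) (hY : IsZero Y) : IsIso f :=
  ⟨0, hX.eq_of_src _ _, hY.eq_of_src _ _⟩

omit [P.IsClosedUnderIsomorphisms] [P.ContainsZero] in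
lemma isZero_zero_X (j : ℤ) : IsZero ((0 : CochainComplex C ℤ).X j) :=
  (HomologicalComplex.eval C (ComplexShape.up ℤ) j).map_isZero (isZero_zero _)

omit [P.IsClosedUnderIsomorphisms] [P.ContainsZero] in
/-- base case -/
lemma base_exact (E : CochainComplex C ℤ) (m : ℤ) (hm : ∀ j, m ≤ j → E.ExactAt j) (j : ℤ)
    (hj : m < j) : (mappingCocone (0 : (0 : CochainComplex C ℤ) ⟶ E)).ExactAt j := by
  have h0 : ∀ i, IsZero ((0 : CochainComplex C ℤ).homology i) := fun i =>
    (exactAt_iff_isZero_homology _ _).1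
      (ShortComplex.exact_of_isZero_X₂ _ (isZero_zero_X i))
  refine cocone_exactAt (0 : (0 : CochainComplex C ℤ) ⟶ E) (m + 1) ?_ m rfl ?_ j (by omega)
  · intro i hi
    exact isIso_of_isZero_isZero _ (h0 i) ((exactAt_iff_isZero_homology _ _).1 (hm i (by omega)))
  · exact epi_of_isZero_tgt _ ((exactAt_iff_isZero_homology _ _).1 (hm m le_rfl))

include hsum hqs hql in
lemma induction {E F : CochainComplex C ℤ} (u : E ⟶ F) [QuasiIso u]
    (n bF m : ℤ) (hFb : ∀ j, bF < j → IsZero (F.X j)) (hFP : ∀ j, n ≤ j → P (F.X j))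
    (hm : ∀ j, m ≤ j → E.ExactAt j) :
    ∀ k : ℕ, n - 1 ≤ m - 1 - k → ∃ (G : CochainComplex C ℤ) (w : G ⟶ E), (∀ j, P (G.X j)) ∧
      (∀ j, m ≤ j → IsZero (G.X j)) ∧ ∀ j, m - 1 - k + 1 < j → (mappingCocone w).ExactAt j := by
  intro k
  induction k with
  | zero =>
    intro _
    refine ⟨0, 0, fun j => P.prop_of_isZero (isZero_zero_X j), fun j _ => isZero_zero_X j, ?_⟩
    intro j hj
    exact base_exact E m hm j (by push_cast at hj; omega)
  | succ k ih =>
    intro hk
    push_cast at hk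
    obtain ⟨G, w, hGP, hGb, hex⟩ := ih (by omega)
    obtain ⟨G', w', h1, h2, h3⟩ := step P hsum hqs hql w u n bF m hFb hFP hGP hGb (m - 1 - k)
      (by omega) (by omega) hex
    refine ⟨G', w', h1, h2, ?_⟩
    intro j hj
    exact h3 j (by push_cast at hj; omega)

include hsum hqs hql in
/-- Core lemma: a complex quasi-isomorphic to a strictly `n`-pseudo-coherent complex and acyclic in
degrees `≥ m` receives a quasi-isomorphism from a strictly `n`-pseudo-coherent complex vanishing in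
degrees `≥ max m n`. -/
theorem core {E F : CochainComplex C ℤ} (u : E ⟶ F) [QuasiIso u]
    (n : ℤ) (hF : PCoh.IsStrictPC P n F) (m : ℤ) (hm : ∀ j, m ≤ j → E.ExactAt j) :
    ∃ (F' : CochainComplex C ℤ) (v : F' ⟶ E), QuasiIso v ∧ (∀ i, n ≤ i → P (F'.X i)) ∧
      (∀ i, n ≤ i → m ≤ i → IsZero (F'.X i)) := by
  obtain ⟨⟨bF, hFb⟩, hFP⟩ := hF
  obtain ⟨G, w, hGP, hGb, hex⟩ := induction P hsum hqs hql u n bF (max m n) hFb hFP
    (fun j hj => hm j (by omega)) (max m n - n).toNat (by omega)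
  obtain ⟨F', v, w', hvw, hqi, _, hiso⟩ := factor_of_cocone_exact w n
    (fun j hj => hex j (by omega))
  refine ⟨F', w', hqi, ?_, ?_⟩
  · intro i hi
    have := hiso i hi
    exact P.prop_of_iso (asIso (v.f i)) (hGP i)
  · intro i hi hmi
    have := hiso i hi
    exact IsZero.of_iso (hGb i (by omega)) (asIso (v.f i)).symm

end K6

end Groth.Agent.Lib.Helper1.PCohFT
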