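import Mathlib
import Groth.Agent.Lib.Helper1.PCohFT

/-!
# `n`-pseudo-coherence in the derived category: two-out-of-three (SGA 6 I 2.5, punctual case)

`NPC P n X`: `X ∈ D(C)` is isomorphic to the image of a strictly `n`-pseudo-coherent complex
(this is definitionally the existential used in the statements).
`NPC.cone`, `NPC.ext₂`, `NPC.fiber`: the three two-out-of-three statements;
`NPC.shift`, `NPC.of_shift`, `NPC.mono`, `NPC.of_iso`, `exists_repr`.
-/

open CategoryTheory CategoryTheory.Limits HomologicalComplex CochainComplex DerivedCategory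
open Pretriangulated

universe w v u

namespace Groth.Agent.Lib.Helper1.PCohTri

section T1

open Groth.Agent.Lib.Helper1.PCohFT Groth.Agent.Lib.Helper1.PCohLib

variable {C : Type u} [Category.{v} C] [Abelian C] [HasDerivedCategory.{w} C]
  (P : ObjectProperty C)

/-- `X` is `n`-pseudo-coherent: isomorphic to the image of a strictly `n`-pseudo-coherent complex. -/
def NPC (n : ℤ) (X : DerivedCategory C) : Prop :=
  ∃ E : CochainComplex C ℤ, PCoh.IsStrictPC P n E ∧ Nonempty (Q.obj E ≅ X)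

variable {P}

lemma NPC.of_iso {n : ℤ} {X Y : DerivedCategory C} (e : X ≅ Y) (h : NPC P n X) : NPC P n Y := by
  obtain ⟨E, hE, ⟨e'⟩⟩ := h
  exact ⟨E, hE, ⟨e' ≪≫ e⟩⟩

lemma NPC.mono {n n' : ℤ} (hn : n ≤ n') {X : DerivedCategory C} (h : NPC P n X) : NPC P n' X := by
  obtain ⟨E, hE, ⟨e'⟩⟩ := h
  exact ⟨E, ⟨hE.1, fun i hi => hE.2 i (by omega)⟩, ⟨e'⟩⟩

lemma strictPC_shift {n : ℤ} {E : CochainComplex C ℤ} (hE : PCoh.IsStrictPC P n E) (a : ℤ) :
    PCoh.IsStrictPC P (n - a) (E⟦a⟧) := by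
  obtain ⟨⟨b, hb⟩, hP⟩ := hE
  refine ⟨⟨b - a, fun i hi => hb (i + a) (by omega)⟩, fun i hi => hP (i + a) (by omega)⟩

lemma NPC.shift {n : ℤ} {X : DerivedCategory C} (h : NPC P n X) (a : ℤ) :
    NPC P (n - a) (X⟦a⟧) := by
  obtain ⟨E, hE, ⟨e'⟩⟩ := h
  exact ⟨E⟦a⟧, strictPC_shift hE a,
    ⟨(Q.commShiftIso a).app E ≪≫ (CategoryTheory.shiftFunctor (DerivedCategory C) a).mapIso e'⟩⟩

lemma NPC.of_shift {n : ℤ} {X : DerivedCategory C} (a : ℤ) (h : NPC P (n - a) (X⟦a⟧)) :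
    NPC P n X := by
  have h' := h.shift (-a)
  have e : (X⟦a⟧)⟦-a⟧ ≅ X := (shiftEquiv (DerivedCategory C) a).unitIso.symm.app X
  have := h'.of_iso e
  have hn : n - a - -a = n := by omega
  rwa [hn] at this

end T1

section T2

open Groth.Agent.Lib.Helper1.PCohFT Groth.Agent.Lib.Helper1.PCohLib

variable {C : Type u} [Category.{v} C] [Abelian C] [HasDerivedCategory.{w} C]
  {P : ObjectProperty C} [P.IsClosedUnderIsomorphisms] [P.ContainsZero]
  (hsum : ∀ X Y : C, P X → P Y → P (X ⨯ Y))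
  (hqs : PCoh.IsQuasiStableUnderKernels P) (hql : PCoh.IsQuasiLiftable P)

omit [P.IsClosedUnderIsomorphisms] [P.ContainsZero] in
lemma exactAt_of_strictPC {n : ℤ} {E : CochainComplex C ℤ} (b : ℤ)
    (hb : ∀ i, b < i → IsZero (E.X i)) (j : ℤ) (hj : b < j) : E.ExactAt j :=
  ShortComplex.exact_of_isZero_X₂ _ (hb j hj)

include hsum hqs hql in
/-- A morphism in the derived category from a strictly `n`-pseudo-coherent complex `E₁` to the
image of a complex `F₁` can be represented by a morphism of complexes from another strictly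
`n`-pseudo-coherent complex quasi-isomorphic to `E₁`. -/
lemma exists_repr {n : ℤ} {E₁ F₁ : CochainComplex C ℤ} (hE₁ : PCoh.IsStrictPC P n E₁)
    (φ : Q.obj E₁ ⟶ Q.obj F₁) :
    ∃ (E₃ : CochainComplex C ℤ) (s : E₃ ⟶ E₁) (f : E₃ ⟶ F₁), PCoh.IsStrictPC P n E₃ ∧
      QuasiIso s ∧ Q.map f = Q.map s ≫ φ := by
  obtain ⟨E₂, s₂, hs₂, g, hφ⟩ := DerivedCategory.right_fac φ
  have hqi : QuasiIso s₂ := (isIso_Q_map_iff_quasiIso (φ := s₂)).1 hs₂
  obtain ⟨b, hb⟩ := hE₁.1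
  have hm : ∀ j, b + 1 ≤ j → E₂.ExactAt j := by
    intro j hj
    have h1 : E₁.ExactAt j := ShortComplex.exact_of_isZero_X₂ _ (hb j (by omega))
    rw [HomologicalComplex.exactAt_iff_isZero_homology] at h1 ⊢
    exact IsZero.of_iso h1 (asIso (HomologicalComplex.homologyMap s₂ j))
  obtain ⟨E₃, v, hv, hP₃, hz₃⟩ := core P hsum hqs hql s₂ n hE₁ (b + 1) hm
  refine ⟨E₃, v ≫ s₂, v ≫ g, ⟨⟨max (b + 1) n, fun i hi => hz₃ i (by omega) (by omega)⟩, hP₃⟩,
    inferInstance, ?_⟩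
  rw [hφ, Functor.map_comp, Functor.map_comp, Category.assoc, IsIso.hom_inv_id_assoc]

include hsum hqs hql in
/-- In a distinguished triangle, if the first object is `(n+1)`-pseudo-coherent and the second
is `n`-pseudo-coherent, then the third is `n`-pseudo-coherent. -/
theorem NPC.cone (T : Triangle (DerivedCategory C)) (hT : T ∈ distTriang _) (n : ℤ)
    (h₁ : NPC P (n + 1) T.obj₁) (h₂ : NPC P n T.obj₂) : NPC P n T.obj₃ := by
  obtain ⟨E₁, hE₁, ⟨e₁⟩⟩ := h₁
  obtain ⟨F₁, hF₁, ⟨e₂⟩⟩ := h₂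
  obtain ⟨E₃, s, f, hE₃, hs, hf⟩ := exists_repr hsum hqs hql hE₁ (e₁.hom ≫ T.mor₁ ≫ e₂.inv)
  have hiso : IsIso (Q.map s) := (isIso_Q_map_iff_quasiIso (φ := s)).2 hs
  have hdist := DerivedCategory.mappingCone_triangle_distinguished f
  let es : Q.obj E₃ ≅ Q.obj E₁ := @asIso _ _ _ _ (Q.map s) hiso
  have comm : (Q.mapTriangle.obj (CochainComplex.mappingCone.triangle f)).mor₁ ≫ e₂.hom =
      (es ≪≫ e₁).hom ≫ T.mor₁ := by
    show Q.map f ≫ e₂.hom = _
    rw [hf]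
    simp [es]
  let eT := Pretriangulated.isoTriangleOfIso₁₂ _ _ hdist hT (es ≪≫ e₁) e₂ comm
  obtain ⟨⟨b₁, hb₁⟩, hP₁⟩ := hE₃
  obtain ⟨⟨b₂, hb₂⟩, hP₂⟩ := hF₁
  refine ⟨CochainComplex.mappingCone f, ⟨⟨max b₁ b₂, ?_⟩, ?_⟩, ⟨Triangle.π₃.mapIso eT⟩⟩
  · intro i hi
    exact isZero_coneX f i (i + 1) rfl (hb₁ _ (by omega)) (hb₂ _ (by omega))
  · intro i hi
    exact P_coneX f P hsum i (i + 1) rfl (hP₁ _ (by omega)) (hP₂ _ hi)

end T2

section T3

open Groth.Agent.Lib.Helper1.PCohFT Groth.Agent.Lib.Helper1.PCohLib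

variable {C : Type u} [Category.{v} C] [Abelian C] [HasDerivedCategory.{w} C]
  {P : ObjectProperty C} [P.IsClosedUnderIsomorphisms] [P.ContainsZero]
  (hsum : ∀ X Y : C, P X → P Y → P (X ⨯ Y))
  (hqs : PCoh.IsQuasiStableUnderKernels P) (hql : PCoh.IsQuasiLiftable P)

omit [P.IsClosedUnderIsomorphisms] [P.ContainsZero] in
lemma NPC.shift_neg_one {n : ℤ} {X : DerivedCategory C} (h : NPC P n X) :
    NPC P (n + 1) (X⟦(-1 : ℤ)⟧) := by
  have := h.shift (-1)
  have hn : n - -1 = n + 1 := by omega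
  rwa [hn] at this

include hsum hqs hql in
/-- If the first and third objects of a distinguished triangle are `n`-pseudo-coherent, so is the
second. -/
theorem NPC.ext₂ (T : Triangle (DerivedCategory C)) (hT : T ∈ distTriang _) (n : ℤ)
    (h₁ : NPC P n T.obj₁) (h₃ : NPC P n T.obj₃) : NPC P n T.obj₂ :=
  NPC.cone hsum hqs hql T.invRotate (inv_rot_of_distTriang T hT) n h₃.shift_neg_one h₁

include hsum hqs hql in
/-- If the second object is `(n+1)`-pseudo-coherent and the third is `n`-pseudo-coherent,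
the first is `(n+1)`-pseudo-coherent. -/
theorem NPC.fiber (T : Triangle (DerivedCategory C)) (hT : T ∈ distTriang _) (n : ℤ)
    (h₂ : NPC P (n + 1) T.obj₂) (h₃ : NPC P n T.obj₃) : NPC P (n + 1) T.obj₁ :=
  NPC.cone hsum hqs hql T.invRotate.invRotate
    (inv_rot_of_distTriang _ (inv_rot_of_distTriang T hT)) (n + 1) h₂.shift_neg_one
    h₃.shift_neg_one

end T3

end Groth.Agent.Lib.Helper1.PCohTri
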