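import Mathlib
import Groth.Agent.Lib.Helper1.PCohTri

/-!
# More on `n`-pseudo-coherence (SGA 6 I 2.3 - 2.9, punctual case)
-/

open CategoryTheory CategoryTheory.Limits HomologicalComplex CochainComplex DerivedCategory
open Pretriangulated CochainComplex.HomComplex ZeroObject

universe w v u

namespace Groth.Agent.Lib.Helper1.PCohMore

section M1

open Groth.Agent.Lib.Helper1.PCohFT Groth.Agent.Lib.Helper1.PCohLib
  Groth.Agent.Lib.Helper1.PCohCone Groth.Agent.Lib.Helper1.PCohTri

variable {C : Type u} [Category.{v} C] [Abelian C] [HasDerivedCategory.{w} C]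
  {P : ObjectProperty C} [P.IsClosedUnderIsomorphisms] [P.ContainsZero]
  (hsum : ∀ X Y : C, P X → P Y → P (X ⨯ Y))
  (hqs : PCoh.IsQuasiStableUnderKernels P) (hql : PCoh.IsQuasiLiftable P)

/-- If a strictly `n`-pseudo-coherent complex maps to `F₁` by an `n`-quasi-isomorphism (expressed by
exactness of the cocone in degrees `> n`), then `F₁` is `n`-pseudo-coherent. -/
lemma NPC.of_cocone_exact {n : ℤ} {G F₁ : CochainComplex C ℤ} (hG : PCoh.IsStrictPC P n G)
    (w : G ⟶ F₁) (hex : ∀ j, n < j → (mappingCocone w).ExactAt j) : NPC P n (Q.obj F₁) := by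
  obtain ⟨E', v, u', hvu, hqi, _, hiso⟩ := factor_of_cocone_exact w n hex
  have : IsIso (Q.map u') := (isIso_Q_map_iff_quasiIso (φ := u')).2 hqi
  obtain ⟨⟨b, hb⟩, hP⟩ := hG
  refine ⟨E', ⟨⟨max b n, fun i hi => ?_⟩, fun i hi => ?_⟩, ⟨asIso (Q.map u')⟩⟩
  · have := hiso i (by omega)
    exact IsZero.of_iso (hb i (by omega)) (asIso (v.f i)).symm
  · have := hiso i hi
    exact P.prop_of_iso (asIso (v.f i)) (hP i hi)

omit [HasDerivedCategory.{w} C] [P.IsClosedUnderIsomorphisms] [P.ContainsZero] in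
include hql in
/-- Lifting an epimorphism `N ⟶ H^n(F₁)` to a cycle, after refining `N` within `P`. -/
lemma exists_cycle_lift (F₁ : CochainComplex C ℤ) (n : ℤ) (N : C) (hN : P N)
    (π : N ⟶ F₁.homology n) [Epi π] :
    ∃ (N' : C) (z' : N' ⟶ F₁.cycles n), P N' ∧ Epi (z' ≫ F₁.homologyπ n) := by
  have hfst : Epi (pullback.fst π (F₁.homologyπ n)) := Abelian.epi_pullback_of_epi_g _ _
  obtain ⟨N', v, hN', hv⟩ := hql _ _ (pullback.fst π (F₁.homologyπ n)) hfst hN
  refine ⟨N', v ≫ pullback.snd π (F₁.homologyπ n), hN', ?_⟩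
  rw [Category.assoc, ← pullback.condition, ← Category.assoc]
  exact epi_comp _ _

omit [P.IsClosedUnderIsomorphisms] in
lemma strictPC_single (n : ℤ) (N : C) (hN : P N) [P.IsClosedUnderIsomorphisms] :
    PCoh.IsStrictPC P n ((single C (ComplexShape.up ℤ) n).obj N) :=
  ⟨⟨n, fun i hi => isZero_single_obj_X (ComplexShape.up ℤ) n N i (by omega)⟩,
    fun i _ => P_single_X P n N hN i⟩

include hql in
/-- If `F₁` is acyclic in degrees `> n` and `H^n(F₁)` is of finite type, `F₁` is
`n`-pseudo-coherent. -/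
lemma NPC.of_finiteType_top (F₁ : CochainComplex C ℤ) (n : ℤ)
    (hac : ∀ j, n < j → F₁.ExactAt j) (hft : PCoh.IsOfFiniteType P (F₁.homology n)) :
    NPC P n (Q.obj F₁) := by
  obtain ⟨N, π, hN, hπ⟩ := hft
  obtain ⟨N', z', hN', hz'⟩ := exists_cycle_lift hql F₁ n N hN π
  refine NPC.of_cocone_exact (strictPC_single n N' hN') (cellMap F₁ n N' z') ?_
  intro j hj
  refine cocone_exactAt _ (n + 1) ?_ n rfl (epi_homologyMap_cellMap F₁ n N' z' hz') j (by omega)
  intro i hi
  exact isIso_of_isZero_isZero _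
    ((exactAt_iff_isZero_homology _ _).1
      (exactAt_single_obj (ComplexShape.up ℤ) n N' i (by omega)))
    ((exactAt_iff_isZero_homology _ _).1 (hac i (by omega)))

end M1

section M2

open Groth.Agent.Lib.Helper1.PCohFT Groth.Agent.Lib.Helper1.PCohLib
  Groth.Agent.Lib.Helper1.PCohCone Groth.Agent.Lib.Helper1.PCohTri

variable {C : Type u} [Category.{v} C] [Abelian C]
  {P : ObjectProperty C} [P.IsClosedUnderIsomorphisms] [P.ContainsZero]
  (hqs : PCoh.IsQuasiStableUnderKernels P)

omit [P.IsClosedUnderIsomorphisms] [P.ContainsZero] in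
include hqs in
lemma finiteType_homology_of_strictPC {n : ℤ} {E : CochainComplex C ℤ}
    (hE : PCoh.IsStrictPC P n E) (hac : ∀ j, n < j → E.ExactAt j) :
    PCoh.IsOfFiniteType P (E.homology n) := by
  obtain ⟨⟨b, hb⟩, hP⟩ := hE
  have h1 := finiteType_kernel hqs E n b hb hP hac
  let e : kernel (E.d n (n + 1)) ≅ E.cycles n :=
    (IsLimit.conePointUniqueUpToIso (E.cyclesIsKernel n (n + 1) (by simp))
      (limit.isLimit _)).symm
  exact isOfFiniteType_of_epi P (E.homologyπ n) (isOfFiniteType_of_iso P e h1)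

variable [HasDerivedCategory.{w} C]

/-- transport of acyclicity from the derived category -/
lemma exactAt_of_isZero_homologyFunctor {E : CochainComplex C ℤ} {F : DerivedCategory C}
    (e : Q.obj E ≅ F) (j : ℤ) (h : IsZero ((DerivedCategory.homologyFunctor C j).obj F)) :
    E.ExactAt j := by
  rw [exactAt_iff_isZero_homology]
  exact IsZero.of_iso (IsZero.of_iso h ((DerivedCategory.homologyFunctor C j).mapIso e))
    ((DerivedCategory.homologyFunctorFactors C j).app E).symm

/-- the homology of a representative -/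
noncomputable def homologyIsoOfIso {E : CochainComplex C ℤ} {F : DerivedCategory C}
    (e : Q.obj E ≅ F) (j : ℤ) : E.homology j ≅ (DerivedCategory.homologyFunctor C j).obj F :=
  ((DerivedCategory.homologyFunctorFactors C j).app E).symm ≪≫
    (DerivedCategory.homologyFunctor C j).mapIso e

end M2

section M3

open Groth.Agent.Lib.Helper1.PCohFT Groth.Agent.Lib.Helper1.PCohLib
  Groth.Agent.Lib.Helper1.PCohCone Groth.Agent.Lib.Helper1.PCohTri

variable {C : Type u} [Category.{v} C] [Abelian C]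
  (P : ObjectProperty C) [P.IsClosedUnderIsomorphisms] [P.ContainsZero]
  (hsum : ∀ X Y : C, P X → P Y → P (X ⨯ Y))
  (hqs : PCoh.IsQuasiStableUnderKernels P) (hql : PCoh.IsQuasiLiftable P)

include hsum hqs hql in
/-- The inductive step, keeping track of a lower bound. -/
lemma step₂ {G E F : CochainComplex C ℤ} (w : G ⟶ E) (u : E ⟶ F) [QuasiIso u]
    (n bF m : ℤ) (hFb : ∀ j, bF < j → IsZero (F.X j)) (hFP : ∀ j, n ≤ j → P (F.X j))
    (hGP : ∀ j, P (G.X j)) (hGb : ∀ j, m ≤ j → IsZero (G.X j))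
    (c : ℤ) (hc : n ≤ c) (hcm : c < m) (hGl : ∀ j, j ≤ c → IsZero (G.X j))
    (hex : ∀ j, c + 1 < j → (mappingCocone w).ExactAt j) :
    ∃ (G' : CochainComplex C ℤ) (w' : G' ⟶ E), (∀ j, P (G'.X j)) ∧
      (∀ j, m ≤ j → IsZero (G'.X j)) ∧ (∀ j, j < c → IsZero (G'.X j)) ∧
      ∀ j, c < j → (mappingCocone w').ExactAt j := by
  obtain ⟨N, z', hN, hz⟩ := exists_cell P hsum hqs hql w u n bF (m - 1) hFb hFP hGP
    (fun j hj => hGb j (by omega)) c hc hex
  let D' := mappingCocone w
  let ψ := cellMap D' (c + 1) N z'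
  have hψ0 : Epi (homologyMap ψ (c + 1)) := epi_homologyMap_cellMap D' (c + 1) N z' hz
  have hψepi : ∀ i, c + 1 ≤ i → Epi (homologyMap ψ i) := by
    intro i hi
    rcases eq_or_lt_of_le hi with h | h
    · rw [← h]; exact hψ0
    · exact epi_of_isZero_tgt _ ((exactAt_iff_isZero_homology _ _).1 (hex i h))
  have hψmono : ∀ i, c + 1 < i → Mono (homologyMap ψ i) := by
    intro i hi
    exact mono_of_isZero_src _ ((exactAt_iff_isZero_homology _ _).1
      (exactAt_single_obj (ComplexShape.up ℤ) (c + 1) N i (by omega)))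
  refine ⟨att w ψ, attMap w ψ, ?_, ?_, ?_, ?_⟩
  · intro j
    exact P_coneX (attφ w ψ) P hsum j (j + 1) rfl (P_single_X P (c + 1) N hN (j + 1)) (hGP j)
  · intro j hj
    exact isZero_coneX (attφ w ψ) j (j + 1) rfl
      (isZero_single_obj_X (ComplexShape.up ℤ) (c + 1) N (j + 1) (by omega)) (hGb j hj)
  · intro j hj
    exact isZero_coneX (attφ w ψ) j (j + 1) rfl
      (isZero_single_obj_X (ComplexShape.up ℤ) (c + 1) N (j + 1) (by omega)) (hGl j (by omega))
  · intro j hj
    have hepi : ∀ i, c ≤ i → Epi (homologyMap (attMap w ψ) i) := by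
      intro i hi
      have := hψepi (i + 1) (by omega)
      exact att_epi w ψ i (i + 1) rfl
    have hmono : ∀ i, c + 1 ≤ i → Mono (homologyMap (attMap w ψ) i) := by
      intro i hi
      have := hψepi i hi
      have := hψmono (i + 1) (by omega)
      exact att_mono w ψ i (i + 1) rfl
    refine cocone_exactAt (attMap w ψ) (c + 1) ?_ c rfl (hepi c le_rfl) j (by omega)
    intro i hi
    have := hepi i (by omega)
    have := hmono i hi
    exact isIso_of_mono_of_epi _

include hsum hqs hql in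
lemma induction₂ {E F : CochainComplex C ℤ} (u : E ⟶ F) [QuasiIso u]
    (n bF m : ℤ) (hFb : ∀ j, bF < j → IsZero (F.X j)) (hFP : ∀ j, n ≤ j → P (F.X j))
    (hm : ∀ j, m ≤ j → E.ExactAt j) :
    ∀ k : ℕ, n - 1 ≤ m - 1 - k → ∃ (G : CochainComplex C ℤ) (w : G ⟶ E), (∀ j, P (G.X j)) ∧
      (∀ j, m ≤ j → IsZero (G.X j)) ∧ (∀ j, j ≤ m - 1 - k → IsZero (G.X j)) ∧
      ∀ j, m - 1 - k + 1 < j → (mappingCocone w).ExactAt j := by
  intro k
  induction k with
  | zero =>
    intro _
    refine ⟨0, 0, fun j => P.prop_of_isZero (isZero_zero_X j), fun j _ => isZero_zero_X j,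
      fun j _ => isZero_zero_X j, ?_⟩
    intro j hj
    exact base_exact E m hm j (by push_cast at hj; omega)
  | succ k ih =>
    intro hk
    push_cast at hk
    obtain ⟨G, w, hGP, hGb, hGl, hex⟩ := ih (by omega)
    obtain ⟨G', w', h1, h2, h2', h3⟩ := step₂ P hsum hqs hql w u n bF m hFb hFP hGP hGb
      (m - 1 - k) (by omega) (by omega) hGl hex
    refine ⟨G', w', h1, h2, ?_, ?_⟩
    · intro j hj
      exact h2' j (by push_cast at hj; omega)
    · intro j hj
      exact h3 j (by push_cast at hj; omega)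

include hsum hqs hql in
/-- A complex quasi-isomorphic to a strictly `n`-pseudo-coherent complex receives an
`n`-quasi-isomorphism from a strictly perfect complex (concentrated in `[n, max m n - 1]`). -/
theorem exists_perfect_nQuasiIso {E F : CochainComplex C ℤ} (u : E ⟶ F) [QuasiIso u]
    (n : ℤ) (hF : PCoh.IsStrictPC P n F) (m : ℤ) (hm : ∀ j, m ≤ j → E.ExactAt j) :
    ∃ (G : CochainComplex C ℤ) (w : G ⟶ E), (∀ j, P (G.X j)) ∧
      (∀ j, max m n ≤ j → IsZero (G.X j)) ∧ (∀ j, j < n → IsZero (G.X j)) ∧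
      ∀ j, n < j → (mappingCocone w).ExactAt j := by
  obtain ⟨⟨bF, hFb⟩, hFP⟩ := hF
  obtain ⟨G, w, hGP, hGb, hGl, hex⟩ := induction₂ P hsum hqs hql u n bF (max m n) hFb hFP
    (fun j hj => hm j (by omega)) (max m n - n).toNat (by omega)
  exact ⟨G, w, hGP, hGb, fun j hj => hGl j (by omega), fun j hj => hex j (by omega)⟩

end M3

section M4

open Groth.Agent.Lib.Helper1.PCohFT Groth.Agent.Lib.Helper1.PCohLib
  Groth.Agent.Lib.Helper1.PCohCone Groth.Agent.Lib.Helper1.PCohTri

variable {C : Type u} [Category.{v} C] [Abelian C]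

section

variable {E F : CochainComplex C ℤ} (u : E ⟶ F)

attribute [local instance] HasDerivedCategory.standard

set_option backward.isDefEq.respectTransparency false in
lemma epi_homologyMap_of_cocone_exact (i i' : ℤ) (hi : i + 1 = i')
    (h : (mappingCocone u).ExactAt i') : Epi (homologyMap u i) := by
  have hT := DerivedCategory.mappingCocone_triangle_distinguished u
  have e₃ := CochainComplex.homologyMap_exact₃_of_distTriang _ hT i i' hi
  exact e₃.epi_f (((exactAt_iff_isZero_homology _ _).1 h).eq_of_tgt _ _)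

set_option backward.isDefEq.respectTransparency false in
lemma mono_homologyMap_of_cocone_exact (i : ℤ)
    (h : (mappingCocone u).ExactAt i) : Mono (homologyMap u i) := by
  have hT := DerivedCategory.mappingCocone_triangle_distinguished u
  have e₂ := CochainComplex.homologyMap_exact₂_of_distTriang _ hT i
  exact e₂.mono_g (((exactAt_iff_isZero_homology _ _).1 h).eq_of_src _ _)

lemma isIso_homologyMap_of_cocone_exact (i i' : ℤ) (hi : i + 1 = i')
    (h : (mappingCocone u).ExactAt i) (h' : (mappingCocone u).ExactAt i') :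
    IsIso (homologyMap u i) := by
  have := epi_homologyMap_of_cocone_exact u i i' hi h'
  have := mono_homologyMap_of_cocone_exact u i h
  exact isIso_of_mono_of_epi _

end

section

variable [HasDerivedCategory.{w} C] {E F : CochainComplex C ℤ} (u : E ⟶ F)

lemma homologyFunctor_map_Q_map (i : ℤ) :
    (DerivedCategory.homologyFunctor C i).map (DerivedCategory.Q.map u) =
      (((DerivedCategory.homologyFunctorFactors C i).app E).hom ≫ homologyMap u i) ≫
        ((DerivedCategory.homologyFunctorFactors C i).app F).inv :=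
  (Iso.eq_comp_inv ((DerivedCategory.homologyFunctorFactors C i).app F)).2
    ((DerivedCategory.homologyFunctorFactors C i).hom.naturality u)

omit [Abelian C] [HasDerivedCategory.{w} C] in
lemma isIso_conj_iff {A B A' B' : C} (a : A' ≅ A) (b : B ≅ B') (f : A ⟶ B) :
    IsIso ((a.hom ≫ f) ≫ b.hom) ↔ IsIso f := by
  constructor
  · intro h
    have h1 : f = a.inv ≫ ((a.hom ≫ f) ≫ b.hom) ≫ b.inv := by simp
    rw [h1]
    infer_instance
  · intro h
    infer_instance

omit [Abelian C] [HasDerivedCategory.{w} C] in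
lemma epi_conj_iff {A B A' B' : C} (a : A' ≅ A) (b : B ≅ B') (f : A ⟶ B) :
    Epi ((a.hom ≫ f) ≫ b.hom) ↔ Epi f := by
  constructor
  · intro h
    have h1 : f = a.inv ≫ ((a.hom ≫ f) ≫ b.hom) ≫ b.inv := by simp
    rw [h1]
    infer_instance
  · intro h
    infer_instance

lemma isIso_homologyFunctor_map_Q_map_iff (i : ℤ) :
    IsIso ((DerivedCategory.homologyFunctor C i).map (DerivedCategory.Q.map u)) ↔
      IsIso (homologyMap u i) := by
  rw [homologyFunctor_map_Q_map]
  exact isIso_conj_iff ((DerivedCategory.homologyFunctorFactors C i).app E)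
    ((DerivedCategory.homologyFunctorFactors C i).app F).symm (homologyMap u i)

lemma epi_homologyFunctor_map_Q_map_iff (i : ℤ) :
    Epi ((DerivedCategory.homologyFunctor C i).map (DerivedCategory.Q.map u)) ↔
      Epi (homologyMap u i) := by
  rw [homologyFunctor_map_Q_map]
  exact epi_conj_iff ((DerivedCategory.homologyFunctorFactors C i).app E)
    ((DerivedCategory.homologyFunctorFactors C i).app F).symm (homologyMap u i)

end

end M4

section M5

open Groth.Agent.Lib.Helper1.PCohFT Groth.Agent.Lib.Helper1.PCohLib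
  Groth.Agent.Lib.Helper1.PCohCone Groth.Agent.Lib.Helper1.PCohTri

variable {C : Type u} [Category.{v} C] [Abelian C] [HasDerivedCategory.{w} C]
  {P : ObjectProperty C} [P.IsClosedUnderIsomorphisms] [P.ContainsZero]
  (hsum : ∀ X Y : C, P X → P Y → P (X ⨯ Y))
  (hqs : PCoh.IsQuasiStableUnderKernels P) (hql : PCoh.IsQuasiLiftable P)

omit [P.IsClosedUnderIsomorphisms] [P.ContainsZero] in
/-- An `n`-pseudo-coherent object has bounded above cohomology. -/
lemma NPC.exists_bound {n : ℤ} {X : DerivedCategory C} (h : NPC P n X) :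
    ∃ b : ℤ, ∀ i, b < i → IsZero ((DerivedCategory.homologyFunctor C i).obj X) := by
  obtain ⟨E, ⟨⟨b, hb⟩, _⟩, ⟨e⟩⟩ := h
  refine ⟨b, fun i hi => ?_⟩
  have h1 : E.ExactAt i := ShortComplex.exact_of_isZero_X₂ _ (hb i hi)
  rw [exactAt_iff_isZero_homology] at h1
  exact IsZero.of_iso h1 (homologyIsoOfIso e i).symm

/-- An object with cohomology vanishing in degrees `> b` is `m`-pseudo-coherent for `m > b`. -/
lemma NPC.of_bound {X : DerivedCategory C} (b : ℤ)
    (hb : ∀ i, b < i → IsZero ((DerivedCategory.homologyFunctor C i).obj X)) (m : ℤ)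
    (hm : b < m) : NPC P m X := by
  let E₀ := Q.objPreimage X
  let e : Q.obj E₀ ≅ X := Q.objObjPreimageIso X
  have hLE : E₀.IsLE b := by
    rw [CochainComplex.isLE_iff]
    exact fun i hi => exactAt_of_isZero_homologyFunctor e i (hb i hi)
  have hqi : QuasiIso (E₀.ιTruncLE b) := inferInstance
  have hiso : IsIso (Q.map (E₀.ιTruncLE b)) := (isIso_Q_map_iff_quasiIso (φ := E₀.ιTruncLE b)).2 hqi
  refine ⟨E₀.truncLE b, ⟨⟨b, fun i hi => (E₀.truncLE b).isZero_of_isStrictlyLE b i hi⟩,
    fun i hi => P.prop_of_isZero ((E₀.truncLE b).isZero_of_isStrictlyLE b i (by omega))⟩,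
    ⟨asIso (Q.map (E₀.ιTruncLE b)) ≪≫ e⟩⟩

omit [P.IsClosedUnderIsomorphisms] [P.ContainsZero] in
/-- Vanishing of cohomology passes to retracts. -/
lemma isZero_homology_of_retract {X Y : DerivedCategory C} (i : X ⟶ Y) (r : Y ⟶ X)
    (hir : i ≫ r = 𝟙 X) (j : ℤ) (h : IsZero ((DerivedCategory.homologyFunctor C j).obj Y)) :
    IsZero ((DerivedCategory.homologyFunctor C j).obj X) := by
  rw [IsZero.iff_id_eq_zero, ← CategoryTheory.Functor.map_id, ← hir, Functor.map_comp,
    h.eq_of_tgt ((DerivedCategory.homologyFunctor C j).map i) 0, zero_comp]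

end M5

section M6

open Groth.Agent.Lib.Helper1.PCohFT Groth.Agent.Lib.Helper1.PCohLib
  Groth.Agent.Lib.Helper1.PCohCone Groth.Agent.Lib.Helper1.PCohTri

variable {C : Type u} [Category.{v} C] [Abelian C] [HasDerivedCategory.{w} C]
  {P : ObjectProperty C} [P.IsClosedUnderIsomorphisms] [P.ContainsZero]
  (hsum : ∀ X Y : C, P X → P Y → P (X ⨯ Y))
  (hqs : PCoh.IsQuasiStableUnderKernels P) (hql : PCoh.IsQuasiLiftable P)

include hsum hqs hql in
lemma NPC.biprod {n : ℤ} {X Y : DerivedCategory C} (hX : NPC P n X) (hY : NPC P n Y) :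
    NPC P n (X ⊞ Y) :=
  NPC.ext₂ hsum hqs hql (binaryBiproductTriangle X Y) (binaryBiproductTriangle_distinguished X Y)
    n hX hY

include hsum hqs hql in
lemma NPC.of_biprod_aux {n : ℤ} {X Y : DerivedCategory C} (h : NPC P n (X ⊞ Y)) (b : ℤ)
    (hbX : ∀ i, b < i → IsZero ((DerivedCategory.homologyFunctor C i).obj X))
    (hbY : ∀ i, b < i → IsZero ((DerivedCategory.homologyFunctor C i).obj Y)) :
    ∀ k : ℕ, n ≤ b + 1 - k → NPC P (b + 1 - k) X ∧ NPC P (b + 1 - k) Y := by
  intro k
  induction k with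
  | zero =>
    intro _
    exact ⟨NPC.of_bound b hbX _ (by simp), NPC.of_bound b hbY _ (by simp)⟩
  | succ k ih =>
    intro hk
    push_cast at hk
    obtain ⟨hX, hY⟩ := ih (by omega)
    have hm : b + 1 - (k : ℤ) = (b + 1 - ((k + 1 : ℕ) : ℤ)) + 1 := by push_cast; omega
    rw [hm] at hX hY
    have hG : NPC P (b + 1 - ((k + 1 : ℕ) : ℤ)) (X ⊞ Y) := h.mono (by push_cast; omega)
    constructor
    · have hG' : NPC P (b + 1 - ((k + 1 : ℕ) : ℤ)) (Y ⊞ X) := hG.of_iso (biprod.braiding X Y)
      exact NPC.cone hsum hqs hql (binaryBiproductTriangle Y X)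
        (binaryBiproductTriangle_distinguished Y X) _ hY hG'
    · exact NPC.cone hsum hqs hql (binaryBiproductTriangle X Y)
        (binaryBiproductTriangle_distinguished X Y) _ hX hG

include hsum hqs hql in
lemma NPC.of_biprod {n : ℤ} {X Y : DerivedCategory C} (h : NPC P n (X ⊞ Y)) :
    NPC P n X ∧ NPC P n Y := by
  obtain ⟨b, hb⟩ := NPC.exists_bound h
  have hbX : ∀ i, b < i → IsZero ((DerivedCategory.homologyFunctor C i).obj X) := fun i hi =>
    isZero_homology_of_retract (biprod.inl : X ⟶ X ⊞ Y) biprod.fst (by simp) i (hb i hi)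
  have hbY : ∀ i, b < i → IsZero ((DerivedCategory.homologyFunctor C i).obj Y) := fun i hi =>
    isZero_homology_of_retract (biprod.inr : Y ⟶ X ⊞ Y) biprod.snd (by simp) i (hb i hi)
  by_cases hn : n ≤ b + 1
  · have := NPC.of_biprod_aux hsum hqs hql h b hbX hbY (b + 1 - n).toNat (by omega)
    have e : b + 1 - ((b + 1 - n).toNat : ℤ) = n := by omega
    rwa [e] at this
  · exact ⟨NPC.of_bound b hbX n (by omega), NPC.of_bound b hbY n (by omega)⟩

include hsum hqs hql in
/-- Version for an arbitrary binary bicone which is a bilimit. -/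
lemma NPC.bilimit_iff {n : ℤ} {X Y : DerivedCategory C} (c : BinaryBicone X Y)
    (hc : c.IsBilimit) : NPC P n c.pt ↔ NPC P n X ∧ NPC P n Y := by
  let e : c.pt ≅ X ⊞ Y := biprod.uniqueUpToIso X Y hc
  constructor
  · intro h
    exact NPC.of_biprod hsum hqs hql (h.of_iso e)
  · rintro ⟨hX, hY⟩
    exact (NPC.biprod hsum hqs hql hX hY).of_iso e.symm

end M6

end Groth.Agent.Lib.Helper1.PCohMore
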