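import Mathlib
import Groth.Agent.Lib.Helper1.PCohMore

/-!
# Dévissage of bounded above complexes by removing the top term
-/

open CategoryTheory CategoryTheory.Limits HomologicalComplex CochainComplex DerivedCategory
open Pretriangulated

universe w v u

namespace Groth.Agent.Lib.Helper1.PCohDev

section D1

variable {C : Type u} [Category.{v} C] [Abelian C]

section

variable (F : CochainComplex C ℤ) (c : ℤ) (hF : ∀ i, c < i → IsZero (F.X i))

/-- The inclusion of the top term of a complex vanishing above degree `c`. -/
noncomputable def topι : (single C (ComplexShape.up ℤ) c).obj (F.X c) ⟶ F :=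
  mkHomFromSingle (𝟙 (F.X c)) (fun l hl => (hF l (by simp at hl; omega)).eq_of_tgt _ _)

lemma topι_f_self : (topι F c hF).f c = (singleObjXSelf (ComplexShape.up ℤ) c (F.X c)).hom := by
  simp [topι]

instance : Mono (topι F c hF) := by
  apply (config := { allowSynthFailures := true }) HomologicalComplex.mono_of_mono_f
  intro j
  by_cases h : j = c
  · subst h
    rw [topι_f_self]
    infer_instance
  · exact ⟨fun g g' _ => (isZero_single_obj_X (ComplexShape.up ℤ) c (F.X c) j h).eq_of_tgt g g'⟩

/-- The complex obtained by removing the top term. -/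
noncomputable def removeTop : CochainComplex C ℤ := cokernel (topι F c hF)

noncomputable def removeTopπ : F ⟶ removeTop F c hF := cokernel.π _

lemma removeTop_shortExact :
    (ShortComplex.mk (topι F c hF) (removeTopπ F c hF) (cokernel.condition _)).ShortExact where
  exact := ShortComplex.exact_of_g_is_cokernel _ (cokernelIsCokernel _)
  mono_f := inferInstanceAs (Mono (topι F c hF))
  epi_g := inferInstanceAs (Epi (cokernel.π (topι F c hF)))

/-- termwise description -/
noncomputable def removeTopXIso' (j : ℤ) :
    (removeTop F c hF).X j ≅ cokernel ((topι F c hF).f j) :=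
  PreservesCokernel.iso (HomologicalComplex.eval C (ComplexShape.up ℤ) j) (topι F c hF)

noncomputable def removeTopXIso (j : ℤ) (hj : j ≠ c) : (removeTop F c hF).X j ≅ F.X j :=
  removeTopXIso' F c hF j ≪≫
    cokernelIsoOfEq ((isZero_single_obj_X (ComplexShape.up ℤ) c (F.X c) j hj).eq_of_src _ 0) ≪≫
    cokernelZeroIsoTarget

lemma isZero_removeTop_X (j : ℤ) (hj : c ≤ j) : IsZero ((removeTop F c hF).X j) := by
  rcases eq_or_lt_of_le hj with h | h
  · subst h
    refine IsZero.of_iso ?_ (removeTopXIso' F c hF c)
    have : Epi ((topι F c hF).f c) := by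
      rw [topι_f_self]
      infer_instance
    exact isZero_cokernel_of_epi _
  · exact IsZero.of_iso (hF j h) (removeTopXIso F c hF j (by omega))

end

end D1

section D2

open Groth.Agent.Lib.Helper1.PCohFT Groth.Agent.Lib.Helper1.PCohLib
  Groth.Agent.Lib.Helper1.PCohCone Groth.Agent.Lib.Helper1.PCohTri
  Groth.Agent.Lib.Helper1.PCohMore

variable {C : Type u} [Category.{v} C] [Abelian C] [HasDerivedCategory.{w} C]
  {P : ObjectProperty C} [P.IsClosedUnderIsomorphisms] [P.ContainsZero]
  (hsum : ∀ X Y : C, P X → P Y → P (X ⨯ Y))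
  (hqs : PCoh.IsQuasiStableUnderKernels P) (hql : PCoh.IsQuasiLiftable P)

omit [P.IsClosedUnderIsomorphisms] [P.ContainsZero] in
/-- `X[-c]` as a shift of `X[0]`. -/
noncomputable def singleShiftIso (X : C) (c : ℤ) :
    ((DerivedCategory.singleFunctor C 0).obj X)⟦-c⟧ ≅ (DerivedCategory.singleFunctor C c).obj X :=
  ((DerivedCategory.singleFunctors C).shiftIso (-c) c 0 (by omega)).app X

omit [P.IsClosedUnderIsomorphisms] [P.ContainsZero] in
lemma NPC.single_of {n c : ℤ} {X : C} (h : NPC P (n - c) ((DerivedCategory.singleFunctor C 0).obj X)) :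
    NPC P n ((DerivedCategory.singleFunctor C c).obj X) := by
  have h' := h.shift (-c)
  have e : n - c - -c = n := by omega
  rw [e] at h'
  exact h'.of_iso (singleShiftIso X c)

lemma NPC.of_isZero {n : ℤ} {X : DerivedCategory C} (h : IsZero X) : NPC P n X :=
  NPC.of_bound (n - 1) (fun i _ => (DerivedCategory.homologyFunctor C i).map_isZero h) n
    (by omega)

include hsum hqs hql in
/-- Dévissage: a bounded above complex whose terms `F^i` (`i ≥ n`) are `(n - i)`-pseudo-coherent
is `n`-pseudo-coherent. -/
lemma devissage (n : ℤ) : ∀ (k : ℕ) (F : CochainComplex C ℤ),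
    (∀ i, n - 1 + k < i → IsZero (F.X i)) →
    (∀ i, n ≤ i → NPC P (n - i) ((DerivedCategory.singleFunctor C 0).obj (F.X i))) → NPC P n (Q.obj F) := by
  intro k
  induction k with
  | zero =>
    intro F hF _
    exact ⟨F, ⟨⟨n - 1, fun i hi => hF i (by simpa using hi)⟩,
      fun i hi => P.prop_of_isZero (hF i (by simp; omega))⟩, ⟨Iso.refl _⟩⟩
  | succ k ih =>
    intro F hF hfp
    have hF' : ∀ i, n + k < i → IsZero (F.X i) := fun i hi => hF i (by push_cast; omega)
    have hS := removeTop_shortExact F (n + k) hF'
    have hT := DerivedCategory.triangleOfSES_distinguished hS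
    refine NPC.ext₂ hsum hqs hql _ hT n ?_ ?_
    · exact NPC.single_of (hfp (n + k) (by omega))
    · refine ih (removeTop F (n + k) hF') ?_ ?_
      · intro i hi
        exact isZero_removeTop_X F (n + k) hF' i (by omega)
      · intro i hi
        by_cases hik : n + k ≤ i
        · exact NPC.of_isZero ((DerivedCategory.singleFunctor C 0).map_isZero
            (isZero_removeTop_X F (n + k) hF' i hik))
        · exact (hfp i hi).of_iso
            ((DerivedCategory.singleFunctor C 0).mapIso (removeTopXIso F (n + k) hF' i (by omega)).symm)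

end D2

end Groth.Agent.Lib.Helper1.PCohDev
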