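import Mathlib
import Groth.Agent.Lib.Helper1.PCohDev

/-!
# Pseudo-coherent objects of an abelian category (placed in degree `0`)
-/

open CategoryTheory CategoryTheory.Limits HomologicalComplex CochainComplex DerivedCategory
open Pretriangulated

universe w v u

namespace Groth.Agent.Lib.Helper1.PCohDev

open Groth.Agent.Lib.Helper1.PCohFT Groth.Agent.Lib.Helper1.PCohLib
  Groth.Agent.Lib.Helper1.PCohCone Groth.Agent.Lib.Helper1.PCohTri
  Groth.Agent.Lib.Helper1.PCohMore

section D3

variable {C : Type u} [Category.{v} C] [Abelian C]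

/-- Descending induction for `ℕ`-indexed cochain complexes. -/
lemma P_kernel_d_nat (Pk : C → Prop) (hiso : ∀ X Y : C, (X ≅ Y) → Pk X → Pk Y)
    (hzero : ∀ X : C, IsZero X → Pk X)
    (hst : ∀ (E F : C) (u : E ⟶ F), Epi u → Pk E → Pk F → Pk (kernel u))
    (K : CochainComplex C ℕ) (n₀ : ℕ) (hK : ∀ i, 2 ≤ i → K.ExactAt i)
    (hb : ∀ i, n₀ < i → IsZero (K.X i)) (hP : ∀ i, 1 ≤ i → Pk (K.X i)) :
    ∀ (k : ℕ) (i : ℕ), n₀ < i + k → 1 ≤ i → Pk (kernel (K.d i (i + 1))) := by
  intro k
  induction k with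
  | zero =>
    intro i hi _
    exact hzero _ (IsZero.of_mono (kernel.ι _) (hb i (by simpa using hi)))
  | succ k ih =>
    intro i hi hai
    have h1 : Pk (kernel (K.d (i + 1) (i + 1 + 1))) := ih (i + 1) (by omega) (by omega)
    let L : K.X i ⟶ kernel (K.d (i + 1) (i + 1 + 1)) :=
      kernel.lift _ (K.d i (i + 1)) (K.d_comp_d _ _ _)
    have hex : (K.sc' i (i + 1) (i + 1 + 1)).Exact :=
      (K.exactAt_iff' i (i + 1) (i + 1 + 1) (by simp) (by simp)).1 (hK (i + 1) (by omega))
    have hL : Epi L := hex.epi_kernelLift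
    have h2 : Pk (kernel L) := hst _ _ L hL (hP i hai) h1
    have h3 : L ≫ kernel.ι _ = K.d i (i + 1) := kernel.lift_ι _ _ _
    exact hiso _ _ ((kernelCompMono L (kernel.ι _)).symm ≪≫ kernelIsoOfEq h3) h2

/-- In an exact `ℕ`-indexed complex, `K.X 0` is the kernel of `K.d 1 2`. -/
noncomputable def X_zero_iso_kernel (K : CochainComplex C ℕ) (h0 : K.ExactAt 0) (h1 : K.ExactAt 1) :
    K.X 0 ≅ kernel (K.d 1 2) := by
  let M : K.X 0 ⟶ kernel (K.d 1 2) := kernel.lift _ (K.d 0 1) (K.d_comp_d _ _ _)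
  have hex1 : (K.sc' 0 1 2).Exact := (K.exactAt_iff' 0 1 2 (by simp) (by simp)).1 h1
  have hM : Epi M := hex1.epi_kernelLift
  have hex0 : (K.sc' 0 0 1).Exact := (K.exactAt_iff' 0 0 1 (by simp) (by simp)).1 h0
  have hmono : Mono (K.d 0 1) := hex0.mono_g (K.shape 0 0 (by simp))
  have hM' : Mono M := by
    have : Mono (M ≫ kernel.ι _) := by
      rw [kernel.lift_ι]
      exact hmono
    exact mono_of_mono M (kernel.ι _)
  have : IsIso M := isIso_of_mono_of_epi M
  exact asIso M

end D3

section D4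

variable {C : Type u} [Category.{v} C] [Abelian C] [HasDerivedCategory.{w} C]
  (P : ObjectProperty C)

/-- An object of `C` is pseudo-coherent if it is so when placed in degree `0`. -/
def PCobj (X : C) : Prop := ∀ m : ℤ, NPC P m ((DerivedCategory.singleFunctor C 0).obj X)

lemma PCobj_iff (X : C) : PCobj P X ↔ PCoh.IsPC P ((DerivedCategory.singleFunctor C 0).obj X) :=
  Iff.rfl

variable {P}

lemma PCobj.of_iso {X Y : C} (e : X ≅ Y) (h : PCobj P X) : PCobj P Y :=
  fun m => (h m).of_iso ((DerivedCategory.singleFunctor C 0).mapIso e)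

variable [P.IsClosedUnderIsomorphisms] [P.ContainsZero]

lemma PCobj.of_isZero {X : C} (h : IsZero X) : PCobj P X :=
  fun _ => NPC.of_isZero ((DerivedCategory.singleFunctor C 0).map_isZero h)

variable (hsum : ∀ X Y : C, P X → P Y → P (X ⨯ Y))
  (hqs : PCoh.IsQuasiStableUnderKernels P) (hql : PCoh.IsQuasiLiftable P)

include hqs in
lemma PCobj.finiteType {X : C} (h : PCobj P X) : PCoh.IsOfFiniteType P X := by
  obtain ⟨E, hE, ⟨e⟩⟩ := h 0
  have hac : ∀ j, (0 : ℤ) < j → E.ExactAt j := by
    intro j hj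
    apply exactAt_of_isZero_homologyFunctor e j
    exact ((DerivedCategory.singleFunctor C 0).obj X).isZero_of_isLE 0 j hj
  have h1 := finiteType_homology_of_strictPC hqs hE hac
  have e2 : E.homology 0 ≅ X :=
    homologyIsoOfIso e 0 ≪≫
      ((DerivedCategory.homologyFunctorFactors C 0).app
        ((HomologicalComplex.single C (ComplexShape.up ℤ) 0).obj X)) ≪≫
      HomologicalComplex.singleObjHomologySelfIso (ComplexShape.up ℤ) 0 X
  exact isOfFiniteType_of_iso P e2 h1

include hsum hqs hql in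
lemma PCobj.kernel {E F : C} (u : E ⟶ F) [Epi u] (hE : PCobj P E) (hF : PCobj P F) :
    PCobj P (kernel u) := by
  intro m
  let S : ShortComplex C := ShortComplex.mk (kernel.ι u) u (kernel.condition u)
  have hS : S.ShortExact :=
    { exact := ShortComplex.exact_of_f_is_kernel _ (kernelIsKernel u)
      mono_f := by dsimp [S]; infer_instance
      epi_g := by dsimp [S]; infer_instance }
  have h := NPC.fiber hsum hqs hql _ hS.singleTriangle_distinguished (m - 1)
    (by simpa using hE (m - 1 + 1)) (by simpa using hF (m - 1))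
  have e : m - 1 + 1 = m := by omega
  rw [e] at h
  exact h

end D4

section B1

variable {C : Type u} [Category.{v} C] [Abelian C] [HasDerivedCategory.{w} C]

set_option backward.defeqAttrib.useBackward true in
set_option backward.isDefEq.respectTransparency false in
/-- The truncation triangle of a complex strictly `≤ c` : data. -/
lemma exists_trunc_triangle (F : DerivedCategory C) (c : ℤ)
    (hF : ∀ i, c < i → IsZero ((DerivedCategory.homologyFunctor C i).obj F)) :
    ∃ (T : Triangle (DerivedCategory C)) (_ : T ∈ distTriang _) (Y : C),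
      Nonempty (T.obj₂ ≅ F) ∧ Nonempty (T.obj₃ ≅ (DerivedCategory.singleFunctor C c).obj Y) ∧
      Nonempty (Y ≅ (DerivedCategory.homologyFunctor C c).obj F) ∧
      (∀ i, c - 1 < i → IsZero ((DerivedCategory.homologyFunctor C i).obj T.obj₁)) ∧
      (∀ i, i < c → Nonempty ((DerivedCategory.homologyFunctor C i).obj T.obj₁ ≅
        (DerivedCategory.homologyFunctor C i).obj F)) := by
  have hLE : F.IsLE c := (DerivedCategory.isLE_iff F c).2 hF
  obtain ⟨K, hK, ⟨e⟩⟩ := F.exists_iso_Q_obj_of_isLE c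
  have hS := K.shortComplexTruncLE_shortExact (c - 1)
  have hc : c - 1 + 1 = c := by omega
  have hφ : IsIso (Q.map (K.shortComplexTruncLEX₃ToTruncGE (c - 1) c hc)) := inferInstance
  obtain ⟨Y, ⟨eY⟩⟩ := CochainComplex.exists_iso_single (K.truncGE c) c
  have hq : QuasiIsoAt (K.πTruncGE c) c := inferInstance
  rw [quasiIsoAt_iff_isIso_homologyMap] at hq
  refine ⟨triangleOfSES hS, triangleOfSES_distinguished hS, Y, ⟨e.symm⟩,
    ⟨asIso (Q.map (K.shortComplexTruncLEX₃ToTruncGE (c - 1) c hc)) ≪≫ Q.mapIso eY ≪≫ ((DerivedCategory.singleFunctorIsoCompQ C c).app Y).symm⟩,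
    ⟨?_⟩, ?_, ?_⟩
  · exact (HomologicalComplex.singleObjHomologySelfIso (ComplexShape.up ℤ) c Y).symm ≪≫
      (HomologicalComplex.homologyFunctor C _ c).mapIso eY.symm ≪≫
      (asIso (HomologicalComplex.homologyMap (K.πTruncGE c) c)).symm ≪≫
      homologyIsoOfIso e.symm c
  · intro i hi
    have h1 : (K.truncLE (c - 1)).ExactAt i :=
      ShortComplex.exact_of_isZero_X₂ _ ((K.truncLE (c - 1)).isZero_of_isStrictlyLE (c - 1) i hi)
    rw [exactAt_iff_isZero_homology] at h1
    exact IsZero.of_iso h1 ((DerivedCategory.homologyFunctorFactors C i).app _)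
  · intro i hi
    have hq' : QuasiIsoAt (K.ιTruncLE (c - 1)) i := K.quasiIsoAt_ιTruncLE (c - 1) i (by omega)
    rw [quasiIsoAt_iff_isIso_homologyMap] at hq'
    exact ⟨(DerivedCategory.homologyFunctorFactors C i).app _ ≪≫
      @asIso _ _ _ _ (HomologicalComplex.homologyMap (K.ιTruncLE (c - 1)) i) hq' ≪≫
      homologyIsoOfIso e.symm i⟩

variable {P : ObjectProperty C} [P.IsClosedUnderIsomorphisms] [P.ContainsZero]
  (hsum : ∀ X Y : C, P X → P Y → P (X ⨯ Y))
  (hqs : PCoh.IsQuasiStableUnderKernels P) (hql : PCoh.IsQuasiLiftable P)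

include hsum hqs hql in
/-- Bounded above object whose cohomology objects `H^i` (`i ≥ n`) are `(n - i)`-pseudo-coherent
is `n`-pseudo-coherent. -/
lemma NPC.of_homology (n : ℤ) : ∀ (k : ℕ) (F : DerivedCategory C),
    (∀ i, n - 1 + k < i → IsZero ((DerivedCategory.homologyFunctor C i).obj F)) →
    (∀ i, n ≤ i → NPC P (n - i)
      ((DerivedCategory.singleFunctor C 0).obj ((DerivedCategory.homologyFunctor C i).obj F))) →
    NPC P n F := by
  intro k
  induction k with
  | zero =>
    intro F hF _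
    exact NPC.of_bound (n - 1) (fun i hi => hF i (by simpa using hi)) n (by omega)
  | succ k ih =>
    intro F hF hH
    obtain ⟨T, hT, Y, ⟨e₂⟩, ⟨e₃⟩, ⟨eY⟩, h₁, h₁'⟩ := exists_trunc_triangle F (n + k)
      (fun i hi => hF i (by push_cast; omega))
    have hn₃ : NPC P n T.obj₃ := by
      have h1 := hH (n + k) (by omega)
      have h2 : NPC P (n - (n + k)) ((DerivedCategory.singleFunctor C 0).obj Y) :=
        h1.of_iso ((DerivedCategory.singleFunctor C 0).mapIso eY.symm)
      exact (NPC.single_of h2).of_iso e₃.symm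
    have hn₁ : NPC P n T.obj₁ := by
      apply ih
      · intro i hi
        exact h₁ i (by omega)
      · intro i hi
        by_cases hic : i < n + k
        · obtain ⟨e⟩ := h₁' i hic
          exact (hH i hi).of_iso ((DerivedCategory.singleFunctor C 0).mapIso e.symm)
        · exact NPC.of_isZero ((DerivedCategory.singleFunctor C 0).map_isZero (h₁ i (by omega)))
    exact (NPC.ext₂ hsum hqs hql T hT n hn₁ hn₃).of_iso e₂

end B1

end Groth.Agent.Lib.Helper1.PCohDev
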