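import Mathlib
import Groth.Agent.Lib.Helper1.PCohObj

/-!
# Perfect amplitude: auxiliary lemmas
-/

open CategoryTheory CategoryTheory.Limits HomologicalComplex CochainComplex DerivedCategory
open Pretriangulated

universe w v u

namespace Groth.Agent.Lib.Helper1.PCohAmp

open Groth.Agent.Lib.Helper1.PCohFT Groth.Agent.Lib.Helper1.PCohLib
  Groth.Agent.Lib.Helper1.PCohCone Groth.Agent.Lib.Helper1.PCohTri
  Groth.Agent.Lib.Helper1.PCohMore Groth.Agent.Lib.Helper1.PCohDev

variable {C : Type u} [Category.{v} C] [Abelian C]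

lemma isZero_biprod {X Y : C} (hX : IsZero X) (hY : IsZero Y) : IsZero (X ⊞ Y) := by
  rw [IsZero.iff_id_eq_zero]
  apply biprod.hom_ext'
  · exact hX.eq_of_src _ _
  · exact hY.eq_of_src _ _

variable {P : ObjectProperty C} [P.IsClosedUnderIsomorphisms] [P.ContainsZero]

lemma quasiLiftable_of_lift (hlift : ∀ (E F : C) (u : E ⟶ F), Epi u → P F → IsSplitEpi u) :
    PCoh.IsQuasiLiftable P := by
  intro E F u hu hF
  have := hlift E F u hu hF
  refine ⟨F, section_ u, hF, ?_⟩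
  rw [IsSplitEpi.id]
  infer_instance

lemma quasiStable_of_stable
    (hst : ∀ (E F : C) (u : E ⟶ F), Epi u → P E → P F → P (kernel u)) :
    PCoh.IsQuasiStableUnderKernels P := by
  intro K hK ⟨n₀, hb⟩ hP
  have h1 : P (kernel (K.d 1 (1 + 1))) :=
    P_kernel_d_nat P (fun X Y e h => P.prop_of_iso e h) (fun X h => P.prop_of_isZero h)
      hst K n₀ (fun i _ => hK i) hb hP n₀ 1 (by omega) le_rfl
  have h2 : P (K.X 0) := P.prop_of_iso (X_zero_iso_kernel K (hK 0) (hK 1)).symm h1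
  exact ⟨K.X 0, 𝟙 _, h2, inferInstance⟩

variable [HasDerivedCategory.{w} C]

/-- The canonical truncation `τ_{≥ a}` of a strictly `a`-pseudo-coherent complex which is acyclic
in degrees `< a`. -/
lemma exists_truncGE_repr (a b : ℤ) (hab : a ≤ b) (E₁ : CochainComplex C ℤ) (hE₁ : PCoh.IsStrictPC P a E₁)
    (hv : ∀ i, b < i → IsZero (E₁.X i)) (hex : ∀ i, i < a → E₁.ExactAt i) :
    ∃ T : CochainComplex C ℤ, (∀ i, a < i → P (T.X i)) ∧ (∀ i, i < a ∨ b < i → IsZero (T.X i)) ∧
      Nonempty (Q.obj T ≅ Q.obj E₁) := by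
  have hGE : E₁.IsGE a := by
    rw [CochainComplex.isGE_iff]
    exact hex
  have hqi : QuasiIso (E₁.πTruncGE a) := inferInstance
  have hiso : IsIso (Q.map (E₁.πTruncGE a)) :=
    (isIso_Q_map_iff_quasiIso (φ := E₁.πTruncGE a)).2 hqi
  refine ⟨E₁.truncGE a, fun i hi => ?_, fun i hi => ?_, ⟨(asIso (Q.map (E₁.πTruncGE a))).symm⟩⟩
  · exact P.prop_of_iso (E₁.truncGEXIso a i hi).symm (hE₁.2 i hi.le)
  · rcases hi with hi | hi
    · exact (E₁.truncGE a).isZero_of_isStrictlyGE a i hi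
    · by_cases hia : a < i
      · exact IsZero.of_iso (hv i hi) (E₁.truncGEXIso a i hia)
      · exact (E₁.truncGE a).isZero_of_isStrictlyGE a i (by omega)

end Groth.Agent.Lib.Helper1.PCohAmp
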