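import Mathlib
import Groth.Agent.Lib.Helper1.PCohObj

/-!
# `C₀`-coherent objects (SGA 6 I, punctual case)
-/

open CategoryTheory CategoryTheory.Limits HomologicalComplex CochainComplex DerivedCategory
open Pretriangulated

universe w v u

namespace Groth.Agent.Lib.Helper1.PCohCoh

open Groth.Agent.Lib.Helper1.PCohFT Groth.Agent.Lib.Helper1.PCohLib
  Groth.Agent.Lib.Helper1.PCohCone Groth.Agent.Lib.Helper1.PCohTri
  Groth.Agent.Lib.Helper1.PCohMore Groth.Agent.Lib.Helper1.PCohDev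

section H1

variable {C : Type u} [Category.{v} C] [Abelian C] (P : ObjectProperty C)

/-- `X` is `C₀`-coherent. -/
def Coh (X : C) : Prop :=
  PCoh.IsOfFiniteType P X ∧ ∀ (E : C) (u : E ⟶ X), P E → PCoh.IsOfFiniteType P (kernel u)

variable {P}

lemma Coh.of_mono {X Y : C} (i : Y ⟶ X) [Mono i] (hX : Coh P X) (hY : PCoh.IsOfFiniteType P Y) :
    Coh P Y :=
  ⟨hY, fun E u hE => isOfFiniteType_of_iso P (kernelCompMono u i) (hX.2 E (u ≫ i) hE)⟩

lemma Coh.of_iso {X Y : C} (e : X ≅ Y) (hX : Coh P X) : Coh P Y :=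
  Coh.of_mono e.inv hX (isOfFiniteType_of_iso P e hX.1)

/-- The kernel of `π ≫ f` surjects onto the kernel of `f` when `π` is an epimorphism. -/
lemma epi_kernel_lift_comp {N X Y : C} (π : N ⟶ X) [Epi π] (f : X ⟶ Y) :
    Epi (kernel.lift f (kernel.ι (π ≫ f) ≫ π) (by rw [Category.assoc, kernel.condition])) := by
  rw [epi_iff_surjective_up_to_refinements]
  intro A y
  obtain ⟨A', p, hp, x, hx⟩ := surjective_up_to_refinements_of_epi π (y ≫ kernel.ι f)
  have hx0 : x ≫ π ≫ f = 0 := by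
    rw [← Category.assoc, ← hx, Category.assoc, Category.assoc, kernel.condition, comp_zero,
      comp_zero]
  refine ⟨A', p, hp, kernel.lift _ x hx0, ?_⟩
  rw [← cancel_mono (kernel.ι f)]
  simp only [Category.assoc, kernel.lift_ι, kernel.lift_ι_assoc]
  exact hx

lemma ft_kernel {X Y : C} (f : X ⟶ Y) (hX : PCoh.IsOfFiniteType P X) (hY : Coh P Y) :
    PCoh.IsOfFiniteType P (kernel f) := by
  obtain ⟨N, π, hN, hπ⟩ := hX
  have h := epi_kernel_lift_comp π f
  obtain ⟨N', π', hN', hπ'⟩ := hY.2 N (π ≫ f) hN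
  exact ⟨N', π' ≫ _, hN', @epi_comp _ _ _ _ _ π' hπ' _ h⟩

lemma Coh.kernel {X Y : C} (f : X ⟶ Y) (hX : Coh P X) (hY : Coh P Y) : Coh P (kernel f) :=
  Coh.of_mono (kernel.ι f) hX (ft_kernel f hX.1 hY)

omit [Abelian C] in
lemma ft_of_P {X : C} (hX : P X) : PCoh.IsOfFiniteType P X := ⟨X, 𝟙 X, hX, inferInstance⟩

lemma Coh.of_P
    (hcoh : ∀ (X E : C) (u : E ⟶ X), P X → P E → PCoh.IsOfFiniteType P (Limits.kernel u))
    {X : C} (hX : P X) : Coh P X :=
  ⟨ft_of_P hX, fun E u hE => hcoh X E u hX hE⟩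

lemma Coh.of_isZero [P.IsClosedUnderIsomorphisms] [P.ContainsZero] {X : C} (hX : IsZero X) : Coh P X := by
  refine ⟨ft_of_P (P.prop_of_isZero hX), fun E u hE => ?_⟩
  have hu : u = 0 := hX.eq_of_tgt _ _
  subst hu
  exact isOfFiniteType_of_iso P kernelZeroIsoSource.symm (ft_of_P hE)

end H1

section H2

variable {C : Type u} [Category.{v} C] [Abelian C] {P : ObjectProperty C}
  (hsum : ∀ X Y : C, P X → P Y → P (X ⨯ Y)) (hql : PCoh.IsQuasiLiftable P)

include hsum hql in
lemma Coh.cokernel {X Y : C} (f : X ⟶ Y) (hX : PCoh.IsOfFiniteType P X) (hY : Coh P Y) :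
    Coh P (Limits.cokernel f) := by
  refine ⟨isOfFiniteType_of_epi P (cokernel.π f) hY.1, fun E u hE => ?_⟩
  have hfst : Epi (pullback.fst u (cokernel.π f)) := Abelian.epi_pullback_of_epi_g _ _
  obtain ⟨E'', v, hE'', hv⟩ := hql _ _ (pullback.fst u (cokernel.π f)) hfst hE
  obtain ⟨N, ρ, hN, hρ⟩ := hX
  let p : E'' ⟶ E := v ≫ pullback.fst u (cokernel.π f)
  let w : E'' ⟶ Y := v ≫ pullback.snd u (cokernel.π f)
  have hpw : p ≫ u = w ≫ cokernel.π f := by
    simp only [p, w, Category.assoc, pullback.condition]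
  let h : E'' ⨯ N ⟶ Y := prod.fst ≫ w - prod.snd ≫ ρ ≫ f
  have hM : P (E'' ⨯ N) := hsum _ _ hE'' hN
  have hker := hY.2 _ h hM
  have hfac : (kernel.ι h ≫ prod.fst ≫ p) ≫ u = 0 := by
    have h1 : kernel.ι h ≫ prod.fst ≫ w = kernel.ι h ≫ prod.snd ≫ ρ ≫ f := by
      have := kernel.condition h
      simp only [h, Preadditive.comp_sub] at this
      exact sub_eq_zero.1 this
    have h2 := h1 =≫ cokernel.π f
    simp only [Category.assoc, cokernel.condition, comp_zero] at h2
    rw [Category.assoc, Category.assoc, hpw]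
    exact h2
  let θ : Limits.kernel h ⟶ Limits.kernel u := kernel.lift u (kernel.ι h ≫ prod.fst ≫ p) hfac
  have hθ : Epi θ := by
    rw [epi_iff_surjective_up_to_refinements]
    intro A y
    obtain ⟨A₁, q₁, hq₁, x₁, hx₁⟩ := surjective_up_to_refinements_of_epi p (y ≫ kernel.ι u)
    have hx₁w : (x₁ ≫ w) ≫ cokernel.π f = 0 := by
      rw [Category.assoc, ← hpw, ← Category.assoc, ← hx₁]
      simp
    have hex : (ShortComplex.mk f (cokernel.π f) (cokernel.condition f)).Exact :=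
      ShortComplex.exact_of_g_is_cokernel _ (cokernelIsCokernel f)
    obtain ⟨A₂, q₂, hq₂, x₂, hx₂⟩ := hex.exact_up_to_refinements (x₁ ≫ w) hx₁w
    dsimp at x₂ hx₂
    obtain ⟨A₃, q₃, hq₃, x₃, hx₃⟩ := surjective_up_to_refinements_of_epi ρ x₂
    let m : A₃ ⟶ E'' ⨯ N := prod.lift (q₃ ≫ q₂ ≫ x₁) x₃
    have hm : m ≫ h = 0 := by
      simp only [m, h, Preadditive.comp_sub, prod.lift_fst_assoc, prod.lift_snd_assoc]
      rw [← Category.assoc x₃, ← hx₃, Category.assoc, Category.assoc, Category.assoc, hx₂]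
      simp
    refine ⟨A₃, q₃ ≫ q₂ ≫ q₁, inferInstance, kernel.lift h m hm, ?_⟩
    rw [← cancel_mono (kernel.ι u)]
    simp only [θ, m, Category.assoc, kernel.lift_ι, kernel.lift_ι_assoc, prod.lift_fst_assoc]
    rw [hx₁]
  obtain ⟨N', π', hN', hπ'⟩ := hker
  exact ⟨N', π' ≫ θ, hN', epi_comp _ _⟩

end H2

section H3

variable {C : Type u} [Category.{v} C] [Abelian C] {P : ObjectProperty C}
  [P.IsClosedUnderIsomorphisms] [P.ContainsZero]
  (hsum : ∀ X Y : C, P X → P Y → P (X ⨯ Y)) (hql : PCoh.IsQuasiLiftable P)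
  (hcoh : ∀ (X E : C) (u : E ⟶ X), P X → P E → PCoh.IsOfFiniteType P (kernel u))

include hcoh in
/-- If the objects of `C₀` are coherent, then `C₀` is quasi-stable under kernels of epimorphisms. -/
lemma quasiStable_of_coh : PCoh.IsQuasiStableUnderKernels P := by
  intro K hK ⟨n₀, hb⟩ hP
  have h1 : Coh P (kernel (K.d 1 (1 + 1))) :=
    P_kernel_d_nat (Coh P) (fun X Y e h => Coh.of_iso e h) (fun X h => Coh.of_isZero h)
      (fun E F u _ hE hF => Coh.kernel u hE hF) K n₀ (fun i _ => hK i) hb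
      (fun i hi => Coh.of_P hcoh (hP i hi)) n₀ 1 (by omega) le_rfl
  exact (Coh.of_iso (X_zero_iso_kernel K (hK 0) (hK 1)).symm h1).1

variable [HasDerivedCategory.{w} C]

include hql in
lemma NPC_zero_of_ft {X : C} (hX : PCoh.IsOfFiniteType P X) :
    NPC P 0 ((DerivedCategory.singleFunctor C 0).obj X) := by
  refine NPC.of_finiteType_top hql ((HomologicalComplex.single C (ComplexShape.up ℤ) 0).obj X) 0
    (fun j hj => exactAt_single_obj (ComplexShape.up ℤ) 0 X j (by omega)) ?_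
  exact isOfFiniteType_of_iso P
    (HomologicalComplex.singleObjHomologySelfIso (ComplexShape.up ℤ) 0 X).symm hX

include hsum hql hcoh in
lemma NPC_neg_of_coh : ∀ (k : ℕ) (X : C), Coh P X →
    NPC P (-(k : ℤ)) ((DerivedCategory.singleFunctor C 0).obj X) := by
  have hqs := quasiStable_of_coh hcoh
  intro k
  induction k with
  | zero =>
    intro X hX
    simpa using NPC_zero_of_ft hql hX.1
  | succ k ih =>
    intro X hX
    obtain ⟨N, π, hN, hπ⟩ := hX.1
    have hK : Coh P (kernel π) := Coh.kernel π (Coh.of_P hcoh hN) hX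
    let S : ShortComplex C := ShortComplex.mk (kernel.ι π) π (kernel.condition π)
    have hS : S.ShortExact :=
      { exact := ShortComplex.exact_of_f_is_kernel _ (kernelIsKernel π)
        mono_f := by dsimp [S]; infer_instance
        epi_g := by dsimp [S]; infer_instance }
    have h₁ : NPC P (-((k + 1 : ℕ) : ℤ) + 1) hS.singleTriangle.obj₁ := by
      have := ih _ hK
      have e : -((k + 1 : ℕ) : ℤ) + 1 = -(k : ℤ) := by push_cast; omega
      rw [e]
      exact this
    have h₂ : NPC P (-((k + 1 : ℕ) : ℤ)) hS.singleTriangle.obj₂ := by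
      exact ⟨(HomologicalComplex.single C (ComplexShape.up ℤ) 0).obj N,
        ⟨⟨0, fun i hi => isZero_single_obj_X (ComplexShape.up ℤ) 0 N i (by omega)⟩,
          fun i _ => P_single_X P 0 N hN i⟩, ⟨Iso.refl _⟩⟩
    exact NPC.cone hsum hqs hql _ hS.singleTriangle_distinguished _ h₁ h₂

include hsum hql hcoh in
lemma PCobj_of_coh {X : C} (hX : Coh P X) : PCobj P X := by
  intro m
  have h := NPC_neg_of_coh hsum hql hcoh (-m).toNat X hX
  refine h.mono ?_
  have := Int.self_le_toNat (-m)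
  omega

end H3

section H4

variable {C : Type u} [Category.{v} C] [Abelian C] {P : ObjectProperty C}
  [P.IsClosedUnderIsomorphisms] [P.ContainsZero]
  (hsum : ∀ X Y : C, P X → P Y → P (X ⨯ Y)) (hql : PCoh.IsQuasiLiftable P)
  (hcoh : ∀ (X E : C) (u : E ⟶ X), P X → P E → PCoh.IsOfFiniteType P (kernel u))

include hcoh in
omit [P.IsClosedUnderIsomorphisms] [P.ContainsZero] in
lemma coh_cycles {n : ℤ} {E : CochainComplex C ℤ} (hE : PCoh.IsStrictPC P n E) (i : ℤ)
    (hi : n ≤ i) : Coh P (E.cycles i) := by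
  have h1 : Coh P (kernel (E.d i (i + 1))) :=
    Coh.kernel _ (Coh.of_P hcoh (hE.2 i hi)) (Coh.of_P hcoh (hE.2 (i + 1) (by omega)))
  exact Coh.of_iso (IsLimit.conePointUniqueUpToIso (E.cyclesIsKernel i (i + 1) (by simp))
      (limit.isLimit _)).symm h1

include hcoh in
omit [P.IsClosedUnderIsomorphisms] [P.ContainsZero] in
lemma ft_homology_of_strictPC {n : ℤ} {E : CochainComplex C ℤ} (hE : PCoh.IsStrictPC P n E) :
    PCoh.IsOfFiniteType P (E.homology n) :=
  isOfFiniteType_of_epi P (E.homologyπ n) (coh_cycles hcoh hE n le_rfl).1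

include hsum hql hcoh in
omit [P.IsClosedUnderIsomorphisms] [P.ContainsZero] in
lemma coh_homology_of_strictPC {n : ℤ} {E : CochainComplex C ℤ} (hE : PCoh.IsStrictPC P n E)
    (i : ℤ) (hi : n < i) : Coh P (E.homology i) := by
  have h1 : Coh P (cokernel (E.toCycles (i - 1) i)) :=
    Coh.cokernel hsum hql _ (ft_of_P (hE.2 (i - 1) (by omega))) (coh_cycles hcoh hE i hi.le)
  exact Coh.of_iso (IsColimit.coconePointUniqueUpToIso (E.homologyIsCokernel (i - 1) i (by simp))
      (colimit.isColimit _)).symm h1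

end H4

end Groth.Agent.Lib.Helper1.PCohCoh
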