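import Mathlib
import Groth.Agent.Lib.Helper1.PCohCoh

/-!
# Finite presentations and pseudo-coherence of single objects (SGA 6 I 2.?)
-/

open CategoryTheory CategoryTheory.Limits HomologicalComplex DerivedCategory
open Pretriangulated ZeroObject

universe w v u

namespace Groth.Agent.Lib.Helper1.PCohFP

open Groth.Agent.Lib.Helper1.PCohFT Groth.Agent.Lib.Helper1.PCohLib
  Groth.Agent.Lib.Helper1.PCohCone Groth.Agent.Lib.Helper1.PCohTri
  Groth.Agent.Lib.Helper1.PCohMore Groth.Agent.Lib.Helper1.PCohDev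
  Groth.Agent.Lib.Helper1.PCohCoh

section F1

variable {C : Type u} [Category.{v} C] [Abelian C]

section Augment

variable (K : ChainComplex C ℕ) {X : C} (f : K.X 0 ⟶ X) (w : K.d 1 0 ≫ f = 0)

lemma augment_exactAt_succ_succ (j : ℕ) (h : K.ExactAt (j + 1)) :
    (ChainComplex.augment K f w).ExactAt (j + 2) := by
  rw [exactAt_iff' _ (j + 3) (j + 2) (j + 1) (by simp) (by simp)]
  rw [exactAt_iff' _ (j + 2) (j + 1) j (by simp) (by simp)] at h
  exact h

lemma augment_exactAt_one (h : (ShortComplex.mk (K.d 1 0) f w).Exact) :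
    (ChainComplex.augment K f w).ExactAt 1 := by
  rw [exactAt_iff' _ 2 1 0 (by simp) (by simp)]
  exact h

lemma augment_exactAt_zero [Epi f] : (ChainComplex.augment K f w).ExactAt 0 := by
  rw [exactAt_iff' _ 1 0 0 (by simp) (by simp)]
  refine (ShortComplex.exact_iff_epi _ ?_).2 ?_
  · exact (ChainComplex.augment K f w).shape 0 0 (by simp)
  · show Epi f
    infer_instance

lemma exactAt_zero_epi (h : K.ExactAt 0) : Epi (K.d 1 0) := by
  rw [exactAt_iff' _ 1 0 0 (by simp) (by simp)] at h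
  exact h.epi_f (K.shape 0 0 (by simp))

end Augment

variable {P : ObjectProperty C} [P.IsClosedUnderIsomorphisms] [P.ContainsZero]
  [HasDerivedCategory.{w} C]
  (hsum : ∀ X Y : C, P X → P Y → P (X ⨯ Y))
  (hqs : PCoh.IsQuasiStableUnderKernels P) (hql : PCoh.IsQuasiLiftable P)

omit [HasDerivedCategory.{w} C] in
lemma NPC_single_of_P [HasDerivedCategory.{w} C] {N : C} (hN : P N) (m : ℤ) :
    NPC P m ((DerivedCategory.singleFunctor C 0).obj N) :=
  ⟨(HomologicalComplex.single C (ComplexShape.up ℤ) 0).obj N,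
    ⟨⟨0, fun i hi => isZero_single_obj_X (ComplexShape.up ℤ) 0 N i (by omega)⟩,
      fun i _ => P_single_X P 0 N hN i⟩, ⟨Iso.refl _⟩⟩

include hsum hqs hql in
lemma NPC_of_epi_P {N X : C} (p : N ⟶ X) [Epi p] (hN : P N) (m : ℤ)
    (hK : NPC P (m + 1) ((DerivedCategory.singleFunctor C 0).obj (kernel p))) :
    NPC P m ((DerivedCategory.singleFunctor C 0).obj X) := by
  let S : ShortComplex C := ShortComplex.mk (kernel.ι p) p (kernel.condition p)
  have hS : S.ShortExact :=
    { exact := ShortComplex.exact_of_f_is_kernel _ (kernelIsKernel p)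
      mono_f := by dsimp [S]; infer_instance
      epi_g := by dsimp [S]; infer_instance }
  exact NPC.cone hsum hqs hql _ hS.singleTriangle_distinguished m hK (NPC_single_of_P hN m)

include hsum hqs hql in
lemma NPC_kernel_of_epi_P {N X : C} (p : N ⟶ X) [Epi p] (hN : P N) (m : ℤ)
    (hX : NPC P m ((DerivedCategory.singleFunctor C 0).obj X)) :
    NPC P (m + 1) ((DerivedCategory.singleFunctor C 0).obj (kernel p)) := by
  let S : ShortComplex C := ShortComplex.mk (kernel.ι p) p (kernel.condition p)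
  have hS : S.ShortExact :=
    { exact := ShortComplex.exact_of_f_is_kernel _ (kernelIsKernel p)
      mono_f := by dsimp [S]; infer_instance
      epi_g := by dsimp [S]; infer_instance }
  exact NPC.fiber hsum hqs hql _ hS.singleTriangle_distinguished m (NPC_single_of_P hN (m + 1)) hX

end F1

section F2

variable {C : Type u} [Category.{v} C] [Abelian C]
  {P : ObjectProperty C} [P.IsClosedUnderIsomorphisms] [P.ContainsZero]
  [HasDerivedCategory.{w} C]
  (hsum : ∀ X Y : C, P X → P Y → P (X ⨯ Y))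
  (hqs : PCoh.IsQuasiStableUnderKernels P) (hql : PCoh.IsQuasiLiftable P)

include hsum hqs hql in
/-- Descending induction along a finite presentation. -/
lemma NPC_kernel_of_presentation (K : ChainComplex C ℕ) (n : ℕ)
    (hex : ∀ j, 1 ≤ j → j ≤ n → K.ExactAt j) (hP : ∀ j, 1 ≤ j → j ≤ n + 1 → P (K.X j)) :
    ∀ (d j : ℕ), j + 1 + d = n →
      NPC P (-(d : ℤ)) ((DerivedCategory.singleFunctor C 0).obj (kernel (K.d (j + 1) j))) := by
  intro d
  induction d with
  | zero =>
    intro j hj
    have h1 := hex (j + 1) (by omega) (by omega)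
    rw [exactAt_iff' _ (j + 2) (j + 1) j (by simp) (by simp)] at h1
    have hL : Epi (kernel.lift (K.d (j + 1) j) (K.d (j + 2) (j + 1)) (K.d_comp_d _ _ _)) :=
      h1.epi_kernelLift
    have hft : PCoh.IsOfFiniteType P (kernel (K.d (j + 1) j)) :=
      ⟨_, _, hP (j + 2) (by omega) (by omega), hL⟩
    simpa using NPC_zero_of_ft hql hft
  | succ d ih =>
    intro j hj
    have h1 := hex (j + 1) (by omega) (by omega)
    rw [exactAt_iff' _ (j + 2) (j + 1) j (by simp) (by simp)] at h1
    let L := kernel.lift (K.d (j + 1) j) (K.d (j + 2) (j + 1)) (K.d_comp_d _ _ _)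
    have hL : Epi L := h1.epi_kernelLift
    have h3 : L ≫ kernel.ι _ = K.d (j + 2) (j + 1) := kernel.lift_ι _ _ _
    have e : kernel (K.d (j + 2) (j + 1)) ≅ kernel L :=
      ((kernelCompMono L (kernel.ι _)).symm ≪≫ kernelIsoOfEq h3).symm
    have h2 := (ih (j + 1) (by omega)).of_iso ((DerivedCategory.singleFunctor C 0).mapIso e)
    have h4 : -((d : ℤ)) = -((d + 1 : ℕ) : ℤ) + 1 := by push_cast; omega
    rw [h4] at h2
    exact NPC_of_epi_P hsum hqs hql L (hP (j + 2) (by omega) (by omega)) _ h2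

include hsum hqs hql in
/-- An object of `n`-finite presentation is `(-n)`-pseudo-coherent. -/
lemma NPC_of_presentation (K : ChainComplex C ℕ) (n : ℕ)
    (hex : ∀ j, j ≤ n → K.ExactAt j) (hP : ∀ j, 1 ≤ j → j ≤ n + 1 → P (K.X j)) :
    NPC P (-(n : ℤ)) ((DerivedCategory.singleFunctor C 0).obj (K.X 0)) := by
  have hepi : Epi (K.d 1 0) := exactAt_zero_epi K (hex 0 (by omega))
  rcases Nat.eq_zero_or_pos n with rfl | hn
  · have hft : PCoh.IsOfFiniteType P (K.X 0) := ⟨_, _, hP 1 le_rfl (by omega), hepi⟩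
    simpa using NPC_zero_of_ft hql hft
  · have h1 := NPC_kernel_of_presentation hsum hqs hql K n (fun j _ hj => hex j hj) hP (n - 1) 0
      (by omega)
    have h4 : -(((n - 1 : ℕ)) : ℤ) = -(n : ℤ) + 1 := by
      have : ((n - 1 : ℕ) : ℤ) = (n : ℤ) - 1 := by omega
      omega
    rw [h4] at h1
    exact NPC_of_epi_P hsum hqs hql (K.d 1 0) (hP 1 le_rfl (by omega)) _ h1

end F2

section F3

variable {C : Type u} [Category.{v} C] [Abelian C]
  {P : ObjectProperty C} [P.IsClosedUnderIsomorphisms] [P.ContainsZero]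
  [HasDerivedCategory.{w} C]
  (hsum : ∀ X Y : C, P X → P Y → P (X ⨯ Y))
  (hqs : PCoh.IsQuasiStableUnderKernels P) (hql : PCoh.IsQuasiLiftable P)

include hqs in
omit [P.IsClosedUnderIsomorphisms] [P.ContainsZero] in
lemma ft_of_NPC_zero {X : C} (h : NPC P 0 ((DerivedCategory.singleFunctor C 0).obj X)) :
    PCoh.IsOfFiniteType P X := by
  obtain ⟨E, hE, ⟨e⟩⟩ := h
  have hac : ∀ j, (0 : ℤ) < j → E.ExactAt j := by
    intro j hj
    apply exactAt_of_isZero_homologyFunctor e j
    exact ((DerivedCategory.singleFunctor C 0).obj X).isZero_of_isLE 0 j hj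
  have h1 := finiteType_homology_of_strictPC hqs hE hac
  have e2 : E.homology 0 ≅ X :=
    homologyIsoOfIso e 0 ≪≫
      ((DerivedCategory.homologyFunctorFactors C 0).app
        ((HomologicalComplex.single C (ComplexShape.up ℤ) 0).obj X)) ≪≫
      HomologicalComplex.singleObjHomologySelfIso (ComplexShape.up ℤ) 0 X
  exact isOfFiniteType_of_iso P e2 h1

omit [HasDerivedCategory.{w} C] [P.IsClosedUnderIsomorphisms] [P.ContainsZero] in
lemma isZero_zero_X' (j : ℕ) : IsZero ((0 : ChainComplex C ℕ).X j) :=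
  (HomologicalComplex.eval C (ComplexShape.down ℕ) j).map_isZero (isZero_zero _)

include hsum hqs hql in
/-- A `(-n)`-pseudo-coherent object has a presentation of length `n`. -/
lemma exists_presentation : ∀ (n : ℕ) (F : C),
    NPC P (-(n : ℤ)) ((DerivedCategory.singleFunctor C 0).obj F) →
    ∃ (K : ChainComplex C ℕ) (ε : K.X 0 ⟶ F) (w : K.d 1 0 ≫ ε = 0), Epi ε ∧
      (1 ≤ n → (ShortComplex.mk (K.d 1 0) ε w).Exact) ∧
      (∀ j, 1 ≤ j → j + 1 ≤ n → K.ExactAt j) ∧ (∀ j, n < j → IsZero (K.X j)) ∧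
      ∀ j, j ≤ n → P (K.X j) := by
  intro n
  induction n with
  | zero =>
    intro F hF
    obtain ⟨N, π, hN, hπ⟩ := ft_of_NPC_zero hqs (by simpa using hF)
    refine ⟨ChainComplex.augment (0 : ChainComplex C ℕ) (0 : (0 : ChainComplex C ℕ).X 0 ⟶ N)
      (by simp), π, ?_, hπ, fun h => absurd h (by omega), fun j h1 h2 => absurd h2 (by omega),
      fun j hj => ?_, fun j hj => ?_⟩
    · exact (isZero_zero_X' 0).eq_of_src _ _
    · obtain ⟨j, rfl⟩ : ∃ j', j = j' + 1 := ⟨j - 1, by omega⟩
      exact isZero_zero_X' j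
    · obtain rfl : j = 0 := by omega
      exact hN
  | succ n ih =>
    intro F hF
    obtain ⟨N, π, hN, hπ⟩ := ft_of_NPC_zero hqs (hF.mono (by push_cast; omega))
    have hZ : NPC P (-(n : ℤ)) ((DerivedCategory.singleFunctor C 0).obj (kernel π)) := by
      have := NPC_kernel_of_epi_P hsum hqs hql π hN _ hF
      have h4 : -((n + 1 : ℕ) : ℤ) + 1 = -(n : ℤ) := by push_cast; omega
      rwa [h4] at this
    obtain ⟨K', ε', w', hε', hex1, hex, hz, hP⟩ := ih (kernel π) hZ
    have hex0 : (ShortComplex.mk (ε' ≫ kernel.ι π) π (by simp)).Exact := by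
      rw [ShortComplex.exact_iff_exact_up_to_refinements]
      intro A x₂ hx₂
      dsimp at x₂ hx₂
      obtain ⟨A', p, hp, x₁, hx₁⟩ := surjective_up_to_refinements_of_epi ε' (kernel.lift π x₂ hx₂)
      refine ⟨A', p, hp, x₁, ?_⟩
      dsimp
      rw [← Category.assoc, ← hx₁, Category.assoc, kernel.lift_ι]
    have w2 : K'.d 1 0 ≫ ε' ≫ kernel.ι π = 0 := by rw [← Category.assoc, w', zero_comp]
    refine ⟨ChainComplex.augment K' (ε' ≫ kernel.ι π) w2,
      π, ?_, hπ, fun _ => ?_, fun j h1 h2 => ?_, fun j hj => ?_, fun j hj => ?_⟩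
    · show (ε' ≫ kernel.ι π) ≫ π = 0
      simp
    · exact hex0
    · rcases j with _ | _ | j
      · omega
      · apply augment_exactAt_one
        have h3 := hex1 (by omega)
        rw [ShortComplex.exact_iff_exact_up_to_refinements] at h3 ⊢
        intro A x₂ hx₂
        dsimp at x₂ hx₂
        have hx₂' : x₂ ≫ ε' = 0 := by
          rw [← cancel_mono (kernel.ι π), Category.assoc, hx₂, zero_comp]
        exact h3 x₂ hx₂'
      · exact augment_exactAt_succ_succ K' _ _ j (hex (j + 1) (by omega) (by omega))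
    · obtain ⟨j, rfl⟩ : ∃ j', j = j' + 1 := ⟨j - 1, by omega⟩
      exact hz j (by omega)
    · rcases j with _ | j
      · exact hN
      · exact hP j (by omega)

end F3

end Groth.Agent.Lib.Helper1.PCohFP
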