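import Mathlib
import Groth.Agent.Lib.Helper1.PCohObj

/-!
# Pseudo-coherence and triangulated functors of finite amplitude (SGA 6 I 2.?)
-/

open CategoryTheory CategoryTheory.Limits HomologicalComplex CochainComplex DerivedCategory
open Pretriangulated

universe w v u w' v' u'

namespace Groth.Agent.Lib.Helper1.PCohFun

open Groth.Agent.Lib.Helper1.PCohFT Groth.Agent.Lib.Helper1.PCohLib
  Groth.Agent.Lib.Helper1.PCohCone Groth.Agent.Lib.Helper1.PCohTri
  Groth.Agent.Lib.Helper1.PCohMore Groth.Agent.Lib.Helper1.PCohDev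

variable {C : Type u} [Category.{v} C] [Abelian C] [HasDerivedCategory.{w} C]
  {C' : Type u'} [Category.{v'} C'] [Abelian C'] [HasDerivedCategory.{w'} C']
  (u : DerivedCategory C ⥤ DerivedCategory C') [u.CommShift ℤ] (b : ℤ)
  (hii : ∀ F : DerivedCategory C,
    (∀ i : ℤ, 0 < i → IsZero ((DerivedCategory.homologyFunctor C i).obj F)) →
    ∀ i : ℤ, b < i → IsZero ((DerivedCategory.homologyFunctor C' i).obj (u.obj F)))

include hii in
/-- A functor of cohomological amplitude `≤ b` shifts upper bounds by `b`. -/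
lemma isLE_map (F : DerivedCategory C) (n : ℤ)
    (hF : ∀ i : ℤ, n < i → IsZero ((DerivedCategory.homologyFunctor C i).obj F)) :
    ∀ i : ℤ, n + b < i → IsZero ((DerivedCategory.homologyFunctor C' i).obj (u.obj F)) := by
  have h1 : F.IsLE n := (DerivedCategory.isLE_iff F n).2 hF
  have h2 : (F⟦n⟧).IsLE 0 := DerivedCategory.TStructure.t.isLE_shift F n n 0 (by omega)
  have h3 : (u.obj (F⟦n⟧)).IsLE b :=
    (DerivedCategory.isLE_iff _ b).2 (hii _ ((DerivedCategory.isLE_iff _ 0).1 h2))
  have h4 : ((u.obj F)⟦n⟧).IsLE b := by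
    have e : u.obj (F⟦n⟧) ≅ (u.obj F)⟦n⟧ := (u.commShiftIso n).app F
    exact DerivedCategory.TStructure.t.isLE_of_iso e b
  have h5 : (u.obj F).IsLE (n + b) :=
    DerivedCategory.TStructure.t.isLE_of_shift (u.obj F) (n + b) n b rfl
  exact (DerivedCategory.isLE_iff _ _).1 h5

variable [u.IsTriangulated]
  {P : ObjectProperty C} [P.IsClosedUnderIsomorphisms] [P.ContainsZero]
  {P' : ObjectProperty C'} [P'.IsClosedUnderIsomorphisms] [P'.ContainsZero]
  (hsum' : ∀ X Y : C', P' X → P' Y → P' (X ⨯ Y))
  (hqs' : PCoh.IsQuasiStableUnderKernels P') (hql' : PCoh.IsQuasiLiftable P')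
  (a : ℤ)
  (hi : ∀ E : C, P E → NPC P' a (u.obj ((DerivedCategory.singleFunctor C 0).obj E)))

include hi in
omit [u.IsTriangulated] [P.IsClosedUnderIsomorphisms] [P.ContainsZero]
  [P'.IsClosedUnderIsomorphisms] [P'.ContainsZero] in
lemma NPC_map_single (c : ℤ) (E : C) (hE : P E) :
    NPC P' (a + c) (u.obj ((DerivedCategory.singleFunctor C c).obj E)) := by
  have h1 := (hi E hE).shift (-c)
  have e : a - -c = a + c := by omega
  rw [e] at h1
  have e1 : (u.obj ((DerivedCategory.singleFunctor C 0).obj E))⟦-c⟧ ≅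
      u.obj (((DerivedCategory.singleFunctor C 0).obj E)⟦-c⟧) := ((u.commShiftIso (-c)).app _).symm
  exact (h1.of_iso e1).of_iso (u.mapIso (singleShiftIso E c))

include hii hi hsum' hqs' hql' in
lemma devissage_map (m : ℤ) : ∀ (k : ℕ) (E : CochainComplex C ℤ), PCoh.IsStrictPC P m E →
    (∀ i, m - 1 + k < i → IsZero (E.X i)) →
    NPC P' (max (m + b) (m - 1 + k + a)) (u.obj (Q.obj E)) := by
  intro k
  induction k with
  | zero =>
    intro E _ hE0
    refine NPC.of_bound (m - 1 + b) (isLE_map u b hii (Q.obj E) (m - 1) ?_) _ ?_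
    · intro i hi
      have h1 : E.ExactAt i := ShortComplex.exact_of_isZero_X₂ _ (hE0 i (by simpa using hi))
      rw [exactAt_iff_isZero_homology] at h1
      exact IsZero.of_iso h1 ((DerivedCategory.homologyFunctorFactors C i).app E)
    · have := le_max_left (m + b) (m - 1 + ((0 : ℕ) : ℤ) + a)
      omega
  | succ k ih =>
    intro E hE hE0
    have hE0' : ∀ i, m + k < i → IsZero (E.X i) := fun i hi => hE0 i (by push_cast; omega)
    have hS := removeTop_shortExact E (m + k) hE0'
    have hT := u.map_distinguished _ (DerivedCategory.triangleOfSES_distinguished hS)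
    refine NPC.ext₂ hsum' hqs' hql' _ hT _ ?_ ?_
    · refine (NPC_map_single u a hi (m + k) (E.X (m + k)) (hE.2 _ (by omega))).mono ?_
      have := le_max_right (m + b) (m - 1 + ((k + 1 : ℕ) : ℤ) + a)
      push_cast at this ⊢
      omega
    · refine (ih (removeTop E (m + k) hE0') ⟨⟨m + k, fun i hi => ?_⟩, fun i hi => ?_⟩ ?_).mono ?_
      · exact isZero_removeTop_X E (m + k) hE0' i (by omega)
      · by_cases hik : m + k ≤ i
        · exact P.prop_of_isZero (isZero_removeTop_X E (m + k) hE0' i hik)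
        · exact P.prop_of_iso (removeTopXIso E (m + k) hE0' i (by omega)).symm (hE.2 i hi)
      · intro i hi
        exact isZero_removeTop_X E (m + k) hE0' i (by omega)
      · apply max_le_max le_rfl
        push_cast
        omega

end Groth.Agent.Lib.Helper1.PCohFun
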