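import Mathlib
import Groth.Agent.Lib.Helper1.PCohObj

/-!
# Infinite resolutions of pseudo-coherent complexes (SGA 6 I 2.?)

A pseudo-coherent complex acyclic in degrees `≥ m` is quasi-isomorphic to a complex with all terms
in `P`, vanishing in degrees `≥ m`: `exists_strictPCAll`.  The complex is the colimit of a tower
of finite cell complexes, which is degreewise eventually constant.
-/

open CategoryTheory CategoryTheory.Limits HomologicalComplex CochainComplex DerivedCategory
open Pretriangulated ZeroObject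

universe w v u

namespace Groth.Agent.Lib.Helper1.PCohInf

open Groth.Agent.Lib.Helper1.PCohFT Groth.Agent.Lib.Helper1.PCohLib
  Groth.Agent.Lib.Helper1.PCohCone Groth.Agent.Lib.Helper1.PCohTri
  Groth.Agent.Lib.Helper1.PCohMore Groth.Agent.Lib.Helper1.PCohDev

section W1

variable {C : Type u} [Category.{v} C] [Abelian C] [HasDerivedCategory.{w} C]
  {P : ObjectProperty C} [P.IsClosedUnderIsomorphisms] [P.ContainsZero]
  (hsum : ∀ X Y : C, P X → P Y → P (X ⨯ Y))
  (hqs : PCoh.IsQuasiStableUnderKernels P) (hql : PCoh.IsQuasiLiftable P)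

include hqs in
omit [P.IsClosedUnderIsomorphisms] [P.ContainsZero] in
/-- The top cohomology of an `n`-pseudo-coherent complex acyclic in degrees `> n` is of finite
type. -/
lemma finiteType_top_homology (D : CochainComplex C ℤ) (n : ℤ) (hD : NPC P n (Q.obj D))
    (hac : ∀ j, n < j → D.ExactAt j) : PCoh.IsOfFiniteType P (D.homology n) := by
  obtain ⟨E₁, hE₁, ⟨e⟩⟩ := hD
  have hac₁ : ∀ j, n < j → E₁.ExactAt j := by
    intro j hj
    apply exactAt_of_isZero_homologyFunctor e j
    have h1 := hac j hj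
    rw [exactAt_iff_isZero_homology] at h1
    exact IsZero.of_iso h1 ((DerivedCategory.homologyFunctorFactors C j).app D)
  have h1 := finiteType_homology_of_strictPC hqs hE₁ hac₁
  exact isOfFiniteType_of_iso P (homologyIsoOfIso e n ≪≫
    (DerivedCategory.homologyFunctorFactors C n).app D) h1

include hsum hqs hql in
/-- Existence of a cell killing the top cohomology of the cocone (derived category version). -/
lemma exists_cell' {G E : CochainComplex C ℤ} (w : G ⟶ E) (c : ℤ) (hE : NPC P c (Q.obj E))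
    (bG : ℤ) (hGP : ∀ j, P (G.X j)) (hGb : ∀ j, bG < j → IsZero (G.X j))
    (hex : ∀ j, c + 1 < j → (mappingCocone w).ExactAt j) :
    ∃ (N : C) (z' : N ⟶ (mappingCocone w).cycles (c + 1)), P N ∧
      Epi (z' ≫ (mappingCocone w).homologyπ (c + 1)) := by
  have hG : NPC P (c + 1) (Q.obj G) := ⟨G, ⟨⟨bG, hGb⟩, fun i _ => hGP i⟩, ⟨Iso.refl _⟩⟩
  have hT := DerivedCategory.mappingCocone_triangle_distinguished w
  have hD : NPC P (c + 1) (Q.obj (mappingCocone w)) := NPC.fiber hsum hqs hql _ hT c hG hE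
  obtain ⟨N, π, hN, hπ⟩ := finiteType_top_homology hqs (mappingCocone w) (c + 1) hD hex
  exact exists_cycle_lift hql (mappingCocone w) (c + 1) N hN π

include hsum hqs hql in
/-- The inductive step: attaching one cell (derived category version, keeping track of the
transition map). -/
lemma step' {G E : CochainComplex C ℤ} (w : G ⟶ E) (m c : ℤ) (hcm : c < m)
    (hE : NPC P c (Q.obj E))
    (hGP : ∀ j, P (G.X j)) (hGb : ∀ j, m ≤ j → IsZero (G.X j))
    (hex : ∀ j, c + 1 < j → (mappingCocone w).ExactAt j) :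
    ∃ (G' : CochainComplex C ℤ) (w' : G' ⟶ E) (ι : G ⟶ G'), (∀ j, P (G'.X j)) ∧
      (∀ j, m ≤ j → IsZero (G'.X j)) ∧ (∀ j, c < j → (mappingCocone w').ExactAt j) ∧
      ι ≫ w' = w ∧ ∀ j, j ≠ c → IsIso (ι.f j) := by
  obtain ⟨N, z', hN, hz⟩ := exists_cell' hsum hqs hql w c hE (m - 1) hGP
    (fun j hj => hGb j (by omega)) hex
  let D' := mappingCocone w
  let ψ := cellMap D' (c + 1) N z'
  have hψ0 : Epi (homologyMap ψ (c + 1)) := epi_homologyMap_cellMap D' (c + 1) N z' hz
  have hψepi : ∀ i, c + 1 ≤ i → Epi (homologyMap ψ i) := by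
    intro i hi
    rcases eq_or_lt_of_le hi with h | h
    · rw [← h]; exact hψ0
    · exact epi_of_isZero_tgt _ ((exactAt_iff_isZero_homology _ _).1 (hex i h))
  have hψmono : ∀ i, c + 1 < i → Mono (homologyMap ψ i) := by
    intro i hi
    exact mono_of_isZero_src _ ((exactAt_iff_isZero_homology _ _).1
      (exactAt_single_obj (ComplexShape.up ℤ) (c + 1) N i (by omega)))
  refine ⟨att w ψ, attMap w ψ, attι w ψ, ?_, ?_, ?_, attι_attMap w ψ, ?_⟩
  · intro j
    exact Groth.Agent.Lib.Helper1.PCohLib.P_coneX (attφ w ψ) P hsum j (j + 1) rfl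
      (P_single_X P (c + 1) N hN (j + 1)) (hGP j)
  · intro j hj
    exact Groth.Agent.Lib.Helper1.PCohLib.isZero_coneX (attφ w ψ) j (j + 1) rfl
      (isZero_single_obj_X (ComplexShape.up ℤ) (c + 1) N (j + 1) (by omega)) (hGb j hj)
  · intro j hj
    have hepi : ∀ i, c ≤ i → Epi (homologyMap (attMap w ψ) i) := by
      intro i hi
      have := hψepi (i + 1) (by omega)
      exact att_epi w ψ i (i + 1) rfl
    have hmono : ∀ i, c + 1 ≤ i → Mono (homologyMap (attMap w ψ) i) := by
      intro i hi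
      have := hψepi i hi
      have := hψmono (i + 1) (by omega)
      exact att_mono w ψ i (i + 1) rfl
    refine cocone_exactAt (attMap w ψ) (c + 1) ?_ c rfl (hepi c le_rfl) j (by omega)
    intro i hi
    have := hepi i (by omega)
    have := hmono i hi
    exact isIso_of_mono_of_epi _
  · intro j hj
    exact attι_f_isIso w ψ j (j + 1) rfl
      (isZero_single_obj_X (ComplexShape.up ℤ) (c + 1) N (j + 1) (by omega))

end W1

section W2

variable {C : Type u} [Category.{v} C] [Abelian C]

/-- A finite stage of the construction of an infinite resolution. -/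
structure Stage (P : ObjectProperty C) (E : CochainComplex C ℤ) (m : ℤ) (k : ℕ) where
  G : CochainComplex C ℤ
  w : G ⟶ E
  hP : ∀ j, P (G.X j)
  hb : ∀ j, m ≤ j → IsZero (G.X j)
  hex : ∀ j, m - 1 - k + 1 < j → (mappingCocone w).ExactAt j

variable {P : ObjectProperty C} [P.IsClosedUnderIsomorphisms] [P.ContainsZero]
  {E : CochainComplex C ℤ} {m : ℤ}

/-- The initial stage: the zero complex. -/
noncomputable def Stage.zero (hm : ∀ j, m ≤ j → E.ExactAt j) : Stage P E m 0 where
  G := 0
  w := 0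
  hP j := P.prop_of_isZero (isZero_zero_X j)
  hb j _ := isZero_zero_X j
  hex j hj := base_exact E m hm j (by push_cast at hj; omega)

variable [HasDerivedCategory.{w} C]
  (hsum : ∀ X Y : C, P X → P Y → P (X ⨯ Y))
  (hqs : PCoh.IsQuasiStableUnderKernels P) (hql : PCoh.IsQuasiLiftable P)
  (hPC : ∀ n, NPC P n (Q.obj E))

include hsum hqs hql hPC in
lemma Stage.exists_next {k : ℕ} (S : Stage P E m k) :
    ∃ (S' : Stage P E m (k + 1)) (ι : S.G ⟶ S'.G), ι ≫ S'.w = S.w ∧
      ∀ j, j ≠ m - 1 - k → IsIso (ι.f j) := by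
  obtain ⟨G', w', ι, h1, h2, h3, h4, h5⟩ := step' hsum hqs hql S.w m (m - 1 - k) (by omega)
    (hPC _) S.hP S.hb S.hex
  exact ⟨⟨G', w', h1, h2, fun j hj => h3 j (by push_cast at hj; omega)⟩, ι, h4, h5⟩

/-- The next stage. -/
noncomputable def Stage.next {k : ℕ} (S : Stage P E m k) : Stage P E m (k + 1) :=
  (S.exists_next hsum hqs hql hPC).choose

/-- The transition map to the next stage. -/
noncomputable def Stage.toNext {k : ℕ} (S : Stage P E m k) :
    S.G ⟶ (S.next hsum hqs hql hPC).G :=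
  (S.exists_next hsum hqs hql hPC).choose_spec.choose

lemma Stage.toNext_w {k : ℕ} (S : Stage P E m k) :
    S.toNext hsum hqs hql hPC ≫ (S.next hsum hqs hql hPC).w = S.w :=
  (S.exists_next hsum hqs hql hPC).choose_spec.choose_spec.1

lemma Stage.isIso_toNext_f {k : ℕ} (S : Stage P E m k) (j : ℤ) (hj : j ≠ m - 1 - k) :
    IsIso ((S.toNext hsum hqs hql hPC).f j) :=
  (S.exists_next hsum hqs hql hPC).choose_spec.choose_spec.2 j hj

variable (hm : ∀ j, m ≤ j → E.ExactAt j)

/-- The sequence of stages. -/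
noncomputable def stages : ∀ k : ℕ, Stage P E m k
  | 0 => Stage.zero hm
  | k + 1 => (stages k).next hsum hqs hql hPC

/-- The inductive system of complexes. -/
noncomputable def tower : ℕ ⥤ CochainComplex C ℤ :=
  Functor.ofSequence (X := fun k => (stages hsum hqs hql hPC hm k).G)
    (fun k => (stages hsum hqs hql hPC hm k).toNext hsum hqs hql hPC)

lemma tower_obj (k : ℕ) :
    (tower hsum hqs hql hPC hm).obj k = (stages hsum hqs hql hPC hm k).G := rfl

lemma isIso_tower_map_f {k₁ k₂ : ℕ} (hk : k₁ ≤ k₂) (j : ℤ) (hj : m - 1 - k₁ < j) :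
    IsIso (((tower hsum hqs hql hPC hm).map (homOfLE hk)).f j) := by
  obtain ⟨d, rfl⟩ := Nat.exists_eq_add_of_le hk
  induction d with
  | zero =>
    simp only [Nat.add_zero, homOfLE_refl, CategoryTheory.Functor.map_id, id_f]
    infer_instance
  | succ d ih =>
    rw [← homOfLE_comp (show k₁ ≤ k₁ + d by omega) (show k₁ + d ≤ k₁ + (d + 1) by omega),
      Functor.map_comp, comp_f]
    have h1 := ih (by omega)
    have h2 : IsIso (((tower hsum hqs hql hPC hm).map
        (homOfLE (show k₁ + d ≤ k₁ + (d + 1) by omega))).f j) := by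
      have : (tower hsum hqs hql hPC hm).map (homOfLE (show k₁ + d ≤ k₁ + (d + 1) by omega)) =
          (stages hsum hqs hql hPC hm (k₁ + d)).toNext hsum hqs hql hPC :=
        Functor.ofSequence_map_homOfLE_succ _ (k₁ + d)
      rw [this]
      exact Stage.isIso_toNext_f hsum hqs hql hPC _ j (by push_cast; omega)
    infer_instance

end W2

section W3

variable {C : Type u} [Category.{v} C] [Abelian C]
  {P : ObjectProperty C} [P.IsClosedUnderIsomorphisms] [P.ContainsZero]
  {E : CochainComplex C ℤ} {m : ℤ} [HasDerivedCategory.{w} C]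
  (hsum : ∀ X Y : C, P X → P Y → P (X ⨯ Y))
  (hqs : PCoh.IsQuasiStableUnderKernels P) (hql : PCoh.IsQuasiLiftable P)
  (hPC : ∀ n, NPC P n (Q.obj E)) (hm : ∀ j, m ≤ j → E.ExactAt j)

lemma isEventuallyConstantFrom (j : ℤ) (k : ℕ) (h : m - 1 - k < j) :
    (tower hsum hqs hql hPC hm ⋙ eval _ _ j).IsEventuallyConstantFrom k := by
  intro k' f
  have : f = homOfLE (leOfHom f) := Subsingleton.elim _ _
  rw [this]
  exact isIso_tower_map_f hsum hqs hql hPC hm (leOfHom f) j h

instance (j : ℤ) : HasColimit (tower hsum hqs hql hPC hm ⋙ eval _ _ j) :=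
  (isEventuallyConstantFrom hsum hqs hql hPC hm j (m - j).toNat (by omega)).hasColimit

/-- The infinite resolution. -/
noncomputable abbrev Ginf : CochainComplex C ℤ := colimit (tower hsum hqs hql hPC hm)

/-- The inclusion of a stage. -/
noncomputable def ιinf (k : ℕ) :
    (stages hsum hqs hql hPC hm k).G ⟶ Ginf hsum hqs hql hPC hm :=
  colimit.ι (tower hsum hqs hql hPC hm) k

lemma isIso_ιinf_f (k : ℕ) (j : ℤ) (h : m - 1 - k < j) :
    IsIso ((ιinf hsum hqs hql hPC hm k).f j) :=
  (isEventuallyConstantFrom hsum hqs hql hPC hm j k h).isIso_ι_of_isColimit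
    (isColimitOfPreserves (eval C (ComplexShape.up ℤ) j)
      (colimit.isColimit (tower hsum hqs hql hPC hm)))

/-- The cocone given by the maps to `E`. -/
noncomputable def towerCocone : Cocone (tower hsum hqs hql hPC hm) where
  pt := E
  ι := NatTrans.ofSequence (fun k => (stages hsum hqs hql hPC hm k).w) (by
    intro k
    dsimp
    rw [Category.comp_id]
    have : (tower hsum hqs hql hPC hm).map (homOfLE (Nat.le_add_right k 1)) =
        (stages hsum hqs hql hPC hm k).toNext hsum hqs hql hPC :=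
      Functor.ofSequence_map_homOfLE_succ _ k
    rw [this]
    exact Stage.toNext_w hsum hqs hql hPC _)

/-- The map from the infinite resolution. -/
noncomputable def winf : Ginf hsum hqs hql hPC hm ⟶ E :=
  colimit.desc _ (towerCocone hsum hqs hql hPC hm)

lemma ιinf_winf (k : ℕ) :
    ιinf hsum hqs hql hPC hm k ≫ winf hsum hqs hql hPC hm = (stages hsum hqs hql hPC hm k).w :=
  colimit.ι_desc _ _

end W3

section W4

variable {C : Type u} [Category.{v} C] [Abelian C]
  {P : ObjectProperty C} [P.IsClosedUnderIsomorphisms] [P.ContainsZero]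
  {E : CochainComplex C ℤ} {m : ℤ} [HasDerivedCategory.{w} C]
  (hsum : ∀ X Y : C, P X → P Y → P (X ⨯ Y))
  (hqs : PCoh.IsQuasiStableUnderKernels P) (hql : PCoh.IsQuasiLiftable P)
  (hPC : ∀ n, NPC P n (Q.obj E)) (hm : ∀ j, m ≤ j → E.ExactAt j)

lemma P_Ginf_X (j : ℤ) : P ((Ginf hsum hqs hql hPC hm).X j) := by
  have := isIso_ιinf_f hsum hqs hql hPC hm (m - j).toNat j (by omega)
  exact P.prop_of_iso (asIso ((ιinf hsum hqs hql hPC hm (m - j).toNat).f j))
    ((stages hsum hqs hql hPC hm _).hP j)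

lemma isZero_Ginf_X (j : ℤ) (hj : m ≤ j) : IsZero ((Ginf hsum hqs hql hPC hm).X j) := by
  have := isIso_ιinf_f hsum hqs hql hPC hm (m - j).toNat j (by omega)
  exact IsZero.of_iso ((stages hsum hqs hql hPC hm _).hb j hj)
    (asIso ((ιinf hsum hqs hql hPC hm (m - j).toNat).f j)).symm

lemma quasiIsoAt_ιinf (k : ℕ) (j : ℤ) (h : m - 1 - k < j - 1) :
    QuasiIsoAt (ιinf hsum hqs hql hPC hm k) j := by
  rw [quasiIsoAt_iff' _ (j - 1) j (j + 1) (by simp) (by simp)]
  let φ := (shortComplexFunctor' C _ (j - 1) j (j + 1)).map (ιinf hsum hqs hql hPC hm k)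
  have : IsIso φ.τ₁ := isIso_ιinf_f hsum hqs hql hPC hm k (j - 1) h
  have : IsIso φ.τ₂ := isIso_ιinf_f hsum hqs hql hPC hm k j (by omega)
  have : IsIso φ.τ₃ := isIso_ιinf_f hsum hqs hql hPC hm k (j + 1) (by omega)
  exact ShortComplex.quasiIso_of_epi_of_isIso_of_mono φ

lemma quasiIsoAt_stage_w (k : ℕ) (j : ℤ) (h : m - 1 - k + 1 < j) :
    QuasiIsoAt (stages hsum hqs hql hPC hm k).w j := by
  rw [quasiIsoAt_iff_isIso_homologyMap]
  exact isIso_homologyMap_of_cocone_exact _ j (j + 1) rfl
    ((stages hsum hqs hql hPC hm k).hex j h) ((stages hsum hqs hql hPC hm k).hex (j + 1) (by omega))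

instance quasiIso_winf : QuasiIso (winf hsum hqs hql hPC hm) where
  quasiIsoAt j := by
    have h1 := quasiIsoAt_ιinf hsum hqs hql hPC hm (m - j + 1).toNat j (by omega)
    have h2 := quasiIsoAt_stage_w hsum hqs hql hPC hm (m - j + 1).toNat j (by omega)
    rw [← ιinf_winf] at h2
    exact (quasiIsoAt_iff_comp_left (ιinf hsum hqs hql hPC hm (m - j + 1).toNat)
      (winf hsum hqs hql hPC hm) j).1 h2

include hsum hqs hql hPC hm in
/-- A pseudo-coherent complex acyclic in degrees `≥ m` is quasi-isomorphic to a complex with all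
terms in `P` vanishing in degrees `≥ m`. -/
theorem exists_strictPCAll : ∃ (G : CochainComplex C ℤ) (w : G ⟶ E), QuasiIso w ∧
    (∀ j, P (G.X j)) ∧ ∀ j, m ≤ j → IsZero (G.X j) :=
  ⟨Ginf hsum hqs hql hPC hm, winf hsum hqs hql hPC hm, inferInstance,
    P_Ginf_X hsum hqs hql hPC hm, isZero_Ginf_X hsum hqs hql hPC hm⟩

end W4

section X1

variable {C : Type u} [Category.{v} C] [Abelian C]
  {P : ObjectProperty C} [P.IsClosedUnderIsomorphisms] [P.ContainsZero]
  [HasDerivedCategory.{w} C]
  (hsum : ∀ X Y : C, P X → P Y → P (X ⨯ Y))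
  (hqs : PCoh.IsQuasiStableUnderKernels P) (hql : PCoh.IsQuasiLiftable P)

omit [P.IsClosedUnderIsomorphisms] [P.ContainsZero] in
lemma isPC_of_strictPCAll {E : CochainComplex C ℤ} (hE : PCoh.IsStrictPCAll P E) :
    PCoh.IsPC P (Q.obj E) :=
  fun _ => ⟨E, ⟨hE.1, fun i _ => hE.2 i⟩, ⟨Iso.refl _⟩⟩

include hsum hqs hql in
/-- A complex quasi-isomorphic to a strictly pseudo-coherent complex admits a strictly
pseudo-coherent resolution. -/
lemma exists_resolution_of_quasiIso {E₁ E : CochainComplex C ℤ} (s : E₁ ⟶ E) [QuasiIso s]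
    (hE : PCoh.IsStrictPCAll P E) :
    ∃ (G : CochainComplex C ℤ) (t : G ⟶ E₁), QuasiIso t ∧ PCoh.IsStrictPCAll P G := by
  have hiso : IsIso (Q.map s) := (isIso_Q_map_iff_quasiIso (φ := s)).2 inferInstance
  have hPC : ∀ n, NPC P n (Q.obj E₁) := fun n =>
    NPC.of_iso (asIso (Q.map s)).symm (isPC_of_strictPCAll hE n)
  obtain ⟨b, hb⟩ := hE.1
  have hm : ∀ j, b + 1 ≤ j → E₁.ExactAt j := by
    intro j hj
    have h1 : E.ExactAt j := ShortComplex.exact_of_isZero_X₂ _ (hb j (by omega))
    rw [exactAt_iff_isZero_homology] at h1 ⊢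
    exact IsZero.of_iso h1 (asIso (homologyMap s j))
  obtain ⟨G, t, ht, hGP, hG0⟩ := exists_strictPCAll hsum hqs hql hPC hm
  exact ⟨G, t, ht, ⟨b, fun i hi => hG0 i (by omega)⟩, hGP⟩

end X1

end Groth.Agent.Lib.Helper1.PCohInf
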