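import Mathlib
import Groth.Agent.Lib.Helper1.PCohInf

/-!
# Attaching a single cell (SGA 6 I 2.?), with explicit control of the transition map
-/

open CategoryTheory CategoryTheory.Limits HomologicalComplex CochainComplex
open CochainComplex.HomComplex

universe w v u

namespace Groth.Agent.Lib.Helper1.PCohStep

open Groth.Agent.Lib.Helper1.PCohFT Groth.Agent.Lib.Helper1.PCohLib
  Groth.Agent.Lib.Helper1.PCohCone Groth.Agent.Lib.Helper1.PCohTri
  Groth.Agent.Lib.Helper1.PCohMore Groth.Agent.Lib.Helper1.PCohDev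

section Y1

variable {C : Type u} [Category.{v} C] [Abelian C]

/-- The cokernel of the inclusion into the mapping cone, degreewise. -/
noncomputable def cokernelInrIso {K G : CochainComplex C ℤ} (φ : K ⟶ G) (p q : ℤ) (hpq : p + 1 = q) :
    cokernel ((mappingCone.inr φ).f p) ≅ K.X q := by
  let S : ShortComplex C := ShortComplex.mk ((mappingCone.inr φ).f p)
    ((mappingCone.fst φ).1.v p q hpq) (mappingCone.inr_f_fst_v φ p q hpq)
  have sp : S.Splitting :=
    { r := (mappingCone.snd φ).v p p (add_zero p)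
      s := (mappingCone.inl φ).v q p (by omega)
      f_r := mappingCone.inr_f_snd_v φ p
      s_g := mappingCone.inl_v_fst_v φ q p (by omega)
      id := by
        rw [add_comm]
        exact mappingCone.id_X φ p q hpq }
  exact IsColimit.coconePointUniqueUpToIso (colimit.isColimit _) sp.gIsCokernel

variable {P : ObjectProperty C} [P.IsClosedUnderIsomorphisms] [P.ContainsZero]
  (hql : PCoh.IsQuasiLiftable P)

include hql in
/-- Attaching one cell, given finite type of the top cohomology of the cocone. -/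
lemma stepFT {G E : CochainComplex C ℤ} (w : G ⟶ E) (c : ℤ)
    (hex : ∀ j, c + 1 < j → (mappingCocone w).ExactAt j)
    (hft : PCoh.IsOfFiniteType P ((mappingCocone w).homology (c + 1))) :
    ∃ (N : C) (G' : CochainComplex C ℤ) (w' : G' ⟶ E) (ι : G ⟶ G'), P N ∧ ι ≫ w' = w ∧
      (∀ j, Mono (ι.f j)) ∧ (∀ j, j ≠ c → IsIso (ι.f j)) ∧ Nonempty (cokernel (ι.f c) ≅ N) ∧
      Nonempty (G'.X c ≅ N ⊞ G.X c) ∧ (∀ j, c < j → (mappingCocone w').ExactAt j) := by
  obtain ⟨N₀, π, hN₀, hπ⟩ := hft
  obtain ⟨N, z', hN, hz⟩ := exists_cycle_lift hql (mappingCocone w) (c + 1) N₀ hN₀ π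
  let D' := mappingCocone w
  let ψ := cellMap D' (c + 1) N z'
  have hψ0 : Epi (homologyMap ψ (c + 1)) := epi_homologyMap_cellMap D' (c + 1) N z' hz
  have hψepi : ∀ i, c + 1 ≤ i → Epi (homologyMap ψ i) := by
    intro i hi
    rcases eq_or_lt_of_le hi with h | h
    · rw [← h]; exact hψ0
    · exact epi_of_isZero_tgt _ ((exactAt_iff_isZero_homology _ _).1 (hex i h))
  have hψmono : ∀ i, c + 1 < i → Mono (homologyMap ψ i) := by
    intro i hi
    exact mono_of_isZero_src _ ((exactAt_iff_isZero_homology _ _).1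
      (exactAt_single_obj (ComplexShape.up ℤ) (c + 1) N i (by omega)))
  refine ⟨N, att w ψ, attMap w ψ, attι w ψ, hN, attι_attMap w ψ, fun j => inferInstance, ?_, ?_,
    ?_, ?_⟩
  · intro j hj
    exact attι_f_isIso w ψ j (j + 1) rfl
      (isZero_single_obj_X (ComplexShape.up ℤ) (c + 1) N (j + 1) (by omega))
  · exact ⟨cokernelInrIso (attφ w ψ) c (c + 1) rfl ≪≫ singleObjXSelf (ComplexShape.up ℤ) (c + 1) N⟩
  · exact ⟨Groth.Agent.Lib.Helper1.PCohLib.coneXIso (attφ w ψ) c (c + 1) rfl ≪≫
      biprod.mapIso (singleObjXSelf (ComplexShape.up ℤ) (c + 1) N) (Iso.refl _)⟩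
  · intro j hj
    have hepi : ∀ i, c ≤ i → Epi (homologyMap (attMap w ψ) i) := by
      intro i hi
      have := hψepi (i + 1) (by omega)
      exact att_epi w ψ i (i + 1) rfl
    have hmono : ∀ i, c + 1 ≤ i → Mono (homologyMap (attMap w ψ) i) := by
      intro i hi
      have := hψepi i hi
      have := hψmono (i + 1) (by omega)
      exact att_mono w ψ i (i + 1) rfl
    refine cocone_exactAt (attMap w ψ) (c + 1) ?_ c rfl (hepi c le_rfl) j (by omega)
    intro i hi
    have := hepi i (by omega)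
    have := hmono i hi
    exact isIso_of_mono_of_epi _

end Y1

section Y2

variable {C : Type u} [Category.{v} C] [Abelian C]

/-- The homology of the mapping cocone is the shifted homology of the mapping cone. -/
noncomputable def coconeHomologyIso {E F : CochainComplex C ℤ} (u : E ⟶ F) (n n' : ℤ)
    (h : n + 1 = n') : (mappingCocone u).homology n' ≅ (mappingCone u).homology n :=
  ((HomologicalComplex.homologyFunctor C (ComplexShape.up ℤ) 0).shiftIso (-1) n' n
    (by omega)).app (mappingCone u)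

end Y2

section Z1

open DerivedCategory Pretriangulated Groth.Agent.Lib.Helper1.PCohInf

variable {C : Type u} [Category.{v} C] [Abelian C] [HasDerivedCategory.{w} C]
  {P : ObjectProperty C} [P.IsClosedUnderIsomorphisms] [P.ContainsZero]
  (hsum : ∀ X Y : C, P X → P Y → P (X ⨯ Y))
  (hqs : PCoh.IsQuasiStableUnderKernels P) (hql : PCoh.IsQuasiLiftable P)

include hsum hqs hql in
/-- Attaching one cell, the finiteness coming from pseudo-coherence hypotheses. -/
lemma stepNPC {G T : CochainComplex C ℤ} (w : G ⟶ T) (c : ℤ)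
    (hT : NPC P c (Q.obj T)) (hG : NPC P (c + 1) (Q.obj G))
    (hex : ∀ j, c + 1 < j → (mappingCocone w).ExactAt j) :
    ∃ (N : C) (G' : CochainComplex C ℤ) (w' : G' ⟶ T) (ι : G ⟶ G'), P N ∧ ι ≫ w' = w ∧
      (∀ j, Mono (ι.f j)) ∧ (∀ j, j ≠ c → IsIso (ι.f j)) ∧ Nonempty (cokernel (ι.f c) ≅ N) ∧
      Nonempty (G'.X c ≅ N ⊞ G.X c) ∧ (∀ j, c < j → (mappingCocone w').ExactAt j) := by
  have hTr := DerivedCategory.mappingCocone_triangle_distinguished w
  have hD : NPC P (c + 1) (Q.obj (mappingCocone w)) := NPC.fiber hsum hqs hql _ hTr c hG hT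
  exact stepFT hql w c hex (finiteType_top_homology hqs (mappingCocone w) (c + 1) hD hex)

include hsum hqs hql in
/-- Finite iteration of `stepNPC`, for strictly `n`-pseudo-coherent complexes. -/
lemma iterNPC {T : CochainComplex C ℤ} (n : ℤ) (hT : NPC P n (Q.obj T)) :
    ∀ (k : ℕ) (G : CochainComplex C ℤ) (w : G ⟶ T) (c : ℤ), (k = 0 ∨ n ≤ c - k + 1) →
      PCoh.IsStrictPC P n G → (∀ j, c + 1 < j → (mappingCocone w).ExactAt j) →
      ∃ (G' : CochainComplex C ℤ) (w' : G' ⟶ T) (ι : G ⟶ G'), ι ≫ w' = w ∧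
        PCoh.IsStrictPC P n G' ∧ (∀ j, Mono (ι.f j)) ∧ (∀ j, c < j → IsIso (ι.f j)) ∧
        ∀ j, c - k + 1 < j → (mappingCocone w').ExactAt j := by
  intro k
  induction k with
  | zero =>
    intro G w c _ hG hex
    exact ⟨G, w, 𝟙 G, Category.id_comp _, hG, fun j => inferInstance, fun j _ => inferInstance,
      fun j hj => hex j (by simpa using hj)⟩
  | succ k ih =>
    intro G w c hc hG hex
    replace hc : n ≤ c - ((k + 1 : ℕ) : ℤ) + 1 := by
      rcases hc with hc | hc
      · omega
      · exact hc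
    push_cast at hc
    obtain ⟨⟨b, hb⟩, hGP⟩ := hG
    have hG' : NPC P (c + 1) (Q.obj G) :=
      ⟨G, ⟨⟨b, hb⟩, fun i hi => hGP i (by omega)⟩, ⟨Iso.refl _⟩⟩
    obtain ⟨N, G₁, w₁, ι₁, hN, h1, h2, h3, _, ⟨e5⟩, h6⟩ :=
      stepNPC hsum hqs hql w c (hT.mono (by omega)) hG' hex
    have hG₁ : PCoh.IsStrictPC P n G₁ := by
      refine ⟨⟨max b c, fun j hj => ?_⟩, fun j hj => ?_⟩
      · have := h3 j (by omega)
        exact IsZero.of_iso (hb j (by omega)) (asIso (ι₁.f j)).symm
      · by_cases hjc : j = c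
        · subst hjc
          exact P.prop_of_iso ((biprod.isoProd _ _).symm ≪≫ e5.symm) (hsum _ _ hN (hGP j hj))
        · have := h3 j hjc
          exact P.prop_of_iso (asIso (ι₁.f j)) (hGP j hj)
    obtain ⟨G', w', ι₂, g1, g2, g3, g4, g5⟩ := ih G₁ w₁ (c - 1) (Or.inr (by omega)) hG₁
      (fun j hj => h6 j (by omega))
    refine ⟨G', w', ι₁ ≫ ι₂, by rw [Category.assoc, g1, h1], g2, fun j => ?_, fun j hj => ?_,
      fun j hj => g5 j (by push_cast at hj; omega)⟩
    · have := h2 j
      have := g3 j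
      rw [comp_f]
      exact mono_comp _ _
    · have := h3 j (by omega)
      have := g4 j (by omega)
      rw [comp_f]
      infer_instance

end Z1

end Groth.Agent.Lib.Helper1.PCohStep
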