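import Mathlib
import Groth.Agent.Lib.Helper1.PCohStep

/-!
# Infinite resolutions, relative version (SGA 6 I 2.?)

Factorisation of an `n`-quasi-isomorphism from a strictly pseudo-coherent complex to a
pseudo-coherent complex: `exists_factorisation`.
-/

open CategoryTheory CategoryTheory.Limits HomologicalComplex CochainComplex DerivedCategory
open Pretriangulated ZeroObject

universe w v u

namespace Groth.Agent.Lib.Helper1.PCohInf2

open Groth.Agent.Lib.Helper1.PCohFT Groth.Agent.Lib.Helper1.PCohLib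
  Groth.Agent.Lib.Helper1.PCohCone Groth.Agent.Lib.Helper1.PCohTri
  Groth.Agent.Lib.Helper1.PCohMore Groth.Agent.Lib.Helper1.PCohDev
  Groth.Agent.Lib.Helper1.PCohStep

section Z2

variable {C : Type u} [Category.{v} C] [Abelian C]

/-- A finite stage of the construction of an infinite resolution, starting from a given complex. -/
structure Stage (P : ObjectProperty C) (T : CochainComplex C ℤ) (B c₀ : ℤ) (k : ℕ) where
  G : CochainComplex C ℤ
  w : G ⟶ T
  hP : ∀ j, P (G.X j)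
  hb : ∀ j, B < j → IsZero (G.X j)
  hex : ∀ j, c₀ - k + 1 < j → (mappingCocone w).ExactAt j

variable {P : ObjectProperty C} [P.IsClosedUnderIsomorphisms] [P.ContainsZero]
  {T : CochainComplex C ℤ} {B c₀ : ℤ}

variable [HasDerivedCategory.{w} C]
  (hsum : ∀ X Y : C, P X → P Y → P (X ⨯ Y))
  (hqs : PCoh.IsQuasiStableUnderKernels P) (hql : PCoh.IsQuasiLiftable P)
  (hPC : ∀ n, NPC P n (Q.obj T)) (hc₀ : c₀ ≤ B)

include hsum hqs hql hPC hc₀ in
lemma Stage.exists_next {k : ℕ} (S : Stage P T B c₀ k) :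
    ∃ (S' : Stage P T B c₀ (k + 1)) (ι : S.G ⟶ S'.G), ι ≫ S'.w = S.w ∧
      (∀ j, Mono (ι.f j)) ∧ ∀ j, j ≠ c₀ - k → IsIso (ι.f j) := by
  have hG : NPC P (c₀ - k + 1) (Q.obj S.G) :=
    ⟨S.G, ⟨⟨B, S.hb⟩, fun i _ => S.hP i⟩, ⟨Iso.refl _⟩⟩
  obtain ⟨N, G', w', ι, hN, h1, h2, h3, _, ⟨e5⟩, h6⟩ :=
    stepNPC hsum hqs hql S.w (c₀ - k) (hPC _) hG S.hex
  refine ⟨⟨G', w', fun j => ?_, fun j hj => ?_, fun j hj => h6 j (by push_cast at hj; omega)⟩,
    ι, h1, h2, h3⟩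
  · by_cases hjc : j = c₀ - k
    · subst hjc
      exact P.prop_of_iso ((biprod.isoProd _ _).symm ≪≫ e5.symm) (hsum _ _ hN (S.hP _))
    · have := h3 j hjc
      exact P.prop_of_iso (asIso (ι.f j)) (S.hP j)
  · have := h3 j (by omega)
    exact IsZero.of_iso (S.hb j hj) (asIso (ι.f j)).symm

/-- The next stage. -/
noncomputable def Stage.next {k : ℕ} (S : Stage P T B c₀ k) : Stage P T B c₀ (k + 1) :=
  (S.exists_next hsum hqs hql hPC hc₀).choose

/-- The transition map to the next stage. -/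
noncomputable def Stage.toNext {k : ℕ} (S : Stage P T B c₀ k) :
    S.G ⟶ (S.next hsum hqs hql hPC hc₀).G :=
  (S.exists_next hsum hqs hql hPC hc₀).choose_spec.choose

lemma Stage.toNext_w {k : ℕ} (S : Stage P T B c₀ k) :
    S.toNext hsum hqs hql hPC hc₀ ≫ (S.next hsum hqs hql hPC hc₀).w = S.w :=
  (S.exists_next hsum hqs hql hPC hc₀).choose_spec.choose_spec.1

lemma Stage.mono_toNext_f {k : ℕ} (S : Stage P T B c₀ k) (j : ℤ) :
    Mono ((S.toNext hsum hqs hql hPC hc₀).f j) :=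
  (S.exists_next hsum hqs hql hPC hc₀).choose_spec.choose_spec.2.1 j

lemma Stage.isIso_toNext_f {k : ℕ} (S : Stage P T B c₀ k) (j : ℤ) (hj : j ≠ c₀ - k) :
    IsIso ((S.toNext hsum hqs hql hPC hc₀).f j) :=
  (S.exists_next hsum hqs hql hPC hc₀).choose_spec.choose_spec.2.2 j hj

variable (S₀ : Stage P T B c₀ 0)

/-- The sequence of stages. -/
noncomputable def stages : ∀ k : ℕ, Stage P T B c₀ k
  | 0 => S₀
  | k + 1 => (stages k).next hsum hqs hql hPC hc₀

/-- The inductive system of complexes. -/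
noncomputable def tower : ℕ ⥤ CochainComplex C ℤ :=
  Functor.ofSequence (X := fun k => (stages hsum hqs hql hPC hc₀ S₀ k).G)
    (fun k => (stages hsum hqs hql hPC hc₀ S₀ k).toNext hsum hqs hql hPC hc₀)

lemma tower_map_succ (k : ℕ) :
    (tower hsum hqs hql hPC hc₀ S₀).map (homOfLE (Nat.le_add_right k 1)) =
      (stages hsum hqs hql hPC hc₀ S₀ k).toNext hsum hqs hql hPC hc₀ :=
  Functor.ofSequence_map_homOfLE_succ _ k

lemma isIso_tower_map_f {k₁ k₂ : ℕ} (hk : k₁ ≤ k₂) (j : ℤ) (hj : c₀ - k₁ < j) :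
    IsIso (((tower hsum hqs hql hPC hc₀ S₀).map (homOfLE hk)).f j) := by
  obtain ⟨d, rfl⟩ := Nat.exists_eq_add_of_le hk
  induction d with
  | zero =>
    simp only [Nat.add_zero, homOfLE_refl, CategoryTheory.Functor.map_id, id_f]
    infer_instance
  | succ d ih =>
    rw [← homOfLE_comp (show k₁ ≤ k₁ + d by omega) (show k₁ + d ≤ k₁ + (d + 1) by omega),
      Functor.map_comp, comp_f]
    have h1 := ih (by omega)
    have h2 : IsIso (((tower hsum hqs hql hPC hc₀ S₀).map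
        (homOfLE (show k₁ + d ≤ k₁ + (d + 1) by omega))).f j) := by
      have := tower_map_succ hsum hqs hql hPC hc₀ S₀ (k₁ + d)
      rw [this]
      exact Stage.isIso_toNext_f hsum hqs hql hPC hc₀ _ j (by push_cast; omega)
    infer_instance

lemma mono_tower_map_f {k₁ k₂ : ℕ} (hk : k₁ ≤ k₂) (j : ℤ) :
    Mono (((tower hsum hqs hql hPC hc₀ S₀).map (homOfLE hk)).f j) := by
  obtain ⟨d, rfl⟩ := Nat.exists_eq_add_of_le hk
  induction d with
  | zero =>
    simp only [Nat.add_zero, homOfLE_refl, CategoryTheory.Functor.map_id, id_f]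
    infer_instance
  | succ d ih =>
    rw [← homOfLE_comp (show k₁ ≤ k₁ + d by omega) (show k₁ + d ≤ k₁ + (d + 1) by omega),
      Functor.map_comp, comp_f]
    have h1 := ih (by omega)
    have h2 : Mono (((tower hsum hqs hql hPC hc₀ S₀).map
        (homOfLE (show k₁ + d ≤ k₁ + (d + 1) by omega))).f j) := by
      have := tower_map_succ hsum hqs hql hPC hc₀ S₀ (k₁ + d)
      rw [this]
      exact Stage.mono_toNext_f hsum hqs hql hPC hc₀ _ j
    exact mono_comp _ _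

end Z2

section Z3

variable {C : Type u} [Category.{v} C] [Abelian C]
  {P : ObjectProperty C} [P.IsClosedUnderIsomorphisms] [P.ContainsZero]
  {T : CochainComplex C ℤ} {B c₀ : ℤ} [HasDerivedCategory.{w} C]
  (hsum : ∀ X Y : C, P X → P Y → P (X ⨯ Y))
  (hqs : PCoh.IsQuasiStableUnderKernels P) (hql : PCoh.IsQuasiLiftable P)
  (hPC : ∀ n, NPC P n (Q.obj T)) (hc₀ : c₀ ≤ B) (S₀ : Stage P T B c₀ 0)

lemma isEventuallyConstantFrom (j : ℤ) (k : ℕ) (h : c₀ - k < j) :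
    (tower hsum hqs hql hPC hc₀ S₀ ⋙ eval _ _ j).IsEventuallyConstantFrom k := by
  intro k' f
  have : f = homOfLE (leOfHom f) := Subsingleton.elim _ _
  rw [this]
  exact isIso_tower_map_f hsum hqs hql hPC hc₀ S₀ (leOfHom f) j h

instance (j : ℤ) : HasColimit (tower hsum hqs hql hPC hc₀ S₀ ⋙ eval _ _ j) :=
  (isEventuallyConstantFrom hsum hqs hql hPC hc₀ S₀ j (c₀ - j + 1).toNat (by omega)).hasColimit

/-- The infinite resolution. -/
noncomputable abbrev Ginf : CochainComplex C ℤ := colimit (tower hsum hqs hql hPC hc₀ S₀)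

/-- The inclusion of a stage. -/
noncomputable def ιinf (k : ℕ) :
    (stages hsum hqs hql hPC hc₀ S₀ k).G ⟶ Ginf hsum hqs hql hPC hc₀ S₀ :=
  colimit.ι (tower hsum hqs hql hPC hc₀ S₀) k

lemma isIso_ιinf_f (k : ℕ) (j : ℤ) (h : c₀ - k < j) :
    IsIso ((ιinf hsum hqs hql hPC hc₀ S₀ k).f j) :=
  (isEventuallyConstantFrom hsum hqs hql hPC hc₀ S₀ j k h).isIso_ι_of_isColimit
    (isColimitOfPreserves (eval C (ComplexShape.up ℤ) j)
      (colimit.isColimit (tower hsum hqs hql hPC hc₀ S₀)))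

lemma tower_map_ιinf {k₁ k₂ : ℕ} (hk : k₁ ≤ k₂) :
    (tower hsum hqs hql hPC hc₀ S₀).map (homOfLE hk) ≫ ιinf hsum hqs hql hPC hc₀ S₀ k₂ =
      ιinf hsum hqs hql hPC hc₀ S₀ k₁ :=
  colimit.w (tower hsum hqs hql hPC hc₀ S₀) (homOfLE hk)

lemma mono_ιinf_f (k : ℕ) (j : ℤ) : Mono ((ιinf hsum hqs hql hPC hc₀ S₀ k).f j) := by
  have hk : k ≤ k + (c₀ - j + 1).toNat := by omega
  rw [← tower_map_ιinf hsum hqs hql hPC hc₀ S₀ hk, comp_f]
  have h1 := mono_tower_map_f hsum hqs hql hPC hc₀ S₀ hk j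
  have h2 := isIso_ιinf_f hsum hqs hql hPC hc₀ S₀ (k + (c₀ - j + 1).toNat) j (by push_cast; omega)
  exact @mono_comp _ _ _ _ _ _ h1 _ (@IsIso.mono_of_iso _ _ _ _ _ h2)

/-- The cocone given by the maps to `T`. -/
noncomputable def towerCocone : Cocone (tower hsum hqs hql hPC hc₀ S₀) where
  pt := T
  ι := NatTrans.ofSequence (fun k => (stages hsum hqs hql hPC hc₀ S₀ k).w) (by
    intro k
    dsimp
    rw [Category.comp_id, tower_map_succ]
    exact Stage.toNext_w hsum hqs hql hPC hc₀ _)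

/-- The map from the infinite resolution. -/
noncomputable def winf : Ginf hsum hqs hql hPC hc₀ S₀ ⟶ T :=
  colimit.desc _ (towerCocone hsum hqs hql hPC hc₀ S₀)

lemma ιinf_winf (k : ℕ) :
    ιinf hsum hqs hql hPC hc₀ S₀ k ≫ winf hsum hqs hql hPC hc₀ S₀ =
      (stages hsum hqs hql hPC hc₀ S₀ k).w :=
  colimit.ι_desc _ _

lemma P_Ginf_X (j : ℤ) : P ((Ginf hsum hqs hql hPC hc₀ S₀).X j) := by
  have := isIso_ιinf_f hsum hqs hql hPC hc₀ S₀ (c₀ - j + 1).toNat j (by omega)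
  exact P.prop_of_iso (asIso ((ιinf hsum hqs hql hPC hc₀ S₀ (c₀ - j + 1).toNat).f j))
    ((stages hsum hqs hql hPC hc₀ S₀ _).hP j)

lemma isZero_Ginf_X (j : ℤ) (hj : B < j) : IsZero ((Ginf hsum hqs hql hPC hc₀ S₀).X j) := by
  have := isIso_ιinf_f hsum hqs hql hPC hc₀ S₀ (c₀ - j + 1).toNat j (by omega)
  exact IsZero.of_iso ((stages hsum hqs hql hPC hc₀ S₀ _).hb j hj)
    (asIso ((ιinf hsum hqs hql hPC hc₀ S₀ (c₀ - j + 1).toNat).f j)).symm

lemma quasiIsoAt_ιinf (k : ℕ) (j : ℤ) (h : c₀ - k < j - 1) :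
    QuasiIsoAt (ιinf hsum hqs hql hPC hc₀ S₀ k) j := by
  rw [quasiIsoAt_iff' _ (j - 1) j (j + 1) (by simp) (by simp)]
  let φ := (shortComplexFunctor' C _ (j - 1) j (j + 1)).map (ιinf hsum hqs hql hPC hc₀ S₀ k)
  have : IsIso φ.τ₁ := isIso_ιinf_f hsum hqs hql hPC hc₀ S₀ k (j - 1) h
  have : IsIso φ.τ₂ := isIso_ιinf_f hsum hqs hql hPC hc₀ S₀ k j (by omega)
  have : IsIso φ.τ₃ := isIso_ιinf_f hsum hqs hql hPC hc₀ S₀ k (j + 1) (by omega)
  exact ShortComplex.quasiIso_of_epi_of_isIso_of_mono φ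

lemma quasiIsoAt_stage_w (k : ℕ) (j : ℤ) (h : c₀ - k + 1 < j) :
    QuasiIsoAt (stages hsum hqs hql hPC hc₀ S₀ k).w j := by
  rw [quasiIsoAt_iff_isIso_homologyMap]
  exact isIso_homologyMap_of_cocone_exact _ j (j + 1) rfl
    ((stages hsum hqs hql hPC hc₀ S₀ k).hex j h)
    ((stages hsum hqs hql hPC hc₀ S₀ k).hex (j + 1) (by omega))

instance quasiIso_winf : QuasiIso (winf hsum hqs hql hPC hc₀ S₀) where
  quasiIsoAt j := by
    have h1 := quasiIsoAt_ιinf hsum hqs hql hPC hc₀ S₀ (c₀ - j + 2).toNat j (by omega)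
    have h2 := quasiIsoAt_stage_w hsum hqs hql hPC hc₀ S₀ (c₀ - j + 2).toNat j (by omega)
    rw [← ιinf_winf] at h2
    exact (quasiIsoAt_iff_comp_left (ιinf hsum hqs hql hPC hc₀ S₀ (c₀ - j + 2).toNat)
      (winf hsum hqs hql hPC hc₀ S₀) j).1 h2

include hsum hqs hql hPC hc₀ in
/-- Factorisation of an `n`-quasi-isomorphism (`n = c₀ + 1`) from a strictly pseudo-coherent
complex to a pseudo-coherent complex through a strictly pseudo-coherent resolution. -/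
theorem exists_factorisation (G₀ : CochainComplex C ℤ) (w₀ : G₀ ⟶ T)
    (hP₀ : ∀ j, P (G₀.X j)) (hb₀ : ∀ j, B < j → IsZero (G₀.X j))
    (hex₀ : ∀ j, c₀ + 1 < j → (mappingCocone w₀).ExactAt j) :
    ∃ (G : CochainComplex C ℤ) (v : G₀ ⟶ G) (w : G ⟶ T), v ≫ w = w₀ ∧ QuasiIso w ∧
      (∀ j, P (G.X j)) ∧ (∀ j, B < j → IsZero (G.X j)) ∧ (∀ j, Mono (v.f j)) ∧
      ∀ j, c₀ < j → IsIso (v.f j) := by
  let S₀ : Stage P T B c₀ 0 := ⟨G₀, w₀, hP₀, hb₀, fun j hj => hex₀ j (by simpa using hj)⟩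
  exact ⟨Ginf hsum hqs hql hPC hc₀ S₀, ιinf hsum hqs hql hPC hc₀ S₀ 0,
    winf hsum hqs hql hPC hc₀ S₀, ιinf_winf hsum hqs hql hPC hc₀ S₀ 0, inferInstance,
    P_Ginf_X hsum hqs hql hPC hc₀ S₀, isZero_Ginf_X hsum hqs hql hPC hc₀ S₀,
    mono_ιinf_f hsum hqs hql hPC hc₀ S₀ 0,
    fun j hj => isIso_ιinf_f hsum hqs hql hPC hc₀ S₀ 0 j (by simpa using hj)⟩

end Z3

end Groth.Agent.Lib.Helper1.PCohInf2
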