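import Mathlib
import Groth.Prelude.Def_OmegaPn
import Groth.Agent.Lib.Helper1.OmSect
import Groth.Agent.Lib.Helper1.ConormMap
import Groth.Agent.Lib.Helper1.InfNbhd

set_option autoImplicit false
set_option linter.style.haveILetI false
universe u
open CategoryTheory CategoryTheory.Limits AlgebraicGeometry TopologicalSpace Opposite

namespace Groth.Agent.Lib.Helper1.PPLocal

variable {X S : Scheme.{u}} (f : X ⟶ S)

theorem preimage_diagNbhd (U : X.Opens) : pullback.diagonal f ⁻¹ᵁ OmegaSh.diagNbhd f U = U :=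
  le_antisymm (OmegaSh.diagonal_preimage_le f le_rfl) (OmegaSh.le_preimage_diagNbhd f U)

theorem diagonal_app_surjective (U : X.Opens) :
    Function.Surjective ((pullback.diagonal f).app (OmegaSh.diagNbhd f U)) := by
  intro y
  let y' : Γ(X, U) := X.presheaf.map (homOfLE (OmegaSh.le_preimage_diagNbhd f U)).op y
  refine ⟨(pullback.fst f f).appLE U (OmegaSh.diagNbhd f U) inf_le_left y', ?_⟩
  have h := OmegaSh.res_diagonal_app_appLE f _ (pullback.diagonal_fst f) U inf_le_left y'
  have hinj : Function.Injective (X.presheaf.map (homOfLE (OmegaSh.le_preimage_diagNbhd f U)).op) := by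
    intro a b hab
    have := congrArg (X.presheaf.map (homOfLE (OmegaSh.diagonal_preimage_le f (le_refl (OmegaSh.diagNbhd f U)))).op) hab
    rwa [OmegaSh.res_res, OmegaSh.res_res, OmegaSh.res_refl, OmegaSh.res_refl] at this
  exact hinj h

section Aff

variable {U : X.Opens} (hU : IsAffineOpen U) {V : S.Opens} (hV : IsAffineOpen V) (h : U ≤ f ⁻¹ᵁ V)

include hU hV h in
theorem isClosedImmersion_restrict :
    IsClosedImmersion (pullback.diagonal f ∣_ OmegaSh.diagNbhd f U) := by
  have hW : IsAffineOpen (OmegaSh.diagNbhd f U) := OmSect.isAffineOpen_diagNbhd f hU hV h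
  have hU' : IsAffineOpen (pullback.diagonal f ⁻¹ᵁ OmegaSh.diagNbhd f U) := by
    rw [preimage_diagNbhd]; exact hU
  haveI : IsAffine (OmegaSh.diagNbhd f U).toScheme := hW
  haveI : IsAffine (pullback.diagonal f ⁻¹ᵁ OmegaSh.diagNbhd f U).toScheme := hU'
  apply IsClosedImmersion.of_surjective_of_isAffine
  have key := morphismRestrict_appTop (pullback.diagonal f) (OmegaSh.diagNbhd f U)
  intro y
  have hsurj : Function.Surjective ((pullback.diagonal f).app ((OmegaSh.diagNbhd f U).ι ''ᵁ ⊤)) := by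
    have e : (OmegaSh.diagNbhd f U).ι ''ᵁ ⊤ = OmegaSh.diagNbhd f U := by simp
    rw [e]
    exact diagonal_app_surjective f U
  have hiso : Function.Surjective (X.presheaf.map (eqToHom (image_morphismRestrict_preimage
      (pullback.diagonal f) (OmegaSh.diagNbhd f U) ⊤)).op) :=
    ((ConcreteCategory.isIso_iff_bijective _).mp inferInstance).2
  obtain ⟨z, hz⟩ := hiso y
  obtain ⟨w, hw⟩ := hsurj z
  refine ⟨w, ?_⟩
  have e := congr($key w)
  refine e.trans ?_
  change X.presheaf.map _ ((pullback.diagonal f).app _ w) = y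
  rw [hw]; exact hz

include hU hV h in
theorem diagNbhd_le_coborderRange :
    OmegaSh.diagNbhd f U ≤ (pullback.diagonal f).coborderRange := by
  intro x hx
  have hci := isClosedImmersion_restrict f hU hV h
  have hcl : IsClosed (Set.range (pullback.diagonal f ∣_ OmegaSh.diagNbhd f U)) :=
    (pullback.diagonal f ∣_ OmegaSh.diagNbhd f U).isClosedEmbedding.isClosed_range
  obtain ⟨C, hC, hCeq⟩ := isClosed_induced_iff.mp hcl
  have hsub : Set.range (pullback.diagonal f) ⊆
      ((OmegaSh.diagNbhd f U).1)ᶜ ∪ C := by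
    rintro _ ⟨z, rfl⟩
    by_cases hz : pullback.diagonal f z ∈ OmegaSh.diagNbhd f U
    · right
      have hmem : (⟨pullback.diagonal f z, hz⟩ : ↥(OmegaSh.diagNbhd f U)) ∈
          Set.range (pullback.diagonal f ∣_ OmegaSh.diagNbhd f U) :=
        ⟨⟨z, hz⟩, Subtype.ext (morphismRestrict_base_coe _ _ _)⟩
      rw [← hCeq] at hmem
      exact hmem
    · left; exact hz
  have hclosed : IsClosed (((OmegaSh.diagNbhd f U).1)ᶜ ∪ C) :=
    (OmegaSh.diagNbhd f U).2.isClosed_compl.union hC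
  change x ∈ coborder (Set.range (pullback.diagonal f))
  rw [coborder, Set.mem_compl_iff]
  rintro ⟨hx1, hx2⟩
  have hx3 := closure_minimal hsub hclosed hx1
  rcases hx3 with hx3 | hx3
  · exact hx3 hx
  · have hmem : (⟨x, hx⟩ : ↥(OmegaSh.diagNbhd f U)) ∈
        Set.range (pullback.diagonal f ∣_ OmegaSh.diagNbhd f U) := by
      rw [← hCeq]; exact hx3
    obtain ⟨z, hz⟩ := hmem
    apply hx2
    refine ⟨z.1, ?_⟩
    have := congrArg Subtype.val hz
    rw [morphismRestrict_base_coe] at this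
    exact this

end Aff

variable (n : ℕ)

theorem nbhdι_eq : PrinPart.nbhdι f n = InfNbhd.immι n (pullback.diagonal f) := rfl

theorem nbhdι_preimage (U : X.Opens) :
    PrinPart.nbhdι f n ⁻¹ᵁ OmegaSh.diagNbhd f U = PrinPart.pr1 f n ⁻¹ᵁ U := by
  have h1 : PrinPart.nbhdι f n ⁻¹ᵁ OmegaSh.diagNbhd f U =
      PrinPart.pr1 f n ⁻¹ᵁ U ⊓ PrinPart.pr2 f n ⁻¹ᵁ U := rfl
  rw [h1, ← PrinPart.preimage_pr1, inf_idem]

section Aff2

variable {U : X.Opens} (hU : IsAffineOpen U) {V : S.Opens} (hV : IsAffineOpen V) (h : U ≤ f ⁻¹ᵁ V)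

include hU hV h in
theorem isAffineOpen_pr1_preimage : IsAffineOpen (PrinPart.pr1 f n ⁻¹ᵁ U) := by
  rw [← nbhdι_preimage]
  exact InfNbhd.immι_isAffineOpen n (pullback.diagonal f)
    (OmSect.isAffineOpen_diagNbhd f hU hV h) (diagNbhd_le_coborderRange f hU hV h)

/-- `ψ : Γ(X ×_S X, diagNbhd U) ⟶ Γ(nbhd, pr1⁻¹ U)`. -/
noncomputable def psi (U : X.Opens) : Γ(pullback f f, OmegaSh.diagNbhd f U) ⟶
    Γ(PrinPart.nbhd f n, PrinPart.pr1 f n ⁻¹ᵁ U) :=
  (PrinPart.nbhdι f n).appLE (OmegaSh.diagNbhd f U) (PrinPart.pr1 f n ⁻¹ᵁ U)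
    (nbhdι_preimage f n U).ge

theorem psi_eq (U : X.Opens) : psi f n U = (PrinPart.nbhdι f n).app (OmegaSh.diagNbhd f U) ≫
    (PrinPart.nbhd f n).presheaf.map (homOfLE (nbhdι_preimage f n U).ge).op := rfl

include hU hV h in
theorem psi_surjective : Function.Surjective (psi f n U) := by
  intro y
  have hb := InfNbhd.map_bijective_of_eq (nbhdι_preimage f n U).ge (nbhdι_preimage f n U).le
  obtain ⟨z, hz⟩ := hb.2 y
  obtain ⟨w, hw⟩ := InfNbhd.immι_app_surjective n (pullback.diagonal f)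
    (OmSect.isAffineOpen_diagNbhd f hU hV h) (diagNbhd_le_coborderRange f hU hV h) z
  exact ⟨w, (congrArg _ hw).trans hz⟩

include hU hV h in
theorem ker_psi : RingHom.ker (psi f n U).hom = RingHom.ker (OmSect.mu f (U := U)).hom ^ (n + 1) := by
  have h1 := InfNbhd.ker_immι_app n (pullback.diagonal f)
    (OmSect.isAffineOpen_diagNbhd f hU hV h) (diagNbhd_le_coborderRange f hU hV h)
  have h2 : RingHom.ker (psi f n U).hom =
      RingHom.ker ((PrinPart.nbhdι f n).app (OmegaSh.diagNbhd f U)).hom := by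
    ext r
    rw [RingHom.mem_ker, RingHom.mem_ker]
    have hb := InfNbhd.map_bijective_of_eq (nbhdι_preimage f n U).ge (nbhdι_preimage f n U).le
    constructor
    · intro h0
      apply hb.1
      rw [map_zero]; exact h0
    · intro h0
      change (PrinPart.nbhd f n).presheaf.map _ ((PrinPart.nbhdι f n).app _ r) = 0
      rw [h0, map_zero]
  have h3 : RingHom.ker (OmSect.mu f (U := U)).hom =
      RingHom.ker ((pullback.diagonal f).app (OmegaSh.diagNbhd f U)).hom := by
    ext r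
    rw [RingHom.mem_ker, RingHom.mem_ker]
    exact ⟨OmSect.app_eq_zero_of_mu f r, OmSect.mu_eq_zero_of_app f r⟩
  rw [h2, h3]
  exact h1

theorem fst_psi (U : X.Opens) :
    (pullback.fst f f).appLE U (OmegaSh.diagNbhd f U) inf_le_left ≫ psi f n U =
      (PrinPart.pr1 f n).appLE U (PrinPart.pr1 f n ⁻¹ᵁ U) le_rfl := by
  unfold psi
  rw [Scheme.Hom.appLE_comp_appLE]
  rfl

theorem snd_psi (U : X.Opens) :
    (pullback.snd f f).appLE U (OmegaSh.diagNbhd f U) inf_le_right ≫ psi f n U =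
      (PrinPart.pr2 f n).appLE U (PrinPart.pr1 f n ⁻¹ᵁ U) (PrinPart.preimage_pr1 f n U).le := by
  unfold psi
  rw [Scheme.Hom.appLE_comp_appLE]
  rfl

end Aff2

end Groth.Agent.Lib.Helper1.PPLocal
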