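import Mathlib
import Groth.Prelude.Def_OmegaPn
import Groth.Agent.Lib.Helper1.PPLocal

set_option autoImplicit false
set_option linter.style.haveILetI false
universe u
open CategoryTheory CategoryTheory.Limits AlgebraicGeometry TopologicalSpace Opposite

namespace Groth.Agent.Lib.Helper1.PPAff

variable {X S : Scheme.{u}} (f : X ⟶ S) (n : ℕ)

theorem exists_affine_pair (x : X) (W : X.Opens) (hx : x ∈ W) :
    ∃ (U : X.Opens) (V : S.Opens), IsAffineOpen U ∧ IsAffineOpen V ∧ x ∈ U ∧ U ≤ W ∧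
      U ≤ f ⁻¹ᵁ V := by
  obtain ⟨_, ⟨V : S.Opens, hV, rfl⟩, hsV, -⟩ := S.isBasis_affineOpens.exists_subset_of_mem_open
    (Set.mem_univ (f x)) isOpen_univ
  obtain ⟨_, ⟨U : X.Opens, hU, rfl⟩, hxU, hUle⟩ :=
    X.isBasis_affineOpens.exists_subset_of_mem_open
      (show x ∈ ((f ⁻¹ᵁ V ⊓ W : X.Opens) : Set X) from ⟨hsV, hx⟩) (f ⁻¹ᵁ V ⊓ W).2
  exact ⟨U, V, hU, hV, hxU, fun y hy => (hUle hy).2, fun y hy => (hUle hy).1⟩

instance isAffineHom_pr1 : IsAffineHom (PrinPart.pr1 f n) := by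
  apply isAffineHom_of_forall_exists_isAffineOpen
  intro x
  obtain ⟨U, V, hU, hV, hxU, -, hUV⟩ := exists_affine_pair f x ⊤ trivial
  exact ⟨U, hxU, hU, PPLocal.isAffineOpen_pr1_preimage f n hU hV hUV⟩

instance isAffineHom_pr2 : IsAffineHom (PrinPart.pr2 f n) := by
  apply isAffineHom_of_forall_exists_isAffineOpen
  intro x
  obtain ⟨U, V, hU, hV, hxU, -, hUV⟩ := exists_affine_pair f x ⊤ trivial
  refine ⟨U, hxU, hU, ?_⟩
  rw [← PrinPart.preimage_pr1]
  exact PPLocal.isAffineOpen_pr1_preimage f n hU hV hUV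

end Groth.Agent.Lib.Helper1.PPAff
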