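import Mathlib
import Groth.Agent.Lib.Helper1.KerBC

set_option autoImplicit false
set_option linter.style.haveILetI false
universe u
open CategoryTheory CategoryTheory.Limits

/-! ring-level base change of principal parts. -/

namespace Groth.Agent.Lib.Helper1.PPBCRing

section Quot

variable {C N C' N' : CommRingCat.{u}} {q : C ⟶ N} {γ : C ⟶ C'} {q' : C' ⟶ N'}
  (hq : Function.Surjective q) (hq' : Function.Surjective q')
  (hker : RingHom.ker q'.hom = Ideal.map γ.hom (RingHom.ker q.hom))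

include hq hker in
/-- the induced map on quotients -/
theorem exists_T : ∃ T : N ⟶ N', q ≫ T = γ ≫ q' := by
  have hle : RingHom.ker q.hom ≤ RingHom.ker (q'.hom.comp γ.hom) := by
    intro x hx
    rw [RingHom.mem_ker, RingHom.comp_apply]
    have : γ.hom x ∈ RingHom.ker q'.hom := by
      rw [hker]; exact Ideal.mem_map_of_mem _ hx
    exact this
  refine ⟨CommRingCat.ofHom (q.hom.liftOfSurjective hq ⟨q'.hom.comp γ.hom, hle⟩), ?_⟩
  ext x
  exact q.hom.liftOfRightInverse_comp_apply _ (Function.rightInverse_surjInv hq)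
    ⟨q'.hom.comp γ.hom, hle⟩ x

include hq hq' hker in
/-- quotients by an ideal and by its extension form a pushout square. -/
theorem isPushout_quot (T : N ⟶ N') (hT : q ≫ T = γ ≫ q') : IsPushout q γ T q' := by
  haveI : Epi q := ConcreteCategory.epi_of_surjective q hq
  haveI : Epi q' := ConcreteCategory.epi_of_surjective q' hq'
  have hle : ∀ (W : CommRingCat.{u}) (a : N ⟶ W) (b : C' ⟶ W), q ≫ a = γ ≫ b →
      RingHom.ker q'.hom ≤ RingHom.ker b.hom := by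
    intro W a b hab
    rw [hker, Ideal.map_le_iff_le_comap]
    intro x hx
    rw [Ideal.mem_comap, RingHom.mem_ker]
    have h1 : b (γ x) = a (q x) := congr($(hab.symm) x)
    have h2 : q x = 0 := hx
    change b (γ x) = 0
    rw [h1, h2, map_zero]
  refine ⟨⟨hT⟩, ⟨PushoutCocone.IsColimit.mk _
    (fun s => CommRingCat.ofHom (q'.hom.liftOfSurjective hq'
      ⟨s.inr.hom, hle _ s.inl s.inr s.condition⟩)) ?_ ?_ ?_⟩⟩
  · intro s
    have hr : q' ≫ CommRingCat.ofHom (q'.hom.liftOfSurjective hq'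
        ⟨s.inr.hom, hle _ s.inl s.inr s.condition⟩) = s.inr := by
      ext x
      exact q'.hom.liftOfRightInverse_comp_apply _ (Function.rightInverse_surjInv hq')
        ⟨s.inr.hom, hle _ s.inl s.inr s.condition⟩ x
    rw [← cancel_epi q, ← Category.assoc, hT, Category.assoc, hr, s.condition]
  · intro s
    ext x
    exact q'.hom.liftOfRightInverse_comp_apply _ (Function.rightInverse_surjInv hq')
      ⟨s.inr.hom, hle _ s.inl s.inr s.condition⟩ x
  · intro s m _ hm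
    rw [← cancel_epi q', hm]
    ext x
    exact (q'.hom.liftOfRightInverse_comp_apply _ (Function.rightInverse_surjInv hq')
      ⟨s.inr.hom, hle _ s.inl s.inr s.condition⟩ x).symm

end Quot

section Main

variable {A B A' B' C C' : CommRingCat.{u}} {φ : A ⟶ B} {α : A ⟶ A'} {β : B ⟶ B'} {φ' : A' ⟶ B'}
  (P1 : IsPushout φ α β φ')
  {p₁ p₂ : B ⟶ C} (P2 : IsPushout φ φ p₁ p₂)
  {p₁' p₂' : B' ⟶ C'} (P2' : IsPushout φ' φ' p₁' p₂')
  {γ : C ⟶ C'} (hγ₁ : p₁ ≫ γ = β ≫ p₁') (hγ₂ : p₂ ≫ γ = β ≫ p₂')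

include P1 P2 P2' hγ₁ hγ₂ in
/-- `C' = C ⊗_B B'` through the first factor. -/
theorem isPushout_fst : IsPushout p₁ β γ p₁' := by
  -- big square : `C' = B ⊗_A B'`
  have big : IsPushout φ (α ≫ φ') (β ≫ p₂') p₁' := P1.paste_vert P2'.flip
  have big' : IsPushout φ (φ ≫ β) (p₂ ≫ γ) p₁' := by
    rw [hγ₂, P1.w]; exact big
  exact IsPushout.of_top big' hγ₁ P2.flip

variable {μ : C ⟶ B} (hμ₁ : p₁ ≫ μ = 𝟙 B) {μ' : C' ⟶ B'} (hμ₁' : p₁' ≫ μ' = 𝟙 B')
  (hμγ : γ ≫ μ' = μ ≫ β)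

include P1 P2 P2' hγ₁ hγ₂ hμ₁ hμ₁' hμγ in
theorem isPushout_mu : IsPushout μ γ β μ' := by
  have h3 := isPushout_fst P1 P2 P2' hγ₁ hγ₂
  have big : IsPushout (p₁ ≫ μ) β β (p₁' ≫ μ') := by
    rw [hμ₁, hμ₁']
    exact IsPushout.of_horiz_isIso ⟨by simp⟩
  exact IsPushout.of_left big hμγ.symm h3

include P1 P2 P2' hγ₁ hγ₂ hμ₁ hμ₁' hμγ in
theorem ker_mu' : RingHom.ker μ'.hom = Ideal.map γ.hom (RingHom.ker μ.hom) := by
  have hsurj : Function.Surjective μ := by
    intro b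
    exact ⟨p₁ b, congr($hμ₁ b)⟩
  exact KerBC.ker_inr (isPushout_mu P1 P2 P2' hγ₁ hγ₂ hμ₁ hμ₁' hμγ) hsurj

variable {N N' : CommRingCat.{u}} {q : C ⟶ N} {q' : C' ⟶ N'} (n : ℕ)
  (hq : Function.Surjective q) (hq' : Function.Surjective q')
  (hkq : RingHom.ker q.hom = RingHom.ker μ.hom ^ (n + 1))
  (hkq' : RingHom.ker q'.hom = RingHom.ker μ'.hom ^ (n + 1))

include P1 P2 P2' hγ₁ hγ₂ hμ₁ hμ₁' hμγ hq hq' hkq hkq' in
/-- the base change square for principal parts. -/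
theorem exists_T_isPushout : ∃ T : N ⟶ N', q ≫ T = γ ≫ q' ∧
    IsPushout (p₁ ≫ q) β T (p₁' ≫ q') := by
  have hker : RingHom.ker q'.hom = Ideal.map γ.hom (RingHom.ker q.hom) := by
    rw [hkq', hkq, ker_mu' P1 P2 P2' hγ₁ hγ₂ hμ₁ hμ₁' hμγ, Ideal.map_pow]
  obtain ⟨T, hT⟩ := exists_T hq hker
  refine ⟨T, hT, ?_⟩
  exact (isPushout_fst P1 P2 P2' hγ₁ hγ₂).paste_horiz (isPushout_quot hq hq' hker T hT)

end Main

end Groth.Agent.Lib.Helper1.PPBCRing
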