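import Mathlib
import Groth.Agent.Lib.Helper1.OmSect

set_option autoImplicit false
set_option linter.style.haveILetI false
universe u
open CategoryTheory CategoryTheory.Limits

namespace Groth.Agent.Lib.Helper1.PPFin

section Ring

variable {A B R : CommRingCat.{u}} {φ : A ⟶ B} {p₁ p₂ : B ⟶ R} (hpo : IsPushout φ φ p₁ p₂)
  {μ : R ⟶ B} (h₁ : p₁ ≫ μ = 𝟙 B) (h₂ : p₂ ≫ μ = 𝟙 B)

include hpo h₁ h₂ in
theorem ker_mu_eq_span : RingHom.ker μ.hom = Ideal.span (Set.range (fun b : B => p₂ b - p₁ b)) := by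
  apply le_antisymm
  · intro r hr
    exact OmSect.mem_span_of_map_eq_zero hpo h₁ h₂ r hr
  · rw [Ideal.span_le]
    rintro _ ⟨b, rfl⟩
    change μ (p₂ b - p₁ b) = 0
    rw [map_sub]
    have e1 : μ (p₂ b) = b := congr($h₂ b)
    have e2 : μ (p₁ b) = b := congr($h₁ b)
    rw [e1, e2, sub_self]

include hpo h₁ h₂ in
theorem ker_mu_fg (hφ : φ.hom.FiniteType) : (RingHom.ker μ.hom).FG := by
  classical
  letI := φ.hom.toAlgebra
  obtain ⟨s, hs⟩ := (hφ : Algebra.FiniteType A B).out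
  refine ⟨s.image (fun b => p₂ b - p₁ b), ?_⟩
  rw [ker_mu_eq_span hpo h₁ h₂]
  apply le_antisymm
  · apply Ideal.span_mono
    intro x hx
    rw [Finset.coe_image] at hx
    obtain ⟨b, -, rfl⟩ := hx
    exact ⟨b, rfl⟩
  · rw [Ideal.span_le]
    rintro _ ⟨b, rfl⟩
    set J : Ideal R := Ideal.span ((s.image (fun b => p₂ b - p₁ b) : Finset R) : Set R) with hJ
    have hb : b ∈ Algebra.adjoin A (s : Set B) := by rw [hs]; trivial
    induction hb using Algebra.adjoin_induction with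
    | mem x hx =>
      apply Ideal.subset_span
      rw [Finset.coe_image]
      exact ⟨x, hx, rfl⟩
    | algebraMap a =>
      have : p₂ (algebraMap A B a) - p₁ (algebraMap A B a) = 0 := by
        have e : p₂ (φ a) = p₁ (φ a) := congr($(hpo.w.symm) a)
        change p₂ (φ a) - p₁ (φ a) = 0
        rw [e, sub_self]
      change p₂ (algebraMap A B a) - p₁ (algebraMap A B a) ∈ J
      rw [this]; exact J.zero_mem
    | add x y _ _ hx hy =>
      have : p₂ (x + y) - p₁ (x + y) = (p₂ x - p₁ x) + (p₂ y - p₁ y) := by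
        rw [map_add, map_add]; ring
      change p₂ (x + y) - p₁ (x + y) ∈ J
      rw [this]; exact J.add_mem hx hy
    | mul x y _ _ hx hy =>
      have : p₂ (x * y) - p₁ (x * y) = p₂ x * (p₂ y - p₁ y) + p₁ y * (p₂ x - p₁ x) := by
        rw [map_mul, map_mul]; ring
      change p₂ (x * y) - p₁ (x * y) ∈ J
      rw [this]; exact J.add_mem (J.mul_mem_left _ hy) (J.mul_mem_left _ hx)

variable {P : CommRingCat.{u}} (ψ : R ⟶ P) (hψ : Function.Surjective ψ) (n : ℕ)
  (hker : RingHom.ker ψ.hom = RingHom.ker μ.hom ^ (n + 1))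

include h₁ hψ hker in
theorem finite_of_fg (hfg : (RingHom.ker μ.hom).FG) :
    letI := (p₁ ≫ ψ).hom.toAlgebra
    Module.Finite B P := by
  letI := (p₁ ≫ ψ).hom.toAlgebra
  have hle : RingHom.ker ψ.hom ≤ RingHom.ker μ.hom := by
    rw [hker]; exact Ideal.pow_le_self (Nat.succ_ne_zero n)
  let ε₀ : P →+* B := ψ.hom.liftOfSurjective hψ ⟨μ.hom, hle⟩
  have hε₀ : ∀ r, ε₀ (ψ r) = μ r := fun r =>
    ψ.hom.liftOfRightInverse_comp_apply _ (Function.rightInverse_surjInv hψ) ⟨μ.hom, hle⟩ r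
  let ε : P →ₐ[B] B := { ε₀ with
    commutes' := fun b => by
      change ε₀ (ψ (p₁ b)) = b
      rw [hε₀]
      exact congr($h₁ b) }
  have hεψ : ∀ r, ε (ψ r) = μ r := hε₀
  have hkerε : RingHom.ker ε = Ideal.map ψ.hom (RingHom.ker μ.hom) := by
    ext x
    obtain ⟨r, rfl⟩ := hψ x
    rw [RingHom.mem_ker]
    constructor
    · intro h0
      apply Ideal.mem_map_of_mem
      rw [RingHom.mem_ker]
      rw [← hεψ]; exact h0
    · intro hx
      rw [Ideal.mem_map_iff_of_surjective ψ.hom hψ] at hx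
      obtain ⟨r', hr', hrr'⟩ := hx
      change ε (ψ.hom r) = 0
      rw [← hrr']
      change ε (ψ r') = 0
      rw [hεψ]; exact hr'
  apply Module.finite_of_surjective_of_ker_le_nilradical ε
  · intro b
    exact ⟨algebraMap B P b, ε.commutes b⟩
  · intro x hx
    rw [hkerε] at hx
    rw [mem_nilradical]
    refine ⟨n + 1, ?_⟩
    have h1 : x ^ (n + 1) ∈ (Ideal.map ψ.hom (RingHom.ker μ.hom)) ^ (n + 1) :=
      Ideal.pow_mem_pow hx _
    rw [← Ideal.map_pow, ← hker, (Ideal.map_eq_bot_iff_le_ker ψ.hom).mpr le_rfl] at h1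
    exact h1
  · rw [hkerε]
    exact hfg.map _

end Ring

end Groth.Agent.Lib.Helper1.PPFin
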