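import Mathlib
import Groth.Prelude.Def_OmegaPn
import Groth.Agent.Lib.Helper1.PPAff
import Groth.Agent.Lib.Helper1.PPFin
import Groth.Agent.Lib.Helper1.PbSect
import Groth.Agent.Lib.Helper1.Conorm
import Groth.Agent.Lib.Helper3.QCProps

set_option autoImplicit false
set_option linter.style.haveILetI false
universe u
open CategoryTheory CategoryTheory.Limits AlgebraicGeometry TopologicalSpace Opposite

namespace Groth.Agent.Lib.Helper1.PPSect

open Groth.Agent.Lib.Helper1.PbSect Groth.Agent.Lib.Helper3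

variable {X S : Scheme.{u}} (f : X ⟶ S) (n : ℕ) (F : X.Modules)
  {U : X.Opens} (hU : IsAffineOpen U) {V : S.Opens} (hV : IsAffineOpen V) (h : U ≤ f ⁻¹ᵁ V)

/-- the open `pr1⁻¹ U` of `nbhd f n` -/
noncomputable abbrev NU (U : X.Opens) : (PrinPart.nbhd f n).Opens := PrinPart.pr1 f n ⁻¹ᵁ U

theorem NU_le (U : X.Opens) : NU f n U ≤ PrinPart.pr2 f n ⁻¹ᵁ U := (PrinPart.preimage_pr1 f n U).le

include hU hV h in
theorem finite_pullback_sections [F.IsQuasicoherent] [F.IsFiniteType] :
    Module.Finite Γ(PrinPart.nbhd f n, NU f n U)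
      Γ((Scheme.Modules.pullback (PrinPart.pr2 f n)).obj F, NU f n U) := by
  have hN : IsAffineOpen (NU f n U) := PPLocal.isAffineOpen_pr1_preimage f n hU hV h
  letI alg2 : Algebra Γ(X, U) Γ(PrinPart.nbhd f n, NU f n U) :=
    ((PrinPart.pr2 f n).appLE U (NU f n U) (NU_le f n U)).hom.toAlgebra
  letI : Module Γ(X, U) Γ((Scheme.Modules.pullback (PrinPart.pr2 f n)).obj F, NU f n U) :=
    Module.compHom _ ((PrinPart.pr2 f n).appLE U (NU f n U) (NU_le f n U)).hom
  haveI : IsScalarTower Γ(X, U) Γ(PrinPart.nbhd f n, NU f n U)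
      Γ((Scheme.Modules.pullback (PrinPart.pr2 f n)).obj F, NU f n U) :=
    IsScalarTower.of_algebraMap_smul (fun _ _ => rfl)
  let l : Γ(F, U) →ₗ[Γ(X, U)] Γ((Scheme.Modules.pullback (PrinPart.pr2 f n)).obj F, NU f n U) :=
    { toFun := pullRes (PrinPart.pr2 f n) F (NU_le f n U)
      map_add' := map_add _
      map_smul' := fun a m => pullRes_smul (PrinPart.pr2 f n) F (NU_le f n U) a m }
  have hbc := isBaseChange_pullRes (PrinPart.pr2 f n) F hU hN (NU_le f n U) (fun a => rfl) l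
    (fun m => rfl)
  haveI := QCProps.finite_sections F hU
  exact Module.Finite.equiv hbc.equiv

include hU hV h in
theorem finite_nbhd_sections [LocallyOfFiniteType f] :
    letI := ((PrinPart.pr1 f n).app U).hom.toAlgebra
    Module.Finite Γ(X, U) Γ(PrinPart.nbhd f n, NU f n U) := by
  have hpo := OmSect.isPushout_diag f hU hV h
  have hfg := PPFin.ker_mu_fg hpo (OmSect.fst_mu f) (OmSect.snd_mu f)
    (HasRingHomProperty.appLE (P := @LocallyOfFiniteType) f inferInstance ⟨V, hV⟩ ⟨U, hU⟩ h)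
  have key := PPFin.finite_of_fg (OmSect.fst_mu f) (PPLocal.psi f n U)
    (PPLocal.psi_surjective f n hU hV h) n (PPLocal.ker_psi f n hU hV h) hfg
  have e : (pullback.fst f f).appLE U (OmegaSh.diagNbhd f U) inf_le_left ≫ PPLocal.psi f n U =
      (PrinPart.pr1 f n).app U := by
    rw [PPLocal.fst_psi, Conorm.appLE_refl]
  rw [e] at key
  exact key

include hU hV h in
theorem finite_sections_PMod [LocallyOfFiniteType f] [F.IsQuasicoherent] [F.IsFiniteType] :
    Module.Finite Γ(X, U) Γ(PrinPart.PMod f n F, U) := by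
  letI alg1 : Algebra Γ(X, U) Γ(PrinPart.nbhd f n, NU f n U) :=
    ((PrinPart.pr1 f n).app U).hom.toAlgebra
  have h1 : Module.Finite Γ(X, U) Γ(PrinPart.nbhd f n, NU f n U) :=
    finite_nbhd_sections f n hU hV h
  have h2 := finite_pullback_sections f n F hU hV h
  letI mP : Module Γ(PrinPart.nbhd f n, NU f n U) Γ(PrinPart.PMod f n F, U) :=
    (inferInstance : Module Γ(PrinPart.nbhd f n, NU f n U)
      Γ((Scheme.Modules.pullback (PrinPart.pr2 f n)).obj F, NU f n U))
  haveI : IsScalarTower Γ(X, U) Γ(PrinPart.nbhd f n, NU f n U) Γ(PrinPart.PMod f n F, U) :=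
    IsScalarTower.of_algebraMap_smul (fun _ _ => rfl)
  exact @Module.Finite.trans Γ(X, U) Γ(PrinPart.nbhd f n, NU f n U) Γ(PrinPart.PMod f n F, U)
    _ _ _ _ _ mP _ h1 h2

end Groth.Agent.Lib.Helper1.PPSect
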