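import Mathlib
import Groth.Prelude.Def_OmegaPn
import Groth.Agent.Lib.Helper1.PPSect
import Groth.Agent.Lib.Helper3.QCOpen

set_option autoImplicit false
set_option linter.style.haveILetI false
universe u
open CategoryTheory CategoryTheory.Limits AlgebraicGeometry TopologicalSpace Opposite

namespace Groth.Agent.Lib.Helper1.PPUnit

open Groth.Agent.Lib.Helper1.PbSect Groth.Agent.Lib.Helper3 Groth.Agent.Lib.Helper1.PPSect

variable {X S : Scheme.{u}} (f : X ⟶ S) (n : ℕ)

/-- the pullback of the structure module along `pr2`. -/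
noncomputable abbrev G : (PrinPart.nbhd f n).Modules :=
  (Scheme.Modules.pullback (PrinPart.pr2 f n)).obj (Coh.structureModule X)

theorem dP_eq_pullRes (F : X.Modules) (U : X.Opens) (t : Γ(F, U)) :
    PrinPart.dP f n F U t = pullRes (PrinPart.pr2 f n) F (NU_le f n U) t := rfl

theorem dn_eq_pullRes (U : X.Opens) (b : Γ(X, U)) :
    PrinPart.dn f n U b = pullRes (PrinPart.pr2 f n) (Coh.structureModule X) (NU_le f n U)
      (OmegaSh.strSect X U b) := rfl

/-- the generator `d^n 1`, as a section of `pr2^* O_X` over `pr1⁻¹ U`. -/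
noncomputable def one (U : X.Opens) : Γ(G f n, NU f n U) :=
  pullRes (PrinPart.pr2 f n) (Coh.structureModule X) (NU_le f n U) (OmegaSh.strSect X U 1)

theorem dn_eq_smul_one (U : X.Opens) (b : Γ(X, U)) :
    (PrinPart.dn f n U b : Γ(G f n, NU f n U)) =
      ((PrinPart.pr2 f n).appLE U (NU f n U) (NU_le f n U)).hom b • one f n U := by
  rw [dn_eq_pullRes]
  have : OmegaSh.strSect X U b = b • OmegaSh.strSect X U 1 := by
    change b = b * 1
    rw [mul_one]
  rw [this, pullRes_smul]
  rfl

variable {U : X.Opens} (hU : IsAffineOpen U) {V : S.Opens} (hV : IsAffineOpen V) (h : U ≤ f ⁻¹ᵁ V)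

include hU hV h in
theorem smul_one_surjective :
    Function.Surjective (fun c : Γ(PrinPart.nbhd f n, NU f n U) => c • one f n U) := by
  have hN : IsAffineOpen (NU f n U) := PPLocal.isAffineOpen_pr1_preimage f n hU hV h
  have hspan := span_range_pullRes (PrinPart.pr2 f n) (Coh.structureModule X) hU hN (NU_le f n U)
  intro y
  have hy : y ∈ Submodule.span Γ(PrinPart.nbhd f n, NU f n U)
      (Set.range (pullRes (PrinPart.pr2 f n) (Coh.structureModule X) (NU_le f n U))) := by
    rw [hspan]; trivial
  induction hy using Submodule.span_induction with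
  | mem x hx =>
    obtain ⟨m, rfl⟩ := hx
    refine ⟨((PrinPart.pr2 f n).appLE U (NU f n U) (NU_le f n U)).hom m, ?_⟩
    exact (dn_eq_smul_one f n U m).symm
  | zero => exact ⟨0, zero_smul _ _⟩
  | add x y _ _ hx hy =>
    obtain ⟨c, hc⟩ := hx
    obtain ⟨d, hd⟩ := hy
    exact ⟨c + d, by change (c + d) • one f n U = _; rw [add_smul]; exact congrArg₂ _ hc hd⟩
  | smul a x _ hx =>
    obtain ⟨c, hc⟩ := hx
    exact ⟨a * c, by change (a * c) • one f n U = _; rw [mul_smul]; exact congrArg _ hc⟩

include hU hV h in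
theorem smul_one_injective :
    Function.Injective (fun c : Γ(PrinPart.nbhd f n, NU f n U) => c • one f n U) := by
  have hN : IsAffineOpen (NU f n U) := PPLocal.isAffineOpen_pr1_preimage f n hU hV h
  let g : Γ(Coh.structureModule X, U) →+ Γ(PrinPart.nbhd f n, NU f n U) :=
    ((PrinPart.pr2 f n).appLE U (NU f n U) (NU_le f n U)).hom.toAddMonoidHom.comp
      (OmegaSh.fnSect X U)
  obtain ⟨g', hg', -⟩ := existsUnique_lift (PrinPart.pr2 f n) (Coh.structureModule X) hU hN
    (NU_le f n U) (ModuleCat.of _ Γ(PrinPart.nbhd f n, NU f n U)) g (fun a m => by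
      change ((PrinPart.pr2 f n).appLE U (NU f n U) (NU_le f n U)).hom (a * OmegaSh.fnSect X U m) = _
      rw [map_mul]; rfl)
  have h1 : g' (one f n U) = 1 := by
    rw [one, hg']
    change ((PrinPart.pr2 f n).appLE U (NU f n U) (NU_le f n U)).hom 1 = 1
    rw [map_one]
  intro c d hcd
  have := congrArg g' hcd
  simp only [map_smul, h1, smul_eq_mul, mul_one] at this
  exact this

end Groth.Agent.Lib.Helper1.PPUnit
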