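import Mathlib
import Groth.Prelude.Def_OmegaPn
import Groth.Agent.Lib.Helper1.PPUnit

set_option autoImplicit false
set_option linter.style.haveILetI false
universe u
open CategoryTheory CategoryTheory.Limits AlgebraicGeometry TopologicalSpace Opposite

/-! generation of `P^n_{X/S}` by the `d^n b` over an affine open lying over an affine open. -/

namespace Groth.Agent.Lib.Helper1.PPGen

open Groth.Agent.Lib.Helper1.PPSect TensorProduct

variable {X S : Scheme.{u}} (f : X ⟶ S) (n : ℕ)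
  {U : X.Opens} (hU : IsAffineOpen U) {V : S.Opens} (hV : IsAffineOpen V) (h : U ≤ f ⁻¹ᵁ V)

include hU hV h in
/-- every function on the affine piece `U ×_V U` of `X ×_S X` is a sum of products
`pr1^♯ a * pr2^♯ b`. -/
theorem exists_sum_mul (w : Γ(pullback f f, OmegaSh.diagNbhd f U)) :
    ∃ (ι : Type) (s : Finset ι) (a b : ι → Γ(X, U)),
      w = ∑ j ∈ s, ((pullback.fst f f).appLE U (OmegaSh.diagNbhd f U) inf_le_left).hom (a j) *
        ((pullback.snd f f).appLE U (OmegaSh.diagNbhd f U) inf_le_right).hom (b j) := by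
  letI : Algebra Γ(S, V) Γ(X, U) := (f.appLE V U h).hom.toAlgebra
  have hpo := OmSect.isPushout_diag f hU hV h
  set p₁ := (pullback.fst f f).appLE U (OmegaSh.diagNbhd f U) inf_le_left with hp₁
  set p₂ := (pullback.snd f f).appLE U (OmegaSh.diagNbhd f U) inf_le_right with hp₂
  have hpo' : IsPushout (CommRingCat.ofHom (algebraMap Γ(S, V) Γ(X, U)))
      (CommRingCat.ofHom (algebraMap Γ(S, V) Γ(X, U))) p₁ p₂ := hpo
  let τ := (CommRingCat.isPushout_tensorProduct Γ(S, V) Γ(X, U) Γ(X, U)).isoIsPushout _ _ hpo'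
  have hτ₁ : CommRingCat.ofHom (S := Γ(X, U) ⊗[Γ(S, V)] Γ(X, U))
      Algebra.TensorProduct.includeLeftRingHom ≫ τ.hom = p₁ :=
    IsPushout.inl_isoIsPushout_hom _ _ _ _
  have hτ₂ : CommRingCat.ofHom (S := Γ(X, U) ⊗[Γ(S, V)] Γ(X, U))
      Algebra.TensorProduct.includeRight.toRingHom ≫ τ.hom = p₂ :=
    IsPushout.inr_isoIsPushout_hom _ _ _ _
  have hτbij : Function.Bijective τ.hom :=
    (ConcreteCategory.isIso_iff_bijective τ.hom).mp inferInstance
  obtain ⟨t, rfl⟩ := hτbij.2 w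
  induction t using TensorProduct.induction_on with
  | zero => exact ⟨Empty, ∅, fun _ => 0, fun _ => 0, by simp⟩
  | tmul b b' =>
    refine ⟨Unit, {()}, fun _ => b, fun _ => b', ?_⟩
    have e1 : (b ⊗ₜ[Γ(S, V)] b' : Γ(X, U) ⊗[Γ(S, V)] Γ(X, U)) =
        (Algebra.TensorProduct.includeLeftRingHom b) *
        (Algebra.TensorProduct.includeRight.toRingHom b') := by
      change _ = (b ⊗ₜ[Γ(S, V)] (1 : Γ(X, U))) * ((1 : Γ(X, U)) ⊗ₜ[Γ(S, V)] b')
      rw [Algebra.TensorProduct.tmul_mul_tmul, mul_one, one_mul]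
    rw [Finset.sum_singleton, e1, map_mul]
    exact congrArg₂ _ congr($hτ₁ b) congr($hτ₂ b')
  | add x y hx hy =>
    obtain ⟨ι₁, s₁, a₁, b₁, h₁⟩ := hx
    obtain ⟨ι₂, s₂, a₂, b₂, h₂⟩ := hy
    classical
    refine ⟨ι₁ ⊕ ι₂, s₁.disjSum s₂, Sum.elim a₁ a₂, Sum.elim b₁ b₂, ?_⟩
    rw [map_add, h₁, h₂, Finset.sum_disjSum]
    rfl

include hU hV h in
/-- every function on `pr1⁻¹ U ⊆ X^{(n)}_Δ` is a sum of products `pr1^♯ a * pr2^♯ b`. -/
theorem exists_sum_mul_nbhd (c : Γ(PrinPart.nbhd f n, NU f n U)) :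
    ∃ (ι : Type) (s : Finset ι) (a b : ι → Γ(X, U)),
      c = ∑ j ∈ s, ((PrinPart.pr1 f n).app U).hom (a j) *
        ((PrinPart.pr2 f n).appLE U (NU f n U) (NU_le f n U)).hom (b j) := by
  obtain ⟨w, rfl⟩ := PPLocal.psi_surjective f n hU hV h c
  obtain ⟨ι, s, a, b, rfl⟩ := exists_sum_mul f hU hV h w
  refine ⟨ι, s, a, b, ?_⟩
  rw [map_sum]
  refine Finset.sum_congr rfl fun j _ => ?_
  rw [map_mul]
  have e3 : PPLocal.psi f n U
      (((pullback.fst f f).appLE U (OmegaSh.diagNbhd f U) inf_le_left).hom (a j)) =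
      (PrinPart.pr1 f n).app U (a j) := by
    have := congr($(PPLocal.fst_psi f n U) (a j))
    rw [Conorm.appLE_refl] at this
    exact this
  have e4 : PPLocal.psi f n U
      (((pullback.snd f f).appLE U (OmegaSh.diagNbhd f U) inf_le_right).hom (b j)) =
      (PrinPart.pr2 f n).appLE U (NU f n U) (NU_le f n U) (b j) :=
    congr($(PPLocal.snd_psi f n U) (b j))
  exact congrArg₂ _ e3 e4

/-- `c ↦ c • d^n 1`, as an additive map into `Γ(P^n, U)`. -/
noncomputable def smulOne (U : X.Opens) : Γ(PrinPart.nbhd f n, NU f n U) →+ Γ(PrinPart.P f n, U) :=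
  (AddMonoidHom.flip (AddMonoidHom.smul (R := Γ(PrinPart.nbhd f n, NU f n U))
    (M := Γ(PPUnit.G f n, NU f n U)))) (PPUnit.one f n U)

theorem smulOne_apply (U : X.Opens) (c : Γ(PrinPart.nbhd f n, NU f n U)) :
    smulOne f n U c = (c • PPUnit.one f n U : Γ(PPUnit.G f n, NU f n U)) := rfl

theorem smulOne_mul (U : X.Opens) (a b : Γ(X, U)) :
    smulOne f n U (((PrinPart.pr1 f n).app U).hom a *
      ((PrinPart.pr2 f n).appLE U (NU f n U) (NU_le f n U)).hom b) =
      a • PrinPart.dn f n U b := by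
  rw [smulOne_apply, mul_smul, ← PPUnit.dn_eq_smul_one f n U b]
  rfl

include hU hV h in
/-- `Γ(P^n_{X/S}, U)` is spanned over `Γ(X, U)` by the `d^n b`. -/
theorem span_range_dn :
    Submodule.span Γ(X, U) (Set.range (PrinPart.dn f n U)) = ⊤ := by
  rw [eq_top_iff]
  intro y _
  obtain ⟨c, rfl⟩ := PPUnit.smul_one_surjective f n hU hV h y
  obtain ⟨ι, s, a, b, rfl⟩ := exists_sum_mul_nbhd f n hU hV h c
  change smulOne f n U (∑ j ∈ s, _) ∈ _
  rw [map_sum]
  refine Submodule.sum_mem _ fun j _ => ?_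
  rw [smulOne_mul]
  exact Submodule.smul_mem _ _ (Submodule.subset_span ⟨b j, rfl⟩)

end Groth.Agent.Lib.Helper1.PPGen
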