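import Mathlib
import Groth.Prelude.Def_OmegaPn
import Groth.Agent.Lib.Helper1.PPGen
import Groth.Agent.Lib.Helper3.QCExact
import Groth.Agent.Lib.Helper3.QCPush
import Groth.Agent.Lib.Helper17.PbStalk

set_option autoImplicit false
set_option linter.style.haveILetI false
universe u
open CategoryTheory CategoryTheory.Limits AlgebraicGeometry TopologicalSpace Opposite

/-! surjectivity of the canonical maps `u^* P^n_{X/S} ⟶ P^n_{X'/S'}` when `u♯` is surjective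
on enough affine opens. -/

namespace Groth.Agent.Lib.Helper1.PPEpi

open Groth.Agent.Lib.Helper1.PPSect Groth.Agent.Lib.Helper3

variable {X S : Scheme.{u}} (f : X ⟶ S) (n : ℕ)

instance isQuasicoherent_PMod (F : X.Modules) [F.IsQuasicoherent] :
    (PrinPart.PMod f n F).IsQuasicoherent := by
  haveI : ((Scheme.Modules.pullback (PrinPart.pr2 f n)).obj F).IsQuasicoherent :=
    Groth.Agent.Lib.Helper17.PbStalk.isQuasicoherent_pullback (PrinPart.pr2 f n) F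
  haveI := Groth.Agent.Lib.Helper1.PPAff.isAffineHom_pr1 f n
  exact Groth.Agent.Lib.Helper3.QCSec.isQuasicoherent_pushforward (PrinPart.pr1 f n) _

instance isQuasicoherent_P : (PrinPart.P f n).IsQuasicoherent :=
  isQuasicoherent_PMod f n _

variable {X' S' : Scheme.{u}} (f' : X' ⟶ S') (u : X' ⟶ X)
  (φ : (Scheme.Modules.pullback u).obj (PrinPart.P f n) ⟶ PrinPart.P f' n)
  (hφ : PrinPart.IsPMap f f' u n φ)

include hφ in
theorem app_surjective {U : X.Opens} (hU' : IsAffineOpen (u ⁻¹ᵁ U)) {V' : S'.Opens}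
    (hV' : IsAffineOpen V') (h' : u ⁻¹ᵁ U ≤ f' ⁻¹ᵁ V') (hsurj : Function.Surjective (u.app U)) :
    Function.Surjective (φ.app (u ⁻¹ᵁ U)) := by
  have hspan := PPGen.span_range_dn f' n hU' hV' h'
  intro y
  have hy : y ∈ Submodule.span Γ(X', u ⁻¹ᵁ U) (Set.range (PrinPart.dn f' n (u ⁻¹ᵁ U))) := by
    rw [hspan]; trivial
  refine Submodule.span_induction (p := fun y _ => ∃ x, φ.app (u ⁻¹ᵁ U) x = y) ?_ ?_ ?_ ?_ hy
  · rintro _ ⟨b', rfl⟩
    obtain ⟨b, rfl⟩ := hsurj b'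
    exact ⟨_, hφ U b⟩
  · exact ⟨0, map_zero _⟩
  · rintro _ _ _ _ ⟨x₁, rfl⟩ ⟨x₂, rfl⟩
    exact ⟨x₁ + x₂, map_add _ _ _⟩
  · rintro a _ _ ⟨x, rfl⟩
    exact ⟨a • x, Scheme.Modules.Hom.app_smul φ a x⟩

include hφ in
theorem epi_of_cover
    (hcov : ∀ x' : X', ∃ (U : X.Opens) (_ : IsAffineOpen (u ⁻¹ᵁ U)) (V' : S'.Opens)
      (_ : IsAffineOpen V') (_ : u ⁻¹ᵁ U ≤ f' ⁻¹ᵁ V'), x' ∈ u ⁻¹ᵁ U ∧
        Function.Surjective (u.app U)) : Epi φ := by
  apply QCExact.epi_of_surjective_on_affine_cover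
  intro x'
  obtain ⟨U, hU', V', hV', h', hx', hsurj⟩ := hcov x'
  exact ⟨u ⁻¹ᵁ U, hU', hx', app_surjective f n f' u φ hφ hU' hV' h' hsurj⟩

end Groth.Agent.Lib.Helper1.PPEpi
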