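import Mathlib
import Groth.Prelude.Def_OmegaPn
import Groth.Agent.Lib.Helper1.PPBCRing
import Groth.Agent.Lib.Helper1.PPEpi
import Groth.Agent.Lib.Helper1.GrFlat

set_option autoImplicit false
set_option linter.style.haveILetI false
universe u
open CategoryTheory CategoryTheory.Limits AlgebraicGeometry TopologicalSpace Opposite

/-! base change of sheaves of principal parts. -/

namespace Groth.Agent.Lib.Helper1.PPBC

open Groth.Agent.Lib.Helper1.PPSect Groth.Agent.Lib.Helper1.PbSect Groth.Agent.Lib.Helper1.GrFlat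

variable {X S X' S' : Scheme.{u}} {f : X ⟶ S} {g : S' ⟶ S} {u : X' ⟶ X} {f' : X' ⟶ S'}
  (hsq : IsPullback u f' f g)

/-- the map `X' ×_{S'} X' ⟶ X ×_S X`. -/
noncomputable def w : pullback f' f' ⟶ pullback f f :=
  pullback.map f' f' f f u u g hsq.w.symm hsq.w.symm

theorem w_fst : w hsq ≫ pullback.fst f f = pullback.fst f' f' ≫ u := pullback.lift_fst _ _ _

theorem w_snd : w hsq ≫ pullback.snd f f = pullback.snd f' f' ≫ u := pullback.lift_snd _ _ _

theorem diag_w : pullback.diagonal f' ≫ w hsq = u ≫ pullback.diagonal f := by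
  apply pullback.hom_ext
  · rw [Category.assoc, w_fst, ← Category.assoc, pullback.diagonal_fst, Category.id_comp,
      Category.assoc, pullback.diagonal_fst, Category.comp_id]
  · rw [Category.assoc, w_snd, ← Category.assoc, pullback.diagonal_snd, Category.id_comp,
      Category.assoc, pullback.diagonal_snd, Category.comp_id]

variable {U : X.Opens} {U' : X'.Opens} (hUU' : U' ≤ u ⁻¹ᵁ U)

include hUU' in
theorem diagNbhd_le : OmegaSh.diagNbhd f' U' ≤ w hsq ⁻¹ᵁ OmegaSh.diagNbhd f U := by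
  intro z hz
  constructor
  · change pullback.fst f f (w hsq z) ∈ U
    rw [← Scheme.Hom.comp_apply, w_fst, Scheme.Hom.comp_apply]
    exact hUU' hz.1
  · change pullback.snd f f (w hsq z) ∈ U
    rw [← Scheme.Hom.comp_apply, w_snd, Scheme.Hom.comp_apply]
    exact hUU' hz.2

/-- `γ : Γ(U ×_V U) ⟶ Γ(U' ×_{V'} U')`. -/
noncomputable def gam : Γ(pullback f f, OmegaSh.diagNbhd f U) ⟶
    Γ(pullback f' f', OmegaSh.diagNbhd f' U') :=
  (w hsq).appLE _ _ (diagNbhd_le hsq hUU')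

theorem fst_gam : (pullback.fst f f).appLE U (OmegaSh.diagNbhd f U) inf_le_left ≫ gam hsq hUU' =
    u.appLE U U' hUU' ≫ (pullback.fst f' f').appLE U' (OmegaSh.diagNbhd f' U') inf_le_left := by
  unfold gam
  rw [Scheme.Hom.appLE_comp_appLE, Scheme.Hom.appLE_comp_appLE]
  exact appLE_congr (w_fst hsq) _ _ _ _

theorem snd_gam : (pullback.snd f f).appLE U (OmegaSh.diagNbhd f U) inf_le_right ≫ gam hsq hUU' =
    u.appLE U U' hUU' ≫ (pullback.snd f' f').appLE U' (OmegaSh.diagNbhd f' U') inf_le_right := by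
  unfold gam
  rw [Scheme.Hom.appLE_comp_appLE, Scheme.Hom.appLE_comp_appLE]
  exact appLE_congr (w_snd hsq) _ _ _ _

theorem gam_mu : gam hsq hUU' ≫ OmSect.mu f' (U := U') = OmSect.mu f (U := U) ≫ u.appLE U U' hUU' := by
  unfold gam OmSect.mu
  rw [Scheme.Hom.appLE_comp_appLE, Scheme.Hom.appLE_comp_appLE]
  exact appLE_congr (diag_w hsq) _ _ _ _

section Affine

variable (n : ℕ) (hU : IsAffineOpen U) {V : S.Opens} (hV : IsAffineOpen V) (h : U ≤ f ⁻¹ᵁ V)
  {V' : S'.Opens} (hV' : IsAffineOpen V') (hVV' : V' ≤ g ⁻¹ᵁ V)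

include hsq hU hV h hV' hVV' in
theorem isAffineOpen_inf : IsAffineOpen (u ⁻¹ᵁ U ⊓ f' ⁻¹ᵁ V') := by
  have : IsAffine _ := hU
  have : IsAffine _ := hV
  have : IsAffine _ := hV'
  exact .of_isIso (Scheme.Hom.isPullback_resLE hsq hVV' h rfl).isoPullback.hom

include hsq hU hV h hV' hVV' in
theorem exists_T :
    ∃ T : Γ(PrinPart.nbhd f n, NU f n U) ⟶ Γ(PrinPart.nbhd f' n, NU f' n (u ⁻¹ᵁ U ⊓ f' ⁻¹ᵁ V')),
      PPLocal.psi f n U ≫ T = gam hsq (U := U) (U' := u ⁻¹ᵁ U ⊓ f' ⁻¹ᵁ V') inf_le_left ≫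
        PPLocal.psi f' n (u ⁻¹ᵁ U ⊓ f' ⁻¹ᵁ V') ∧
      IsPushout ((PrinPart.pr1 f n).app U) (u.appLE U (u ⁻¹ᵁ U ⊓ f' ⁻¹ᵁ V') inf_le_left) T
        ((PrinPart.pr1 f' n).app (u ⁻¹ᵁ U ⊓ f' ⁻¹ᵁ V')) := by
  set U' : X'.Opens := u ⁻¹ᵁ U ⊓ f' ⁻¹ᵁ V' with hU'def
  have hUU' : U' ≤ u ⁻¹ᵁ U := inf_le_left
  have h' : U' ≤ f' ⁻¹ᵁ V' := inf_le_right
  have hU' : IsAffineOpen U' := isAffineOpen_inf hsq hU hV h hV' hVV'
  have hiso := isIso_pushoutSection_of_isAffineOpen hsq hVV' h (UY := U') rfl hV hV' hU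
  have P1 := (isIso_pushoutSection_iff hsq hVV' h (UY := U') rfl).mp hiso
  have P2 := OmSect.isPushout_diag f hU hV h
  have P2' := OmSect.isPushout_diag f' hU' hV' h'
  obtain ⟨T, hT, hpo⟩ := PPBCRing.exists_T_isPushout P1 P2 P2' (fst_gam hsq hUU') (snd_gam hsq hUU')
    (OmSect.fst_mu f) (OmSect.fst_mu f') (gam_mu hsq hUU') n
    (PPLocal.psi_surjective f n hU hV h) (PPLocal.psi_surjective f' n hU' hV' h')
    (PPLocal.ker_psi f n hU hV h) (PPLocal.ker_psi f' n hU' hV' h')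
  refine ⟨T, hT, ?_⟩
  rw [PPLocal.fst_psi, PPLocal.fst_psi, Conorm.appLE_refl, Conorm.appLE_refl] at hpo
  exact hpo

end Affine

section Mod

open Groth.Agent.Lib.Helper3

variable (n : ℕ) (φ : (Scheme.Modules.pullback u).obj (PrinPart.P f n) ⟶ PrinPart.P f' n)
  (hφ : PrinPart.IsPMap f f' u n φ)

theorem dn_map {W W' : X.Opens} (e : W' ≤ W) (b : Γ(X, W)) :
    PrinPart.dn f n W' (X.presheaf.map (homOfLE e).op b) =
      (PrinPart.P f n).presheaf.map (homOfLE e).op (PrinPart.dn f n W b) :=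
  PrinPart.dP_map f n (Coh.structureModule X) e (OmegaSh.strSect X W b)

include hφ in
theorem app_pullRes_dn (b : Γ(X, U)) :
    φ.app U' (pullRes u (PrinPart.P f n) hUU' (PrinPart.dn f n U b)) =
      PrinPart.dn f' n U' ((u.appLE U U' hUU').hom b) := by
  rw [pullRes_apply, ModBasic.app_res, hφ U b, ← dn_map]
  rfl

variable (hU : IsAffineOpen U) {V : S.Opens} (hV : IsAffineOpen V) (h : U ≤ f ⁻¹ᵁ V)
  (T : Γ(PrinPart.nbhd f n, NU f n U) ⟶ Γ(PrinPart.nbhd f' n, NU f' n U'))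
  (hT : PPLocal.psi f n U ≫ T = gam hsq hUU' ≫ PPLocal.psi f' n U')

include hT in
theorem T_pr1 (a : Γ(X, U)) : T (((PrinPart.pr1 f n).app U).hom a) =
    ((PrinPart.pr1 f' n).app U').hom ((u.appLE U U' hUU').hom a) := by
  have h1 : (PrinPart.pr1 f n).app U ≫ T = u.appLE U U' hUU' ≫ (PrinPart.pr1 f' n).app U' := by
    have e1 := PPLocal.fst_psi f n U
    have e2 := PPLocal.fst_psi f' n U'
    rw [Conorm.appLE_refl] at e1 e2
    rw [← e1, ← e2, Category.assoc, hT, ← Category.assoc, fst_gam hsq hUU', Category.assoc]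
  exact congr($h1 a)

include hT in
theorem T_pr2 (b : Γ(X, U)) :
    T (((PrinPart.pr2 f n).appLE U (NU f n U) (NU_le f n U)).hom b) =
    ((PrinPart.pr2 f' n).appLE U' (NU f' n U') (NU_le f' n U')).hom ((u.appLE U U' hUU').hom b) := by
  have h1 : (PrinPart.pr2 f n).appLE U (NU f n U) (NU_le f n U) ≫ T =
      u.appLE U U' hUU' ≫ (PrinPart.pr2 f' n).appLE U' (NU f' n U') (NU_le f' n U') := by
    rw [← PPLocal.snd_psi f n U, ← PPLocal.snd_psi f' n U', Category.assoc, hT, ← Category.assoc,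
      snd_gam hsq hUU', Category.assoc]
  exact congr($h1 b)

include hφ hT hU hV h in
theorem app_pullRes_smulOne (c : Γ(PrinPart.nbhd f n, NU f n U)) :
    φ.app U' (pullRes u (PrinPart.P f n) hUU' (PPGen.smulOne f n U c)) =
      PPGen.smulOne f' n U' (T c) := by
  obtain ⟨ι, s, a, b, rfl⟩ := PPGen.exists_sum_mul_nbhd f n hU hV h c
  rw [map_sum, map_sum, map_sum, map_sum, map_sum]
  refine Finset.sum_congr rfl fun j _ => ?_
  rw [PPGen.smulOne_mul, pullRes_smul]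
  refine (Scheme.Modules.Hom.app_smul φ _ _).trans ?_
  rw [app_pullRes_dn hUU' n φ hφ, map_mul, T_pr1 hsq hUU' n T hT, T_pr2 hsq hUU' n T hT,
    PPGen.smulOne_mul]

end Mod

section Bij

open Groth.Agent.Lib.Helper3

variable (n : ℕ) (φ : (Scheme.Modules.pullback u).obj (PrinPart.P f n) ⟶ PrinPart.P f' n)
  (hφ : PrinPart.IsPMap f f' u n φ)
  (hU : IsAffineOpen U) {V : S.Opens} (hV : IsAffineOpen V) (h : U ≤ f ⁻¹ᵁ V)
  {V' : S'.Opens} (hV' : IsAffineOpen V')

include hφ hU hV h hV' in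
theorem app_bijective_aux (hU' : IsAffineOpen U') (h' : U' ≤ f' ⁻¹ᵁ V')
    (T : Γ(PrinPart.nbhd f n, NU f n U) ⟶ Γ(PrinPart.nbhd f' n, NU f' n U'))
    (hT : PPLocal.psi f n U ≫ T = gam hsq hUU' ≫ PPLocal.psi f' n U')
    (hpo : IsPushout ((PrinPart.pr1 f n).app U) (u.appLE U U' hUU') T
        ((PrinPart.pr1 f' n).app U')) :
    Function.Bijective (φ.app U') := by
  letI aBB' : Algebra Γ(X, U) Γ(X', U') := (u.appLE U U' hUU').hom.toAlgebra
  letI aBN : Algebra Γ(X, U) Γ(PrinPart.nbhd f n, NU f n U) :=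
    ((PrinPart.pr1 f n).app U).hom.toAlgebra
  letI aB'N' : Algebra Γ(X', U') Γ(PrinPart.nbhd f' n, NU f' n U') :=
    ((PrinPart.pr1 f' n).app U').hom.toAlgebra
  letI aNN' : Algebra Γ(PrinPart.nbhd f n, NU f n U) Γ(PrinPart.nbhd f' n, NU f' n U') :=
    T.hom.toAlgebra
  letI aBN' : Algebra Γ(X, U) Γ(PrinPart.nbhd f' n, NU f' n U') :=
    (T.hom.comp ((PrinPart.pr1 f n).app U).hom).toAlgebra
  haveI : IsScalarTower Γ(X, U) Γ(PrinPart.nbhd f n, NU f n U)
      Γ(PrinPart.nbhd f' n, NU f' n U') := .of_algebraMap_eq (fun _ => rfl)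
  haveI : IsScalarTower Γ(X, U) Γ(X', U') Γ(PrinPart.nbhd f' n, NU f' n U') :=
    .of_algebraMap_eq (by intro a; exact congr($(hpo.w) a))
  have hpo' : IsPushout (CommRingCat.ofHom (algebraMap Γ(X, U) Γ(X', U')))
      (CommRingCat.ofHom (algebraMap Γ(X, U) Γ(PrinPart.nbhd f n, NU f n U)))
      (CommRingCat.ofHom (algebraMap Γ(X', U') Γ(PrinPart.nbhd f' n, NU f' n U')))
      (CommRingCat.ofHom (algebraMap Γ(PrinPart.nbhd f n, NU f n U)
        Γ(PrinPart.nbhd f' n, NU f' n U'))) := hpo.flip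
  have hAP : Algebra.IsPushout Γ(X, U) Γ(X', U') Γ(PrinPart.nbhd f n, NU f n U)
      Γ(PrinPart.nbhd f' n, NU f' n U') := CommRingCat.isPushout_iff_isPushout.mp hpo'
  have hT' := hAP.out
  -- modules
  letI mB : Module Γ(X, U) Γ((Scheme.Modules.pullback u).obj (PrinPart.P f n), U') :=
    Module.compHom _ (algebraMap Γ(X, U) Γ(X', U'))
  haveI : IsScalarTower Γ(X, U) Γ(X', U')
      Γ((Scheme.Modules.pullback u).obj (PrinPart.P f n), U') :=
    IsScalarTower.of_algebraMap_smul (fun _ _ => rfl)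
  let ℓ : Γ(PrinPart.nbhd f n, NU f n U) →ₗ[Γ(X, U)]
      Γ((Scheme.Modules.pullback u).obj (PrinPart.P f n), U') :=
    { toFun := fun c => pullRes u (PrinPart.P f n) hUU' (PPGen.smulOne f n U c)
      map_add' := fun c d => by rw [map_add, map_add]
      map_smul' := fun a c => by
        have e1 : PPGen.smulOne f n U (a • c) = a • PPGen.smulOne f n U c := by
          rw [Algebra.smul_def, PPGen.smulOne_apply, mul_smul]
          rfl
        rw [e1, pullRes_smul]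
        rfl }
  let Θ := hT'.lift ℓ
  have hΘ : ∀ c, Θ (T c) = pullRes u (PrinPart.P f n) hUU' (PPGen.smulOne f n U c) :=
    fun c => hT'.lift_eq ℓ c
  have hs'lin : ∀ (b' : Γ(X', U')) (c' : Γ(PrinPart.nbhd f' n, NU f' n U')),
      PPGen.smulOne f' n U' (b' • c') = b' • PPGen.smulOne f' n U' c' := by
    intro b' c'
    rw [Algebra.smul_def, PPGen.smulOne_apply, mul_smul]
    rfl
  -- (i)
  have hi : ∀ c', φ.app U' (Θ c') = PPGen.smulOne f' n U' c' := by
    intro c'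
    refine hT'.inductionOn c' _ ?_ ?_ ?_ ?_
    · rw [map_zero, map_zero, map_zero]
    · intro c
      change φ.app U' (Θ (T c)) = PPGen.smulOne f' n U' (T c)
      rw [hΘ, app_pullRes_smulOne hsq hUU' n φ hφ hU hV h T hT]
    · intro b' c' hc'
      rw [map_smul, hs'lin]
      refine (Scheme.Modules.Hom.app_smul φ _ _).trans ?_
      rw [hc']
    · intro x y hx hy
      rw [map_add, map_add, map_add, hx, hy]
  -- (ii)
  have hii : Function.Surjective Θ := by
    rw [← LinearMap.range_eq_top, eq_top_iff, ← span_range_pullRes u (PrinPart.P f n) hU hU' hUU',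
      Submodule.span_le]
    rintro _ ⟨m, rfl⟩
    obtain ⟨c, rfl⟩ := PPUnit.smul_one_surjective f n hU hV h m
    exact ⟨T c, hΘ c⟩
  have hs'inj := PPUnit.smul_one_injective f' n hU' hV' h'
  have hs'surj := PPUnit.smul_one_surjective f' n hU' hV' h'
  constructor
  · rw [injective_iff_map_eq_zero]
    intro m hm
    obtain ⟨c', rfl⟩ := hii m
    rw [hi] at hm
    have h0 : (0 : Γ(PrinPart.nbhd f' n, NU f' n U')) • PPUnit.one f' n U' = 0 := zero_smul _ _
    have : c' = 0 := hs'inj (show (fun c => c • PPUnit.one f' n U') c' =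
      (fun c => c • PPUnit.one f' n U') 0 from hm.trans h0.symm)
    rw [this, map_zero]
  · intro y
    obtain ⟨c', rfl⟩ := hs'surj y
    exact ⟨Θ c', hi c'⟩

include hsq hφ hU hV h hV' in
theorem app_bijective (hVV' : V' ≤ g ⁻¹ᵁ V) :
    Function.Bijective (φ.app (u ⁻¹ᵁ U ⊓ f' ⁻¹ᵁ V')) := by
  obtain ⟨T, hT, hpo⟩ := exists_T hsq n hU hV h hV' hVV'
  exact app_bijective_aux hsq inf_le_left n φ hφ hU hV h hV'
    (isAffineOpen_inf hsq hU hV h hV' hVV') inf_le_right T hT hpo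

end Bij

end Groth.Agent.Lib.Helper1.PPBC
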