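import Mathlib
import Groth.Prelude.Def_OmegaPn
import Groth.Prelude.Def_PP16
import Groth.Agent.Lib.Helper1.PPGen
import Groth.Agent.Lib.Helper1.PPLocal

set_option autoImplicit false
set_option linter.style.haveILetI false
set_option linter.unusedSectionVars false
universe u
open CategoryTheory CategoryTheory.Limits AlgebraicGeometry TopologicalSpace Opposite

/-! comparison of the sheaf-level principal parts over an affine open with the ring-level
`PP16.P`, `PP16.PM`. -/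

namespace Groth.Agent.Lib.Helper1.PPChi

open Groth.Agent.Lib.Helper1.PPSect Groth.Agent.Lib.Helper1.PbSect TensorProduct

section Ring

variable (n : ℕ) {R A E Nr : CommRingCat.{u}} (φ : R ⟶ A) (p₁ p₂ : A ⟶ E) (μ : E ⟶ A) (ψ : E ⟶ Nr)

theorem exists_chi_ring (hpo : IsPushout φ φ p₁ p₂) (h1 : p₁ ≫ μ = 𝟙 _) (h2 : p₂ ≫ μ = 𝟙 _)
    (hψ : Function.Surjective ψ) (hker : RingHom.ker ψ.hom = RingHom.ker μ.hom ^ (n + 1))
    [Algebra R A] (halg : ∀ r, algebraMap R A r = φ r) :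
    ∃ χ : Nr →+* PP16.P n R A, (∀ a, χ (ψ (p₁ a)) = algebraMap A (PP16.P n R A) a) ∧
      (∀ a, χ (ψ (p₂ a)) = PP16.dn n R A a) := by
  have hφ : CommRingCat.ofHom (algebraMap R A) = φ := by
    ext r; exact halg r
  have hpo' : IsPushout (CommRingCat.ofHom (algebraMap R A))
      (CommRingCat.ofHom (algebraMap R A)) p₁ p₂ := by rw [hφ]; exact hpo
  have hT := CommRingCat.isPushout_tensorProduct R A A
  let τ := hT.isoIsPushout _ _ hpo'
  have hτ₁ : p₁ ≫ τ.inv = CommRingCat.ofHom (S := A ⊗[R] A)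
      Algebra.TensorProduct.includeLeftRingHom :=
    IsPushout.inl_isoIsPushout_inv _ _ _ _
  have hτ₂ : p₂ ≫ τ.inv = CommRingCat.ofHom (S := A ⊗[R] A)
      Algebra.TensorProduct.includeRight.toRingHom :=
    IsPushout.inr_isoIsPushout_inv _ _ _ _
  have hμ : τ.inv ≫ CommRingCat.ofHom (Algebra.TensorProduct.lmul' R (S := A)).toRingHom = μ := by
    apply hpo'.hom_ext
    · rw [← Category.assoc, hτ₁, h1]
      ext a
      change Algebra.TensorProduct.lmul' R (S := A) (a ⊗ₜ[R] (1 : A)) = a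
      rw [Algebra.TensorProduct.lmul'_apply_tmul, mul_one]
    · rw [← Category.assoc, hτ₂, h2]
      ext a
      change Algebra.TensorProduct.lmul' R (S := A) ((1 : A) ⊗ₜ[R] a) = a
      rw [Algebra.TensorProduct.lmul'_apply_tmul, one_mul]
  let g : E →+* PP16.P n R A := (Ideal.Quotient.mk _).comp τ.inv.hom
  have hg : RingHom.ker ψ.hom ≤ RingHom.ker g := by
    rw [hker]
    intro x hx
    rw [RingHom.mem_ker]
    change Ideal.Quotient.mk _ (τ.inv.hom x) = 0
    rw [Ideal.Quotient.eq_zero_iff_mem]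
    have h3 : Ideal.map τ.inv.hom (RingHom.ker μ.hom) ≤ KaehlerDifferential.ideal R A := by
      rw [Ideal.map_le_iff_le_comap]
      intro y hy
      rw [Ideal.mem_comap]
      change τ.inv.hom y ∈ RingHom.ker (Algebra.TensorProduct.lmul' R (S := A))
      rw [RingHom.mem_ker]
      have := congr($hμ y)
      rw [RingHom.mem_ker] at hy
      exact this.trans hy
    have h4 := Ideal.pow_right_mono h3 (n + 1)
    rw [← Ideal.map_pow] at h4
    exact h4 (Ideal.mem_map_of_mem _ hx)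
  refine ⟨RingHom.liftOfSurjective ψ.hom hψ ⟨g, hg⟩, fun a => ?_, fun a => ?_⟩
  · refine (RingHom.liftOfRightInverse_comp_apply _ _ _ _ _).trans ?_
    change Ideal.Quotient.mk _ (τ.inv.hom (p₁ a)) = _
    have := congr($hτ₁ a)
    exact congrArg _ this
  · refine (RingHom.liftOfRightInverse_comp_apply _ _ _ _ _).trans ?_
    change Ideal.Quotient.mk _ (τ.inv.hom (p₂ a)) = _
    have := congr($hτ₂ a)
    exact congrArg _ this

end Ring

section Sch

variable {X S : Scheme.{u}} (f : X ⟶ S) (n : ℕ)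
  {U : X.Opens} (hU : IsAffineOpen U) {V : S.Opens} (hV : IsAffineOpen V) (h : U ≤ f ⁻¹ᵁ V)

include hU hV h in
theorem exists_chi [Algebra Γ(S, V) Γ(X, U)]
    (halg : ∀ r, algebraMap Γ(S, V) Γ(X, U) r = (f.appLE V U h).hom r) :
    ∃ χ : Γ(PrinPart.nbhd f n, NU f n U) →+* PP16.P n Γ(S, V) Γ(X, U),
      (∀ a, χ ((PrinPart.pr1 f n).app U a) = algebraMap Γ(X, U) (PP16.P n Γ(S, V) Γ(X, U)) a) ∧
      (∀ a, χ ((PrinPart.pr2 f n).appLE U (NU f n U) (NU_le f n U) a) =
        PP16.dn n Γ(S, V) Γ(X, U) a) := by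
  obtain ⟨χ, h1, h2⟩ := exists_chi_ring n (f.appLE V U h)
    ((pullback.fst f f).appLE U (OmegaSh.diagNbhd f U) inf_le_left)
    ((pullback.snd f f).appLE U (OmegaSh.diagNbhd f U) inf_le_right)
    (OmSect.mu f (U := U)) (PPLocal.psi f n U)
    (OmSect.isPushout_diag f hU hV h) (OmSect.fst_mu f) (OmSect.snd_mu f)
    (PPLocal.psi_surjective f n hU hV h) (PPLocal.ker_psi f n hU hV h) halg
  refine ⟨χ, fun a => ?_, fun a => ?_⟩
  · have e3 : PPLocal.psi f n U
        (((pullback.fst f f).appLE U (OmegaSh.diagNbhd f U) inf_le_left).hom a) =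
        (PrinPart.pr1 f n).app U a := by
      have := congr($(PPLocal.fst_psi f n U) a)
      rw [Conorm.appLE_refl] at this
      exact this
    rw [← e3]
    exact h1 a
  · have e4 : PPLocal.psi f n U
        (((pullback.snd f f).appLE U (OmegaSh.diagNbhd f U) inf_le_right).hom a) =
        (PrinPart.pr2 f n).appLE U (NU f n U) (NU_le f n U) a :=
      congr($(PPLocal.snd_psi f n U) a)
    rw [← e4]
    exact h2 a

include hU hV h in
theorem exists_c (F : X.Modules) [F.IsQuasicoherent] [Algebra Γ(S, V) Γ(X, U)]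
    (halg : ∀ r, algebraMap Γ(S, V) Γ(X, U) r = (f.appLE V U h).hom r) :
    ∃ c : Γ(PrinPart.PMod f n F, U) →+ PP16.PM n Γ(S, V) Γ(X, U) Γ(F, U),
      (∀ m, c (PrinPart.dP f n F U m) = PP16.dM n Γ(S, V) Γ(X, U) Γ(F, U) m) ∧
      (∀ (a : Γ(X, U)) (y : Γ(PrinPart.PMod f n F, U)),
        c (a • y) = algebraMap Γ(X, U) (PP16.P n Γ(S, V) Γ(X, U)) a • c y) := by
  obtain ⟨χ, hχ1, hχ2⟩ := exists_chi f n hU hV h halg
  have hNU : IsAffineOpen (NU f n U) := PPLocal.isAffineOpen_pr1_preimage f n hU hV h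
  letI modQ : Module Γ(PrinPart.nbhd f n, NU f n U) (PP16.PM n Γ(S, V) Γ(X, U) Γ(F, U)) :=
    Module.compHom _ χ
  have hsm : ∀ (r : Γ(PrinPart.nbhd f n, NU f n U)) (q : PP16.PM n Γ(S, V) Γ(X, U) Γ(F, U)),
      r • q = χ r • q := fun r q => rfl
  let Q : ModuleCat.{u} Γ(PrinPart.nbhd f n, NU f n U) :=
    ModuleCat.of _ (PP16.PM n Γ(S, V) Γ(X, U) Γ(F, U))
  let g : Γ(F, U) →+ Q := PP16.dM n Γ(S, V) Γ(X, U) Γ(F, U)
  obtain ⟨g', hg', -⟩ := existsUnique_lift (PrinPart.pr2 f n) F hU hNU (NU_le f n U) Q g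
    (fun a m => by
      change PP16.dM n Γ(S, V) Γ(X, U) Γ(F, U) (a • m) =
        χ (((PrinPart.pr2 f n).appLE U (NU f n U) (NU_le f n U)).hom a) •
          PP16.dM n Γ(S, V) Γ(X, U) Γ(F, U) m
      rw [hχ2]
      change (1 : PP16.Pr n Γ(S, V) Γ(X, U)) ⊗ₜ[Γ(X, U)] (a • m) =
        PP16.dn n Γ(S, V) Γ(X, U) a • ((1 : PP16.Pr n Γ(S, V) Γ(X, U)) ⊗ₜ[Γ(X, U)] m)
      rw [TensorProduct.smul_tmul', ← TensorProduct.smul_tmul]
      congr 1)
  refine ⟨g'.toAddMonoidHom, fun m => ?_, fun a y => ?_⟩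
  · rw [PPUnit.dP_eq_pullRes]
    exact hg' m
  · have e1 : (a • y : Γ(PrinPart.PMod f n F, U)) =
        (show Γ((Scheme.Modules.pullback (PrinPart.pr2 f n)).obj F, NU f n U) from
          ((PrinPart.pr1 f n).app U a) •
          (show Γ((Scheme.Modules.pullback (PrinPart.pr2 f n)).obj F, NU f n U) from y)) := rfl
    rw [e1]
    change g' (((PrinPart.pr1 f n).app U a) • _) = _
    rw [map_smul, hsm, hχ1]
    rfl

end Sch

end Groth.Agent.Lib.Helper1.PPChi
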