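import Mathlib
import Groth.Prelude.Def_OmegaPn
import Groth.Prelude.Def_PP16
import Groth.Prelude.Def_DiffOp
import Groth.Agent.Lib.Helper1.PPGen
import Groth.Agent.Lib.Helper1.PPLocal
import Groth.Agent.Lib.Helper1.GrFlat

set_option autoImplicit false
set_option linter.style.haveILetI false
set_option linter.unusedSectionVars false
universe u
open CategoryTheory CategoryTheory.Limits AlgebraicGeometry TopologicalSpace Opposite

/-! `d^n_F` is, on sections over an affine open, a differential operator of order `≤ n` in the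
ring-level (commutator) sense, for every `O_X`-module `F`. -/

namespace Groth.Agent.Lib.Helper1.PPDiff

open Groth.Agent.Lib.Helper1.PPSect Groth.Agent.Lib.Helper1.PbSect

variable {X S : Scheme.{u}} (f : X ⟶ S) (n : ℕ) (F : X.Modules)

/-- multiplication by a function on `pr1⁻¹ U ⊆ X^{(n)}_Δ` on `Γ(P^n(F), U)`. -/
noncomputable def smulP (U : X.Opens) (c : Γ(PrinPart.nbhd f n, NU f n U)) :
    Γ(PrinPart.PMod f n F, U) →+ Γ(PrinPart.PMod f n F, U) :=
  DistribSMul.toAddMonoidHom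
    (Γ((Scheme.Modules.pullback (PrinPart.pr2 f n)).obj F, NU f n U)) c

theorem smulP_apply (U : X.Opens) (c : Γ(PrinPart.nbhd f n, NU f n U))
    (y : Γ(PrinPart.PMod f n F, U)) :
    smulP f n F U c y = (c • (show Γ((Scheme.Modules.pullback (PrinPart.pr2 f n)).obj F,
      NU f n U) from y) : Γ((Scheme.Modules.pullback (PrinPart.pr2 f n)).obj F, NU f n U)) := rfl

theorem smulP_mul (U : X.Opens) (c d : Γ(PrinPart.nbhd f n, NU f n U))
    (y : Γ(PrinPart.PMod f n F, U)) :
    smulP f n F U (c * d) y = smulP f n F U c (smulP f n F U d y) := by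
  rw [smulP_apply, mul_smul]; rfl

theorem smulP_sub (U : X.Opens) (c d : Γ(PrinPart.nbhd f n, NU f n U))
    (y : Γ(PrinPart.PMod f n F, U)) :
    smulP f n F U (c - d) y = smulP f n F U c y - smulP f n F U d y := by
  rw [smulP_apply, sub_smul]; rfl

theorem smulP_zero (U : X.Opens) (y : Γ(PrinPart.PMod f n F, U)) :
    smulP f n F U 0 y = 0 := by
  rw [smulP_apply, zero_smul]; rfl

theorem smulP_one (U : X.Opens) (y : Γ(PrinPart.PMod f n F, U)) :
    smulP f n F U 1 y = y := by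
  rw [smulP_apply, one_smul]

theorem smul_eq_smulP (U : X.Opens) (a : Γ(X, U)) (y : Γ(PrinPart.PMod f n F, U)) :
    a • y = smulP f n F U ((PrinPart.pr1 f n).app U a) y := rfl

theorem dP_smul (U : X.Opens) (a : Γ(X, U)) (m : Γ(F, U)) :
    PrinPart.dP f n F U (a • m) =
      smulP f n F U (((PrinPart.pr2 f n).appLE U (NU f n U) (NU_le f n U)).hom a)
        (PrinPart.dP f n F U m) := by
  rw [PPUnit.dP_eq_pullRes, pullRes_smul]
  rfl

variable {U : X.Opens} (hU : IsAffineOpen U) {V : S.Opens} (hV : IsAffineOpen V) (h : U ≤ f ⁻¹ᵁ V)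

/-- the ideal of the diagonal in `Γ(X^{(n)}_Δ, pr1⁻¹ U)`, `j`-th power. -/
noncomputable def Idl (U : X.Opens) (j : ℕ) : Ideal Γ(PrinPart.nbhd f n, NU f n U) :=
  Ideal.map (PPLocal.psi f n U).hom ((RingHom.ker (OmSect.mu f (U := U)).hom) ^ j)

theorem sub_mem_Idl (b : Γ(X, U)) :
    ((PrinPart.pr2 f n).appLE U (NU f n U) (NU_le f n U)).hom b -
      ((PrinPart.pr1 f n).app U).hom b ∈ Idl f n U 1 := by
  have e3 : PPLocal.psi f n U
      (((pullback.fst f f).appLE U (OmegaSh.diagNbhd f U) inf_le_left).hom b) =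
      (PrinPart.pr1 f n).app U b := by
    have := congr($(PPLocal.fst_psi f n U) b)
    rw [Conorm.appLE_refl] at this
    exact this
  have e4 : PPLocal.psi f n U
      (((pullback.snd f f).appLE U (OmegaSh.diagNbhd f U) inf_le_right).hom b) =
      (PrinPart.pr2 f n).appLE U (NU f n U) (NU_le f n U) b :=
    congr($(PPLocal.snd_psi f n U) b)
  have e5 : ((PrinPart.pr2 f n).appLE U (NU f n U) (NU_le f n U)).hom b -
      ((PrinPart.pr1 f n).app U).hom b = (PPLocal.psi f n U).hom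
        (((pullback.snd f f).appLE U (OmegaSh.diagNbhd f U) inf_le_right).hom b -
          ((pullback.fst f f).appLE U (OmegaSh.diagNbhd f U) inf_le_left).hom b) := by
    rw [map_sub]
    exact congrArg₂ _ e4.symm e3.symm
  rw [e5, Idl, pow_one]
  apply Ideal.mem_map_of_mem
  rw [RingHom.mem_ker, map_sub]
  have h1 : (OmSect.mu f (U := U)).hom
      (((pullback.fst f f).appLE U (OmegaSh.diagNbhd f U) inf_le_left).hom b) = b :=
    congr($(OmSect.fst_mu f (U := U)) b)
  have h2 : (OmSect.mu f (U := U)).hom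
      (((pullback.snd f f).appLE U (OmegaSh.diagNbhd f U) inf_le_right).hom b) = b :=
    congr($(OmSect.snd_mu f (U := U)) b)
  rw [h1, h2, sub_self]

theorem mul_mem_Idl (j : ℕ) (c d : Γ(PrinPart.nbhd f n, NU f n U))
    (hc : c ∈ Idl f n U j) (hd : d ∈ Idl f n U 1) : c * d ∈ Idl f n U (j + 1) := by
  unfold Idl at *
  rw [pow_succ, Ideal.map_mul]
  rw [pow_one] at hd
  exact Ideal.mul_mem_mul hc hd

include hU hV h in
theorem Idl_succ_eq_bot : Idl f n U (n + 1) = ⊥ := by
  unfold Idl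
  rw [← PPLocal.ker_psi f n hU hV h, Ideal.map_eq_bot_iff_le_ker]

theorem pr2_appLE_base (r : Γ(S, V)) :
    ((PrinPart.pr2 f n).appLE U (NU f n U) (NU_le f n U)).hom ((f.appLE V U h).hom r) =
      ((PrinPart.pr1 f n).app U).hom ((f.appLE V U h).hom r) := by
  have e1 : f.appLE V U h ≫
      (PrinPart.pr2 f n).appLE U (NU f n U) (NU_le f n _) =
      f.appLE V U h ≫ (PrinPart.pr1 f n).appLE U (NU f n U) le_rfl := by
    rw [Scheme.Hom.appLE_comp_appLE, Scheme.Hom.appLE_comp_appLE]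
    exact GrFlat.appLE_congr (PrinPart.pr1_comp f n).symm _ _ _ _
  rw [Conorm.appLE_refl] at e1
  exact congr($e1 r)

theorem dP_base (r : Γ(S, V)) (m : Γ(F, U)) :
    PrinPart.dP f n F U ((f.appLE V U h).hom r • m) =
      (f.appLE V U h).hom r • PrinPart.dP f n F U m := by
  rw [dP_smul, smul_eq_smulP, pr2_appLE_base]

section Diff

variable [Algebra Γ(S, V) Γ(X, U)]
  (halg : ∀ r, algebraMap Γ(S, V) Γ(X, U) r = (f.appLE V U h).hom r)
  [Module Γ(S, V) Γ(F, U)] [IsScalarTower Γ(S, V) Γ(X, U) Γ(F, U)]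
  [Module Γ(S, V) Γ(PrinPart.PMod f n F, U)]
  [IsScalarTower Γ(S, V) Γ(X, U) Γ(PrinPart.PMod f n F, U)]

/-- `d^n_F` on sections over `U`, as a `Γ(S, V)`-linear map. -/
noncomputable def dPLin : Γ(F, U) →ₗ[Γ(S, V)] Γ(PrinPart.PMod f n F, U) where
  toFun := PrinPart.dP f n F U
  map_add' := map_add _
  map_smul' r m := by
    rw [RingHom.id_apply, ← algebraMap_smul Γ(X, U) r m,
      ← algebraMap_smul Γ(X, U) r (PrinPart.dP f n F U m), halg]
    exact dP_base f n F h r m

theorem dPLin_apply (m : Γ(F, U)) : dPLin f n F h halg m = PrinPart.dP f n F U m := rfl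

include hU hV h in
theorem isDiffOpLE_smul_dP (k : ℕ) : ∀ (_ : k ≤ n) (c : Γ(PrinPart.nbhd f n, NU f n U))
    (_ : c ∈ Idl f n U (n - k))
    (D : Γ(F, U) →ₗ[Γ(S, V)] Γ(PrinPart.PMod f n F, U))
    (_ : ∀ m, D m = smulP f n F U c (PrinPart.dP f n F U m)),
    Diff16.IsDiffOpLE Γ(S, V) Γ(X, U) Γ(F, U) Γ(PrinPart.PMod f n F, U) k D := by
  have hcomm : ∀ (c : Γ(PrinPart.nbhd f n, NU f n U))
      (D : Γ(F, U) →ₗ[Γ(S, V)] Γ(PrinPart.PMod f n F, U))
      (_ : ∀ m, D m = smulP f n F U c (PrinPart.dP f n F U m)) (b : Γ(X, U)) (m : Γ(F, U)),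
      D (b • m) - b • D m = smulP f n F U
        (c * (((PrinPart.pr2 f n).appLE U (NU f n U) (NU_le f n U)).hom b -
          ((PrinPart.pr1 f n).app U).hom b)) (PrinPart.dP f n F U m) := by
    intro c D hD b m
    rw [hD, hD, dP_smul, smul_eq_smulP, ← smulP_mul, ← smulP_mul, mul_comm _ c, ← smulP_sub,
      mul_sub]
  induction k with
  | zero =>
    intro _ c hc D hD b m
    have h1 := hcomm c D hD b m
    have h2 := mul_mem_Idl f n (n - 0) _ _ hc (sub_mem_Idl f n b)
    rw [Nat.sub_zero, Idl_succ_eq_bot f n hU hV h, Ideal.mem_bot] at h2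
    rw [h2, smulP_zero] at h1
    exact sub_eq_zero.mp h1
  | succ k ih =>
    intro hk c hc D hD b
    refine ih (by omega) (c * (((PrinPart.pr2 f n).appLE U (NU f n U) (NU_le f n U)).hom b -
          ((PrinPart.pr1 f n).app U).hom b)) ?_ _ (fun m => ?_)
    · have h2 := mul_mem_Idl f n _ _ _ hc (sub_mem_Idl f n b)
      have : n - (k + 1) + 1 = n - k := by omega
      rwa [this] at h2
    · rw [← hcomm c D hD b m]
      rfl

include hU hV h in
/-- `d^n_F : Γ(F, U) → Γ(P^n(F), U)` is a differential operator of order `≤ n` over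
`Γ(S, V) → Γ(X, U)`. -/
theorem isDiffOpLE_dP (D : Γ(F, U) →ₗ[Γ(S, V)] Γ(PrinPart.PMod f n F, U))
    (hD : ∀ m, D m = PrinPart.dP f n F U m) :
    Diff16.IsDiffOpLE Γ(S, V) Γ(X, U) Γ(F, U) Γ(PrinPart.PMod f n F, U) n D := by
  refine isDiffOpLE_smul_dP f n F hU hV h n le_rfl 1 ?_ D (fun m => ?_)
  · rw [Nat.sub_self, Idl, pow_zero, Ideal.one_eq_top, Ideal.map_top]
    trivial
  · rw [smulP_one]; exact hD m

end Diff

end Groth.Agent.Lib.Helper1.PPDiff
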