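import Mathlib
import Groth.Agent.S3815
import Groth.Agent.S2799
import Groth.Agent.Lib.Helper1.PPChi
import Groth.Agent.Lib.Helper1.PPDiff
import Groth.Agent.Lib.Helper1.PPEpi

set_option autoImplicit false
set_option linter.style.haveILetI false
set_option linter.unusedSectionVars false
universe u
open CategoryTheory CategoryTheory.Limits AlgebraicGeometry TopologicalSpace Opposite

/-! local pieces of `δ : P^{n+n'} ⟶ P^{n'}(P^n)`. -/

namespace Groth.Agent.Lib.Helper1.PPDelta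

open Groth.Agent.Lib.Helper1.PPSect Groth.Agent.Lib.Helper1.PbSect

variable {X S : Scheme.{u}} (f : X ⟶ S) (n n' : ℕ)
  {U : X.Opens} (hU : IsAffineOpen U) {V : S.Opens} (hV : IsAffineOpen V) (h : U ≤ f ⁻¹ᵁ V)

include hU hV h in
/-- For a quasi-coherent `F`, a ring-level differential operator of order `≤ k` out of `Γ(F, U)`
into the sections of any module factors through `d^k_F`. -/
theorem exists_factor (k : ℕ) (F G : X.Modules) [F.IsQuasicoherent]
    [Algebra Γ(S, V) Γ(X, U)]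
    (halg : ∀ r, algebraMap Γ(S, V) Γ(X, U) r = (f.appLE V U h).hom r)
    [Module Γ(S, V) Γ(F, U)] [IsScalarTower Γ(S, V) Γ(X, U) Γ(F, U)]
    [Module Γ(S, V) Γ(G, U)] [IsScalarTower Γ(S, V) Γ(X, U) Γ(G, U)]
    (D : Γ(F, U) →ₗ[Γ(S, V)] Γ(G, U))
    (hD : Diff16.IsDiffOpLE Γ(S, V) Γ(X, U) Γ(F, U) Γ(G, U) k D) :
    ∃ ψ : Γ(PrinPart.PMod f k F, U) →ₗ[Γ(X, U)] Γ(G, U),
      ∀ m, ψ (PrinPart.dP f k F U m) = D m := by
  obtain ⟨u₀, ⟨hu₀1, hu₀2⟩, -⟩ :=
    (Groth.Agent.S3815.result k Γ(S, V) Γ(X, U) Γ(F, U) Γ(G, U) D).mp hD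
  obtain ⟨c, hc1, hc2⟩ := PPChi.exists_c f k hU hV h F halg
  refine ⟨{ toFun := fun y => u₀ (c y)
            map_add' := fun x y => by rw [map_add, map_add]
            map_smul' := fun a y => by
              rw [hc2, hu₀1]
              rfl }, fun m => ?_⟩
  change u₀ (c _) = _
  rw [hc1, hu₀2]

include hU hV h in
theorem exists_psi : ∃ ψ : Γ(PrinPart.P f (n + n'), U) →ₗ[Γ(X, U)]
    Γ(PrinPart.PMod f n' (PrinPart.P f n), U),
    ∀ t : Γ(X, U), ψ (PrinPart.dn f (n + n') U t) =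
      PrinPart.dP f n' (PrinPart.P f n) U (PrinPart.dn f n U t) := by
  letI : Algebra Γ(S, V) Γ(X, U) := (f.appLE V U h).hom.toAlgebra
  have halg : ∀ r, algebraMap Γ(S, V) Γ(X, U) r = (f.appLE V U h).hom r := fun r => rfl
  letI : Module Γ(S, V) Γ(Coh.structureModule X, U) := Module.compHom _ (f.appLE V U h).hom
  letI : Module Γ(S, V) Γ(PrinPart.P f n, U) := Module.compHom _ (f.appLE V U h).hom
  letI : Module Γ(S, V) Γ(PrinPart.PMod f n' (PrinPart.P f n), U) :=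
    Module.compHom _ (f.appLE V U h).hom
  haveI : IsScalarTower Γ(S, V) Γ(X, U) Γ(Coh.structureModule X, U) :=
    IsScalarTower.of_algebraMap_smul fun _ _ => rfl
  haveI : IsScalarTower Γ(S, V) Γ(X, U) Γ(PrinPart.P f n, U) :=
    IsScalarTower.of_algebraMap_smul fun _ _ => rfl
  haveI : IsScalarTower Γ(S, V) Γ(X, U) Γ(PrinPart.PMod f n' (PrinPart.P f n), U) :=
    IsScalarTower.of_algebraMap_smul fun _ _ => rfl
  let D₁ := PPDiff.dPLin f n (Coh.structureModule X) h halg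
  let D₂ := PPDiff.dPLin f n' (PrinPart.P f n) h halg
  have hD₁ := PPDiff.isDiffOpLE_dP f n (Coh.structureModule X) hU hV h D₁ (fun m => rfl)
  have hD₂ := PPDiff.isDiffOpLE_dP f n' (PrinPart.P f n) hU hV h D₂ (fun m => rfl)
  have hD := Groth.Agent.S2799.result Γ(S, V) Γ(X, U) Γ(Coh.structureModule X, U)
    Γ(PrinPart.P f n, U) Γ(PrinPart.PMod f n' (PrinPart.P f n), U) n n' D₁ D₂ hD₁ hD₂
  obtain ⟨ψ, hψ⟩ := exists_factor f hU hV h (n + n') (Coh.structureModule X)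
    (PrinPart.PMod f n' (PrinPart.P f n)) halg (D₂ ∘ₗ D₁) hD
  exact ⟨ψ, fun t => hψ (OmegaSh.strSect X U t)⟩

end Groth.Agent.Lib.Helper1.PPDelta
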