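import Mathlib
import Groth.Prelude.Def_OmegaPn
import Groth.Agent.Lib.Helper1.PPSect

set_option autoImplicit false
set_option linter.style.haveILetI false
universe u
open CategoryTheory CategoryTheory.Limits AlgebraicGeometry TopologicalSpace Opposite

namespace Groth.Agent.Lib.Helper1.PPFP

section Ring

variable {A B R : CommRingCat.{u}} {φ : A ⟶ B} {p₁ p₂ : B ⟶ R} (hpo : IsPushout φ φ p₁ p₂)
  {μ : R ⟶ B} (h₁ : p₁ ≫ μ = 𝟙 B) (h₂ : p₂ ≫ μ = 𝟙 B)

include hpo in
theorem finitePresentation_inl (hφ : φ.hom.FinitePresentation) : p₁.hom.FinitePresentation := by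
  have hst := RingHom.isStableUnderCobaseChange_toMorphismProperty_iff.mpr
    RingHom.finitePresentation_isStableUnderBaseChange
  exact hst.of_isPushout hpo hφ

variable {P : CommRingCat.{u}} (ψ : R ⟶ P) (hψ : Function.Surjective ψ) (n : ℕ)
  (hker : RingHom.ker ψ.hom = RingHom.ker μ.hom ^ (n + 1))

include hpo h₁ h₂ hψ hker in
theorem finitePresentation_of_fp (hφ : φ.hom.FinitePresentation) :
    letI := (p₁ ≫ ψ).hom.toAlgebra
    Module.FinitePresentation B P := by
  letI := (p₁ ≫ ψ).hom.toAlgebra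
  have hfg : (RingHom.ker μ.hom).FG := PPFin.ker_mu_fg hpo h₁ h₂ (RingHom.FiniteType.of_finitePresentation hφ)
  haveI : Module.Finite B P := PPFin.finite_of_fg h₁ ψ hψ n hker hfg
  have h1 : p₁.hom.FinitePresentation := finitePresentation_inl hpo hφ
  have h2 : ψ.hom.FinitePresentation := by
    apply RingHom.FinitePresentation.of_surjective _ hψ
    rw [hker]
    exact Submodule.FG.pow hfg _
  have h3 : (p₁ ≫ ψ).hom.FinitePresentation := h2.comp h1
  haveI : Algebra.FinitePresentation B P := h3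
  exact Module.FinitePresentation.of_finite_of_finitePresentation B P

end Ring

open Groth.Agent.Lib.Helper1.PbSect Groth.Agent.Lib.Helper3 Groth.Agent.Lib.Helper1.PPSect

variable {X S : Scheme.{u}} (f : X ⟶ S) (n : ℕ) (F : X.Modules)
  {U : X.Opens} (hU : IsAffineOpen U) {V : S.Opens} (hV : IsAffineOpen V) (h : U ≤ f ⁻¹ᵁ V)

include hU hV h in
theorem fp_pullback_sections [F.IsQuasicoherent]
    [SheafOfModules.IsFinitePresentation (R := X.ringCatSheaf) F] :
    Module.FinitePresentation Γ(PrinPart.nbhd f n, NU f n U)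
      Γ((Scheme.Modules.pullback (PrinPart.pr2 f n)).obj F, NU f n U) := by
  have hN : IsAffineOpen (NU f n U) := PPLocal.isAffineOpen_pr1_preimage f n hU hV h
  letI alg2 : Algebra Γ(X, U) Γ(PrinPart.nbhd f n, NU f n U) :=
    ((PrinPart.pr2 f n).appLE U (NU f n U) (NU_le f n U)).hom.toAlgebra
  letI : Module Γ(X, U) Γ((Scheme.Modules.pullback (PrinPart.pr2 f n)).obj F, NU f n U) :=
    Module.compHom _ ((PrinPart.pr2 f n).appLE U (NU f n U) (NU_le f n U)).hom
  haveI : IsScalarTower Γ(X, U) Γ(PrinPart.nbhd f n, NU f n U)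
      Γ((Scheme.Modules.pullback (PrinPart.pr2 f n)).obj F, NU f n U) :=
    IsScalarTower.of_algebraMap_smul (fun _ _ => rfl)
  let l : Γ(F, U) →ₗ[Γ(X, U)] Γ((Scheme.Modules.pullback (PrinPart.pr2 f n)).obj F, NU f n U) :=
    { toFun := pullRes (PrinPart.pr2 f n) F (NU_le f n U)
      map_add' := map_add _
      map_smul' := fun a m => pullRes_smul (PrinPart.pr2 f n) F (NU_le f n U) a m }
  have hbc := isBaseChange_pullRes (PrinPart.pr2 f n) F hU hN (NU_le f n U) (fun a => rfl) l
    (fun m => rfl)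
  haveI := QCProps.finitePresentation_sections F hU
  exact FinitePresentation.of_isBaseChange l hbc

include hU hV h in
theorem fp_nbhd_sections [LocallyOfFinitePresentation f] :
    letI := ((PrinPart.pr1 f n).app U).hom.toAlgebra
    Module.FinitePresentation Γ(X, U) Γ(PrinPart.nbhd f n, NU f n U) := by
  have hpo := OmSect.isPushout_diag f hU hV h
  have key := finitePresentation_of_fp hpo (OmSect.fst_mu f) (OmSect.snd_mu f) (PPLocal.psi f n U)
    (PPLocal.psi_surjective f n hU hV h) n (PPLocal.ker_psi f n hU hV h)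
    (HasRingHomProperty.appLE (P := @LocallyOfFinitePresentation) f inferInstance
      ⟨V, hV⟩ ⟨U, hU⟩ h)
  have e : (pullback.fst f f).appLE U (OmegaSh.diagNbhd f U) inf_le_left ≫ PPLocal.psi f n U =
      (PrinPart.pr1 f n).app U := by
    rw [PPLocal.fst_psi, Conorm.appLE_refl]
  rw [e] at key
  exact key

include hU hV h in
theorem fp_sections_PMod [LocallyOfFinitePresentation f] [F.IsQuasicoherent]
    [SheafOfModules.IsFinitePresentation (R := X.ringCatSheaf) F] :
    Module.FinitePresentation Γ(X, U) Γ(PrinPart.PMod f n F, U) := by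
  letI alg1 : Algebra Γ(X, U) Γ(PrinPart.nbhd f n, NU f n U) :=
    ((PrinPart.pr1 f n).app U).hom.toAlgebra
  have h1 : Module.FinitePresentation Γ(X, U) Γ(PrinPart.nbhd f n, NU f n U) :=
    fp_nbhd_sections f n hU hV h
  have h2 := fp_pullback_sections f n F hU hV h
  letI mP : Module Γ(PrinPart.nbhd f n, NU f n U) Γ(PrinPart.PMod f n F, U) :=
    (inferInstance : Module Γ(PrinPart.nbhd f n, NU f n U)
      Γ((Scheme.Modules.pullback (PrinPart.pr2 f n)).obj F, NU f n U))
  haveI : IsScalarTower Γ(X, U) Γ(PrinPart.nbhd f n, NU f n U) Γ(PrinPart.PMod f n F, U) :=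
    IsScalarTower.of_algebraMap_smul (fun _ _ => rfl)
  exact @Module.FinitePresentation.trans Γ(X, U) Γ(PrinPart.PMod f n F, U) _ _ _
    Γ(PrinPart.nbhd f n, NU f n U) _ _ mP _ h1 h2

end Groth.Agent.Lib.Helper1.PPFP
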