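import Mathlib
import Groth.Prelude.Def_OmegaPn
import Groth.Agent.Lib.Helper1.PPGen
import Groth.Agent.Lib.Helper1.OmSect2

set_option autoImplicit false
set_option linter.style.haveILetI false
universe u
open CategoryTheory CategoryTheory.Limits AlgebraicGeometry TopologicalSpace Opposite

/-! principal parts of order one and differentials. -/

namespace Groth.Agent.Lib.Helper1.PPOne

open Groth.Agent.Lib.Helper1.PPSect Groth.Agent.Lib.Helper1.PbSect

variable {X S : Scheme.{u}} (f : X ⟶ S)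
  {U : X.Opens} (hU : IsAffineOpen U) {V : S.Opens} (hV : IsAffineOpen V) (h : U ≤ f ⁻¹ᵁ V)

section Span

variable [QuasiSeparated f]

include hU hV h in
/-- sections of `Ω_{X/S}` over an affine open lying over an affine open are spanned by the `d b`. -/
theorem span_range_dSect :
    Submodule.span Γ(X, U) (Set.range (OmegaSh.dSect f U)) = ⊤ := by
  rw [eq_top_iff]
  intro x _
  obtain ⟨ω, rfl⟩ := (OmSect.toSect_bijective f hU hV h).2 x
  letI : Algebra Γ(S, V) Γ(X, U) := (f.appLE V U h).hom.toAlgebra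
  let T : Ω[Γ(X, U)⁄Γ(S, V)] →ₗ[Γ(X, U)] Γ(Omega.sheaf f, U) := (OmAff.toSect f V U h).hom
  have h1 : Submodule.map T ⊤ ≤ Submodule.span Γ(X, U) (Set.range (OmegaSh.dSect f U)) := by
    rw [← KaehlerDifferential.span_range_derivation, Submodule.map_span, Submodule.span_le]
    rintro _ ⟨_, ⟨b, rfl⟩, rfl⟩
    exact Submodule.subset_span ⟨b, (OmAff.toSect_d f V U h b).symm⟩
  exact h1 ⟨ω, trivial, rfl⟩

end Span

section Local

/-- `p₁ = pr₁♯ : Γ(X, U) ⟶ Γ(X ×_S X, U ×_V U)` -/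
noncomputable abbrev p1 (U : X.Opens) : Γ(X, U) ⟶ Γ(pullback f f, OmegaSh.diagNbhd f U) :=
  (pullback.fst f f).appLE U (OmegaSh.diagNbhd f U) inf_le_left

/-- `p₂ = pr₂♯` -/
noncomputable abbrev p2 (U : X.Opens) : Γ(X, U) ⟶ Γ(pullback f f, OmegaSh.diagNbhd f U) :=
  (pullback.snd f f).appLE U (OmegaSh.diagNbhd f U) inf_le_right

variable (n : ℕ)

theorem smulOne_psi_mul (a b : Γ(X, U)) :
    PPGen.smulOne f n U (PPLocal.psi f n U ((p1 f U).hom a * (p2 f U).hom b)) =
      a • PrinPart.dn f n U b := by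
  rw [map_mul, ← PPGen.smulOne_mul]
  have e3 : PPLocal.psi f n U ((p1 f U).hom a) = (PrinPart.pr1 f n).app U a := by
    have := congr($(PPLocal.fst_psi f n U) a)
    rw [Conorm.appLE_refl] at this
    exact this
  have e4 : PPLocal.psi f n U ((p2 f U).hom b) =
      (PrinPart.pr2 f n).appLE U (NU f n U) (NU_le f n U) b :=
    congr($(PPLocal.snd_psi f n U) b)
  exact congrArg (PPGen.smulOne f n U) (congrArg₂ _ e3 e4)

theorem smulOne_psi_p1 (a : Γ(X, U)) :
    PPGen.smulOne f n U (PPLocal.psi f n U ((p1 f U).hom a)) = a • PrinPart.dn f n U 1 := by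
  rw [← smulOne_psi_mul, map_one, mul_one]

theorem smulOne_psi_p2 (b : Γ(X, U)) :
    PPGen.smulOne f n U (PPLocal.psi f n U ((p2 f U).hom b)) = PrinPart.dn f n U b := by
  have := smulOne_psi_mul f n (U := U) 1 b
  rw [map_one, one_mul, one_smul] at this
  exact this

theorem smulOne_psi_p1_mul (a : Γ(X, U)) (z : Γ(pullback f f, OmegaSh.diagNbhd f U)) :
    PPGen.smulOne f n U (PPLocal.psi f n U ((p1 f U).hom a * z)) =
      a • PPGen.smulOne f n U (PPLocal.psi f n U z) := by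
  rw [map_mul]
  have e3 : PPLocal.psi f n U ((p1 f U).hom a) = (PrinPart.pr1 f n).app U a := by
    have := congr($(PPLocal.fst_psi f n U) a)
    rw [Conorm.appLE_refl] at this
    exact this
  rw [e3, PPGen.smulOne_apply, mul_smul]
  rfl

theorem mu_p1 (a : Γ(X, U)) : OmSect.mu f ((p1 f U).hom a) = a := congr($(OmSect.fst_mu f) a)

theorem mu_p2 (a : Γ(X, U)) : OmSect.mu f ((p2 f U).hom a) = a := congr($(OmSect.snd_mu f) a)

include hU hV h in
/-- the Leibniz rule in `P^1`. -/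
theorem psi_mul_eq_zero (k k' : Γ(pullback f f, OmegaSh.diagNbhd f U))
    (hk : OmSect.mu f k = 0) (hk' : OmSect.mu f k' = 0) : PPLocal.psi f 1 U (k * k') = 0 := by
  have : k * k' ∈ RingHom.ker (PPLocal.psi f 1 U).hom := by
    rw [PPLocal.ker_psi f 1 hU hV h, pow_two]
    exact Ideal.mul_mem_mul hk hk'
  exact this

end Local

section Split

variable [QuasiSeparated f]
  (e : Coh.structureModule X ⟶ PrinPart.P f 1)
  (he : ∀ (U : X.Opens) (s : Γ(X, U)), e.app U (OmegaSh.strSect X U s) = s • PrinPart.dn f 1 U 1)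
  (ι : Omega.sheaf f ⟶ PrinPart.P f 1)
  (hι : ∀ (U : X.Opens) (s : Γ(X, U)),
    ι.app U ((OmegaSh.dOmega f).app U s) = PrinPart.dn f 1 U s - s • PrinPart.dn f 1 U 1)

include he in
omit [QuasiSeparated f] in
theorem e_app (a : Γ(X, U)) :
    e.app U (OmegaSh.strSect X U a) = PPGen.smulOne f 1 U (PPLocal.psi f 1 U ((p1 f U).hom a)) := by
  rw [he, smulOne_psi_p1]

include hι in
theorem ι_app_dSect (b : Γ(X, U)) :
    ι.app U (OmegaSh.dSect f U b) =
      PPGen.smulOne f 1 U (PPLocal.psi f 1 U ((p2 f U).hom b - (p1 f U).hom b)) := by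
  rw [map_sub, map_sub, smulOne_psi_p1, smulOne_psi_p2]
  exact hι U b

include hU hV h hι in
/-- every section of `Ω` is `l z` for a `z` in the diagonal ideal computing `ι`. -/
theorem exists_z (l : Γ(pullback f f, OmegaSh.diagNbhd f U) →+ Γ(Omega.sheaf f, U))
    (hl₁ : ∀ b, l ((p2 f U).hom b - (p1 f U).hom b) = OmegaSh.dSect f U b)
    (hl₂ : ∀ r k, OmSect.mu f k = 0 → l (r * k) = OmSect.mu f r • l k)
    (ω : Γ(Omega.sheaf f, U)) :
    ∃ z : Γ(pullback f f, OmegaSh.diagNbhd f U), OmSect.mu f z = 0 ∧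
      ι.app U ω = PPGen.smulOne f 1 U (PPLocal.psi f 1 U z) ∧ l z = ω := by
  have hω : ω ∈ Submodule.span Γ(X, U) (Set.range (OmegaSh.dSect f U)) := by
    rw [span_range_dSect f hU hV h]; trivial
  induction hω using Submodule.span_induction with
  | mem ω hω =>
    obtain ⟨b, rfl⟩ := hω
    refine ⟨(p2 f U).hom b - (p1 f U).hom b, ?_, ι_app_dSect f ι hι b, hl₁ b⟩
    rw [map_sub, mu_p1, mu_p2, sub_self]
  | zero => exact ⟨0, map_zero _, by rw [map_zero, map_zero, map_zero], map_zero _⟩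
  | add x y _ _ hx hy =>
    obtain ⟨z₁, h1, h2, h3⟩ := hx
    obtain ⟨z₂, h1', h2', h3'⟩ := hy
    exact ⟨z₁ + z₂, by rw [map_add, h1, h1', add_zero],
      by rw [map_add, map_add, map_add, h2, h2'], by rw [map_add, h3, h3']⟩
  | smul a x _ hx =>
    obtain ⟨z, h1, h2, h3⟩ := hx
    refine ⟨(p1 f U).hom a * z, by rw [map_mul, h1, mul_zero], ?_, ?_⟩
    · rw [smulOne_psi_p1_mul, ← h2]
      exact Scheme.Modules.Hom.app_smul ι a x
    · rw [hl₂ _ _ h1, mu_p1, h3]

include hU hV h he hι in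
theorem surj (y : Γ(PrinPart.P f 1, U)) :
    ∃ (a : Γ(X, U)) (ω : Γ(Omega.sheaf f, U)),
      e.app U (OmegaSh.strSect X U a) + ι.app U ω = y := by
  have hy : y ∈ Submodule.span Γ(X, U) (Set.range (PrinPart.dn f 1 U)) := by
    rw [PPGen.span_range_dn f 1 hU hV h]; trivial
  induction hy using Submodule.span_induction with
  | mem y hy =>
    obtain ⟨b, rfl⟩ := hy
    refine ⟨b, OmegaSh.dSect f U b, ?_⟩
    rw [he]
    have := hι U b
    change ι.app U (OmegaSh.dSect f U b) = _ at this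
    rw [this]; abel
  | zero => exact ⟨0, 0, by rw [map_zero, map_zero, map_zero, add_zero]⟩
  | add x y _ _ hx hy =>
    obtain ⟨a₁, ω₁, h1⟩ := hx
    obtain ⟨a₂, ω₂, h2⟩ := hy
    exact ⟨a₁ + a₂, ω₁ + ω₂, by rw [map_add, map_add, map_add, ← h1, ← h2]; abel⟩
  | smul c x _ hx =>
    obtain ⟨a, ω, h1⟩ := hx
    refine ⟨c * a, c • ω, ?_⟩
    rw [← h1, smul_add]
    congr 1
    · rw [OmegaSh.strSect_mul]
      exact Scheme.Modules.Hom.app_smul e c _
    · exact Scheme.Modules.Hom.app_smul ι c ω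

include hU hV h he hι in
theorem inj (a : Γ(X, U)) (ω : Γ(Omega.sheaf f, U))
    (h0 : e.app U (OmegaSh.strSect X U a) + ι.app U ω = 0) : a = 0 ∧ ω = 0 := by
  have hpo := OmSect.isPushout_diag f hU hV h
  obtain ⟨l, hl₁, hl₂⟩ := OmSect.exists_l hpo (OmSect.fst_mu f) (OmSect.snd_mu f)
    Γ(Omega.sheaf f, U)
    (AddMonoidHom.mk' (fun b => OmegaSh.dSect f U b) (OmegaSh.dSect_add f U))
    (OmegaSh.dSect_mul f U) (OmAff.dSect_appLE f V U h)
  obtain ⟨z, hz1, hz2, hz3⟩ := exists_z f hU hV h ι hι l hl₁ hl₂ ω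
  rw [e_app f e he, hz2, ← map_add, ← map_add] at h0
  have h00 : (0 : Γ(PrinPart.nbhd f 1, NU f 1 U)) • PPUnit.one f 1 U = 0 := zero_smul _ _
  have h1 : PPLocal.psi f 1 U ((p1 f U).hom a + z) = 0 :=
    PPUnit.smul_one_injective f 1 hU hV h (h0.trans h00.symm)
  have h2 : (p1 f U).hom a + z ∈ RingHom.ker (OmSect.mu f (U := U)).hom ^ 2 := by
    have : (p1 f U).hom a + z ∈ RingHom.ker (PPLocal.psi f 1 U).hom := h1
    rwa [PPLocal.ker_psi f 1 hU hV h] at this
  have h3 : OmSect.mu f ((p1 f U).hom a + z) = 0 := Ideal.pow_le_self two_ne_zero h2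
  rw [map_add, mu_p1, hz1, add_zero] at h3
  refine ⟨h3, ?_⟩
  rw [h3, map_zero, zero_add] at h2
  -- `l` kills the square of the diagonal ideal
  have hl0 : ∀ r ∈ RingHom.ker (OmSect.mu f (U := U)).hom ^ 2, l r = 0 := by
    intro r hr
    rw [pow_two] at hr
    refine Submodule.mul_induction_on hr (fun k hk k' hk' => ?_) (fun x y hx hy => ?_)
    · rw [hl₂ _ _ hk']
      have : OmSect.mu f k = 0 := hk
      rw [this, zero_smul]
    · rw [map_add, hx, hy, add_zero]
  rw [← hz3, hl0 z h2]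

end Split

end Groth.Agent.Lib.Helper1.PPOne
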