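import Mathlib
import Groth.Prelude.Def_OmegaPn
import Groth.Agent.Lib.Helper1.PPOne
import Groth.Agent.Lib.Helper1.ModHomMk
import Groth.Agent.Lib.Helper1.GrFlat

set_option autoImplicit false
set_option linter.style.haveILetI false
universe u
open CategoryTheory CategoryTheory.Limits AlgebraicGeometry TopologicalSpace Opposite

/-! the Leibniz rule in `P^1`, the unit `O_X ⟶ P^n`, and `d^n` of base functions. -/

namespace Groth.Agent.Lib.Helper1.PPLeib

open Groth.Agent.Lib.Helper1.PPSect Groth.Agent.Lib.Helper1.PbSect Groth.Agent.Lib.Helper3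

variable {X S : Scheme.{u}}

/-- sections of a module which agree locally are equal. -/
theorem section_ext {M : X.Modules} {W : X.Opens} (s t : Γ(M, W))
    (h : ∀ x ∈ W, ∃ (U : X.Opens) (hUW : U ≤ W), x ∈ U ∧
      M.presheaf.map (homOfLE hUW).op s = M.presheaf.map (homOfLE hUW).op t) : s = t := by
  let Ms : TopCat.Sheaf Ab X := ⟨M.presheaf, M.isSheaf⟩
  refine Ms.eq_of_locally_eq' (fun U : {U : X.Opens // U ≤ W ∧
      ∃ hUW : U ≤ W, M.presheaf.map (homOfLE hUW).op s = M.presheaf.map (homOfLE hUW).op t} => U.1) W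
    (fun U => homOfLE U.2.1) ?_ _ _ ?_
  · intro x hx
    obtain ⟨U, hUW, hxU, hU⟩ := h x hx
    exact Opens.mem_iSup.mpr ⟨⟨U, hUW, hUW, hU⟩, hxU⟩
  · rintro ⟨U, hUW, hUW', hU⟩
    exact hU

variable (f : X ⟶ S) (n : ℕ)

theorem dn_map {W W' : X.Opens} (e : W' ≤ W) (b : Γ(X, W)) :
    PrinPart.dn f n W' (X.presheaf.map (homOfLE e).op b) =
      (PrinPart.P f n).presheaf.map (homOfLE e).op (PrinPart.dn f n W b) :=
  PrinPart.dP_map f n (Coh.structureModule X) e (OmegaSh.strSect X W b)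

/-- `d^n (f♯ c) = f♯ c • d^n 1`. -/
theorem dn_app (V : S.Opens) (c : Γ(S, V)) :
    PrinPart.dn f n (f ⁻¹ᵁ V) (f.app V c) = (f.app V c) • PrinPart.dn f n (f ⁻¹ᵁ V) 1 := by
  have h1 := PPGen.smulOne_mul f n (f ⁻¹ᵁ V) (f.app V c) 1
  have h2 := PPGen.smulOne_mul f n (f ⁻¹ᵁ V) 1 (f.app V c)
  rw [one_smul] at h2
  rw [← h1, ← h2, map_one, map_one, one_mul, mul_one]
  congr 1
  have e1 : f.appLE V (f ⁻¹ᵁ V) le_rfl ≫
      (PrinPart.pr2 f n).appLE (f ⁻¹ᵁ V) (NU f n (f ⁻¹ᵁ V)) (NU_le f n _) =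
      f.appLE V (f ⁻¹ᵁ V) le_rfl ≫ (PrinPart.pr1 f n).appLE (f ⁻¹ᵁ V) (NU f n (f ⁻¹ᵁ V)) le_rfl := by
    rw [Scheme.Hom.appLE_comp_appLE, Scheme.Hom.appLE_comp_appLE]
    exact GrFlat.appLE_congr (PrinPart.pr1_comp f n).symm _ _ _ _
  rw [Conorm.appLE_refl, Conorm.appLE_refl] at e1
  exact congr($e1 c)

/-- the Leibniz rule in `P^1` -/
theorem leibniz (W : X.Opens) (a b : Γ(X, W)) :
    PrinPart.dn f 1 W (a * b) =
      a • PrinPart.dn f 1 W b + b • PrinPart.dn f 1 W a - (a * b) • PrinPart.dn f 1 W 1 := by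
  apply section_ext
  intro x hx
  obtain ⟨U, V, hU, hV, hxU, hUW, hUV⟩ := PPAff.exists_affine_pair f x W hx
  refine ⟨U, hUW, hxU, ?_⟩
  rw [map_sub, map_add, ← dn_map, Scheme.Modules.map_smul, Scheme.Modules.map_smul,
    Scheme.Modules.map_smul, ← dn_map, ← dn_map, ← dn_map, map_mul, map_one]
  set a' := X.presheaf.map (homOfLE hUW).op a
  set b' := X.presheaf.map (homOfLE hUW).op b
  have key := PPOne.psi_mul_eq_zero f hU hV hUV
    ((PPOne.p2 f U).hom a' - (PPOne.p1 f U).hom a') ((PPOne.p2 f U).hom b' - (PPOne.p1 f U).hom b')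
    (by rw [map_sub, PPOne.mu_p1, PPOne.mu_p2, sub_self])
    (by rw [map_sub, PPOne.mu_p1, PPOne.mu_p2, sub_self])
  have e : ((PPOne.p2 f U).hom a' - (PPOne.p1 f U).hom a') *
      ((PPOne.p2 f U).hom b' - (PPOne.p1 f U).hom b') =
      (PPOne.p2 f U).hom (a' * b') - (PPOne.p1 f U).hom a' * (PPOne.p2 f U).hom b'
        - (PPOne.p1 f U).hom b' * (PPOne.p2 f U).hom a' + (PPOne.p1 f U).hom (a' * b') := by
    rw [map_mul, map_mul]; ring
  rw [e] at key
  have key2 := congrArg (PPGen.smulOne f 1 U) key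
  rw [map_add, map_sub, map_sub, map_add, map_sub, map_sub, map_zero,
    PPOne.smulOne_psi_p2, PPOne.smulOne_psi_mul, PPOne.smulOne_psi_mul, PPOne.smulOne_psi_p1]
    at key2
  rw [← sub_eq_zero, ← key2]
  abel

/-- the unit `O_X ⟶ P^n`, `s ↦ s • d^n 1`. -/
noncomputable def eHom : Coh.structureModule X ⟶ PrinPart.P f n :=
  ModHomMk.mk (Coh.structureModule X) (PrinPart.P f n)
    (fun U => (AddMonoidHom.flip (AddMonoidHom.smul (R := Γ(X, U)) (M := Γ(PrinPart.P f n, U)))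
      (PrinPart.dn f n U 1)).comp (OmegaSh.fnSect X U))
    (fun U V h m => by
      change (X.presheaf.map (homOfLE h).op (OmegaSh.fnSect X U m)) • PrinPart.dn f n V 1 =
        (PrinPart.P f n).presheaf.map (homOfLE h).op ((OmegaSh.fnSect X U m) • PrinPart.dn f n U 1)
      rw [Scheme.Modules.map_smul, ← dn_map]
      congr 2
      exact (map_one (X.presheaf.map (homOfLE h).op).hom).symm)
    (fun U r m => by
      change (r * OmegaSh.fnSect X U m) • PrinPart.dn f n U 1 =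
        r • ((OmegaSh.fnSect X U m) • PrinPart.dn f n U 1)
      rw [mul_smul])

theorem eHom_app (U : X.Opens) (a : Γ(X, U)) :
    (eHom f n).app U (OmegaSh.strSect X U a) = a • PrinPart.dn f n U 1 := rfl

end Groth.Agent.Lib.Helper1.PPLeib
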