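import Mathlib
import Groth.Prelude.Def_OmegaPn
import Groth.Agent.Lib.Helper1.PbComp

set_option autoImplicit false
set_option linter.style.haveILetI false
universe u
open CategoryTheory CategoryTheory.Limits AlgebraicGeometry TopologicalSpace Opposite

namespace Groth.Agent.Lib.Helper1.PPTrans

variable {X S : Scheme.{u}} (f : X ⟶ S) {n m : ℕ} (h : n ≤ m)

/-- transition `nbhd f n ⟶ nbhd f m` -/
noncomputable abbrev tr : PrinPart.nbhd f n ⟶ PrinPart.nbhd f m :=
  PrinPart.infNbhdMap (PrinPart.diagCl f) h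

theorem tr_pr1 : tr f h ≫ PrinPart.pr1 f m = PrinPart.pr1 f n := by
  simp only [PrinPart.pr1, PrinPart.nbhdι, ← Category.assoc, PrinPart.infNbhdMap_ι]

theorem tr_pr2 : tr f h ≫ PrinPart.pr2 f m = PrinPart.pr2 f n := by
  simp only [PrinPart.pr2, PrinPart.nbhdι, ← Category.assoc, PrinPart.infNbhdMap_ι]

/-- the transition map `P^m(F) ⟶ P^n(F)` for `n ≤ m`. -/
noncomputable def rho (F : X.Modules) : PrinPart.PMod f m F ⟶ PrinPart.PMod f n F :=
  PbComp.transfer (tr f h) (PrinPart.pr1 f m) (PrinPart.pr2 f m) (PrinPart.pr1 f n)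
    (PrinPart.pr2 f n) (tr_pr1 f h) (tr_pr2 f h) F

theorem rho_dP (F : X.Modules) (U : X.Opens) (s : Γ(F, U)) :
    (rho f h F).app U (PrinPart.dP f m F U s) = PrinPart.dP f n F U s :=
  PbComp.transfer_app (tr f h) (PrinPart.pr1 f m) (PrinPart.pr2 f m) (PrinPart.pr1 f n)
    (PrinPart.pr2 f n) (tr_pr1 f h) (tr_pr2 f h) F U U (PrinPart.preimage_pr1 f m U).le
    (PrinPart.preimage_pr1 f n U).le s

end Groth.Agent.Lib.Helper1.PPTrans
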