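import Mathlib
import Groth.Prelude.Def_OmegaPn

set_option autoImplicit false
set_option linter.style.haveILetI false
universe u
open CategoryTheory CategoryTheory.Limits AlgebraicGeometry TopologicalSpace Opposite

namespace Groth.Agent.Lib.Helper1.PbIso

variable {X Y : Scheme.{u}} (p : Y ⟶ X) [IsIso p]

/-- pullback along an isomorphism is an equivalence. -/
noncomputable def pullbackEquiv : X.Modules ≌ Y.Modules :=
  CategoryTheory.Equivalence.mk (Scheme.Modules.pullback p) (Scheme.Modules.pullback (inv p))
    ((Scheme.Modules.pullbackId X).symm ≪≫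
      Scheme.Modules.pullbackCongr (IsIso.inv_hom_id p).symm ≪≫
      (Scheme.Modules.pullbackComp (inv p) p).symm)
    (Scheme.Modules.pullbackComp p (inv p) ≪≫
      Scheme.Modules.pullbackCongr (IsIso.hom_inv_id p) ≪≫ Scheme.Modules.pullbackId Y)

instance : (Scheme.Modules.pullback p).IsEquivalence :=
  (pullbackEquiv p).isEquivalence_functor

instance (F : X.Modules) : IsIso ((Scheme.Modules.pullbackPushforwardAdjunction p).unit.app F) :=
  inferInstance

theorem pullSect_bijective (F : X.Modules) (U : X.Opens) :
    Function.Bijective (OmegaSh.pullSect p F U) := by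
  have : IsIso (((Scheme.Modules.pullbackPushforwardAdjunction p).unit.app F).app U) :=
    inferInstance
  exact (ConcreteCategory.isIso_iff_bijective _).mp this

end Groth.Agent.Lib.Helper1.PbIso
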