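import Mathlib
import Groth.Prelude.Def_OmegaPn
import Groth.Agent.Lib.Helper1.PbIso

set_option autoImplicit false
set_option linter.style.haveILetI false
universe u
open CategoryTheory CategoryTheory.Limits AlgebraicGeometry TopologicalSpace Opposite

namespace Groth.Agent.Lib.Helper1.PPZero

theorem isIso_inclusion_of_eq {Z : Scheme.{u}} {I J : Z.IdealSheafData} (h : I ≤ J) (e : I = J) :
    IsIso (Scheme.IdealSheafData.inclusion h) := by
  subst e
  rw [Scheme.IdealSheafData.inclusion_id]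
  infer_instance

instance isIso_toInfNbhd_zero {X Y : Scheme.{u}} (i : Y ⟶ X) [IsClosedImmersion i] :
    IsIso (PrinPart.toInfNbhd i 0) := by
  unfold PrinPart.toInfNbhd
  have : IsIso (Scheme.IdealSheafData.inclusion (PrinPart.ker_pow_succ_le i 0)) :=
    isIso_inclusion_of_eq _ (by rw [zero_add, pow_one])
  infer_instance

variable {X S : Scheme.{u}} (f : X ⟶ S)

instance isIso_toNbhd_zero : IsIso (PrinPart.toNbhd f 0) :=
  isIso_toInfNbhd_zero (PrinPart.diagCl f)

instance isIso_pr1_zero : IsIso (PrinPart.pr1 f 0) := by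
  have h : IsIso (PrinPart.toNbhd f 0 ≫ PrinPart.pr1 f 0) := by
    rw [PrinPart.toNbhd_pr1]; infer_instance
  exact IsIso.of_isIso_comp_left (PrinPart.toNbhd f 0) (PrinPart.pr1 f 0)

instance isIso_pr2_zero : IsIso (PrinPart.pr2 f 0) := by
  have h : IsIso (PrinPart.toNbhd f 0 ≫ PrinPart.pr2 f 0) := by
    rw [PrinPart.toNbhd_pr2]; infer_instance
  exact IsIso.of_isIso_comp_left (PrinPart.toNbhd f 0) (PrinPart.pr2 f 0)

theorem pr1_zero_eq_pr2 : PrinPart.pr1 f 0 = PrinPart.pr2 f 0 := by
  rw [← cancel_epi (PrinPart.toNbhd f 0), PrinPart.toNbhd_pr1, PrinPart.toNbhd_pr2]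

theorem dP_zero_bijective (F : X.Modules) (U : X.Opens) :
    Function.Bijective (PrinPart.dP f 0 F U) := by
  have h1 := PbIso.pullSect_bijective (PrinPart.pr2 f 0) F U
  have h2 : Function.Bijective (((Scheme.Modules.pullback (PrinPart.pr2 f 0)).obj F).presheaf.map
      (homOfLE (PrinPart.preimage_pr1 f 0 U).le).op) := by
    have : IsIso (homOfLE (PrinPart.preimage_pr1 f 0 U).le) :=
      ⟨homOfLE (PrinPart.preimage_pr1 f 0 U).ge, rfl, rfl⟩
    exact (ConcreteCategory.isIso_iff_bijective _).mp inferInstance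
  exact h2.comp h1

end Groth.Agent.Lib.Helper1.PPZero
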