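import Mathlib
import Groth.Agent.Lib.Helper6.PowerSeriesAdic

set_option autoImplicit false
universe u
open MvPowerSeries IsLocalRing

namespace Groth.Agent.Lib.Helper1.PSOmega

section general

variable {R S M : Type*} [CommRing R] [CommRing S] [Algebra R S] [AddCommGroup M] [Module S M]
  [Module R M] [IsScalarTower R S M]

theorem derivation_mem_pow_smul_top (E : Derivation R S M) (I : Ideal S) (n : ℕ) :
    ∀ g ∈ I ^ (n + 1), E g ∈ (I ^ n • ⊤ : Submodule S M) := by
  induction n with
  | zero =>
    intro g _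
    rw [pow_zero, Ideal.one_eq_top, Submodule.top_smul]
    trivial
  | succ n ih =>
    intro g hg
    rw [pow_succ] at hg
    refine Submodule.mul_induction_on hg ?_ ?_
    · intro a ha b hb
      rw [E.leibniz]
      apply Submodule.add_mem
      · exact Submodule.smul_mem_smul ha Submodule.mem_top
      · have h1 : b • E a ∈ I • (I ^ n • ⊤ : Submodule S M) :=
          Submodule.smul_mem_smul hb (ih a ha)
        rwa [← Submodule.mul_smul, ← pow_succ'] at h1
    · intro x y hx hy
      rw [map_add]; exact Submodule.add_mem _ hx hy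

theorem map_mem_smul_top {N : Type*} [AddCommGroup N] [Module S N] (f : M →ₗ[S] N) (I : Ideal S)
    {x : M} (hx : x ∈ (I • ⊤ : Submodule S M)) : f x ∈ (I • ⊤ : Submodule S N) := by
  refine Submodule.smul_induction_on hx ?_ ?_
  · intro a ha y _
    rw [map_smul]; exact Submodule.smul_mem_smul ha Submodule.mem_top
  · intro y z hy hz
    rw [map_add]; exact Submodule.add_mem _ hy hz

end general

variable (k : Type u) [Field k] (r : ℕ)

theorem maximalIdeal_eq_ker : maximalIdeal (MvPowerSeries (Fin r) k) =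
    RingHom.ker (constantCoeff : MvPowerSeries (Fin r) k →+* k) := by
  ext f
  rw [mem_maximalIdeal, mem_nonunits_iff, MvPowerSeries.isUnit_iff_constantCoeff, RingHom.mem_ker,
    isUnit_iff_ne_zero, not_not]

theorem maximalIdeal_eq_span : maximalIdeal (MvPowerSeries (Fin r) k) =
    Ideal.span (Set.range (X : Fin r → MvPowerSeries (Fin r) k)) := by
  apply le_antisymm
  · rw [maximalIdeal_eq_ker]
    exact Groth.Agent.Lib.Helper6.PowerSeriesAdic.ker_constantCoeff_le_span_X
  · rw [Ideal.span_le]
    rintro _ ⟨i, rfl⟩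
    rw [SetLike.mem_coe, maximalIdeal_eq_ker, RingHom.mem_ker]
    simp

instance : IsAdicComplete (maximalIdeal (MvPowerSeries (Fin r) k)) (MvPowerSeries (Fin r) k) := by
  rw [maximalIdeal_eq_span]; infer_instance

local notation "A" => MvPowerSeries (Fin r) k
local notation "𝔪" => maximalIdeal (MvPowerSeries (Fin r) k)

/-- partial derivative as a linear form on differentials -/
noncomputable def dpart (i : Fin r) : Ω[A⁄k] →ₗ[A] A := (pderiv k i).liftKaehlerDifferential

/-- the map `A^r → Ω`. -/
noncomputable def ιmap : (Fin r → A) →ₗ[A] Ω[A⁄k] :=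
  Fintype.linearCombination A (fun i => KaehlerDifferential.D k A (X i))

theorem dpart_D (f : A) (i : Fin r) : dpart k r i (KaehlerDifferential.D k A f) = pderiv k i f := by
  simp [dpart]

theorem dpart_ιmap (v : Fin r → A) (i : Fin r) : dpart k r i (ιmap k r v) = v i := by
  classical
  rw [ιmap, Fintype.linearCombination_apply, map_sum]
  simp only [map_smul, dpart_D, pderiv_X, smul_eq_mul]
  simp [Pi.single_apply]

/-- the error derivation -/
noncomputable def E : Derivation k A Ω[A⁄k] :=
  KaehlerDifferential.D k A -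
    ((ιmap k r).comp (LinearMap.pi (dpart k r))).compDer (KaehlerDifferential.D k A)

theorem E_apply (f : A) : E k r f = KaehlerDifferential.D k A f -
    ιmap k r (fun i => dpart k r i (KaehlerDifferential.D k A f)) := rfl

theorem E_X (i : Fin r) : E k r (X i) = 0 := by
  classical
  rw [E_apply]
  have : (fun j => dpart k r j (KaehlerDifferential.D k A (X i))) = Pi.single i (1 : A) := by
    ext1 j
    rw [dpart_D, pderiv_X, Pi.single_apply, Pi.single_apply]
    simp [eq_comm]
  rw [this, ιmap, Fintype.linearCombination_apply_single, one_smul, sub_self]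

theorem E_eq_zero_of_mem_adjoin (f : A)
    (hf : f ∈ Algebra.adjoin k (Set.range (X : Fin r → A))) : E k r f = 0 := by
  have := Derivation.eqOn_adjoin (D1 := E k r) (D2 := 0) (s := Set.range (X : Fin r → A))
    (by rintro _ ⟨i, rfl⟩; simp [E_X]) hf
  simpa using this

theorem coe_mem_adjoin (P : MvPolynomial (Fin r) k) :
    (P : A) ∈ Algebra.adjoin k (Set.range (X : Fin r → A)) := by
  induction P using MvPolynomial.induction_on with
  | C a =>
    have : ((MvPolynomial.C a : MvPolynomial (Fin r) k) : A) = algebraMap k A a := by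
      rw [MvPolynomial.coe_C, MvPowerSeries.algebraMap_apply]; rfl
    rw [this]; exact Subalgebra.algebraMap_mem _ a
  | add p q hp hq => rw [MvPolynomial.coe_add]; exact Subalgebra.add_mem _ hp hq
  | mul_X p i hp =>
    rw [MvPolynomial.coe_mul, MvPolynomial.coe_X]
    exact Subalgebra.mul_mem _ hp (Algebra.subset_adjoin ⟨i, rfl⟩)

theorem E_mem (f : A) (n : ℕ) : E k r f ∈ (𝔪 ^ n • ⊤ : Submodule A Ω[A⁄k]) := by
  classical
  let P : MvPolynomial (Fin r) k := trunc' k (Finsupp.equivFunOnFinite.symm (fun _ => n)) f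
  have hg : f - (P : A) ∈ 𝔪 ^ (n + 1) := by
    rw [maximalIdeal_eq_ker]
    apply Groth.Agent.Lib.Helper6.PowerSeriesAdic.mem_ker_pow_of_coeff_eq_zero
    intro d hd
    rw [map_sub, MvPolynomial.coeff_coe, coeff_trunc', if_pos, sub_self]
    intro i
    exact Nat.lt_succ_iff.1 (hd i)
  have h2 : E k r f = E k r (f - (P : A)) + E k r (P : A) := by
    rw [← map_add, sub_add_cancel]
  rw [h2, E_eq_zero_of_mem_adjoin k r _ (coe_mem_adjoin k r P), add_zero]
  exact derivation_mem_pow_smul_top (E k r) _ n _ hg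

theorem sub_mem (ω : Ω[A⁄k]) (n : ℕ) :
    ω - ιmap k r (fun i => dpart k r i ω) ∈ (𝔪 ^ n • ⊤ : Submodule A Ω[A⁄k]) := by
  have hω : ω ∈ Submodule.span A (Set.range (KaehlerDifferential.D k A)) := by
    rw [KaehlerDifferential.span_range_derivation]; trivial
  refine Submodule.span_induction ?_ ?_ ?_ ?_ hω
  · rintro _ ⟨f, rfl⟩
    exact E_mem k r f n
  · have : (fun i => dpart k r i (0 : Ω[A⁄k])) = 0 := by ext1 i; simp
    rw [this, map_zero, sub_zero]; exact Submodule.zero_mem _
  · intro x y _ _ hx hy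
    have : x + y - ιmap k r (fun i => dpart k r i (x + y)) =
        (x - ιmap k r (fun i => dpart k r i x)) + (y - ιmap k r (fun i => dpart k r i y)) := by
      have h3 : (fun i => dpart k r i (x + y)) =
          (fun i => dpart k r i x) + (fun i => dpart k r i y) := by ext1 i; simp
      rw [h3, map_add]; abel
    rw [this]; exact Submodule.add_mem _ hx hy
  · intro a x _ hx
    have : a • x - ιmap k r (fun i => dpart k r i (a • x)) =
        a • (x - ιmap k r (fun i => dpart k r i x)) := by
      have h3 : (fun i => dpart k r i (a • x)) = a • (fun i => dpart k r i x) := by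
        ext1 i; simp
      rw [h3, map_smul, smul_sub]
    rw [this]; exact Submodule.smul_mem _ a hx

theorem ιmap_mem (w : Fin r → A) (n : ℕ) (hw : ∀ i, w i ∈ 𝔪 ^ n) :
    ιmap k r w ∈ (𝔪 ^ n • ⊤ : Submodule A Ω[A⁄k]) := by
  rw [ιmap, Fintype.linearCombination_apply]
  exact Submodule.sum_mem _ fun i _ => Submodule.smul_mem_smul (hw i) Submodule.mem_top

/-- the comparison map -/
noncomputable def Ψ : (Fin r → A) →ₗ[A] AdicCompletion 𝔪 Ω[A⁄k] :=
  (AdicCompletion.of 𝔪 Ω[A⁄k]).comp (ιmap k r)

theorem smul_top_eq (n : ℕ) : (𝔪 ^ n • ⊤ : Submodule A A) = 𝔪 ^ n := by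
  rw [smul_eq_mul, Ideal.mul_top]

theorem Ψ_injective : Function.Injective (Ψ k r) := by
  rw [injective_iff_map_eq_zero]
  intro v hv
  ext1 i
  apply IsHausdorff.haus (I := 𝔪) (M := A) inferInstance
  intro n
  rw [SModEq.zero]
  have h1 : ((AdicCompletion.of 𝔪 Ω[A⁄k]) (ιmap k r v)).val n = 0 := by
    change (Ψ k r v).val n = 0
    rw [hv]; rfl
  rw [AdicCompletion.of_apply, Submodule.mkQ_apply, Submodule.Quotient.mk_eq_zero] at h1
  have h2 := map_mem_smul_top (dpart k r i) (𝔪 ^ n) h1
  rwa [dpart_ιmap] at h2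

theorem Ψ_surjective : Function.Surjective (Ψ k r) := by
  intro x
  obtain ⟨a, rfl⟩ := AdicCompletion.mk_surjective 𝔪 Ω[A⁄k] x
  have hc : ∀ i : Fin r, ∃ L : A, ∀ n, dpart k r i (a n) ≡ L [SMOD (𝔪 ^ n • ⊤ : Submodule A A)] := by
    intro i
    apply IsPrecomplete.prec (I := 𝔪) (M := A) inferInstance
    intro m n hmn
    rw [SModEq.sub_mem, ← map_sub]
    apply map_mem_smul_top
    rw [← SModEq.sub_mem]
    exact a.property hmn
  choose v hv using hc
  refine ⟨v, ?_⟩
  ext n
  change ((AdicCompletion.of 𝔪 Ω[A⁄k]) (ιmap k r v)).val n = _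
  rw [AdicCompletion.of_apply, AdicCompletion.mk_apply_coe, Submodule.mkQ_apply, Submodule.mkQ_apply,
    Submodule.Quotient.eq]
  have h1 : ιmap k r v - a n = ιmap k r (v - fun i => dpart k r i (a n)) -
      (a n - ιmap k r (fun i => dpart k r i (a n))) := by
    rw [map_sub]; abel
  rw [h1]
  apply Submodule.sub_mem _ _ (sub_mem k r (a n) n)
  apply ιmap_mem
  intro i
  have := hv i n
  rw [SModEq.sub_mem, smul_top_eq] at this
  rw [Pi.sub_apply, ← neg_sub]
  exact Ideal.neg_mem_iff _ |>.2 this

/-- the equivalence -/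
noncomputable def equiv : (Fin r → A) ≃ₗ[A] AdicCompletion 𝔪 Ω[A⁄k] :=
  LinearEquiv.ofBijective (Ψ k r) ⟨Ψ_injective k r, Ψ_surjective k r⟩

end Groth.Agent.Lib.Helper1.PSOmega
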