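import Mathlib
import Groth.Prelude
import Groth.Agent.Lib.Helper3.QCProps
import Groth.Agent.Lib.Helper3.QCOpen

/-!
# Jointly monomorphic families are jointly injective on sections
-/

set_option autoImplicit false
set_option linter.style.haveILetI false
universe u
open CategoryTheory CategoryTheory.Limits AlgebraicGeometry TopologicalSpace Opposite

namespace Groth.Agent.Lib.Helper1.PrimUniq

open Groth.Agent.Lib.Helper3

variable {X : Scheme.{u}}

theorem jointly_injective_sections {ι : Type u} {M : X.Modules} (G : ι → X.Modules)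
    (q : ∀ i, M ⟶ G i)
    (hm : ∀ (T : X.Modules) (a b : T ⟶ M), (∀ i, a ≫ q i = b ≫ q i) → a = b)
    (W : X.Opens) (m : Γ(M, W)) (h : ∀ i, (q i).app W m = 0) : m = 0 := by
  haveI : Mono (Pi.lift q) := ⟨fun a b hab => hm _ a b (fun i => by
    have := congrArg (· ≫ Pi.π G i) hab
    simpa using this)⟩
  have hinj := (QCProps.mono_iff_app_injective (Pi.lift q)).mp inferInstance W
  apply hinj
  rw [map_zero]
  let ev := SheafOfModules.evaluation X.ringCatSheaf (op W)
  have hlim := isLimitOfPreserves ev (limit.isLimit (Discrete.functor G))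
  apply Concrete.isLimit_ext _ hlim
  rintro ⟨i⟩
  show (Pi.π G i).app W ((Pi.lift q).app W m) = (Pi.π G i).app W 0
  have h1 : (Pi.π G i).app W ((Pi.lift q).app W m) = (Pi.lift q ≫ Pi.π G i).app W m := rfl
  rw [h1, Pi.lift_π, h i, map_zero]

end Groth.Agent.Lib.Helper1.PrimUniq
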