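import Mathlib
import Groth.Prelude
import Groth.Agent.Lib.Helper1.PrimUniq1
import Groth.Agent.Lib.Helper1.AssPrim1
import Groth.Agent.Lib.Helper1.Dev9522
import Groth.Agent.Lib.Helper17.AssPt
import Groth.Agent.Lib.Helper27.ModSections
import Groth.Agent.Lib.Helper3.AssPoints
import Groth.Agent.Lib.Helper3.QCExact

/-!
# Uniqueness of the primary decomposition without embedded points
-/

set_option autoImplicit false
set_option linter.style.haveILetI false
universe u
open CategoryTheory CategoryTheory.Limits AlgebraicGeometry TopologicalSpace Opposite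

namespace Groth.Agent.Lib.Helper1.PrimUniq

open Groth.Agent.Lib.Helper3 Groth.Agent.Lib.Helper3.QCSec Groth.Agent.Lib.Helper17

variable {X : Scheme.{u}} [IsLocallyNoetherian X]

theorem specializes_of_ass_eq_singleton (G : X.Modules) [G.IsQuasicoherent] (y : X)
    (hA : AssSch.Ass G = {y}) (w : X) (hw : Nontrivial (G.presheaf.stalk w)) : y ⤳ w := by
  obtain ⟨z, hz, hzw⟩ := AssPt.exists_assPoint_specializes_of_nontrivial G w hw
  have h2 : z ∈ AssSch.Ass G := hz
  rw [hA, Set.mem_singleton_iff] at h2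
  subst h2
  exact hzw

theorem exists_nbhd_res_eq_zero (M : X.Modules) (hM : Coh.IsCoh M) (hne : AssSch.NoEmbedded M)
    (G : ↥(AssSch.Ass M) → X.Modules) (q : ∀ x, M ⟶ G x)
    (hG : ∀ x, Coh.IsCoh (G x)) (hA : ∀ x, AssSch.Ass (G x) = {x.1})
    (hm : ∀ (T : X.Modules) (a b : T ⟶ M), (∀ x, a ≫ q x = b ≫ q x) → a = b)
    (x : ↥(AssSch.Ass M)) (V : X.Opens) (hV : IsAffineOpen V) (hxV : x.1 ∈ V) (m : Γ(M, V))
    (hqm : (q x).app V m = 0) :
    ∃ (W : X.Opens) (hWV : W ≤ V), x.1 ∈ W ∧ res M hWV m = 0 := by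
  have hfin : ((AssSch.Ass M ∩ (V : Set X)) \ {x.1}).Finite :=
    (AssPrim.finite_ass_inter M hM hV).subset Set.diff_subset
  obtain ⟨C, hCdef⟩ : ∃ C : Set X, C = ⋃ y ∈ (AssSch.Ass M ∩ (V : Set X)) \ {x.1},
    closure ({y} : Set X) := ⟨_, rfl⟩
  have hC : IsClosed C := by
    rw [hCdef]
    exact hfin.isClosed_biUnion (fun y _ => isClosed_closure)
  have hxC : x.1 ∉ C := by
    rw [hCdef]
    intro hx
    simp only [Set.mem_iUnion] at hx
    obtain ⟨y, hy, hxy⟩ := hx
    have hsp : y ⤳ x.1 := specializes_iff_mem_closure.mpr hxy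
    exact hy.2 (hne x.1 x.2 y hy.1.1 hsp).symm
  let W : X.Opens := V ⊓ ⟨Cᶜ, hC.isOpen_compl⟩
  have hWV : W ≤ V := inf_le_left
  refine ⟨W, hWV, ⟨hxV, hxC⟩, ?_⟩
  apply jointly_injective_sections G q hm W
  intro y
  rw [QCExact.app_res']
  by_cases hyx : y = x
  · subst hyx
    rw [hqm, res_zero]
  · haveI := (hG y).1
    haveI : Subsingleton Γ(G y, W) := by
      apply QCOpen.subsingleton_sections_of_stalks
      intro w hw
      by_contra hns
      rw [not_subsingleton_iff_nontrivial] at hns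
      have hsp := specializes_of_ass_eq_singleton (G y) y.1 (hA y) w hns
      have hyV : y.1 ∈ V := hsp.mem_open V.2 hw.1
      have hyne : y.1 ≠ x.1 := fun h => hyx (Subtype.ext h)
      apply hw.2
      rw [hCdef]
      simp only [Set.mem_iUnion]
      exact ⟨y.1, ⟨⟨y.2, hyV⟩, hyne⟩, specializes_iff_mem_closure.mp hsp⟩
    exact Subsingleton.elim _ _

theorem kernel_comp_eq_zero (M : X.Modules) (hM : Coh.IsCoh M) (hne : AssSch.NoEmbedded M)
    (G G' : ↥(AssSch.Ass M) → X.Modules) (q : ∀ x, M ⟶ G x) (q' : ∀ x, M ⟶ G' x)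
    (hG : ∀ x, Coh.IsCoh (G x)) (hG' : ∀ x, Coh.IsCoh (G' x))
    (hA : ∀ x, AssSch.Ass (G x) = {x.1}) (hA' : ∀ x, AssSch.Ass (G' x) = {x.1})
    (hm : ∀ (T : X.Modules) (a b : T ⟶ M), (∀ x, a ≫ q x = b ≫ q x) → a = b)
    (x : ↥(AssSch.Ass M)) : kernel.ι (q x) ≫ q' x = 0 := by
  haveI := hM.1
  haveI := (hG' x).1
  apply Dev9522.eq_zero_of_app_affine
  rintro ⟨V, hV⟩ n
  by_contra hg
  set m : Γ(M, V) := (kernel.ι (q x)).app V n with hmdef
  have hgm : (kernel.ι (q x) ≫ q' x).app V n = (q' x).app V m := rfl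
  rw [hgm] at hg
  have hqm : (q x).app V m = 0 := by
    have h1 : (q x).app V m = (kernel.ι (q x) ≫ q x).app V n := rfl
    rw [h1, kernel.condition]
    rfl
  -- a point where the germ of `g` is nonzero
  obtain ⟨v, hvV, hgv⟩ : ∃ (v : X) (hv : v ∈ V),
      (G' x).presheaf.germ V v hv ((q' x).app V m) ≠ 0 := by
    by_contra hcon
    push Not at hcon
    apply hg
    apply TopCat.Presheaf.section_ext ⟨(G' x).presheaf, (G' x).isSheaf⟩ V
    intro v hv
    rw [map_zero]
    exact hcon v hv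
  obtain ⟨z, hzV, hzass, -, hann⟩ :=
    AssPt.exists_assPoint_specializes hV (G' x) v hvV ((q' x).app V m) hgv
  have hzx : z = x.1 := by
    have h2 : z ∈ AssSch.Ass (G' x) := hzass
    rw [hA' x, Set.mem_singleton_iff] at h2
    exact h2
  subst hzx
  obtain ⟨W, hWV, hxW, hres⟩ :=
    exists_nbhd_res_eq_zero M hM hne G q hG hA hm x V hV hzV m hqm
  have hgerm : M.presheaf.germ V x.1 hzV m = 0 := by
    have h1 := TopCat.Presheaf.germ_res_apply M.presheaf (homOfLE hWV) x.1 hxW m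
    rw [← h1]
    have h2 : M.presheaf.map (homOfLE hWV).op m = 0 := hres
    rw [h2, map_zero]
  obtain ⟨c, hc, hcm⟩ := (QS.germ_eq_zero_iff hV M x.1 hzV m).mp hgerm
  apply hc
  apply hann
  rw [← Scheme.Modules.Hom.app_smul, hcm, map_zero]

theorem exists_iso_of_kernel {M A B : X.Modules} (p : M ⟶ A) (p' : M ⟶ B) [Epi p] [Epi p']
    (h : kernel.ι p ≫ p' = 0) (h' : kernel.ι p' ≫ p = 0) : ∃ e : A ≅ B, p ≫ e.hom = p' := by
  let c := Abelian.epiIsCokernelOfKernel _ (kernelIsKernel p)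
  let c' := Abelian.epiIsCokernelOfKernel _ (kernelIsKernel p')
  let e : A ⟶ B := c.desc (CokernelCofork.ofπ p' h)
  let e' : B ⟶ A := c'.desc (CokernelCofork.ofπ p h')
  have he : p ≫ e = p' := c.fac (CokernelCofork.ofπ p' h) WalkingParallelPair.one
  have he' : p' ≫ e' = p := c'.fac (CokernelCofork.ofπ p h') WalkingParallelPair.one
  refine ⟨⟨e, e', ?_, ?_⟩, he⟩
  · rw [← cancel_epi p, ← Category.assoc, he, he', Category.comp_id]
  · rw [← cancel_epi p', ← Category.assoc, he', he, Category.comp_id]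

end Groth.Agent.Lib.Helper1.PrimUniq
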