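import Mathlib
import Groth.Agent.S6267
import Groth.Agent.Lib.Helper8.LocalCriterion2

/-!
# Maps from projective modules to flat modules over a local ring

`rTensor_injective_of_projective`: over a local ring `R`, a linear map `u : M → N` from a projective
module to a flat module such that `k ⊗ u` is injective is universally injective.
-/

set_option autoImplicit false
universe u

namespace Groth.Agent.Lib.Helper1.ProjInj

open TensorProduct IsLocalRing

variable {R : Type u} [CommRing R] [IsLocalRing R]

set_option maxHeartbeats 400000 in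
/-- Core: finite free source; `w x ∈ I N ⇒ x ∈ I F`. -/
theorem mem_smul_top_of_finite_free {F N : Type u} [AddCommGroup F] [Module R F]
    [Module.Free R F] [Module.Finite R F] [AddCommGroup N] [Module R N] [Module.Flat R N]
    (w : F →ₗ[R] N) (h : Function.Injective (LinearMap.lTensor (ResidueField R) w))
    (I : Ideal R) (x : F) (hx : w x ∈ I • (⊤ : Submodule R N)) :
    x ∈ I • (⊤ : Submodule R F) := by
  classical
  have hx' : w x ∈ I • Submodule.span R (Set.range (id : N → N)) := by
    rw [Set.range_id, Submodule.span_univ]; exact hx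
  obtain ⟨a, ha, hsum⟩ := (Submodule.mem_ideal_smul_span_iff_exists_sum I id (w x)).mp hx'
  let c : a.support → R := fun l => a l
  let f : (F × (a.support → R)) →ₗ[R] N :=
    w.coprod (- Fintype.linearCombination R (fun l : a.support => (l : N)))
  have hf : f (x, c) = 0 := by
    simp only [f, LinearMap.coprod_apply, LinearMap.neg_apply,
      Fintype.linearCombination_apply]
    have h2 : ∑ l : a.support, c l • (l : N) = w x := by
      rw [← hsum, Finsupp.sum]
      exact Finset.sum_coe_sort a.support (fun n => a n • n)
    rw [h2, add_neg_cancel]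
  obtain ⟨k, α, y, hfy, hα⟩ :=
    Module.Flat.exists_factorization_of_apply_eq_zero_of_free (x := f) (f := (x, c)) hf
  let α₁ : F →ₗ[R] (Fin k →₀ R) := α ∘ₗ LinearMap.inl R F (a.support → R)
  let α₂ : (a.support → R) →ₗ[R] (Fin k →₀ R) := α ∘ₗ LinearMap.inr R F (a.support → R)
  have h12 : α₁ x + α₂ c = 0 := by
    have h3 : (x, c) = LinearMap.inl R F (a.support → R) x +
        LinearMap.inr R F (a.support → R) c := by simp
    rw [h3, map_add] at hα
    exact hα
  have hvi : w = y ∘ₗ α₁ := by
    have h3 : f ∘ₗ LinearMap.inl R F (a.support → R) = w := by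
      simp only [f, LinearMap.coprod_inl]
    rw [← h3, hfy, LinearMap.comp_assoc]
  have hα₁ : Function.Injective (LinearMap.lTensor (ResidueField R) α₁) := by
    have h1 := h
    rw [hvi, LinearMap.lTensor_comp] at h1
    exact Function.Injective.of_comp h1
  obtain ⟨ρ, hρ⟩ := (IsLocalRing.split_injective_iff_lTensor_residueField_injective
    (M := F) (N := Fin k →₀ R) α₁).mpr hα₁
  have hx₀ : x = - ρ (α₂ c) := by
    have h3 : ρ (α₁ x) = x := LinearMap.congr_fun hρ x
    have h4 : α₁ x = - α₂ c := eq_neg_of_add_eq_zero_left h12
    rw [h4, map_neg] at h3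
    exact h3.symm
  have hc' : c = ∑ l, c l • (Pi.single l 1 : a.support → R) := pi_eq_sum_univ' c
  have e2 : α₂ c = ∑ l, c l • α₂ (Pi.single l 1) := by
    conv_lhs => rw [hc']
    simp only [map_sum, map_smul]
  have e3 : - ρ (α₂ c) = - ∑ l, c l • (ρ (α₂ (Pi.single l 1))) := by
    rw [e2]
    simp only [map_sum, map_smul]
  rw [hx₀, e3]
  exact neg_mem (Submodule.sum_mem _ fun l _ =>
    Submodule.smul_mem_smul (ha l) Submodule.mem_top)

set_option maxHeartbeats 400000 in
/-- Core: free source `ι →₀ R`; `v x ∈ I N ⇒ x ∈ I F`. -/
theorem mem_smul_top_of_finsupp {ι N : Type u} [AddCommGroup N] [Module R N] [Module.Flat R N]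
    (v : (ι →₀ R) →ₗ[R] N) (h : Function.Injective (LinearMap.lTensor (ResidueField R) v))
    (I : Ideal R) (x : ι →₀ R) (hx : v x ∈ I • (⊤ : Submodule R N)) :
    x ∈ I • (⊤ : Submodule R (ι →₀ R)) := by
  classical
  have hfree : Module.Free R (Finsupp.supported R R (x.support : Set ι)) :=
    Module.Free.of_equiv (Finsupp.supportedEquivFinsupp (M := R) (R := R) (x.support : Set ι)).symm
  have hfin : Module.Finite R (Finsupp.supported R R (x.support : Set ι)) :=
    Module.Finite.equiv (Finsupp.supportedEquivFinsupp (M := R) (R := R) (x.support : Set ι)).symm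
  have hr : (Finsupp.restrictDom R R (x.support : Set ι)) ∘ₗ
      (Finsupp.supported R R (x.support : Set ι)).subtype = LinearMap.id :=
    Finsupp.restrictDom_comp_subtype _
  have hi₀ : Function.Injective (LinearMap.lTensor (ResidueField R)
      (Finsupp.supported R R (x.support : Set ι)).subtype) := by
    apply Function.HasLeftInverse.injective
    refine ⟨LinearMap.lTensor (ResidueField R) (Finsupp.restrictDom R R (x.support : Set ι)),
      fun t => ?_⟩
    rw [← LinearMap.comp_apply, ← LinearMap.lTensor_comp, hr, LinearMap.lTensor_id]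
    rfl
  have h1 : Function.Injective (LinearMap.lTensor (ResidueField R)
      (v ∘ₗ (Finsupp.supported R R (x.support : Set ι)).subtype)) := by
    rw [LinearMap.lTensor_comp]
    exact h.comp hi₀
  have hmem : x ∈ Finsupp.supported R R (x.support : Set ι) := by
    rw [Finsupp.mem_supported]
  have key := mem_smul_top_of_finite_free
    (v ∘ₗ (Finsupp.supported R R (x.support : Set ι)).subtype) h1 I
    (⟨x, hmem⟩ : Finsupp.supported R R (x.support : Set ι)) hx
  exact Submodule.smul_top_le_comap_smul_top I
    (Finsupp.supported R R (x.support : Set ι)).subtype key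

/-- free source `ι →₀ R`: universally injective. -/
theorem rTensor_injective_of_finsupp {ι N : Type u} [AddCommGroup N] [Module R N]
    [Module.Flat R N] (v : (ι →₀ R) →ₗ[R] N)
    (h : Function.Injective (LinearMap.lTensor (ResidueField R) v))
    (Q : Type u) [AddCommGroup Q] [Module R Q] :
    Function.Injective (LinearMap.rTensor Q v) := by
  have key := mem_smul_top_of_finsupp v h
  have hinjI : ∀ I : Ideal R, I.FG → Function.Injective (v.rTensor (R ⧸ I)) := by
    intro I _
    rw [injective_iff_map_eq_zero]
    have hrep : ∀ t : (ι →₀ R) ⊗[R] (R ⧸ I), ∃ x, x ⊗ₜ[R] (1 : R ⧸ I) = t := by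
      intro t
      induction t using TensorProduct.induction_on with
      | zero => exact ⟨0, by simp⟩
      | tmul x q =>
        obtain ⟨a, rfl⟩ := Ideal.Quotient.mk_surjective q
        refine ⟨a • x, ?_⟩
        rw [TensorProduct.smul_tmul]
        congr 1
        rw [Algebra.smul_def, mul_one]
        rfl
      | add t t' ht ht' =>
        obtain ⟨x, rfl⟩ := ht
        obtain ⟨y, rfl⟩ := ht'
        exact ⟨x + y, by rw [add_tmul]⟩
    intro t ht
    obtain ⟨x, rfl⟩ := hrep t
    rw [LinearMap.rTensor_tmul, S6267.tmul_one_eq_zero_iff] at ht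
    rw [S6267.tmul_one_eq_zero_iff]
    exact key I x ht
  have hflat : Module.Flat R (N ⧸ LinearMap.range v) := S6267.flat_quotient_of_inj v hinjI
  have hinj : Function.Injective v := by
    rw [injective_iff_map_eq_zero]
    intro x hx
    have := key ⊥ x (by rw [hx]; exact zero_mem _)
    simpa using this
  exact S6267.rTensor_injective_of_flat_quotient v hinj Q

/-- Over a local ring, a linear map from a projective module to a flat module which is injective
modulo the maximal ideal is universally injective. -/
theorem rTensor_injective_of_projective {M N : Type u} [AddCommGroup M] [Module R M]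
    [Module.Projective R M] [AddCommGroup N] [Module R N] [Module.Flat R N] (u : M →ₗ[R] N)
    (h : Function.Injective (LinearMap.lTensor (ResidueField R) u))
    (Q : Type u) [AddCommGroup Q] [Module R Q] :
    Function.Injective (LinearMap.rTensor Q u) := by
  obtain ⟨s, hs⟩ := Module.projective_def'.mp (inferInstance : Module.Projective R M)
  set π : (M →₀ R) →ₗ[R] M := Finsupp.linearCombination R id with hπ
  let v : (M →₀ R) →ₗ[R] N × (M →₀ R) := (u ∘ₗ π).prod (LinearMap.id - s ∘ₗ π)
  have hv : Function.Injective (LinearMap.lTensor (ResidueField R) v) := by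
    rw [injective_iff_map_eq_zero]
    intro t ht
    have hA : LinearMap.lTensor (ResidueField R) (u ∘ₗ π) t = 0 := by
      have h1 : (LinearMap.fst R N (M →₀ R)) ∘ₗ v = u ∘ₗ π := by
        simp only [v, LinearMap.fst_prod]
      rw [← h1, LinearMap.lTensor_comp, LinearMap.comp_apply, ht, map_zero]
    have hB : LinearMap.lTensor (ResidueField R) (LinearMap.id - s ∘ₗ π) t = 0 := by
      have h1 : (LinearMap.snd R N (M →₀ R)) ∘ₗ v = LinearMap.id - s ∘ₗ π := by
        simp only [v, LinearMap.snd_prod]
      rw [← h1, LinearMap.lTensor_comp, LinearMap.comp_apply, ht, map_zero]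
    rw [LinearMap.lTensor_comp, LinearMap.comp_apply] at hA
    have hπt : LinearMap.lTensor (ResidueField R) π t = 0 :=
      (injective_iff_map_eq_zero _).mp h _ hA
    rw [LinearMap.lTensor_sub, LinearMap.sub_apply, LinearMap.lTensor_id, LinearMap.id_apply,
      LinearMap.lTensor_comp, LinearMap.comp_apply, hπt, map_zero, sub_zero] at hB
    exact hB
  have : Module.Flat R (N × (M →₀ R)) :=
    Groth.Agent.Lib.Helper8.flat_of_exact_of_flat_of_flat (LinearMap.inl R N (M →₀ R))
      (LinearMap.snd R N (M →₀ R)) LinearMap.inl_injective LinearMap.snd_surjective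
      (by
        intro y
        constructor
        · intro hy
          exact ⟨y.1, Prod.ext rfl hy.symm⟩
        · rintro ⟨a, rfl⟩
          rfl)
  have hvQ := rTensor_injective_of_finsupp v hv Q
  have hvs : v ∘ₗ s = (LinearMap.inl R N (M →₀ R)) ∘ₗ u := by
    apply LinearMap.ext
    intro m
    have h1 : π (s m) = m := LinearMap.congr_fun hs m
    show (u (π (s m)), (s m) - s (π (s m))) = (u m, 0)
    rw [h1, sub_self]
  have hsQ : Function.Injective (LinearMap.rTensor Q s) := by
    apply Function.HasLeftInverse.injective
    refine ⟨LinearMap.rTensor Q π, fun t => ?_⟩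
    rw [← LinearMap.comp_apply, ← LinearMap.rTensor_comp, hs, LinearMap.rTensor_id]
    rfl
  have h1 : Function.Injective (LinearMap.rTensor Q (v ∘ₗ s)) := by
    rw [LinearMap.rTensor_comp]
    exact hvQ.comp hsQ
  rw [hvs, LinearMap.rTensor_comp] at h1
  exact Function.Injective.of_comp h1

end Groth.Agent.Lib.Helper1.ProjInj
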