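import Groth.Prelude.Def_Pi1
import Mathlib.LinearAlgebra.TensorProduct.RightExactness
import Mathlib.RingTheory.TensorProduct.Basic
import Mathlib.RingTheory.Finiteness.Basic
import Mathlib.RingTheory.Ideal.Maps

/-!
# Universally injective (pure) ring maps: basic consequences

`Pi1.UnivInjective R S` says `P ⊗ R → P ⊗ S` is injective for every `R`-module `P : Type u`.
We derive the convenient forms:
* `tmul_eq_zero`: `1 ⊗ₜ p = 0` in `S ⊗[R] P` implies `p = 0`;
* `mem_of_tmul_mem`: if `1 ⊗ₜ m` lies in the image of `S ⊗ N → S ⊗ M`, then `m ∈ N`;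
* `surjective_of_lTensor_surjective`: surjectivity descends.
-/

set_option autoImplicit false
universe u v

open scoped TensorProduct

namespace Groth.Agent.Lib.Helper1.Pure

variable {R S : Type u} [CommRing R] [CommRing S] [Algebra R S]

theorem tmul_eq_zero (h : Pi1.UnivInjective R S) {P : Type u} [AddCommGroup P] [Module R P]
    (p : P) (hp : (1 : S) ⊗ₜ[R] p = 0) : p = 0 := by
  have h1 : (LinearMap.lTensor P (Algebra.linearMap R S)) (p ⊗ₜ[R] (1 : R)) = 0 := by
    rw [LinearMap.lTensor_tmul, Algebra.linearMap_apply, map_one]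
    have := congrArg (TensorProduct.comm R S P) hp
    simpa using this
  have h2 : p ⊗ₜ[R] (1 : R) = 0 := h P (by rw [h1, map_zero])
  have := congrArg (TensorProduct.rid R P) h2
  simpa using this

theorem mem_of_tmul_mem (h : Pi1.UnivInjective R S) {M : Type u} [AddCommGroup M] [Module R M]
    (N : Submodule R M) (m : M)
    (hm : (1 : S) ⊗ₜ[R] m ∈ LinearMap.range (LinearMap.lTensor S N.subtype)) : m ∈ N := by
  obtain ⟨y, hy⟩ := hm
  have h1 : (1 : S) ⊗ₜ[R] (N.mkQ m) = 0 := by
    have : (LinearMap.lTensor S N.mkQ) ((1 : S) ⊗ₜ[R] m) = (1 : S) ⊗ₜ[R] (N.mkQ m) := rfl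
    rw [← this, ← hy, ← LinearMap.comp_apply, ← LinearMap.lTensor_comp]
    have h0 : N.mkQ ∘ₗ N.subtype = 0 := by ext x; simp
    rw [h0, LinearMap.lTensor_zero, LinearMap.zero_apply]
  have := tmul_eq_zero h _ h1
  simpa using this

theorem surjective_of_lTensor_surjective (h : Pi1.UnivInjective R S) {N : Type v} {M : Type u}
    [AddCommGroup N] [Module R N] [AddCommGroup M] [Module R M] (f : N →ₗ[R] M)
    (hf : Function.Surjective (LinearMap.lTensor S f)) : Function.Surjective f := by
  intro m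
  have hm : m ∈ LinearMap.range f := by
    apply mem_of_tmul_mem h
    obtain ⟨y, hy⟩ := hf ((1 : S) ⊗ₜ[R] m)
    refine ⟨LinearMap.lTensor S f.rangeRestrict y, ?_⟩
    rw [← LinearMap.comp_apply, ← LinearMap.lTensor_comp]
    have h0 : (LinearMap.range f).subtype ∘ₗ f.rangeRestrict = f := by ext x; rfl
    rw [h0]
    exact hy
  exact hm

/-- For a universally injective `R → S` and an ideal `I` of an `R`-algebra `B`: if the extension of
`I` to `S ⊗[R] B` is finitely generated, so is `I`. -/
theorem ideal_fg_of_map_includeRight_fg (h : Pi1.UnivInjective R S) {B : Type u} [CommRing B]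
    [Algebra R B] (I : Ideal B)
    (hI : (I.map (Algebra.TensorProduct.includeRight : B →ₐ[R] S ⊗[R] B)).FG) : I.FG := by
  classical
  have h1 : (Submodule.span (S ⊗[R] B)
      ((Algebra.TensorProduct.includeRight : B →ₐ[R] S ⊗[R] B) '' (I : Set B))).FG := hI
  obtain ⟨s', hs', hspan⟩ := (Submodule.fg_span_iff_fg_span_finset_subset _).1 h1
  obtain ⟨t, ht, rfl⟩ := Finset.subset_set_image_iff.1 hs'
  refine ⟨t, ?_⟩
  apply le_antisymm (Ideal.span_le.2 ht)
  intro i hi
  have hmem : (Algebra.TensorProduct.includeRight : B →ₐ[R] S ⊗[R] B) i ∈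
      (Ideal.span (t : Set B)).map (Algebra.TensorProduct.includeRight : B →ₐ[R] S ⊗[R] B) := by
    have h2 : (Algebra.TensorProduct.includeRight : B →ₐ[R] S ⊗[R] B) i ∈
        I.map (Algebra.TensorProduct.includeRight : B →ₐ[R] S ⊗[R] B) :=
      Ideal.mem_map_of_mem _ hi
    have h3 : I.map (Algebra.TensorProduct.includeRight : B →ₐ[R] S ⊗[R] B) ≤
        (Ideal.span (t : Set B)).map (Algebra.TensorProduct.includeRight : B →ₐ[R] S ⊗[R] B) := by
      change Submodule.span (S ⊗[R] B) _ ≤ _
      rw [hspan, Submodule.span_le]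
      intro x hx
      rw [Finset.coe_image] at hx
      obtain ⟨b, hb, rfl⟩ := hx
      exact Ideal.mem_map_of_mem _ (Ideal.subset_span hb)
    exact h3 h2
  apply mem_of_tmul_mem h ((Ideal.span (t : Set B)).restrictScalars R) i
  rw [← Ideal.map_includeRight_eq]
  exact hmem

/-- For a universally injective `R → S` and a submodule `K` of an `R`-module `F`: if the image of
`S ⊗ K` in `S ⊗ F` is a finitely generated `S`-module, then `K` is finitely generated. -/
theorem submodule_fg_of_range_baseChange_fg (h : Pi1.UnivInjective R S) {F : Type u}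
    [AddCommGroup F] [Module R F] (K : Submodule R F)
    (hK : (LinearMap.range (K.subtype.baseChange S)).FG) : K.FG := by
  classical
  have hspan : LinearMap.range (K.subtype.baseChange S) =
      Submodule.span S ((fun k : F => (1 : S) ⊗ₜ[R] k) '' (K : Set F)) := by
    apply le_antisymm
    · rintro _ ⟨x, rfl⟩
      induction x with
      | zero => simp
      | add x y hx hy => rw [map_add]; exact add_mem hx hy
      | tmul s k =>
        have : (K.subtype.baseChange S) (s ⊗ₜ[R] k) = s • ((1 : S) ⊗ₜ[R] (k : F)) := by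
          simp [TensorProduct.smul_tmul']
        rw [this]
        exact Submodule.smul_mem _ _ (Submodule.subset_span ⟨k, k.2, rfl⟩)
    · rw [Submodule.span_le]
      rintro _ ⟨k, hk, rfl⟩
      exact ⟨(1 : S) ⊗ₜ[R] ⟨k, hk⟩, by simp⟩
  rw [hspan] at hK
  obtain ⟨s', hs', hspan'⟩ := (Submodule.fg_span_iff_fg_span_finset_subset _).1 hK
  obtain ⟨t, ht, rfl⟩ := Finset.subset_set_image_iff.1 hs'
  refine ⟨t, ?_⟩
  apply le_antisymm (Submodule.span_le.2 ht)
  intro k hk
  apply mem_of_tmul_mem h (Submodule.span R (t : Set F)) k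
  have h1 : (1 : S) ⊗ₜ[R] k ∈ Submodule.span S ((fun k : F => (1 : S) ⊗ₜ[R] k) '' (K : Set F)) :=
    Submodule.subset_span ⟨k, hk, rfl⟩
  rw [hspan'] at h1
  have h2 : Submodule.span S (↑(Finset.image (fun k : F => (1 : S) ⊗ₜ[R] k) t) : Set (S ⊗[R] F)) ≤
      LinearMap.range ((Submodule.span R (t : Set F)).subtype.baseChange S) := by
    rw [Submodule.span_le]
    intro x hx
    rw [Finset.coe_image] at hx
    obtain ⟨b, hb, rfl⟩ := hx
    exact ⟨(1 : S) ⊗ₜ[R] ⟨b, Submodule.subset_span hb⟩, by simp⟩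
  obtain ⟨y, hy⟩ := h2 h1
  exact ⟨y, hy⟩

end Groth.Agent.Lib.Helper1.Pure
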