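import Groth.Agent.Lib.Helper1.Pure
import Mathlib.RingTheory.Flat.Tensor
import Mathlib.RingTheory.Flat.Stability

/-!
# Flatness descends along universally injective ring maps

If `R → S` is universally injective and `S ⊗[R] M` is flat over `S`, then `M` is flat over `R`.
The proof uses a free presentation `0 → K → F → M → 0` and the criterion `IF ∩ K = IK`.
-/

set_option autoImplicit false
universe u v w

open scoped TensorProduct

namespace Groth.Agent.Lib.Helper1.Pure

section General

variable {A : Type u} [CommRing A] {F : Type v} {M : Type w} [AddCommGroup F] [Module A F]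
  [AddCommGroup M] [Module A M]

/-- The multiplication map `J ⊗ F → F`. -/
noncomputable abbrev mulMap (J : Ideal A) (F : Type v) [AddCommGroup F] [Module A F] :
    J ⊗[A] F →ₗ[A] F :=
  TensorProduct.lift ((LinearMap.lsmul A F).comp J.subtype)

theorem mulMap_tmul (J : Ideal A) (j : J) (x : F) : mulMap J F (j ⊗ₜ x) = (j : A) • x := by
  simp [mulMap]

theorem mulMap_comp_lTensor (J : Ideal A) (f : F →ₗ[A] M) (ζ : J ⊗[A] F) :
    mulMap J M (LinearMap.lTensor J f ζ) = f (mulMap J F ζ) := by
  induction ζ with
  | zero => simp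
  | add x y hx hy => simp only [map_add, hx, hy]
  | tmul j x => simp [mulMap]

theorem exists_of_mem_smul (J : Ideal A) (N : Submodule A F) (z : F) (hz : z ∈ J • N) :
    ∃ ω : J ⊗[A] N, mulMap J F (LinearMap.lTensor J N.subtype ω) = z := by
  refine Submodule.smul_induction_on hz ?_ ?_
  · intro j hj x hx
    exact ⟨(⟨j, hj⟩ : J) ⊗ₜ (⟨x, hx⟩ : N), by simp [mulMap]⟩
  · rintro x y ⟨ω₁, h₁⟩ ⟨ω₂, h₂⟩
    exact ⟨ω₁ + ω₂, by simp only [map_add, h₁, h₂]⟩

theorem mulMap_lTensor_subtype_mem (J : Ideal A) (N : Submodule A F) (ω : J ⊗[A] N) :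
    mulMap J F (LinearMap.lTensor J N.subtype ω) ∈ J • N := by
  induction ω with
  | zero => simp
  | add x y hx hy => simp only [map_add]; exact add_mem hx hy
  | tmul j x =>
    simp only [LinearMap.lTensor_tmul, Submodule.subtype_apply, mulMap_tmul]
    exact Submodule.smul_mem_smul j.2 x.2

theorem mulMap_injective_of_flat [Module.Flat A M] (J : Ideal A) :
    Function.Injective (mulMap J M) := by
  have h1 := (Module.Flat.iff_rTensor_injective' (R := A) (M := M)).1 inferInstance J
  have h2 : mulMap J M = (TensorProduct.lid A M).toLinearMap ∘ₗ LinearMap.rTensor M J.subtype := by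
    apply TensorProduct.ext'
    intro j x
    simp [mulMap]
  rw [h2]
  exact (TensorProduct.lid A M).injective.comp h1

/-- If `M = F / K` is flat, then `J F ∩ K = J K`. -/
theorem mem_smul_ker_of_flat [Module.Flat A M] (f : F →ₗ[A] M) (hf : Function.Surjective f)
    (J : Ideal A) (z : F) (hz : z ∈ J • (⊤ : Submodule A F)) (hfz : f z = 0) :
    z ∈ J • LinearMap.ker f := by
  obtain ⟨ω, hω⟩ := exists_of_mem_smul J ⊤ z hz
  set ζ : J ⊗[A] F := LinearMap.lTensor J (⊤ : Submodule A F).subtype ω with hζ
  have h1 : mulMap J M (LinearMap.lTensor J f ζ) = 0 := by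
    rw [mulMap_comp_lTensor, hω, hfz]
  have h2 : LinearMap.lTensor J f ζ = 0 := by
    apply mulMap_injective_of_flat J
    rw [h1, map_zero]
  have hex := lTensor_exact J (LinearMap.exact_subtype_ker_map f) hf
  obtain ⟨ω', hω'⟩ := (hex ζ).1 h2
  rw [← hω, ← hω']
  exact mulMap_lTensor_subtype_mem J _ ω'

/-- If `F` is flat, `M = F / K` and `I F ∩ K = I K`, then `I ⊗ M → M` is injective. -/
theorem mulMap_injective_of_forall_mem_smul_ker [Module.Flat A F] (f : F →ₗ[A] M)
    (hf : Function.Surjective f) (I : Ideal A)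
    (H : ∀ z ∈ I • (⊤ : Submodule A F), f z = 0 → z ∈ I • LinearMap.ker f) :
    Function.Injective (mulMap I M) := by
  rw [injective_iff_map_eq_zero]
  intro x hx
  obtain ⟨x', rfl⟩ := LinearMap.lTensor_surjective I hf x
  have hz : mulMap I F x' ∈ I • (⊤ : Submodule A F) := by
    have : x' = LinearMap.lTensor I (⊤ : Submodule A F).subtype
        (LinearMap.lTensor I (LinearMap.id.codRestrict ⊤ (fun _ => trivial)) x') := by
      rw [← LinearMap.comp_apply, ← LinearMap.lTensor_comp]
      have : (⊤ : Submodule A F).subtype ∘ₗ (LinearMap.id.codRestrict ⊤ (fun _ => trivial)) =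
          LinearMap.id := by ext; simp
      rw [this, LinearMap.lTensor_id, LinearMap.id_apply]
    rw [this]
    exact mulMap_lTensor_subtype_mem I _ _
  have hfz : f (mulMap I F x') = 0 := by rw [← mulMap_comp_lTensor, hx]
  obtain ⟨ω, hω⟩ := exists_of_mem_smul I _ _ (H _ hz hfz)
  have h3 : x' = LinearMap.lTensor I (LinearMap.ker f).subtype ω :=
    (mulMap_injective_of_flat (M := F) I hω).symm
  rw [h3, ← LinearMap.comp_apply, ← LinearMap.lTensor_comp]
  have : f ∘ₗ (LinearMap.ker f).subtype = 0 := by ext y; exact y.2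
  rw [this, LinearMap.lTensor_zero, LinearMap.zero_apply]

end General

variable {R S : Type u} [CommRing R] [CommRing S] [Algebra R S]

theorem flat_of_flat_baseChange_aux (h : Pi1.UnivInjective R S) (M : Type u) [AddCommGroup M]
    [Module R M] [Module.Flat S (S ⊗[R] M)] (F : Type u) [AddCommGroup F] [Module R F]
    [Module.Flat R F] (f : F →ₗ[R] M) (hf : Function.Surjective f) : Module.Flat R M := by
  classical
  rw [Module.Flat.iff_lift_lsmul_comp_subtype_injective]
  intro I _
  refine mulMap_injective_of_forall_mem_smul_ker f hf I ?_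
  intro z hz hfz
  apply mem_of_tmul_mem h
  -- work over `S`
  let J : Ideal S := I.map (algebraMap R S)
  have hz' : (1 : S) ⊗ₜ[R] z ∈ J • (⊤ : Submodule S (S ⊗[R] F)) := by
    refine Submodule.smul_induction_on hz ?_ ?_
    · intro i hi x _
      have : (1 : S) ⊗ₜ[R] (i • x) = (algebraMap R S i) • ((1 : S) ⊗ₜ[R] x) := by
        rw [TensorProduct.tmul_smul]
        simp [TensorProduct.smul_tmul', Algebra.smul_def]
      rw [this]
      exact Submodule.smul_mem_smul (Ideal.mem_map_of_mem _ hi) trivial
    · intro x y hx hy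
      rw [TensorProduct.tmul_add]; exact add_mem hx hy
  have hsurj : Function.Surjective (f.baseChange S) := LinearMap.lTensor_surjective S hf
  have hfz' : (f.baseChange S) ((1 : S) ⊗ₜ[R] z) = 0 := by
    rw [LinearMap.baseChange_tmul, hfz, TensorProduct.tmul_zero]
  have hmem := mem_smul_ker_of_flat (f.baseChange S) hsurj J _ hz' hfz'
  -- `J • ker (f_S)` is contained in the image of `S ⊗ (I • K)`
  have hex := lTensor_exact S (LinearMap.exact_subtype_ker_map f) hf
  have hle : J • LinearMap.ker (f.baseChange S) ≤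
      LinearMap.range ((I • LinearMap.ker f).subtype.baseChange S) := by
    rw [Submodule.smul_le]
    intro j hj κ hκ
    have hκ' : LinearMap.lTensor S f κ = 0 := hκ
    obtain ⟨y, rfl⟩ := (hex κ).1 hκ'
    clear hκ' hκ
    induction hj using Submodule.span_induction with
    | mem j hj =>
      obtain ⟨i, hi, rfl⟩ := hj
      induction y with
      | zero => simp
      | add y₁ y₂ h₁ h₂ => rw [map_add, smul_add]; exact add_mem h₁ h₂
      | tmul s k =>
        refine ⟨s ⊗ₜ[R] ⟨i • (k : F), Submodule.smul_mem_smul hi k.2⟩, ?_⟩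
        simp only [LinearMap.baseChange_tmul, Submodule.subtype_apply, LinearMap.lTensor_tmul]
        rw [TensorProduct.tmul_smul, TensorProduct.smul_tmul', TensorProduct.smul_tmul',
          Algebra.smul_def, smul_eq_mul]
    | zero => rw [zero_smul]; exact zero_mem _
    | add j₁ j₂ _ _ h₁ h₂ => rw [add_smul]; exact add_mem h₁ h₂
    | smul a j' _ hj' => rw [smul_assoc]; exact Submodule.smul_mem _ a hj'
  obtain ⟨y, hy⟩ := hle hmem
  exact ⟨y, hy⟩

/-- Flatness descends along universally injective ring maps. -/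
theorem flat_of_flat_baseChange (h : Pi1.UnivInjective R S) (M : Type u) [AddCommGroup M]
    [Module R M] [Module.Flat S (S ⊗[R] M)] : Module.Flat R M :=
  flat_of_flat_baseChange_aux h M (M →₀ R) (Finsupp.linearCombination R id)
    (Finsupp.linearCombination_id_surjective R M)

end Groth.Agent.Lib.Helper1.Pure
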