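-- Helper library (helper1): quasi-finiteness of ring maps descends along faithfully flat maps.
import Mathlib.RingTheory.Finiteness.Descent
import Mathlib.RingTheory.RingHom.QuasiFinite
import Mathlib.RingTheory.RingHom.FaithfullyFlat
import Mathlib.RingTheory.Flat.FaithfullyFlat.Algebra

set_option autoImplicit false
universe u

namespace Groth.Agent.Lib.Helper1

open TensorProduct

theorem quasiFinite_of_tensorProduct_of_faithfullyFlat (R A S : Type u) [CommRing R] [CommRing A]
    [CommRing S] [Algebra R A] [Algebra R S] [Module.FaithfullyFlat R A]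
    [Algebra.QuasiFinite A (A ⊗[R] S)] : Algebra.QuasiFinite R S := by
  refine ⟨fun p hp ↦ ?_⟩
  obtain ⟨P, hP, hPp⟩ := Ideal.exists_isPrime_liesOver_of_faithfullyFlat (B := A) p
  let := Localization.AtPrime.algebraOfLiesOver p P
  let e : P.Fiber (A ⊗[R] S) ≃ₐ[P.ResidueField] P.ResidueField ⊗[p.ResidueField] (p.Fiber S) :=
    (Algebra.TensorProduct.cancelBaseChange _ _ _ _ _).trans
      (Algebra.TensorProduct.cancelBaseChange _ _ _ _ _).symm
  have h1 : Module.Finite P.ResidueField (P.Fiber (A ⊗[R] S)) := inferInstance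
  have h2 : Module.Finite P.ResidueField (P.ResidueField ⊗[p.ResidueField] (p.Fiber S)) :=
    .of_surjective e.toLinearMap e.surjective
  exact Module.Finite.of_finite_tensorProduct_of_faithfullyFlat P.ResidueField

theorem quasiFinite_codescendsAlong_faithfullyFlat :
    RingHom.CodescendsAlong RingHom.QuasiFinite RingHom.FaithfullyFlat := by
  refine .mk _ RingHom.QuasiFinite.respectsIso fun R S T _ _ _ _ _ h h' ↦ ?_
  rw [RingHom.faithfullyFlat_algebraMap_iff] at h
  rw [RingHom.quasiFinite_algebraMap] at h' ⊢
  exact quasiFinite_of_tensorProduct_of_faithfullyFlat R S T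

end Groth.Agent.Lib.Helper1
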