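import Mathlib
import Groth.Prelude.Def_SGA6
import Groth.Agent.Lib.Helper1.K0Dim3

/-!
# The rank map on `K_0(Coh X)`: lengths at the generic points
-/

set_option autoImplicit false
set_option linter.style.haveILetI false
universe u
open CategoryTheory CategoryTheory.Limits AlgebraicGeometry Opposite
open scoped Classical

namespace Groth.Agent.Lib.Helper1.RankK0

open Groth.Agent.Lib.Helper17 H10K0 Groth.Agent.Lib.Helper17.DevBasic
  Groth.Agent.Lib.Helper17.StalkExact Groth.Agent.Lib.Helper1.K0Dim

theorem eq_of_specializes_of_dim_zero {X : Scheme.{u}} (x x' : X)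
    (hx : ringKrullDim (X.presheaf.stalk x) = 0) (h : x' ⤳ x) : x' = x := by
  have h1 : x' ∈ Set.range (X.fromSpecStalk x) := by
    rw [Scheme.range_fromSpecStalk]
    exact h
  obtain ⟨p, rfl⟩ := h1
  haveI : Ring.KrullDimLE 0 (X.presheaf.stalk x) := Ring.krullDimLE_iff.mpr (by rw [hx]; rfl)
  have hp : p = IsLocalRing.closedPoint (X.presheaf.stalk x) := by
    apply PrimeSpectrum.ext
    haveI : p.asIdeal.IsMaximal := Ideal.isMaximal_of_isPrime p.asIdeal
    exact IsLocalRing.eq_maximalIdeal this
  rw [hp]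
  exact Scheme.fromSpecStalk_closedPoint

variable {X : Scheme.{u}} [IsNoetherian X]

/-- the points with zero-dimensional local ring. -/
def S0 (X : Scheme.{u}) : Set X := {x | ringKrullDim (X.presheaf.stalk x) = 0}

theorem finite_S0 : (S0 X).Finite :=
  (TopDim.finite_maximal (T := X) isClosed_univ).subset
    (fun x hx => ⟨trivial, fun x' _ h => eq_of_specializes_of_dim_zero x x' hx h⟩)

theorem length_ne_top (M : X.Modules) (hM : Coh.IsCoh M) (x : X) (hx : x ∈ S0 X) :
    Module.length (X.presheaf.stalk x) (M.presheaf.stalk x) ≠ ⊤ := by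
  haveI := hM.1
  haveI := hM.2
  exact (CohStalk.length_stalk_lt_top M x
    fun x' _ h => eq_of_specializes_of_dim_zero x x' hx h).ne

/-- the length of the stalk, as an integer. -/
noncomputable def lenZ (M : X.Modules) (x : X) : ℤ :=
  ((Module.length (X.presheaf.stalk x) (M.presheaf.stalk x)).toNat : ℤ)

theorem lenZ_add (S : ShortComplex X.Modules) (hS : S.ShortExact) (h1 : Coh.IsCoh S.X₁)
    (h3 : Coh.IsCoh S.X₃) (x : X) (hx : x ∈ S0 X) :
    lenZ S.X₂ x = lenZ S.X₁ x + lenZ S.X₃ x := by
  unfold lenZ
  rw [length_stalk_add S hS x, ENat.toNat_add (length_ne_top _ h1 x hx) (length_ne_top _ h3 x hx)]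
  push_cast
  rfl

theorem lenZ_eq_zero_of_notMem (M : X.Modules) (x : X) (hx : x ∉ CohB1.support M) :
    lenZ M x = 0 := by
  unfold lenZ
  rw [DevKey.length_eq_zero_of_notMem hx]
  simp

theorem lenZ_A (y x : X) (hx : x ∈ S0 X) :
    lenZ (Cyc.closureStructureSheaf y) x = if x = y then 1 else 0 := by
  split_ifs with h
  · rw [h]
    unfold lenZ
    rw [length_closureStructureSheaf y]
    simp
  · apply lenZ_eq_zero_of_notMem
    rw [support_closureStructureSheaf]
    intro hxy
    exact h (eq_of_specializes_of_dim_zero x y hx (specializes_iff_mem_closure.mpr hxy)).symm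

theorem lenZ_iso {M N : X.Modules} (e : M ≅ N) (x : X) : lenZ M x = lenZ N x := by
  have hS := ses_of_iso e
  have hl := length_stalk_add _ hS x
  have h0 : Module.length (X.presheaf.stalk x) ((cokernel e.hom).presheaf.stalk x) = 0 := by
    apply DevKey.length_eq_zero_of_notMem
    rw [support_eq_empty_of_isZero (isZero_cokernel_of_epi e.hom)]
    exact Set.notMem_empty x
  simp only at hl
  rw [h0, add_zero] at hl
  unfold lenZ
  rw [hl]

end Groth.Agent.Lib.Helper1.RankK0
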