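import Mathlib
import Groth.Agent.Lib.Helper1.RankK0a

/-!
# The rank map on `K_0(Coh X)`: dévissage
-/

set_option autoImplicit false
set_option linter.style.haveILetI false
universe u
open CategoryTheory CategoryTheory.Limits AlgebraicGeometry Opposite
open scoped Classical

namespace Groth.Agent.Lib.Helper1.RankK0

open Groth.Agent.Lib.Helper17 H10K0 Groth.Agent.Lib.Helper17.DevBasic
  Groth.Agent.Lib.Helper17.StalkExact Groth.Agent.Lib.Helper1.K0Dim

variable {X : Scheme.{u}} [IsNoetherian X]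

/-- the generic points, as a subtype. -/
abbrev Gen (X : Scheme.{u}) : Type u := {x : X // ringKrullDim (X.presheaf.stalk x) = 0}

noncomputable instance : Fintype (Gen X) := (finite_S0 (X := X)).fintype

/-- `Σ_y length(M_y) [O_{Z(y)}]`. -/
noncomputable def sig (M : X.Modules) : KZero.K0sub (fun M : X.Modules => Coh.IsCoh M) :=
  ∑ y : Gen X, lenZ M y.1 •
    KZero.clSub (fun M : X.Modules => Coh.IsCoh M) (Cyc.closureStructureSheaf y.1)

theorem sig_add (S : ShortComplex X.Modules) (hS : S.ShortExact) (h1 : Coh.IsCoh S.X₁)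
    (h3 : Coh.IsCoh S.X₃) : sig S.X₂ = sig S.X₁ + sig S.X₃ := by
  unfold sig
  rw [← Finset.sum_add_distrib]
  refine Finset.sum_congr rfl (fun y _ => ?_)
  rw [lenZ_add S hS h1 h3 y.1 y.2, add_smul]

theorem sig_iso {M N : X.Modules} (e : M ≅ N) : sig M = sig N :=
  Finset.sum_congr rfl (fun y _ => by rw [lenZ_iso e])

theorem sig_eq_zero (M : X.Modules) (h : ∀ y ∈ S0 X, y ∉ CohB1.support M) : sig M = 0 :=
  Finset.sum_eq_zero (fun y _ => by rw [lenZ_eq_zero_of_notMem M y.1 (h y.1 y.2), zero_smul])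

theorem sig_A (y : X) (hy : y ∈ S0 X) :
    sig (Cyc.closureStructureSheaf y) =
      KZero.clSub (fun M : X.Modules => Coh.IsCoh M) (Cyc.closureStructureSheaf y) := by
  unfold sig
  rw [Finset.sum_eq_single (⟨y, hy⟩ : Gen X)]
  · rw [lenZ_A y y hy, if_pos rfl, one_smul]
  · intro x _ hx
    rw [lenZ_A y x.1 x.2, if_neg (fun h => hx (Subtype.ext h)), zero_smul]
  · intro h
    exact absurd (Finset.mem_univ _) h

theorem one_le_dim_of_notMem (x : X) (hx : x ∉ S0 X) :
    (1 : WithBot ℕ∞) ≤ ringKrullDim (X.presheaf.stalk x) := by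
  have h0 : (0 : WithBot ℕ∞) ≤ ringKrullDim (X.presheaf.stalk x) :=
    ringKrullDim_nonneg_of_nontrivial
  have hne : ringKrullDim (X.presheaf.stalk x) ≠ 0 := hx
  cases h : ringKrullDim (X.presheaf.stalk x) with
  | bot => rw [h] at h0; exact absurd h0 (by simp)
  | coe n =>
    rw [h] at hne
    have hn : n ≠ 0 := fun h' => hne (by rw [h']; rfl)
    exact_mod_cast ENat.one_le_iff_ne_zero.mpr hn

/-- the first step of the coniveau filtration. -/
noncomputable def H (X : Scheme.{u}) : AddSubgroup (KZero.K0sub (fun M : X.Modules => Coh.IsCoh M)) :=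
  AddSubgroup.closure {c | ∃ F : X.Modules, Coh.IsCoh F ∧
    (∀ x ∈ CohB1.support F, (1 : WithBot ℕ∞) ≤ ringKrullDim (X.presheaf.stalk x)) ∧
    c = KZero.clSub (fun M : X.Modules => Coh.IsCoh M) F}

theorem key_gen (F : X.Modules) (hF : Coh.IsCoh F) :
    KZero.clSub (fun M : X.Modules => Coh.IsCoh M) F - sig F ∈ H X := by
  set Q : ObjectProperty X.Modules := fun G : X.Modules => Coh.IsCoh G with hQ
  let P : X.Modules → Prop := fun M => KZero.clSub Q M - sig M ∈ H X
  have hPiso : ∀ M N : X.Modules, Nonempty (M ≅ N) → P M → P N := by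
    rintro M N ⟨e⟩ hM
    have hc : KZero.clSub Q M = KZero.clSub Q N := by
      by_cases hN : Q N
      · have hM' : Q M := DevBasic.isCoh_of_iso e.symm hN
        have hC : Q (cokernel e.hom) := DevBasic.isCoh_of_isZero (isZero_cokernel_of_epi e.hom)
        have h2 : KZero.clSub Q N = KZero.clSub Q M + KZero.clSub Q (cokernel e.hom) :=
          clSub_ses Q _ (ses_of_iso e) hM' hN hC
        rw [h2, clSub_isZero Q (isZero_cokernel_of_epi e.hom) hC, add_zero]
      · have hM' : ¬ Q M := fun h => hN (DevBasic.isCoh_of_iso e h)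
        unfold KZero.clSub
        rw [dif_neg hN, dif_neg hM']
    show KZero.clSub Q N - sig N ∈ H X
    rw [← sig_iso e, ← hc]
    exact hM
  have hP0 : ∀ M : X.Modules, IsZero M → P M := by
    intro M hz
    have hM : Q M := DevBasic.isCoh_of_isZero hz
    show KZero.clSub Q M - sig M ∈ H X
    rw [clSub_isZero Q hz hM, sig_eq_zero M (fun y _ => by
      rw [support_eq_empty_of_isZero hz]; exact Set.notMem_empty y), sub_zero]
    exact (H X).zero_mem
  have h23 : ∀ S : ShortComplex X.Modules, S.ShortExact → Coh.IsCoh S.X₁ → Coh.IsCoh S.X₂ →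
      Coh.IsCoh S.X₃ → CohB1.support S.X₂ ⊆ Set.univ →
      (P S.X₁ → P S.X₂ → P S.X₃) ∧ (P S.X₁ → P S.X₃ → P S.X₂) ∧ (P S.X₂ → P S.X₃ → P S.X₁) := by
    intro S hS h1 h2 h3 _
    have he : KZero.clSub Q S.X₂ = KZero.clSub Q S.X₁ + KZero.clSub Q S.X₃ :=
      clSub_ses Q S hS h1 h2 h3
    have hs := sig_add S hS h1 h3
    refine ⟨fun p1 p2 => ?_, fun p1 p3 => ?_, fun p2 p3 => ?_⟩
    · show KZero.clSub Q S.X₃ - sig S.X₃ ∈ H X
      have : KZero.clSub Q S.X₃ - sig S.X₃ =
          (KZero.clSub Q S.X₂ - sig S.X₂) - (KZero.clSub Q S.X₁ - sig S.X₁) := by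
        rw [he, hs]; abel
      rw [this]
      exact (H X).sub_mem p2 p1
    · show KZero.clSub Q S.X₂ - sig S.X₂ ∈ H X
      have : KZero.clSub Q S.X₂ - sig S.X₂ =
          (KZero.clSub Q S.X₁ - sig S.X₁) + (KZero.clSub Q S.X₃ - sig S.X₃) := by
        rw [he, hs]; abel
      rw [this]
      exact (H X).add_mem p1 p3
    · show KZero.clSub Q S.X₁ - sig S.X₁ ∈ H X
      have : KZero.clSub Q S.X₁ - sig S.X₁ =
          (KZero.clSub Q S.X₂ - sig S.X₂) - (KZero.clSub Q S.X₃ - sig S.X₃) := by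
        rw [he, hs]; abel
      rw [this]
      exact (H X).sub_mem p2 p3
  refine DevEngine.engine X P hPiso Set.univ hP0
    (fun S hS h1 h2 h3 hs' p1 p3 => (h23 S hS h1 h2 h3 hs').2.1 p1 p3) ?_ F hF (Set.subset_univ _)
  intro Z hZ hirr hZY IH G hG hGs _
  obtain ⟨y, hy⟩ := QuasiSober.sober hirr hZ
  have hy' : closure {y} = Z := hy
  have hyZ : y ∈ Z := hy' ▸ subset_closure (Set.mem_singleton y)
  have hgenZ : ∀ x ∈ Z, y ⤳ x := fun x hx => specializes_iff_mem_closure.mpr (hy'.symm ▸ hx)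
  by_cases hd : y ∈ S0 X
  · refine DevKey.key23 P Set.univ h23 Z hZY y hgenZ ?_ (Cyc.closureStructureSheaf y)
      (isCoh_closureStructureSheaf y) ?_ ?_ (length_closureStructureSheaf y) G hG hGs
    · intro F' hF' hs' hyF'
      exact IH F' hF' hs' (fun heq => hyF' (heq ▸ hyZ))
    · rw [support_closureStructureSheaf, hy']
    · show KZero.clSub Q (Cyc.closureStructureSheaf y) - sig (Cyc.closureStructureSheaf y) ∈ H X
      rw [sig_A y hd, sub_self]
      exact (H X).zero_mem
  · have hno : ∀ x ∈ CohB1.support G, x ∉ S0 X := by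
      intro x hx hxS
      have : y = x := eq_of_specializes_of_dim_zero x y hxS (hgenZ x (hGs hx))
      exact hd (this ▸ hxS)
    show KZero.clSub Q G - sig G ∈ H X
    rw [sig_eq_zero G (fun x hxS hx => hno x hx hxS), sub_zero]
    exact AddSubgroup.subset_closure
      ⟨G, hG, fun x hx => one_le_dim_of_notMem x (hno x hx), rfl⟩

end Groth.Agent.Lib.Helper1.RankK0
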