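import Mathlib
import Groth.Agent.Lib.Helper1.RankK0b

/-!
# The rank map on `K_0(Coh X)`: existence, surjectivity and kernel
-/

set_option autoImplicit false
set_option linter.style.haveILetI false
universe u
open CategoryTheory CategoryTheory.Limits AlgebraicGeometry Opposite
open scoped Classical

namespace Groth.Agent.Lib.Helper1.RankK0

open Groth.Agent.Lib.Helper17 H10K0 Groth.Agent.Lib.Helper17.DevBasic
  Groth.Agent.Lib.Helper17.StalkExact Groth.Agent.Lib.Helper1.K0Dim

variable {X : Scheme.{u}} [IsNoetherian X]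

theorem exists_rk :
    ∃ rk : SGA6.Kcoh X →+ ({x : X // ringKrullDim (X.presheaf.stalk x) = 0} → ℤ),
      ∀ F : X.Modules, Coh.IsCoh F →
        rk (KZero.clSub (fun M : X.Modules => Coh.IsCoh M) F) =
          fun x => ((Module.length (X.presheaf.stalk x.1) (F.presheaf.stalk x.1)).toNat : ℤ) := by
  let f : Subtype (fun M : X.Modules => Coh.IsCoh M) → (Gen X → ℤ) := fun F x => lenZ F.1 x.1
  have hrel : KZero.relSub (fun M : X.Modules => Coh.IsCoh M) ≤
      (FreeAbelianGroup.lift f).ker := by
    unfold KZero.relSub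
    rw [AddSubgroup.closure_le]
    rintro c ⟨S, h₁, h₂, h₃, hS, rfl⟩
    rw [SetLike.mem_coe, AddMonoidHom.mem_ker, map_sub, map_sub, FreeAbelianGroup.lift_apply_of,
      FreeAbelianGroup.lift_apply_of, FreeAbelianGroup.lift_apply_of]
    ext x
    show lenZ S.X₂ x.1 - lenZ S.X₁ x.1 - lenZ S.X₃ x.1 = 0
    rw [lenZ_add S hS h₁ h₃ x.1 x.2]
    ring
  refine ⟨QuotientAddGroup.lift _ (FreeAbelianGroup.lift f) hrel, fun F hF => ?_⟩
  rw [clSub_of _ hF, QuotientAddGroup.lift_mk, FreeAbelianGroup.lift_apply_of]
  rfl

theorem surj_and_ker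
    (rk : SGA6.Kcoh X →+ ({x : X // ringKrullDim (X.presheaf.stalk x) = 0} → ℤ))
    (hrk : ∀ F : X.Modules, Coh.IsCoh F →
      rk (KZero.clSub (fun M : X.Modules => Coh.IsCoh M) F) =
        fun x => ((Module.length (X.presheaf.stalk x.1) (F.presheaf.stalk x.1)).toNat : ℤ)) :
    Function.Surjective rk ∧ rk.ker = H X := by
  have hrkA : ∀ (y : Gen X) (x : Gen X),
      rk (KZero.clSub (fun M : X.Modules => Coh.IsCoh M) (Cyc.closureStructureSheaf y.1)) x =
        if x = y then 1 else 0 := by
    intro y x
    rw [hrk _ (isCoh_closureStructureSheaf y.1)]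
    show lenZ (Cyc.closureStructureSheaf y.1) x.1 = _
    rw [lenZ_A y.1 x.1 x.2]
    by_cases h : x = y
    · rw [if_pos h, if_pos (congrArg Subtype.val h)]
    · rw [if_neg h, if_neg (fun h' => h (Subtype.ext h'))]
  constructor
  · intro g
    refine ⟨∑ y : Gen X, g y •
      KZero.clSub (fun M : X.Modules => Coh.IsCoh M) (Cyc.closureStructureSheaf y.1), ?_⟩
    ext x
    rw [map_sum, Finset.sum_apply]
    simp only [map_zsmul, Pi.smul_apply, hrkA, smul_eq_mul, mul_ite, mul_one, mul_zero]
    rw [Finset.sum_ite_eq]
    simp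
  · apply le_antisymm
    · intro c hc
      have hall : ∀ c : SGA6.Kcoh X, c - ∑ y : Gen X, rk c y •
          KZero.clSub (fun M : X.Modules => Coh.IsCoh M) (Cyc.closureStructureSheaf y.1) ∈ H X := by
        intro c
        refine K0sub_induction (motive := fun c => c - ∑ y : Gen X, rk c y •
          KZero.clSub (fun M : X.Modules => Coh.IsCoh M) (Cyc.closureStructureSheaf y.1) ∈ H X)
          (fun M : X.Modules => Coh.IsCoh M) c ?_ ?_ ?_ ?_
        · simp only [map_zero, Pi.zero_apply, zero_smul, Finset.sum_const_zero, sub_zero]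
          exact (H X).zero_mem
        · intro F hF
          have h1 := key_gen F hF
          unfold sig at h1
          simp only [hrk F hF]
          exact h1
        · intro F hF
          have h1 := (H X).neg_mem (key_gen F hF)
          unfold sig at h1
          simp only [map_neg, Pi.neg_apply, neg_smul, Finset.sum_neg_distrib, hrk F hF]
          rw [neg_sub] at h1
          rw [sub_neg_eq_add, neg_add_eq_sub]
          exact h1
        · intro a b ha hb
          have h1 := (H X).add_mem ha hb
          simp only [map_add, Pi.add_apply, add_smul, Finset.sum_add_distrib]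
          have : a + b - (∑ y : Gen X, rk a y •
              KZero.clSub (fun M : X.Modules => Coh.IsCoh M) (Cyc.closureStructureSheaf y.1) +
              ∑ y : Gen X, rk b y •
              KZero.clSub (fun M : X.Modules => Coh.IsCoh M) (Cyc.closureStructureSheaf y.1)) =
              (a - ∑ y : Gen X, rk a y •
              KZero.clSub (fun M : X.Modules => Coh.IsCoh M) (Cyc.closureStructureSheaf y.1)) +
              (b - ∑ y : Gen X, rk b y •
              KZero.clSub (fun M : X.Modules => Coh.IsCoh M) (Cyc.closureStructureSheaf y.1)) := by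
            abel
          rw [this]
          exact h1
      have h2 := hall c
      have hc0 : rk c = 0 := hc
      simp only [hc0, Pi.zero_apply, zero_smul, Finset.sum_const_zero, sub_zero] at h2
      exact h2
    · unfold H
      rw [AddSubgroup.closure_le]
      rintro c ⟨F, hF, hdim, rfl⟩
      rw [SetLike.mem_coe, AddMonoidHom.mem_ker, hrk F hF]
      ext x
      show lenZ F x.1 = 0
      apply lenZ_eq_zero_of_notMem
      intro hx
      have h1 := hdim x.1 hx
      rw [x.2] at h1
      exact absurd h1 (by decide)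

theorem key15981 :
    (∃ rk : SGA6.Kcoh X →+ ({x : X // ringKrullDim (X.presheaf.stalk x) = 0} → ℤ),
        ∀ F : X.Modules, Coh.IsCoh F →
          rk (KZero.clSub (fun M : X.Modules => Coh.IsCoh M) F) =
            fun x => ((Module.length (X.presheaf.stalk x.1) (F.presheaf.stalk x.1)).toNat : ℤ)) ∧
    ∀ rk : SGA6.Kcoh X →+ ({x : X // ringKrullDim (X.presheaf.stalk x) = 0} → ℤ),
      (∀ F : X.Modules, Coh.IsCoh F →
          rk (KZero.clSub (fun M : X.Modules => Coh.IsCoh M) F) =
            fun x => ((Module.length (X.presheaf.stalk x.1) (F.presheaf.stalk x.1)).toNat : ℤ)) →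
        Function.Surjective rk ∧
          rk.ker = AddSubgroup.closure {c : SGA6.Kcoh X | ∃ F : X.Modules, Coh.IsCoh F ∧
            (∀ x ∈ CohB1.support F, (1 : WithBot ℕ∞) ≤ ringKrullDim (X.presheaf.stalk x)) ∧
            c = KZero.clSub (fun M : X.Modules => Coh.IsCoh M) F} :=
  ⟨exists_rk, fun rk hrk => surj_and_ker rk hrk⟩

end Groth.Agent.Lib.Helper1.RankK0
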