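import Mathlib
import Groth.Prelude
import Groth.Agent.Lib.Helper1.AssOpen
import Groth.Agent.Lib.Helper17.PbStalk

/-!
# Associated points and lengths of stalks of the restriction to an open subscheme
-/

set_option autoImplicit false
set_option linter.style.haveILetI false
universe u
open CategoryTheory CategoryTheory.Limits AlgebraicGeometry TopologicalSpace Opposite TensorProduct

namespace Groth.Agent.Lib.Helper1.RedOpen

theorem bijective_of_isBaseChange {A B M N : Type*} [CommRing A] [CommRing B] [Algebra A B]
    [AddCommGroup M] [Module A M] [AddCommGroup N] [Module A N] [Module B N]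
    [IsScalarTower A B N] (hb : Function.Bijective (algebraMap A B)) (γ : M →ₗ[A] N)
    (hγ : IsBaseChange B γ) : Function.Bijective γ := by
  let e1 : A ≃ₗ[A] B := LinearEquiv.ofBijective (Algebra.linearMap A B) hb
  let e : M ≃ₗ[A] N := (TensorProduct.lid A M).symm ≪≫ₗ
    (TensorProduct.congr e1 (LinearEquiv.refl A M)) ≪≫ₗ (hγ.equiv.restrictScalars A)
  have he : ∀ m, e m = γ m := by
    intro m
    show hγ.equiv ((TensorProduct.congr e1 (LinearEquiv.refl A M)) ((TensorProduct.lid A M).symm m))
      = γ m
    rw [TensorProduct.lid_symm_apply, TensorProduct.congr_tmul]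
    show hγ.equiv ((algebraMap A B 1) ⊗ₜ[A] m) = γ m
    rw [map_one, IsBaseChange.equiv_tmul, one_smul]
  have : (γ : M → N) = e := funext (fun m => (he m).symm)
  rw [this]
  exact e.bijective

theorem length_of_isBaseChange {A B M N : Type*} [CommRing A] [CommRing B] [Algebra A B]
    [AddCommGroup M] [Module A M] [AddCommGroup N] [Module A N] [Module B N]
    [IsScalarTower A B N] (hb : Function.Bijective (algebraMap A B)) (γ : M →ₗ[A] N)
    (hγ : IsBaseChange B γ) : Module.length B N = Module.length A M := by
  rw [← Module.length_eq_of_surjective (S := A) (R := B) (M := N) hb.2]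
  exact (LinearEquiv.ofBijective γ (bijective_of_isBaseChange hb γ hγ)).length_eq.symm

variable {X : Scheme.{u}} [IsLocallyNoetherian X] (U : X.Opens) (F : X.Modules)
  [F.IsQuasicoherent]

theorem stalkMap_bijective (u : U) : Function.Bijective (U.ι.stalkMap u).hom :=
  ConcreteCategory.bijective_of_isIso (U.ι.stalkMap u)

theorem length_pullback (u : U) :
    Module.length ((U : Scheme.{u}).presheaf.stalk u)
        (((Scheme.Modules.pullback U.ι).obj F).presheaf.stalk u) =
      Module.length (X.presheaf.stalk (U.ι u)) (F.presheaf.stalk (U.ι u)) := by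
  letI := (U.ι.stalkMap u).hom.toAlgebra
  letI : Module (X.presheaf.stalk (U.ι u))
      (((Scheme.Modules.pullback U.ι).obj F).presheaf.stalk u) :=
    Module.compHom _ (U.ι.stalkMap u).hom
  obtain ⟨hst, γ, hγ⟩ := Groth.Agent.Lib.Helper17.PbStalk.exists_isBaseChange_stalk U.ι F u
  exact length_of_isBaseChange (stalkMap_bijective U u) γ hγ

theorem isAssPoint_pullback_iff (u : U) :
    Curv2.IsAssPoint ((Scheme.Modules.pullback U.ι).obj F) u ↔ Curv2.IsAssPoint F (U.ι u) := by
  haveI : IsLocallyNoetherian (U : Scheme.{u}) := isLocallyNoetherian_of_isOpenImmersion U.ι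
  letI := (U.ι.stalkMap u).hom.toAlgebra
  letI : Module (X.presheaf.stalk (U.ι u))
      (((Scheme.Modules.pullback U.ι).obj F).presheaf.stalk u) :=
    Module.compHom _ (U.ι.stalkMap u).hom
  obtain ⟨hst, γ, hγ⟩ := Groth.Agent.Lib.Helper17.PbStalk.exists_isBaseChange_stalk U.ι F u
  rw [AssOpen.isAssPoint_iff_exists, AssOpen.isAssPoint_iff_exists]
  refine (AssOpen.exists_iff_of_semilinear (U.ι.stalkMap u).hom (stalkMap_bijective U u)
    γ.toAddMonoidHom (bijective_of_isBaseChange (stalkMap_bijective U u) γ hγ) ?_).symm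
  intro r n
  show γ (r • n) = (U.ι.stalkMap u).hom r • γ n
  rw [map_smul]
  exact (algebraMap_smul ((U : Scheme.{u}).presheaf.stalk u) r (γ n)).symm

end Groth.Agent.Lib.Helper1.RedOpen
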