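import Mathlib
import Groth.Prelude
import Groth.Agent.Lib.Helper1.RedOpen1
import Groth.Agent.Lib.Helper1.AssPrim1
import Groth.Agent.Lib.Helper17.AssPt

/-!
# Reducedness of a coherent module can be tested on a dense open of its support
-/

set_option autoImplicit false
set_option linter.style.haveILetI false
universe u
open CategoryTheory CategoryTheory.Limits AlgebraicGeometry TopologicalSpace Opposite

namespace Groth.Agent.Lib.Helper1.RedOpen

open Groth.Agent.Lib.Helper17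

variable {X : Scheme.{u}} [IsLocallyNoetherian X]

theorem mem_of_dense (U : X.Opens) (F : X.Modules) (hF : Coh.IsCoh F)
    (hdense : CohB1.support F ⊆ closure ((U : Set ↥X) ∩ CohB1.support F))
    (hne : AssSch.NoEmbedded F) (x : X) (hx : x ∈ AssSch.Ass F) : x ∈ U := by
  haveI := hF.1
  obtain ⟨V, hV, hxV⟩ : ∃ V : X.Opens, IsAffineOpen V ∧ x ∈ V := by
    obtain ⟨_, ⟨V, hV, rfl⟩, hxV, -⟩ :=
      X.isBasis_affineOpens.exists_subset_of_mem_open (Set.mem_univ x) isOpen_univ
    exact ⟨V, hV, hxV⟩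
  have hfin : ((AssSch.Ass F ∩ (V : Set X)) \ {x}).Finite :=
    (AssPrim.finite_ass_inter F hF hV).subset Set.diff_subset
  obtain ⟨C, hCdef⟩ : ∃ C : Set X, C = ⋃ y ∈ (AssSch.Ass F ∩ (V : Set X)) \ {x},
    closure ({y} : Set X) := ⟨_, rfl⟩
  have hC : IsClosed C := by
    rw [hCdef]
    exact hfin.isClosed_biUnion (fun y _ => isClosed_closure)
  have hxC : x ∉ C := by
    rw [hCdef]
    intro hx'
    simp only [Set.mem_iUnion] at hx'
    obtain ⟨y, hy, hxy⟩ := hx'
    have hsp : y ⤳ x := specializes_iff_mem_closure.mpr hxy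
    exact hy.2 (hne x hx y hy.1.1 hsp).symm
  have hxs : x ∈ CohB1.support F := by
    have := AssPt.nontrivial_stalk_of_isAssPoint F x hx
    exact not_subsingleton_iff_nontrivial.mpr this
  have hxcl := hdense hxs
  rw [mem_closure_iff] at hxcl
  obtain ⟨z, ⟨hzV, hzC⟩, hzU, hzs⟩ := hxcl ((V : Set X) ∩ Cᶜ) (V.2.inter hC.isOpen_compl)
    ⟨hxV, hxC⟩
  obtain ⟨y, hy, hyz⟩ := AssPt.exists_assPoint_specializes_of_nontrivial F z
    (not_subsingleton_iff_nontrivial.mp hzs)
  have hyV : y ∈ V := hyz.mem_open V.2 hzV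
  have hyx : y = x := by
    by_contra hyx
    apply hzC
    rw [hCdef]
    simp only [Set.mem_iUnion]
    exact ⟨y, ⟨⟨hy, hyV⟩, hyx⟩, specializes_iff_mem_closure.mp hyz⟩
  subst hyx
  exact hyz.mem_open U.2 hzU

theorem key4657 (U : X.Opens) (F : X.Modules)
    (hF : Coh.IsCoh F) (hdense : CohB1.support F ⊆ closure ((U : Set ↥X) ∩ CohB1.support F)) :
    AssSch.IsReducedMod F ↔
      AssSch.IsReducedMod ((Scheme.Modules.pullback U.ι).obj F) ∧ AssSch.NoEmbedded F := by
  haveI := hF.1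
  constructor
  · rintro ⟨hne, hlen⟩
    refine ⟨⟨?_, ?_⟩, hne⟩
    · intro u hu u' hu' hsp
      have h1 : U.ι u ∈ AssSch.Ass F := (isAssPoint_pullback_iff U F u).mp hu
      have h2 : U.ι u' ∈ AssSch.Ass F := (isAssPoint_pullback_iff U F u').mp hu'
      have h3 : U.ι u' ⤳ U.ι u := hsp.map U.ι.continuous
      exact U.ι.isOpenEmbedding.injective (hne _ h1 _ h2 h3)
    · intro u hu
      rw [length_pullback U F u]
      exact hlen _ ((isAssPoint_pullback_iff U F u).mp hu)
  · rintro ⟨⟨-, hlen'⟩, hne⟩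
    refine ⟨hne, fun x hx => ?_⟩
    have hxU : x ∈ U := mem_of_dense U F hF hdense hne x hx
    have hu : (⟨x, hxU⟩ : U) ∈ AssSch.Ass ((Scheme.Modules.pullback U.ι).obj F) :=
      (isAssPoint_pullback_iff U F ⟨x, hxU⟩).mpr hx
    have := hlen' ⟨x, hxU⟩ hu
    rw [length_pullback U F ⟨x, hxU⟩] at this
    exact this

end Groth.Agent.Lib.Helper1.RedOpen
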