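import Mathlib

open RingTheory.Sequence Polynomial
open scoped Pointwise

namespace Groth.Agent.Lib.Helper1.RegLoc

universe u

/-- `C h * X - 1` is a nonzerodivisor of `R[X]`. -/
lemma isSMulRegular_C_mul_X_sub_one {R : Type*} [CommRing R] (h : R) :
    IsSMulRegular R[X] (C h * X - 1 : R[X]) := by
  intro a b hab
  simp only [smul_eq_mul] at hab
  have h1 : ((C h * X - 1 : R[X]) : PowerSeries R) * (a : PowerSeries R) =
      ((C h * X - 1 : R[X]) : PowerSeries R) * (b : PowerSeries R) := by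
    rw [← Polynomial.coe_mul, ← Polynomial.coe_mul, hab]
  have hu : IsUnit ((C h * X - 1 : R[X]) : PowerSeries R) := by
    rw [PowerSeries.isUnit_iff_constantCoeff, Polynomial.constantCoeff_coe]
    simp
  exact Polynomial.coe_injective R (hu.mul_left_cancel h1)

/-- weak regularity transported along a surjective ring hom whose kernel is principal generated by
a nonzerodivisor. -/
lemma isWeaklyRegular_cons_of_surjective {Q L : Type*} [CommRing Q] [CommRing L]
    (φ : Q →+* L) (hφ : Function.Surjective φ) (P0 : Q) (hP0 : IsSMulRegular Q P0)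
    (hker : RingHom.ker φ = Ideal.span {P0}) (ps : List Q)
    (hreg : IsWeaklyRegular L (ps.map φ)) : IsWeaklyRegular Q (P0 :: ps) := by
  rw [isWeaklyRegular_cons_iff]
  refine ⟨hP0, ?_⟩
  let _ : Algebra Q L := φ.toAlgebra
  have hsurj : Function.Surjective (Algebra.linearMap Q L) := hφ
  have heq : (P0 • (⊤ : Submodule Q Q)) = LinearMap.ker (Algebra.linearMap Q L) := by
    ext x
    rw [LinearMap.mem_ker, Algebra.linearMap_apply, RingHom.algebraMap_toAlgebra,
      ← RingHom.mem_ker, hker, Ideal.mem_span_singleton', Submodule.mem_smul_pointwise_iff_exists]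
    constructor
    · rintro ⟨b, -, rfl⟩
      exact ⟨b, by rw [smul_eq_mul, mul_comm]⟩
    · rintro ⟨b, rfl⟩
      exact ⟨b, trivial, by rw [smul_eq_mul, mul_comm]⟩
  let ee : QuotSMulTop P0 Q ≃ₗ[Q] L :=
    (Submodule.quotEquivOfEq _ _ heq) ≪≫ₗ (LinearMap.quotKerEquivOfSurjective _ hsurj)
  rw [ee.isWeaklyRegular_congr]
  exact (isWeaklyRegular_map_algebraMap_iff L L ps).mp hreg

theorem exists_presentation' {A : Type u} [CommRing A] {R Q : Type u} [CommRing R] [CommRing Q]
    [Algebra A R] [Algebra A Q]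
    (e0 : Q ≃ₐ[A] R[X]) (I : Ideal R) (h : R)
    (L : Type u) [CommRing L] [Algebra R L] [IsLocalization.Away h L]
    (rs : List L) (hreg : IsWeaklyRegular L rs)
    (hI : Ideal.ofList rs = I.map (algebraMap R L))
    (hnt : Nontrivial (Localization.Away (Ideal.Quotient.mk I h))) :
    ∃ (Ps : List Q), IsRegular Q Ps ∧
      Nonempty (Localization.Away (Ideal.Quotient.mk I h) ≃ₐ[A] (Q ⧸ Ideal.ofList Ps)) := by
  set F : R[X] := C h * X - 1 with hF
  have : IsLocalization.Away h (AdjoinRoot F) := IsLocalization.adjoin_inv h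
  let ε : L ≃ₐ[R] AdjoinRoot F := IsLocalization.algEquiv (Submonoid.powers h) L (AdjoinRoot F)
  let φA : Q →ₐ[A] AdjoinRoot F := ((AdjoinRoot.mkₐ F).restrictScalars A).comp e0.toAlgHom
  let φ : Q →+* AdjoinRoot F := φA.toRingHom
  have hφapp : ∀ x, φ x = AdjoinRoot.mk F (e0 x) := fun x => rfl
  have hφsurj : Function.Surjective φ := (AdjoinRoot.mk_surjective (g := F)).comp e0.surjective
  obtain ⟨ps, hps⟩ := (List.map_surjective_iff.mpr hφsurj) (rs.map ε)
  let P0 : Q := e0.symm F
  have hP0 : IsSMulRegular Q P0 := by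
    intro a b hab
    apply e0.injective
    apply isSMulRegular_C_mul_X_sub_one h
    have := congrArg e0 hab
    simpa [P0, smul_eq_mul, map_mul] using this
  have hker : RingHom.ker φ = Ideal.span {P0} := by
    ext x
    rw [RingHom.mem_ker, hφapp, AdjoinRoot.mk_eq_zero, Ideal.mem_span_singleton]
    constructor
    · intro hd
      have := map_dvd e0.symm hd
      simpa [P0] using this
    · intro hd
      have := map_dvd e0 hd
      simpa [P0] using this
  have hreg' : IsWeaklyRegular (AdjoinRoot F) (ps.map φ) := by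
    rw [hps]
    refine (ε.toAddEquiv.isWeaklyRegular_congr ?_).mp hreg
    refine List.forall₂_map_right_iff.mpr (List.forall₂_same.mpr fun r _ x => ?_)
    simp
  have hweak : IsWeaklyRegular Q (P0 :: ps) :=
    isWeaklyRegular_cons_of_surjective φ hφsurj P0 hP0 hker ps hreg'
  -- the ideal
  set J : Ideal (AdjoinRoot F) := I.map (algebraMap R (AdjoinRoot F)) with hJ
  have hJ' : J = Ideal.map φ (Ideal.ofList ps) := by
    have h1 : Ideal.ofList (rs.map ε) = Ideal.map (ε : L →+* AdjoinRoot F) (Ideal.ofList rs) := by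
      rw [Ideal.map_ofList]; rfl
    rw [Ideal.map_ofList, hps, h1, hI, Ideal.map_map, hJ]
    congr 1
    exact (ε.toAlgHom.comp_algebraMap).symm
  let Ψ : Q →ₐ[A] (AdjoinRoot F ⧸ J) := (Ideal.Quotient.mkₐ A J).comp φA
  have hΨsurj : Function.Surjective Ψ := (Ideal.Quotient.mkₐ_surjective A J).comp hφsurj
  have hkerΨ : RingHom.ker Ψ = Ideal.ofList (P0 :: ps) := by
    have : RingHom.ker Ψ = Ideal.comap φ J := by
      ext x
      rw [RingHom.mem_ker, Ideal.mem_comap]
      show Ideal.Quotient.mk J (φ x) = 0 ↔ _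
      rw [Ideal.Quotient.eq_zero_iff_mem]
    rw [this, hJ', Ideal.comap_map_of_surjective φ hφsurj, Ideal.ofList_cons,
      ← RingHom.ker_eq_comap_bot, hker, sup_comm]
  have hloc : IsLocalization.Away (Ideal.Quotient.mk I h) (AdjoinRoot F ⧸ J) := by
    have := (inferInstance : IsLocalization (Algebra.algebraMapSubmonoid (R ⧸ I)
      (Submonoid.powers h)) (AdjoinRoot F ⧸ I.map (algebraMap R (AdjoinRoot F))))
    rwa [Algebra.algebraMapSubmonoid_powers] at this
  have : IsScalarTower A (R ⧸ I) (AdjoinRoot F ⧸ J) := by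
    refine IsScalarTower.of_algebraMap_eq fun a => ?_
    rw [← Ideal.Quotient.mk_algebraMap, ← Ideal.Quotient.mk_algebraMap A I,
      Ideal.Quotient.algebraMap_quotient_map_quotient, ← IsScalarTower.algebraMap_apply]
  let iso3 : Localization.Away (Ideal.Quotient.mk I h) ≃ₐ[R ⧸ I] (AdjoinRoot F ⧸ J) :=
    IsLocalization.algEquiv (Submonoid.powers (Ideal.Quotient.mk I h)) _ _
  have iso : Localization.Away (Ideal.Quotient.mk I h) ≃ₐ[A] (Q ⧸ Ideal.ofList (P0 :: ps)) :=
    (iso3.restrictScalars A).trans ((Ideal.quotientKerAlgEquivOfSurjective hΨsurj).symm.trans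
      (Ideal.quotientEquivAlgOfEq A hkerΨ))
  refine ⟨P0 :: ps, ⟨hweak, ?_⟩, ⟨iso⟩⟩
  have hnt' : Nontrivial (Q ⧸ Ideal.ofList (P0 :: ps)) := iso.symm.toEquiv.nontrivial
  rw [Ideal.Quotient.nontrivial_iff] at hnt'
  intro htop
  apply hnt'
  rw [Ideal.smul_eq_mul, Ideal.mul_top] at htop
  exact htop.symm

theorem exists_presentation {A : Type u} [CommRing A] (n : ℕ) (I : Ideal (MvPolynomial (Fin n) A))
    (h : MvPolynomial (Fin n) A)
    (L : Type u) [CommRing L] [Algebra (MvPolynomial (Fin n) A) L] [IsLocalization.Away h L]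
    (rs : List L) (hreg : IsWeaklyRegular L rs)
    (hI : Ideal.ofList rs = I.map (algebraMap _ L))
    (hnt : Nontrivial (Localization.Away (Ideal.Quotient.mk I h))) :
    ∃ (d : ℕ) (P : Fin d → MvPolynomial (Fin (n + 1)) A),
      IsRegular (MvPolynomial (Fin (n + 1)) A) (List.ofFn P) ∧
      Nonempty (Localization.Away (Ideal.Quotient.mk I h) ≃ₐ[A]
        (MvPolynomial (Fin (n + 1)) A ⧸ Ideal.ofList (List.ofFn P))) := by
  obtain ⟨Ps, h1, h2⟩ := exists_presentation' (MvPolynomial.finSuccEquiv A n) I h L rs hreg hI hnt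
  refine ⟨Ps.length, Ps.get, ?_, ?_⟩
  · rwa [List.ofFn_get]
  · rwa [List.ofFn_get]

end Groth.Agent.Lib.Helper1.RegLoc
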