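import Mathlib
import Groth.Prelude
import Groth.Agent.Lib.Helper1.RegLoc

open RingTheory.Sequence AlgebraicGeometry CategoryTheory Opposite TopologicalSpace Groth

namespace Groth.Agent.Lib.Helper1.RegLoc

universe u

theorem exists_localization_data {R : Type u} [CommRing R] (I : Ideal R)
    (h : RegImm.IsRegularImmersion RegImm.Kind.regular
      (Spec.map (CommRingCat.ofHom (Ideal.Quotient.mk I))))
    (q : PrimeSpectrum (R ⧸ I)) :
    ∃ (h0 : R), Ideal.Quotient.mk I h0 ∉ q.asIdeal ∧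
      ∃ (L : Type u) (_ : CommRing L) (_ : Algebra R L) (_ : IsLocalization.Away h0 L)
        (rs : List L), IsWeaklyRegular L rs ∧ Ideal.ofList rs = I.map (algebraMap R L) := by
  set X : Scheme.{u} := Spec (CommRingCat.of R) with hX
  set i : Spec (CommRingCat.of (R ⧸ I)) ⟶ X := Spec.map (CommRingCat.ofHom (Ideal.Quotient.mk I))
    with hi
  obtain ⟨U, hzU, hcl, rs, hrs, hker⟩ := h.2 q
  obtain ⟨_, ⟨h0, rfl⟩, hz0, h0U⟩ :=
    Opens.isBasis_iff_nbhd.mp (PrimeSpectrum.isBasis_basic_opens (R := R)) hzU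
  refine ⟨h0, ?_, ?_⟩
  · intro hmem
    exact hz0 hmem
  have : IsClosedImmersion i :=
    IsClosedImmersion.spec_of_surjective _ Ideal.Quotient.mk_surjective
  set D : X.Opens := PrimeSpectrum.basicOpen h0 with hD
  have hDeq : X.basicOpen ((Scheme.ΓSpecIso (CommRingCat.of R)).inv h0) = D :=
    basicOpen_eq_of_affine (R := CommRingCat.of R) h0
  have hDaff : IsAffineOpen D := by
    rw [← hDeq]; exact (isAffineOpen_top X).basicOpen _
  let Da : X.affineOpens := ⟨D, hDaff⟩
  let Ta : X.affineOpens := ⟨⊤, isAffineOpen_top X⟩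
  have k1 : (i.ker.ideal U).map (X.presheaf.map (homOfLE h0U).op).hom = i.ker.ideal Da :=
    i.ker.map_ideal (U := Da) (V := U) (show Da ≤ U from h0U)
  have k2 : (i.ker.ideal Ta).map (X.presheaf.map (homOfLE le_top).op).hom = i.ker.ideal Da :=
    i.ker.map_ideal (U := Da) (V := Ta) (show Da ≤ Ta from (le_top : D ≤ (⊤ : X.Opens)))
  have kU : i.ker.ideal U = RingHom.ker (i.app U.1).hom := Scheme.Hom.ker_apply i U
  have kT : i.ker.ideal Ta = RingHom.ker (i.app ⊤).hom := Scheme.Hom.ker_apply i Ta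
  letI algL : Algebra R Γ(X, D) :=
    StructureSheaf.openAlgebra R (op (PrimeSpectrum.basicOpen h0))
  have hloc : IsLocalization.Away h0 Γ(X, D) := StructureSheaf.IsLocalization.to_basicOpen R h0
  have halg : algebraMap R Γ(X, D) = ((Scheme.ΓSpecIso (CommRingCat.of R)).inv ≫
      X.presheaf.map (homOfLE (le_top : D ≤ ⊤)).op).hom :=
    congrArg CommRingCat.Hom.hom (Scheme.toOpen_eq (R := CommRingCat.of R) D)
  have hrs2 : IsRegular Γ(X, U.1) rs := hrs
  letI algU : Algebra Γ(X, U.1) Γ(X, D) := (X.presheaf.map (homOfLE h0U).op).hom.toAlgebra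
  set f' : Γ(X, U.1) := X.presheaf.map (homOfLE (le_top : U.1 ≤ ⊤)).op
    ((Scheme.ΓSpecIso (CommRingCat.of R)).inv h0) with hf'
  have hDeq' : D = X.basicOpen f' := by
    rw [hf', Scheme.basicOpen_res, hDeq]; exact (inf_eq_right.mpr h0U).symm
  have hlocU : IsLocalization.Away f' Γ(X, D) :=
    U.2.isLocalization_of_eq_basicOpen f' (homOfLE h0U) hDeq'
  have hflat : Module.Flat Γ(X, U.1) Γ(X, D) := IsLocalization.flat Γ(X, D) (Submonoid.powers f')
  have hrs' : IsWeaklyRegular Γ(X, D) (rs.map (algebraMap Γ(X, U.1) Γ(X, D))) :=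
    hrs2.toIsWeaklyRegular.of_flat
  refine ⟨Γ(X, D), inferInstance, algL, hloc, rs.map (algebraMap Γ(X, U.1) Γ(X, D)), hrs', ?_⟩
  rw [← Ideal.map_ofList, ← hker, ← kU]
  show Ideal.map (X.presheaf.map (homOfLE h0U).op).hom (i.ker.ideal U) = _
  rw [k1, ← k2, kT, halg, CommRingCat.hom_comp, ← Ideal.map_map]
  congr 1
  apply le_antisymm
  · intro y hy
    rw [RingHom.mem_ker] at hy
    have h1 : y = (Scheme.ΓSpecIso (CommRingCat.of R)).inv.hom
        ((Scheme.ΓSpecIso (CommRingCat.of R)).hom.hom y) := by simp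
    rw [h1]
    apply Ideal.mem_map_of_mem
    rw [← Ideal.Quotient.eq_zero_iff_mem]
    have nat := Scheme.ΓSpecIso_naturality (CommRingCat.ofHom (Ideal.Quotient.mk I))
    have h2 := congrArg (fun φ => φ.hom y) nat
    simp only [CommRingCat.hom_comp, RingHom.comp_apply, CommRingCat.hom_ofHom] at h2
    rw [← h2]
    show (Scheme.ΓSpecIso (CommRingCat.of (R ⧸ I))).hom.hom ((i.app ⊤).hom y) = 0
    rw [hy]; exact map_zero _
  · rw [Ideal.map_le_iff_le_comap]
    intro x hx
    rw [Ideal.mem_comap, RingHom.mem_ker]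
    have nat := Scheme.ΓSpecIso_inv_naturality (CommRingCat.ofHom (Ideal.Quotient.mk I))
    have h2 := congrArg (fun φ => φ.hom x) nat
    simp only [CommRingCat.hom_comp, RingHom.comp_apply, CommRingCat.hom_ofHom] at h2
    show (i.app ⊤).hom ((Scheme.ΓSpecIso (CommRingCat.of R)).inv.hom x) = 0
    have h3 : (Ideal.Quotient.mk I) x = 0 := Ideal.Quotient.eq_zero_iff_mem.mpr hx
    rw [h3] at h2
    exact h2.symm.trans (map_zero _)

end Groth.Agent.Lib.Helper1.RegLoc
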