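import Mathlib
import Groth.Prelude
import Groth.Agent.Lib.Helper13.LocallyZero

/-!
# Stalks of higher direct images vanish when cohomology vanishes on a neighbourhood basis (helper1)
-/
set_option autoImplicit false
universe u
open CategoryTheory CategoryTheory.Limits Opposite TopologicalSpace

noncomputable section

namespace Groth.Agent.Lib.Helper1.RpushStalk

open Groth.Agent.Lib.Helper13

/-- the stalk at `y` of the sheafification of a presheaf `P` is zero if every section of `P` over a
neighbourhood of `y` restricts to zero on a smaller neighbourhood of `y`. -/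
theorem isZero_stalk_sheafify {Y : TopCat.{u}} (P : (Opens Y)ᵒᵖ ⥤ AddCommGrpCat.{u}) (y : Y)
    (h : ∀ (V : Opens Y) (_ : y ∈ V) (s : P.obj (op V)), ∃ (W : Opens Y) (hW : W ≤ V), y ∈ W ∧
      (P.map (homOfLE hW).op).hom s = 0) :
    IsZero (TopCat.Presheaf.stalk (C := AddCommGrpCat.{u})
      ((presheafToSheaf (Opens.grothendieckTopology Y) AddCommGrpCat.{u}).obj P).obj y) := by
  set G := (presheafToSheaf (Opens.grothendieckTopology Y) AddCommGrpCat.{u}).obj P with hG
  haveI : Subsingleton (TopCat.Presheaf.stalk (C := AddCommGrpCat.{u}) G.obj y) := by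
    refine ⟨fun a b => ?_⟩
    have hz : ∀ a : TopCat.Presheaf.stalk (C := AddCommGrpCat.{u}) G.obj y, a = 0 := by
      intro a
      obtain ⟨V, hyV, s, rfl⟩ := TopCat.Presheaf.germ_exist (C := AddCommGrpCat.{u}) G.obj (x := y) a
      have hmem := Presheaf.imageSieve_mem (Opens.grothendieckTopology Y)
        (toSheafify (Opens.grothendieckTopology Y) P) (U := op V) s
      obtain ⟨W, g, ⟨t, ht⟩, hyW⟩ := hmem y hyV
      obtain ⟨W', hW', hyW', h0⟩ := h W hyW t
      have hW'V : W' ≤ V := hW'.trans g.le
      rw [← TopCat.Presheaf.germ_res_apply G.obj (homOfLE hW'V) y hyW' s]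
      have hg : (homOfLE hW'V) = homOfLE hW' ≫ g := Subsingleton.elim _ _
      have h1 : (G.obj.map (homOfLE hW'V).op).hom s = 0 := by
        rw [hg, op_comp, Functor.map_comp]
        change (G.obj.map (homOfLE hW').op).hom ((G.obj.map g.op).hom s) = 0
        have ht' : (G.obj.map g.op).hom s =
            ((toSheafify (Opens.grothendieckTopology Y) P).app (op W)).hom t := ht.symm
        rw [ht']
        have hn := ConcreteCategory.congr_hom
          ((toSheafify (Opens.grothendieckTopology Y) P).naturality (homOfLE hW').op) t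
        refine hn.symm.trans ?_
        change ((toSheafify (Opens.grothendieckTopology Y) P).app (op W')).hom
          ((P.map (homOfLE hW').op).hom t) = 0
        rw [h0, map_zero]
      change (TopCat.Presheaf.germ G.obj W' y hyW').hom ((G.obj.map (homOfLE hW'V).op).hom s) = 0
      rw [h1, map_zero]
    rw [hz a, hz b]
  exact AddCommGrpCat.isZero_of_subsingleton _

/-- the stalk of `R^i f_* F` at `y` vanishes if `H^i(f⁻¹W, F) = 0` for a neighbourhood basis of
`y`. -/
theorem isZero_stalk_Rpush {X Y : TopCat.{u}} (f : X ⟶ Y) (F : CohTop.Ab X) (i : ℕ) (y : Y)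
    (B : Set (Opens Y)) (hB : ∀ V : Opens Y, y ∈ V → ∃ W ∈ B, y ∈ W ∧ W ≤ V)
    (h : ∀ V ∈ B, Subsingleton (CohTop.HU F i ((Opens.map f).obj V))) :
    IsZero (TopCat.Presheaf.stalk (C := AddCommGrpCat.{u}) ((CohTop.Rpush f i).obj F).obj y) := by
  have e := DerivedPush.RpushIso (Opens.grothendieckTopology X)
    (Opens.grothendieckTopology Y) (Opens.map f) F i
  have e' : TopCat.Presheaf.stalk (C := AddCommGrpCat.{u}) ((CohTop.Rpush f i).obj F).obj y ≅
      TopCat.Presheaf.stalk (C := AddCommGrpCat.{u})
        ((presheafToSheaf (Opens.grothendieckTopology Y) AddCommGrpCat.{u}).obj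
          ((Opens.map f).op ⋙ F.cohomologyPresheaf i)).obj y :=
    (TopCat.Presheaf.stalkFunctor AddCommGrpCat.{u} y).mapIso
      ((sheafToPresheaf _ _).mapIso e)
  refine IsZero.of_iso ?_ e'
  apply isZero_stalk_sheafify
  intro V hyV s
  obtain ⟨W, hWB, hyW, hWV⟩ := hB V hyV
  refine ⟨W, hWV, hyW, ?_⟩
  haveI := h W hWB
  exact Subsingleton.elim _ _

end Groth.Agent.Lib.Helper1.RpushStalk
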