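import Mathlib
import Groth.Prelude
import Groth.Agent.Lib.Helper26.SchDominant
/-!
# Sub-lemmas H8 + H10 for helper9 (S13113, sections descend along proper surjective maps
onto a seminormal scheme): the image of `(π, s) : Y ⟶ 𝔸¹_X` has rational points over `π y`, and the
two projections `Y ×_X Y ⇉ Y` agree after mapping to that image.
-/
set_option autoImplicit false
universe u
open CategoryTheory CategoryTheory.Limits AlgebraicGeometry TopologicalSpace
open scoped TensorProduct

namespace Groth.Agent.Lib.Helper1.SemiNormH8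

lemma fromSpecResidueField_appTop {Y : Scheme.{u}} (y : Y) :
    (Y.fromSpecResidueField y).appTop = Y.Γevaluation y ≫ (Scheme.ΓSpecIso _).inv := by
  rw [Scheme.fromSpecResidueField, Scheme.Hom.comp_appTop, Scheme.fromSpecStalk_appTop]
  have : (homOfLE (le_top : (⊤ : (Spec (Y.presheaf.stalk y)).Opens) ≤ ⊤)).op = 𝟙 _ := rfl
  rw [this, CategoryTheory.Functor.map_id, Category.comp_id, Category.assoc,
    ← Scheme.ΓSpecIso_inv_naturality]
  rfl

theorem exists_lift_image {X Y : Scheme.{u}} (π : Y ⟶ X) (s : Γ(Y, ⊤)) (y : Y) (c : X.residueField (π y)) (hc : (π.residueFieldMap y).hom c = (Y.Γevaluation y).hom s) : ∃ l : Spec (X.residueField (π y)) ⟶ (AffineSpace.homOfVector π (fun _ : PUnit.{u+1} => s)).image, l ≫ (AffineSpace.homOfVector π (fun _ : PUnit.{u+1} => s)).imageι ≫ (𝔸(PUnit.{u+1}; X) ↘ X) = X.fromSpecResidueField (π y) := by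
  have hover : AffineSpace.homOfVector π (fun _ : PUnit.{u+1} => s) ≫ (𝔸(PUnit.{u+1}; X) ↘ X) = π :=
    AffineSpace.homOfVector_over _ _
  have hcoord : ∀ i, (AffineSpace.homOfVector π (fun _ : PUnit.{u+1} => s)).appTop
      (AffineSpace.coord X i) = s := fun i => AffineSpace.homOfVector_appTop_coord _ _ i
  generalize AffineSpace.homOfVector π (fun _ : PUnit.{u+1} => s) = a at hover hcoord ⊢
  let l₀ : Spec (X.residueField (π y)) ⟶ 𝔸(PUnit.{u+1}; X) :=
    AffineSpace.homOfVector (X.fromSpecResidueField (π y))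
      (fun _ => (Scheme.ΓSpecIso _).inv c)
  have hl₀ : l₀ ≫ (𝔸(PUnit.{u+1}; X) ↘ X) = X.fromSpecResidueField (π y) :=
    AffineSpace.homOfVector_over _ _
  have hj : Spec.map (π.residueFieldMap y) ≫ l₀ = Y.fromSpecResidueField y ≫ a := by
    apply AffineSpace.hom_ext
    · rw [Category.assoc, Category.assoc, hl₀, hover,
        Scheme.Hom.SpecMap_residueFieldMap_fromSpecResidueField]
    · intro i
      rw [Scheme.Hom.comp_appTop, Scheme.Hom.comp_appTop]
      simp only [CommRingCat.hom_comp, RingHom.coe_comp, Function.comp_apply]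
      rw [hcoord i]
      have h1 : l₀.appTop (AffineSpace.coord X i) = (Scheme.ΓSpecIso _).inv c :=
        AffineSpace.homOfVector_appTop_coord _ _ i
      rw [h1, fromSpecResidueField_appTop]
      simp only [CommRingCat.hom_comp, RingHom.coe_comp, Function.comp_apply]
      rw [← hc]
      have h2 := congr($(Scheme.ΓSpecIso_inv_naturality (π.residueFieldMap y)).hom c)
      simp only [CommRingCat.hom_comp, RingHom.coe_comp, Function.comp_apply] at h2
      exact h2.symm
  have hdom : IsSchemeTheoreticallyDominant (Spec.map (π.residueFieldMap y)) :=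
    Groth.Agent.Lib.Helper26.SchDominant.isSchemeTheoreticallyDominant_SpecMap _
      (RingHom.injective _)
  have hker : a.imageι.ker ≤ l₀.ker := by
    rw [Scheme.Hom.imageι, Scheme.IdealSheafData.ker_subschemeι]
    have h1 : l₀.ker = (Spec.map (π.residueFieldMap y) ≫ l₀).ker := by
      rw [Scheme.Hom.ker_comp, (Spec.map (π.residueFieldMap y)).ker_eq_bot,
        Scheme.IdealSheafData.map_bot]
    rw [h1, hj]
    exact Scheme.Hom.le_ker_comp _ _
  refine ⟨IsClosedImmersion.lift a.imageι l₀ hker, ?_⟩
  rw [IsClosedImmersion.lift_fac_assoc, hl₀]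

theorem fst_comp_toImage_eq {X Y : Scheme.{u}} (π : Y ⟶ X) (s : Γ(Y, ⊤)) (hs : (pullback.fst π π).appTop s = (pullback.snd π π).appTop s) : pullback.fst π π ≫ (AffineSpace.homOfVector π (fun _ : PUnit.{u+1} => s)).toImage = pullback.snd π π ≫ (AffineSpace.homOfVector π (fun _ : PUnit.{u+1} => s)).toImage := by
  rw [← cancel_mono (AffineSpace.homOfVector π (fun _ : PUnit.{u+1} => s)).imageι]
  simp only [Category.assoc, Scheme.Hom.toImage_imageι]
  apply AffineSpace.hom_ext
  · simp [pullback.condition]
  · intro i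
    rw [Scheme.Hom.comp_appTop, Scheme.Hom.comp_appTop]
    simp only [CommRingCat.hom_comp, RingHom.coe_comp, Function.comp_apply,
      AffineSpace.homOfVector_appTop_coord]
    exact hs

end Groth.Agent.Lib.Helper1.SemiNormH8
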