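import Mathlib
import Groth.Agent.Lib.Helper17.DevEngine
import Groth.Agent.Lib.Helper17.DevKey
import Groth.Agent.Lib.Helper17.DevTest
import Groth.Agent.Lib.Helper10.SerreK0

/-!
# Serre classes of coherent modules on a Noetherian scheme are determined by supports
-/

set_option autoImplicit false
set_option linter.style.haveILetI false
universe u
open CategoryTheory CategoryTheory.Limits AlgebraicGeometry Opposite

namespace Groth.Agent.Lib.Helper1.SerreDev

open Groth.Agent.Lib.Helper17 H10K0 Groth.Agent.Lib.Helper17.DevBasic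
  Groth.Agent.Lib.Helper17.DevTF Groth.Agent.Lib.Helper17.StalkExact
  Groth.Agent.Lib.Helper17.DevGM Groth.Agent.Lib.Helper17.DevKey

/-- a surjection from a nonzero finite module over a local ring onto a simple module. -/
theorem exists_surjective_of_simple {R : Type*} [CommRing R] [IsLocalRing R] {M A : Type*}
    [AddCommGroup M] [Module R M] [AddCommGroup A] [Module R A] [Module.Finite R M] [Nontrivial M]
    [IsSimpleModule R A] : ∃ ψ : M →ₗ[R] A, Function.Surjective ψ := by
  obtain ⟨N, hN⟩ := IsCoatomic.exists_coatom (Submodule R M)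
  haveI : IsSimpleModule R (M ⧸ N) := isSimpleModule_iff_isCoatom.mpr hN
  obtain ⟨I, hI, ⟨e⟩⟩ := isSimpleModule_iff_quot_maximal.mp (show IsSimpleModule R (M ⧸ N) from inferInstance)
  obtain ⟨I', hI', ⟨e'⟩⟩ := isSimpleModule_iff_quot_maximal.mp (show IsSimpleModule R A from inferInstance)
  have h1 : I = IsLocalRing.maximalIdeal R := IsLocalRing.eq_maximalIdeal hI
  have h2 : I' = IsLocalRing.maximalIdeal R := IsLocalRing.eq_maximalIdeal hI'
  subst h1
  subst h2
  refine ⟨(e'.symm.toLinearMap.comp e.toLinearMap).comp N.mkQ, ?_⟩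
  intro a
  obtain ⟨m, hm⟩ := N.mkQ_surjective (e.symm (e' a))
  refine ⟨m, ?_⟩
  simp [hm]

variable {X : Scheme.{u}}

/-- Serre classes on coherent modules. -/
def IsSerre (P : ObjectProperty X.Modules) : Prop :=
  ∀ S : ShortComplex X.Modules, S.ShortExact → Coh.IsCoh S.X₁ → Coh.IsCoh S.X₂ →
    Coh.IsCoh S.X₃ → (P S.X₂ ↔ P S.X₁ ∧ P S.X₃)

theorem ses_zero (F : X.Modules) {N : X.Modules} (hN : IsZero N) :
    (ShortComplex.mk (𝟙 F) (0 : F ⟶ N) comp_zero).ShortExact := by
  refine ShortComplex.ShortExact.mk' ?_ (by dsimp; infer_instance) ?_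
  · exact (ShortComplex.exact_iff_epi _ rfl).2 (by dsimp; infer_instance)
  · exact ⟨fun g h _ => hN.eq_of_src g h⟩

variable {P : ObjectProperty X.Modules}

theorem IsSerre.of_isZero (hP : IsSerre P) {F : X.Modules} (hF : Coh.IsCoh F) (hPF : P F)
    {N : X.Modules} (hN : IsZero N) : P N :=
  ((hP _ (ses_zero F hN) hF hF (isCoh_of_isZero hN)).mp hPF).2

theorem IsSerre.of_iso (hP : IsSerre P) {M N : X.Modules} (e : M ≅ N) (hM : Coh.IsCoh M)
    (hPM : P M) : P N := by
  have hN : Coh.IsCoh N := isCoh_of_iso e hM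
  have hz : IsZero (cokernel e.hom) := isZero_cokernel_of_epi e.hom
  exact (hP _ (ses_of_iso e) hM hN (isCoh_of_isZero hz)).mpr ⟨hPM, hP.of_isZero hM hPM hz⟩

theorem IsSerre.of_mono [IsLocallyNoetherian X] (hP : IsSerre P) {A B : X.Modules} (f : A ⟶ B) [Mono f]
    (hA : Coh.IsCoh A) (hB : Coh.IsCoh B) (hPB : P B) : P A :=
  ((hP _ (shortExact_of_mono f) hA hB (isCoh_cokernel f hA.1 hB)).mp hPB).1

theorem IsSerre.of_epi [IsLocallyNoetherian X] (hP : IsSerre P) {A B : X.Modules} (f : A ⟶ B) [Epi f]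
    (hA : Coh.IsCoh A) (hB : Coh.IsCoh B) (hPA : P A) : P B := by
  haveI := hB.1
  exact ((hP _ (shortExact_of_epi f) (isCoh_kernel f hA hB.1) hA hB).mp hPA).2

/-- **reverse key step**: from `P F` and a generic surjection `F_y ↠ A_y`, deduce `P A`. -/
theorem revSurj [IsNoetherian X] (hP : IsSerre P) (Z : Set X) (y : X)
    (IH : ∀ F' : X.Modules, Coh.IsCoh F' → CohB1.support F' ⊆ Z → y ∉ CohB1.support F' → P F')
    (A : X.Modules) (hA : Coh.IsCoh A) (hAs : CohB1.support A ⊆ Z)
    (F : X.Modules) (hF : Coh.IsCoh F) (hPF : P F)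
    (ψ : F.presheaf.stalk y →ₗ[X.presheaf.stalk y] A.presheaf.stalk y)
    (hψ : Function.Surjective ψ) : P A := by
  obtain ⟨D⟩ := exists_gmData F A hF hA y ψ
  haveI := D.mono_ι
  haveI := hF.1
  haveI := hA.1
  have hT : Coh.IsCoh (tors D.V A) := isCoh_tors D.V A hA
  have hAbar : Coh.IsCoh (tf D.V A) := isCoh_tf D.V A hA
  haveI := hAbar.1
  have hG' : Coh.IsCoh D.G' := isCoh_of_mono D.ι D.qc hF
  haveI := hG'.1
  have hK : Coh.IsCoh (kernel D.φ') := isCoh_kernel D.φ' hG' hAbar.1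
  haveI := hK.1
  have hI : Coh.IsCoh (cokernel (kernel.ι D.φ')) := isCoh_cokernel _ hK.1 hG'
  let m : cokernel (kernel.ι D.φ') ⟶ tf D.V A := Abelian.factorThruCoimage D.φ'
  haveI : Mono m := inferInstanceAs (Mono (Abelian.factorThruCoimage D.φ'))
  have hC : Coh.IsCoh (cokernel m) := isCoh_cokernel m hI.1 hAbar
  have sT : CohB1.support (tors D.V A) ⊆ Z := (support_subset_of_mono (kernel.ι _)).trans hAs
  have sAbar : CohB1.support (tf D.V A) ⊆ Z := (support_subset_of_epi (cokernel.π _)).trans hAs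
  have sC : CohB1.support (cokernel m) ⊆ Z := (support_subset_of_epi (cokernel.π _)).trans sAbar
  have yT : y ∉ CohB1.support (tors D.V A) := notMem_support_tors D.V A y D.hy
  have yC : y ∉ CohB1.support (cokernel m) := by
    apply notMem_support_cokernel m y
    intro b
    obtain ⟨g, rfl⟩ := D.stalkLin_φ'_surjective hψ b
    refine ⟨stalkLin (cokernel.π (kernel.ι D.φ')) y g, ?_⟩
    rw [← stalkLin_comp_apply]
    exact stalkLin_congr (cokernel.π_desc _ _ _) y g
  have pG' : P D.G' := hP.of_mono D.ι hG' hF hPF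
  have pI : P (cokernel (kernel.ι D.φ')) := hP.of_epi (cokernel.π (kernel.ι D.φ')) hG' hI pG'
  have pAbar : P (tf D.V A) :=
    (hP _ (shortExact_of_mono m) hI hAbar hC).mpr ⟨pI, IH _ hC sC yC⟩
  exact (hP _ (shortExact_tf D.V A) hT hA hAbar).mpr ⟨IH _ hT sT yT, pAbar⟩

/-- **A Serre class of coherent modules containing `F` contains every coherent module with
support in `Supp F`.** -/
theorem core [IsNoetherian X] (hP : IsSerre P) (F : X.Modules) (hF : Coh.IsCoh F) (hPF : P F)
    (M : X.Modules) (hM : Coh.IsCoh M) (hs : CohB1.support M ⊆ CohB1.support F) : P M := by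
  have h23 : ∀ S : ShortComplex X.Modules, S.ShortExact → Coh.IsCoh S.X₁ → Coh.IsCoh S.X₂ →
      Coh.IsCoh S.X₃ → CohB1.support S.X₂ ⊆ CohB1.support F →
      (P S.X₁ → P S.X₂ → P S.X₃) ∧ (P S.X₁ → P S.X₃ → P S.X₂) ∧ (P S.X₂ → P S.X₃ → P S.X₁) := by
    intro S hS h1 h2 h3 _
    have he := hP S hS h1 h2 h3
    exact ⟨fun _ p2 => (he.mp p2).2, fun p1 p3 => he.mpr ⟨p1, p3⟩, fun p2 _ => (he.mp p2).1⟩
  refine DevEngine.engine X (fun M => Coh.IsCoh M → P M) ?_ (CohB1.support F) ?_ ?_ ?_ M hM hs hM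
  · rintro M N ⟨e⟩ hM hN
    have hM' : Coh.IsCoh M := isCoh_of_iso e.symm hN
    exact hP.of_iso e hM' (hM hM')
  · intro M hz _
    exact hP.of_isZero hF hPF hz
  · intro S hS h1 h2 h3 _ p1 p3 _
    exact (hP S hS h1 h2 h3).mpr ⟨p1 h1, p3 h3⟩
  intro Z hZ hirr hZY IH G hG hGs _ _
  obtain ⟨y, hy⟩ := QuasiSober.sober hirr hZ
  have hy' : closure {y} = ((⟨Z, hZ⟩ : TopologicalSpace.Closeds X) : Set X) := hy
  have hyZ : y ∈ Z := by
    have : y ∈ closure ({y} : Set X) := subset_closure (Set.mem_singleton y)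
    rw [hy'] at this
    exact this
  have hgenZ : ∀ x ∈ Z, y ⤳ x := fun x hx => specializes_iff_mem_closure.mpr (by
    rw [hy']; exact hx)
  have IH' : ∀ F' : X.Modules, Coh.IsCoh F' → CohB1.support F' ⊆ Z → y ∉ CohB1.support F' →
      P F' := fun F' hF' hs' hyF' => IH F' hF' hs' (fun heq => hyF' (heq ▸ hyZ)) hF'
  set J := Scheme.IdealSheafData.vanishingIdeal (⟨Z, hZ⟩ : TopologicalSpace.Closeds X) with hJ
  have hAs : CohB1.support (DevTest.A J) ⊆ Z := by
    rw [DevTest.support_A, hJ, Scheme.IdealSheafData.coe_support_vanishingIdeal]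
    rfl
  have pA : P (DevTest.A J) := by
    haveI := hF.1
    haveI := hF.2
    haveI : Nontrivial (F.presheaf.stalk y) := not_subsingleton_iff_nontrivial.mp (hZY hyZ)
    haveI := CohStalk.finite_stalk F y
    haveI := DevTest.isSimpleModule_stalk_A ⟨Z, hZ⟩ y hy'
    obtain ⟨ψ, hψ⟩ := exists_surjective_of_simple (R := X.presheaf.stalk y)
      (M := F.presheaf.stalk y) (A := (DevTest.A J).presheaf.stalk y)
    exact revSurj hP Z y IH' (DevTest.A J) (DevTest.isCoh_A J) hAs F hF hPF ψ hψ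
  exact DevKey.key23 P (CohB1.support F) h23 Z hZY y hgenZ IH' (DevTest.A J) (DevTest.isCoh_A J)
    hAs pA (DevTest.length_stalk_A ⟨Z, hZ⟩ y hy') G hG hGs

/-- `Supp ⊆ T` is a Serre class. -/
theorem isSerre_support (T : Set X) : IsSerre (fun M : X.Modules => CohB1.support M ⊆ T) := by
  intro S hS _ _ _
  haveI := hS.mono_f
  haveI := hS.epi_g
  constructor
  · intro h
    exact ⟨(support_subset_of_mono S.f).trans h, (support_subset_of_epi S.g).trans h⟩
  · rintro ⟨h1, h3⟩
    exact (support_subset_union S hS).trans (Set.union_subset h1 h3)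

/-- `x ∉ Supp` is a Serre class. -/
theorem isSerre_notMem (x : X) : IsSerre (fun M : X.Modules => x ∉ CohB1.support M) := by
  intro S hS _ _ _
  haveI := hS.mono_f
  haveI := hS.epi_g
  constructor
  · intro h
    exact ⟨fun h1 => h (support_subset_of_mono S.f h1), fun h3 => h (support_subset_of_epi S.g h3)⟩
  · rintro ⟨h1, h3⟩ h2
    rcases support_subset_union S hS h2 with h | h
    · exact h1 h
    · exact h3 h

theorem key13986 [IsNoetherian X] (F E : X.Modules) (hF : Coh.IsCoh F) (hE : Coh.IsCoh E) :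
    (∀ P : ObjectProperty X.Modules, P F →
      (∀ S : ShortComplex X.Modules, S.ShortExact → Coh.IsCoh S.X₁ → Coh.IsCoh S.X₂ →
        Coh.IsCoh S.X₃ → (P S.X₂ ↔ P S.X₁ ∧ P S.X₃)) → P E) ↔
    CohB1.support E ⊆ CohB1.support F := by
  constructor
  · intro h
    exact h (fun M : X.Modules => CohB1.support M ⊆ CohB1.support F) le_rfl
      (isSerre_support (CohB1.support F))
  · intro hs P hPF hP
    exact core hP F hF hPF E hE hs

end Groth.Agent.Lib.Helper1.SerreDev
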