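import Mathlib
import Groth.Agent.Lib.Helper1.SerreDev

/-!
# Closed subsets vs Serre subcategories of finite type of Coh(X)
-/

set_option autoImplicit false
set_option linter.style.haveILetI false
universe u
open CategoryTheory CategoryTheory.Limits AlgebraicGeometry Opposite

namespace Groth.Agent.Lib.Helper1.SerreDev

open Groth.Agent.Lib.Helper17 Groth.Agent.Lib.Helper17.DevBasic

variable {X : Scheme.{u}}

theorem support_A_vanishing [IsNoetherian X] (Z : TopologicalSpace.Closeds X) :
    CohB1.support (DevTest.A (Scheme.IdealSheafData.vanishingIdeal Z)) = (Z : Set X) := by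
  rw [DevTest.support_A, Scheme.IdealSheafData.coe_support_vanishingIdeal]

theorem isClosed_support [IsNoetherian X] (M : X.Modules) (hM : Coh.IsCoh M) :
    IsClosed (CohB1.support M) := Groth.Agent.S0020.result X M hM.2

theorem key13990 (X : Scheme.{u}) [IsNoetherian X] :
    (∀ Z : TopologicalSpace.Closeds X,
      (∀ S : ShortComplex X.Modules, S.ShortExact → Coh.IsCoh S.X₁ → Coh.IsCoh S.X₂ →
          Coh.IsCoh S.X₃ → (CohB1.support S.X₂ ⊆ (↑Z : Set X) ↔
            CohB1.support S.X₁ ⊆ (↑Z : Set X) ∧ CohB1.support S.X₃ ⊆ (↑Z : Set X))) ∧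
      ∃ F : X.Modules, Coh.IsCoh F ∧ CohB1.support F ⊆ (↑Z : Set X) ∧
        ∀ Q : ObjectProperty X.Modules, (∀ S : ShortComplex X.Modules, S.ShortExact → Coh.IsCoh S.X₁ → Coh.IsCoh S.X₂ →
          Coh.IsCoh S.X₃ → (Q S.X₂ ↔ Q S.X₁ ∧ Q S.X₃)) → Q F →
          ∀ M : X.Modules, Coh.IsCoh M → CohB1.support M ⊆ (↑Z : Set X) → Q M) ∧
    (∀ P : ObjectProperty X.Modules, (∀ S : ShortComplex X.Modules, S.ShortExact → Coh.IsCoh S.X₁ → Coh.IsCoh S.X₂ →
          Coh.IsCoh S.X₃ → (P S.X₂ ↔ P S.X₁ ∧ P S.X₃)) →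
      (∃ F : X.Modules, Coh.IsCoh F ∧ P F ∧
        ∀ Q : ObjectProperty X.Modules, (∀ S : ShortComplex X.Modules, S.ShortExact → Coh.IsCoh S.X₁ → Coh.IsCoh S.X₂ →
          Coh.IsCoh S.X₃ → (Q S.X₂ ↔ Q S.X₁ ∧ Q S.X₃)) → Q F →
          ∀ M : X.Modules, Coh.IsCoh M → P M → Q M) →
      ∃! Z : TopologicalSpace.Closeds X, ∀ M : X.Modules, Coh.IsCoh M →
        (P M ↔ CohB1.support M ⊆ (↑Z : Set X))) := by
  constructor
  · intro Z
    refine ⟨isSerre_support (Z : Set X), DevTest.A (Scheme.IdealSheafData.vanishingIdeal Z),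
      DevTest.isCoh_A _, (support_A_vanishing Z).le, ?_⟩
    intro Q hQ hQF M hM hs
    refine core hQ _ (DevTest.isCoh_A _) hQF M hM ?_
    rw [support_A_vanishing]
    exact hs
  · intro P hP ⟨F, hF, hPF, hgen⟩
    refine ⟨⟨CohB1.support F, isClosed_support F hF⟩, ?_, ?_⟩
    · intro M hM
      constructor
      · intro hPM
        exact hgen (fun M : X.Modules => CohB1.support M ⊆ CohB1.support F)
          (isSerre_support (CohB1.support F)) le_rfl M hM hPM
      · intro hs
        exact core hP F hF hPF M hM hs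
    · intro Z' hZ'
      apply TopologicalSpace.Closeds.ext
      apply Set.Subset.antisymm
      · have h1 : P (DevTest.A (Scheme.IdealSheafData.vanishingIdeal Z')) :=
          (hZ' _ (DevTest.isCoh_A _)).mpr (support_A_vanishing Z').le
        have h2 := hgen (fun M : X.Modules => CohB1.support M ⊆ CohB1.support F)
          (isSerre_support (CohB1.support F)) le_rfl _ (DevTest.isCoh_A _) h1
        rw [support_A_vanishing] at h2
        exact h2
      · exact (hZ' F hF).mp hPF

end Groth.Agent.Lib.Helper1.SerreDev
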