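import Mathlib
import Groth.Agent.Lib.Helper1.SerreDev2
import Groth.Agent.Lib.Helper17.DevPow

/-!
# Irreducible closed subsets vs irreducible Serre subcategories of Coh(X)
-/

set_option autoImplicit false
set_option linter.style.haveILetI false
universe u
open CategoryTheory CategoryTheory.Limits AlgebraicGeometry Opposite

namespace Groth.Agent.Lib.Helper1.SerreDev

open Groth.Agent.Lib.Helper17 Groth.Agent.Lib.Helper17.DevBasic

variable {X : Scheme.{u}}

/-- for preirreducible `Z`, `¬ Z ⊆ Supp` is a Serre class. -/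
theorem isSerre_not_subset [IsNoetherian X] (Z : Set X) (hZ : IsPreirreducible Z) :
    IsSerre (fun M : X.Modules => ¬ Z ⊆ CohB1.support M) := by
  intro S hS h1 _ h3
  haveI := hS.mono_f
  haveI := hS.epi_g
  constructor
  · intro h
    exact ⟨fun h1 => h (h1.trans (support_subset_of_mono S.f)),
      fun h3 => h (h3.trans (support_subset_of_epi S.g))⟩
  · rintro ⟨n1, n3⟩ h2
    rcases isPreirreducible_iff_isClosed_union_isClosed.mp hZ _ _ (isClosed_support _ h1)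
      (isClosed_support _ h3) (h2.trans (support_subset_union S hS)) with h | h
    · exact n1 h
    · exact n3 h

theorem key13991 (X : Scheme.{u}) [IsNoetherian X]
    (Z : TopologicalSpace.Closeds X) :
    IsPreirreducible (↑Z : Set X) ↔
    ∀ J₁ J₂ : ObjectProperty X.Modules, (∀ S : ShortComplex X.Modules, S.ShortExact → Coh.IsCoh S.X₁ → Coh.IsCoh S.X₂ →
        Coh.IsCoh S.X₃ → (J₁ S.X₂ ↔ J₁ S.X₁ ∧ J₁ S.X₃)) → (∀ S : ShortComplex X.Modules, S.ShortExact → Coh.IsCoh S.X₁ → Coh.IsCoh S.X₂ →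
        Coh.IsCoh S.X₃ → (J₂ S.X₂ ↔ J₂ S.X₁ ∧ J₂ S.X₃)) →
      (∀ M : X.Modules, Coh.IsCoh M → J₁ M → CohB1.support M ⊆ (↑Z : Set X)) →
      (∀ M : X.Modules, Coh.IsCoh M → J₂ M → CohB1.support M ⊆ (↑Z : Set X)) →
      (∀ Q : ObjectProperty X.Modules, (∀ S : ShortComplex X.Modules, S.ShortExact → Coh.IsCoh S.X₁ → Coh.IsCoh S.X₂ →
        Coh.IsCoh S.X₃ → (Q S.X₂ ↔ Q S.X₁ ∧ Q S.X₃)) →
        (∀ M : X.Modules, Coh.IsCoh M → J₁ M → Q M) → (∀ M : X.Modules, Coh.IsCoh M → J₂ M → Q M) →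
        ∀ M : X.Modules, Coh.IsCoh M → CohB1.support M ⊆ (↑Z : Set X) → Q M) →
      (∀ M : X.Modules, Coh.IsCoh M → CohB1.support M ⊆ (↑Z : Set X) → J₁ M) ∨
        (∀ M : X.Modules, Coh.IsCoh M → CohB1.support M ⊆ (↑Z : Set X) → J₂ M) := by
  constructor
  · intro hZ J₁ J₂ hJ₁ hJ₂ _ _ hgen
    by_cases c1 : ∃ M₀ : X.Modules, Coh.IsCoh M₀ ∧ J₁ M₀ ∧ (Z : Set X) ⊆ CohB1.support M₀
    · obtain ⟨M₀, hM₀, hJM₀, hZM₀⟩ := c1
      exact Or.inl fun M hM hs => core hJ₁ M₀ hM₀ hJM₀ M hM (hs.trans hZM₀)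
    by_cases c2 : ∃ M₀ : X.Modules, Coh.IsCoh M₀ ∧ J₂ M₀ ∧ (Z : Set X) ⊆ CohB1.support M₀
    · obtain ⟨M₀, hM₀, hJM₀, hZM₀⟩ := c2
      exact Or.inr fun M hM hs => core hJ₂ M₀ hM₀ hJM₀ M hM (hs.trans hZM₀)
    exfalso
    have h := hgen (fun M : X.Modules => ¬ (Z : Set X) ⊆ CohB1.support M)
      (isSerre_not_subset (Z : Set X) hZ)
      (fun M hM hJ hZM => c1 ⟨M, hM, hJ, hZM⟩) (fun M hM hJ hZM => c2 ⟨M, hM, hJ, hZM⟩)
      (DevTest.A (Scheme.IdealSheafData.vanishingIdeal Z)) (DevTest.isCoh_A _)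
      (support_A_vanishing Z).le
    exact h (support_A_vanishing Z).ge
  · intro h
    rw [isPreirreducible_iff_isClosed_union_isClosed]
    intro z₁ z₂ hz₁ hz₂ hZz
    set Z₁ : TopologicalSpace.Closeds X := ⟨(Z : Set X) ∩ z₁, Z.isClosed.inter hz₁⟩ with hZ₁
    set Z₂ : TopologicalSpace.Closeds X := ⟨(Z : Set X) ∩ z₂, Z.isClosed.inter hz₂⟩ with hZ₂
    have hgen' : ∀ Q : ObjectProperty X.Modules, (∀ S : ShortComplex X.Modules, S.ShortExact → Coh.IsCoh S.X₁ → Coh.IsCoh S.X₂ →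
        Coh.IsCoh S.X₃ → (Q S.X₂ ↔ Q S.X₁ ∧ Q S.X₃)) →
        (∀ M : X.Modules, Coh.IsCoh M → CohB1.support M ⊆ (Z₁ : Set X) → Q M) → (∀ M : X.Modules, Coh.IsCoh M → CohB1.support M ⊆ (Z₂ : Set X) → Q M) →
        ∀ M : X.Modules, Coh.IsCoh M → CohB1.support M ⊆ (↑Z : Set X) → Q M := by
      intro Q hQ hQ1 hQ2 M hM hs
      set F₁ := DevTest.A (Scheme.IdealSheafData.vanishingIdeal Z₁) with hF₁
      set F₂ := DevTest.A (Scheme.IdealSheafData.vanishingIdeal Z₂) with hF₂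
      have c1 : Coh.IsCoh F₁ := DevTest.isCoh_A _
      have c2 : Coh.IsCoh F₂ := DevTest.isCoh_A _
      have q1 : Q F₁ := hQ1 F₁ c1 (support_A_vanishing Z₁).le
      have q2 : Q F₂ := hQ2 F₂ c2 (support_A_vanishing Z₂).le
      have c : Coh.IsCoh (F₁ ⊞ F₂ : X.Modules) := DevPow.isCoh_biprod F₁ F₂ c1 c2
      have q : Q (F₁ ⊞ F₂ : X.Modules) :=
        (hQ _ (DevPow.shortExact_biprod F₁ F₂) c1 c c2).mpr ⟨q1, q2⟩
      refine core hQ _ c q M hM (hs.trans ?_)
      intro x hx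
      rcases hZz hx with hx1 | hx2
      · apply support_subset_of_mono (biprod.inl : F₁ ⟶ F₁ ⊞ F₂)
        rw [hF₁, support_A_vanishing]
        exact ⟨hx, hx1⟩
      · apply support_subset_of_epi (biprod.snd : F₁ ⊞ F₂ ⟶ F₂)
        rw [hF₂, support_A_vanishing]
        exact ⟨hx, hx2⟩
    rcases h (fun M : X.Modules => CohB1.support M ⊆ (Z₁ : Set X))
      (fun M : X.Modules => CohB1.support M ⊆ (Z₂ : Set X))
      (isSerre_support _) (isSerre_support _)
      (fun M _ hs => hs.trans Set.inter_subset_left) (fun M _ hs => hs.trans Set.inter_subset_left)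
      hgen' with h1 | h2
    · left
      have := h1 _ (DevTest.isCoh_A (Scheme.IdealSheafData.vanishingIdeal Z))
        (support_A_vanishing Z).le
      rw [support_A_vanishing] at this
      exact this.trans Set.inter_subset_right
    · right
      have := h2 _ (DevTest.isCoh_A (Scheme.IdealSheafData.vanishingIdeal Z))
        (support_A_vanishing Z).le
      rw [support_A_vanishing] at this
      exact this.trans Set.inter_subset_right

end Groth.Agent.Lib.Helper1.SerreDev
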