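import Mathlib
import Groth.Prelude.Def_CAlgX
import Groth.Agent.Lib.Helper1.H1Loc

set_option autoImplicit false
set_option linter.style.haveILetI false
universe u

open TensorProduct IsLocalRing KaehlerDifferential

namespace Groth.Agent.Lib.Helper1.SmoothRegQuot

open CAlgX

section Lift

variable {P S : Type*} [CommRing P] [CommRing S] (π : P →+* S) {c : ℕ}

/-- lifting a combination of trivial relations along a surjection -/
theorem exists_lift_of_mem_triv (hπ : Function.Surjective π) (R : Fin c → P) (v : Fin c → S)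
    (hv : v ∈ Submodule.span S {v : Fin c → S | ∃ i j : Fin c,
      v = Pi.single i (π (R j)) - Pi.single j (π (R i))}) :
    ∃ a : Fin c → P, (∀ i, π (a i) = v i) ∧ ∑ i, a i * R i = 0 := by
  classical
  induction hv using Submodule.span_induction with
  | mem v hv =>
    obtain ⟨i, j, rfl⟩ := hv
    refine ⟨Pi.single i (R j) - Pi.single j (R i), fun k => ?_, ?_⟩
    · simp only [Pi.sub_apply, Pi.single_apply, map_sub]
      split_ifs <;> simp
    · simp only [Pi.sub_apply, sub_mul, Finset.sum_sub_distrib, Pi.single_apply, ite_mul, zero_mul,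
        Finset.sum_ite_eq', Finset.mem_univ, if_true]
      ring
  | zero => exact ⟨0, fun i => by simp, by simp⟩
  | add x y _ _ hx hy =>
    obtain ⟨a, ha, ha'⟩ := hx
    obtain ⟨b, hb, hb'⟩ := hy
    refine ⟨a + b, fun i => by simp [ha, hb], ?_⟩
    simp only [Pi.add_apply, add_mul, Finset.sum_add_distrib, ha', hb', add_zero]
  | smul t x _ hx =>
    obtain ⟨a, ha, ha'⟩ := hx
    obtain ⟨p, rfl⟩ := hπ t
    refine ⟨p • a, fun i => by simp [ha], ?_⟩
    simp only [Pi.smul_apply, smul_eq_mul, mul_assoc]
    rw [← Finset.mul_sum, ha', mul_zero]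

/-- `J ∩ (R) ⊆ (R)·J` for a sequence `R` that is `H_1`-regular modulo `J` -/
theorem mem_mul_of_h1 (hπ : Function.Surjective π) (R : Fin c → P)
    (hr : IsH1Regular (fun i => π (R i))) (z : P) (hz : z ∈ RingHom.ker π)
    (hz' : z ∈ Ideal.span (Set.range R)) : z ∈ Ideal.span (Set.range R) * RingHom.ker π := by
  obtain ⟨a, rfl⟩ := (Ideal.mem_span_range_iff_exists_fun).mp hz'
  have h0 : ∑ i, π (a i) * π (R i) = 0 := by
    rw [RingHom.mem_ker, map_sum] at hz
    simpa only [map_mul] using hz
  obtain ⟨b, hb, hb'⟩ := exists_lift_of_mem_triv π hπ R _ (hr (fun i => π (a i)) h0)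
  have h1 : ∑ i, a i * R i = ∑ i, R i * (a i - b i) := by
    have : ∑ i, R i * (a i - b i) = ∑ i, a i * R i - ∑ i, b i * R i := by
      rw [← Finset.sum_sub_distrib]
      exact Finset.sum_congr rfl fun i _ => by ring
    rw [this, hb', sub_zero]
  rw [h1]
  refine Ideal.sum_mem _ fun i _ => Ideal.mul_mem_mul (Ideal.subset_span ⟨i, rfl⟩) ?_
  rw [RingHom.mem_ker, map_sub, hb i, sub_self]

end Lift

section Tensor

variable {P K : Type*} [CommRing P] [CommRing K] [Algebra P K]

/-- for a surjection `P → K` with kernel `𝔮`, `1 ⊗ n = 0` in `K ⊗ N` iff `n ∈ 𝔮 N` -/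
theorem one_tmul_eq_zero_iff (hK : Function.Surjective (algebraMap P K)) {N : Type*}
    [AddCommGroup N] [Module P N] (n : N) :
    (1 : K) ⊗ₜ[P] n = 0 ↔ n ∈ RingHom.ker (algebraMap P K) • (⊤ : Submodule P N) := by
  let f : P →ₐ[P] K := Algebra.ofId P K
  have hf : Function.Surjective f := hK
  let e : (P ⧸ RingHom.ker f) ≃ₐ[P] K := Ideal.quotientKerAlgEquivOfSurjective hf
  have h1 : (1 : K) ⊗ₜ[P] n =
      (LinearEquiv.rTensor N e.toLinearEquiv) ((1 : P ⧸ RingHom.ker f) ⊗ₜ[P] n) := by
    rw [LinearEquiv.rTensor_tmul]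
    simp
  rw [h1, LinearEquiv.map_eq_zero_iff]
  have h3 : ((1 : P ⧸ RingHom.ker f) ⊗ₜ[P] n = 0) ↔
      n ∈ LinearMap.ker (TensorProduct.mk P (P ⧸ RingHom.ker f) N 1) := by
    rw [LinearMap.mem_ker]; rfl
  rw [h3, LinearMap.ker_tensorProductMk]
  rfl

end Tensor

section Core

variable {R P S T : Type u} [CommRing R] [CommRing P] [CommRing S] [CommRing T]
  [IsLocalRing S] [IsLocalRing T]
  [Algebra R P] [Algebra R S] [Algebra P S] [IsScalarTower R P S]
  [Algebra R T] [Algebra S T] [Algebra P T] [IsScalarTower P S T] [IsScalarTower R P T]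
  [Algebra.FormallySmooth R P] [Module.Free P Ω[P⁄R]] [Module.Finite P Ω[P⁄R]]

/-- Jacobian criterion: a local algebra `S`, essentially of finite presentation, whose quotient
by an `H_1`-regular sequence is formally smooth, is formally smooth. -/
theorem formallySmooth_of_h1_quotient
    (h₁ : Function.Surjective (algebraMap P S)) (h₂ : (RingHom.ker (algebraMap P S)).FG)
    (hST : Function.Surjective (algebraMap S T)) {c : ℕ} (r : Fin c → S) (hr : IsH1Regular r)
    (hker : RingHom.ker (algebraMap S T) = Ideal.span (Set.range r))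
    [Algebra.FormallySmooth R T] : Algebra.FormallySmooth R S := by
  have hPT : algebraMap P T = (algebraMap S T).comp (algebraMap P S) :=
    IsScalarTower.algebraMap_eq P S T
  have h₁' : Function.Surjective (algebraMap P T) := by rw [hPT]; exact hST.comp h₁
  choose Rl hRl using fun i => h₁ (r i)
  have hJ' : RingHom.ker (algebraMap P T) =
      RingHom.ker (algebraMap P S) ⊔ Ideal.span (Set.range Rl) := by
    rw [hPT, ← RingHom.comap_ker, hker]
    have : Ideal.span (Set.range r) =
        Ideal.map (algebraMap P S) (Ideal.span (Set.range Rl)) := by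
      rw [Ideal.map_span, ← Set.range_comp]
      congr 2
      funext i; exact (hRl i).symm
    rw [this, Ideal.comap_map_of_surjective _ h₁, sup_comm]
    rfl
  have h₂' : (RingHom.ker (algebraMap P T)).FG := by
    rw [hJ']
    exact Submodule.FG.sup h₂ (Submodule.fg_span (Set.finite_range Rl))
  have hmax : maximalIdeal S = (maximalIdeal T).comap (algebraMap S T) :=
    (IsLocalRing.eq_maximalIdeal (Ideal.comap_isMaximal_of_surjective _ hST)).symm
  have h₃ : maximalIdeal S ≤ RingHom.ker (algebraMap S (ResidueField T)) := by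
    intro x hx
    rw [hmax] at hx
    rw [RingHom.mem_ker, IsScalarTower.algebraMap_apply S T (ResidueField T)]
    exact (IsLocalRing.residue_eq_zero_iff _).mpr hx
  have h₃' : maximalIdeal T ≤ RingHom.ker (algebraMap T (ResidueField T)) := by
    intro x hx
    exact (IsLocalRing.residue_eq_zero_iff _).mpr hx
  rw [Algebra.FormallySmooth.iff_injective_cotangentComplexBaseChange P (ResidueField T) h₁ h₂ h₃]
  have hT := (Algebra.FormallySmooth.iff_injective_cotangentComplexBaseChange (R := R) (S := T)
    P (ResidueField T) h₁' h₂' h₃').mp inferInstance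
  have hK : Function.Surjective (algebraMap P (ResidueField T)) := by
    rw [IsScalarTower.algebraMap_eq P T (ResidueField T)]
    exact (IsLocalRing.residue_surjective).comp h₁'
  have hqle : RingHom.ker (algebraMap P T) ≤ RingHom.ker (algebraMap P (ResidueField T)) := by
    intro x hx
    rw [RingHom.mem_ker] at hx ⊢
    rw [IsScalarTower.algebraMap_apply P T (ResidueField T), hx, map_zero]
  rw [injective_iff_map_eq_zero]
  intro z hz
  obtain ⟨x, rfl⟩ := TensorProduct.mk_surjective P _ (ResidueField T) hK z
  have hxJ' : x.1 ∈ RingHom.ker (algebraMap P T) := by rw [hJ']; exact Ideal.mem_sup_left x.2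
  have hz' : cotangentComplexBaseChange R T P (ResidueField T)
      ((1 : ResidueField T) ⊗ₜ ⟨x.1, hxJ'⟩) = 0 := by
    rw [cotangentComplexBaseChange_tmul]
    rw [TensorProduct.mk_apply, cotangentComplexBaseChange_tmul] at hz
    exact hz
  have h4 := (injective_iff_map_eq_zero _).mp hT _ hz'
  rw [one_tmul_eq_zero_iff hK, Submodule.mem_smul_top_iff] at h4
  rw [TensorProduct.mk_apply, one_tmul_eq_zero_iff hK, Submodule.mem_smul_top_iff]
  -- ideal computation
  have hRq : Ideal.span (Set.range Rl) ≤ RingHom.ker (algebraMap P (ResidueField T)) := by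
    refine le_trans ?_ hqle
    rw [hJ']; exact le_sup_right
  have h5 : (x : P) ∈ RingHom.ker (algebraMap P (ResidueField T)) * RingHom.ker (algebraMap P S) ⊔
      RingHom.ker (algebraMap P (ResidueField T)) * Ideal.span (Set.range Rl) := by
    rw [← Ideal.mul_sup, ← hJ']
    exact h4
  obtain ⟨y, hy, z, hz, hyz⟩ := Submodule.mem_sup.mp h5
  have hzker : z ∈ RingHom.ker (algebraMap P S) := by
    have : z = x - y := by rw [← hyz]; ring
    rw [this]
    exact Ideal.sub_mem _ x.2 (Ideal.mul_le_inf hy).2
  have hzspan : z ∈ Ideal.span (Set.range Rl) := (Ideal.mul_le_inf hz).2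
  have hr' : IsH1Regular (fun i => algebraMap P S (Rl i)) := by
    have : (fun i => algebraMap P S (Rl i)) = r := funext hRl
    rw [this]; exact hr
  have h6 := mem_mul_of_h1 (algebraMap P S) h₁ Rl hr' z hzker hzspan
  have h7 : z ∈ RingHom.ker (algebraMap P (ResidueField T)) * RingHom.ker (algebraMap P S) :=
    Ideal.mul_mono_left hRq h6
  have h8 := Ideal.add_mem _ hy h7
  rw [hyz] at h8
  exact h8

end Core

section Presentation

variable {R S P : Type u} [CommRing R] [CommRing S] [Algebra R S]
variable [CommRing P] [Algebra R P] [Algebra P S] [IsScalarTower R P S]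

/-- a localization of a finitely presented algebra is a quotient, by a finitely generated ideal,
of a localization of a polynomial ring -/
theorem exists_presentation (M : Submonoid P)
    [IsLocalization M S] [Algebra.FinitePresentation R P] :
    ∃ (n : ℕ) (M' : Submonoid (MvPolynomial (Fin n) R)) (fP : Localization M' →ₐ[R] S),
      Function.Surjective fP ∧ (RingHom.ker fP).FG := by
  obtain ⟨n, f₀, hf₀⟩ := Algebra.FiniteType.iff_quotient_mvPolynomial''.mp
    (inferInstance : Algebra.FiniteType R P)
  let M' := M.comap f₀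
  let P' := Localization M'
  let fP : P' →ₐ[R] S := IsLocalization.liftAlgHom (M := M')
      (f := (IsScalarTower.toAlgHom R P S).comp f₀) fun x ↦ by
    simpa using IsLocalization.map_units (M := M) _ ⟨f₀ x.1, x.2⟩
  have hf₁ : Function.Surjective fP := by
    intro x
    obtain ⟨x, ⟨s, hs⟩, rfl⟩ := IsLocalization.exists_mk'_eq M x
    obtain ⟨x, rfl⟩ := hf₀ x
    obtain ⟨s, rfl⟩ := hf₀ s
    refine ⟨IsLocalization.mk' (M := M') _ x ⟨s, hs⟩, ?_⟩
    simp [fP, IsLocalization.lift_mk', Units.mul_inv_eq_iff_eq_mul, IsUnit.liftRight]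
  have hfP : (RingHom.ker fP).FG := by
    have := Algebra.FinitePresentation.ker_fG_of_surjective _ hf₀
    convert! this.map (algebraMap _ P')
    refine le_antisymm ?_ (Ideal.map_le_iff_le_comap.mpr fun x hx ↦ by simp_all [fP])
    intro x hx
    obtain ⟨x, s, rfl⟩ := IsLocalization.exists_mk'_eq M' x
    obtain ⟨a, ha, e⟩ : ∃ a ∈ M, a * f₀ x = 0 := by
      simpa [fP, IsLocalization.lift_mk', IsLocalization.map_eq_zero_iff M] using hx
    obtain ⟨a, rfl⟩ := hf₀ a
    rw [IsLocalization.mk'_mem_map_algebraMap_iff]
    exact ⟨a, ha, by simpa⟩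
  exact ⟨n, M', fP, hf₁, hfP⟩

end Presentation

section Ring

theorem map_surjective_of_map_eq {B C : Type*} [CommRing B] [CommRing C] (φ : B →+* C)
    (hφ : Function.Surjective φ) (M : Submonoid B) (N : Submonoid C) (hMN : M.map φ = N)
    (S : Type*) [CommRing S] [Algebra B S] [IsLocalization M S]
    (T : Type*) [CommRing T] [Algebra C T] [IsLocalization N T] (hy : M ≤ N.comap φ) :
    Function.Surjective (IsLocalization.map T φ hy : S →+* T) := by
  subst hMN
  exact IsLocalization.map_surjective_of_surjective M S T hφ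

variable {A B C : Type u} [CommRing A] [CommRing B] [CommRing C] [Algebra A B] [Algebra B C]
  [Algebra A C] [IsScalarTower A B C] [Algebra.FinitePresentation A B]

/-- if `C = B/(r)` with `r` an `H_1`-regular sequence and `C` is smooth over `A` at a prime, then
`B` is smooth over `A` at the corresponding prime. -/
theorem isSmoothAt_of_h1_quotient (hBC : Function.Surjective (algebraMap B C)) {c : ℕ}
    (r : Fin c → B) (hr : IsH1Regular r)
    (hker : RingHom.ker (algebraMap B C) = Ideal.span (Set.range r))
    (𝔮' : Ideal C) [𝔮'.IsPrime] (𝔮 : Ideal B) [𝔮.IsPrime]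
    (h𝔮 : 𝔮 = 𝔮'.comap (algebraMap B C)) (hsm : Algebra.IsSmoothAt A 𝔮') :
    Algebra.IsSmoothAt A 𝔮 := by
  classical
  have hT : Submonoid.map (algebraMap B C) 𝔮.primeCompl = 𝔮'.primeCompl := by
    ext x
    constructor
    · rintro ⟨b, hb, rfl⟩
      intro hx
      exact hb (by rw [h𝔮]; exact hx)
    · intro hx
      obtain ⟨b, rfl⟩ := hBC x
      exact ⟨b, fun hb => hx (by rw [h𝔮] at hb; exact hb), rfl⟩
  have hy : 𝔮.primeCompl ≤ Submonoid.comap (algebraMap B C) 𝔮'.primeCompl := by
    rw [← hT]; exact Submonoid.le_comap_map _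
  let S := Localization.AtPrime 𝔮
  let T := Localization.AtPrime 𝔮'
  let g : S →+* T := IsLocalization.map T (algebraMap B C) hy
  have hgsurj : Function.Surjective g :=
    map_surjective_of_map_eq (algebraMap B C) hBC _ _ hT S T hy
  have hgker : RingHom.ker g = Ideal.span (Set.range fun i => algebraMap B S (r i)) := by
    have := IsLocalization.ker_map (S := S) T (algebraMap B C) hT
    refine this.trans ?_
    rw [hker, Ideal.map_span, ← Set.range_comp]
    rfl
  have hgS : ∀ b : B, g (algebraMap B S b) = algebraMap C T (algebraMap B C b) :=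
    fun b => IsLocalization.map_eq _ b
  letI : Algebra S T := g.toAlgebra
  haveI : IsScalarTower A S T := IsScalarTower.of_algebraMap_eq fun a => by
    change algebraMap A T a = g (algebraMap A S a)
    rw [IsScalarTower.algebraMap_apply A B S, hgS, ← IsScalarTower.algebraMap_apply A B C,
      ← IsScalarTower.algebraMap_apply A C T]
  obtain ⟨n, M', fP, hf₁, hfP⟩ := exists_presentation (R := A) (P := B) (S := S) 𝔮.primeCompl
  letI : Algebra (Localization M') S := fP.toRingHom.toAlgebra
  haveI : IsScalarTower A (Localization M') S :=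
    IsScalarTower.of_algebraMap_eq' fP.comp_algebraMap.symm
  letI : Algebra (Localization M') T :=
    ((algebraMap S T).comp (algebraMap (Localization M') S)).toAlgebra
  haveI : IsScalarTower (Localization M') S T := IsScalarTower.of_algebraMap_eq' rfl
  haveI : IsScalarTower A (Localization M') T :=
    IsScalarTower.of_algebraMap_eq (R := A) (S := Localization M') (A := T) fun a => by
    change algebraMap A T a = algebraMap S T (algebraMap (Localization M') S
      (algebraMap A (Localization M') a))
    rw [← IsScalarTower.algebraMap_apply A (Localization M') S,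
      ← IsScalarTower.algebraMap_apply A S T]
  haveI : Algebra.FormallyEtale (MvPolynomial (Fin n) A) (Localization M') :=
    .of_isLocalization M'
  haveI : Algebra.FormallySmooth A (Localization M') := .comp _ (MvPolynomial (Fin n) A) _
  haveI : Module.Free (Localization M') Ω[Localization M'⁄A] :=
    .of_equiv (KaehlerDifferential.tensorKaehlerEquivOfFormallyEtale A (MvPolynomial (Fin n) A)
      (Localization M'))
  haveI : Algebra.FormallySmooth A T := hsm
  exact formallySmooth_of_h1_quotient (R := A) (P := Localization M') (S := S) (T := T)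
    hf₁ hfP hgsurj (fun i => algebraMap B S (r i))
    (H1Loc.isH1Regular_of_isLocalization 𝔮.primeCompl S r hr) hgker

end Ring

end Groth.Agent.Lib.Helper1.SmoothRegQuot
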