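import Mathlib
import Groth.Agent.Lib.Helper1.SmoothRegQuot
import Groth.Agent.Lib.Helper1.ConormReg
import Groth.Agent.Lib.Helper1.SecReg
import Groth.Agent.Lib.Helper10.KoszulLow

set_option autoImplicit false
set_option linter.style.haveILetI false
universe u
open CategoryTheory CategoryTheory.Limits AlgebraicGeometry TopologicalSpace

namespace Groth.Agent.Lib.Helper1.SmoothRegQuotSch

open CAlgX Groth.Agent.Lib.Helper1

theorem mem_smoothLocus_of_h1 {X Y S : Scheme.{u}} (f : X ⟶ S) (j : Y ⟶ X)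
    [LocallyOfFinitePresentation f] [LocallyOfFinitePresentation (j ≫ f)] [IsClosedImmersion j]
    (y : Y) (hy : y ∈ (j ≫ f).smoothLocus) {W : S.Opens} (hW : IsAffineOpen W) {U' : X.Opens}
    (hU' : IsAffineOpen U') (hU'W : U' ≤ f ⁻¹ᵁ W) (hx : j y ∈ U') {c : ℕ}
    (r : Fin c → Γ(X, U')) (hr : IsH1Regular r)
    (hker : RingHom.ker (j.app U').hom = Ideal.span (Set.range r)) : j y ∈ f.smoothLocus := by
  have hV' : IsAffineOpen (j ⁻¹ᵁ U') := hU'.preimage j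
  have hV'W : j ⁻¹ᵁ U' ≤ (j ≫ f) ⁻¹ᵁ W := fun z hz => hU'W hz
  have hyV : y ∈ j ⁻¹ᵁ U' := hx
  have h1 := (formallySmooth_stalkMap_iff W hW (j ⁻¹ᵁ U') hV' hV'W hyV).mp hy
  refine (formallySmooth_stalkMap_iff W hW U' hU' hU'W hx).mpr ?_
  letI : Algebra Γ(S, W) Γ(X, U') := (f.appLE W U' hU'W).hom.toAlgebra
  letI : Algebra Γ(X, U') Γ(Y, j ⁻¹ᵁ U') := (j.appLE U' (j ⁻¹ᵁ U') le_rfl).hom.toAlgebra
  letI : Algebra Γ(S, W) Γ(Y, j ⁻¹ᵁ U') := ((j ≫ f).appLE W (j ⁻¹ᵁ U') hV'W).hom.toAlgebra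
  haveI : IsScalarTower Γ(S, W) Γ(X, U') Γ(Y, j ⁻¹ᵁ U') := IsScalarTower.of_algebraMap_eq' (by
    change ((j ≫ f).appLE W (j ⁻¹ᵁ U') hV'W).hom =
      (j.appLE U' (j ⁻¹ᵁ U') le_rfl).hom.comp (f.appLE W U' hU'W).hom
    rw [← CommRingCat.hom_comp, Scheme.Hom.appLE_comp_appLE])
  haveI : Algebra.FinitePresentation Γ(S, W) Γ(X, U') := f.finitePresentation_appLE hW hU' hU'W
  have happ : j.appLE U' (j ⁻¹ᵁ U') le_rfl = j.app U' := (Scheme.Hom.app_eq_appLE j).symm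
  have hsurj : Function.Surjective (algebraMap Γ(X, U') Γ(Y, j ⁻¹ᵁ U')) := by
    change Function.Surjective (j.appLE U' (j ⁻¹ᵁ U') le_rfl).hom
    rw [happ]
    exact j.app_surjective U' hU'
  have hker' : RingHom.ker (algebraMap Γ(X, U') Γ(Y, j ⁻¹ᵁ U')) = Ideal.span (Set.range r) := by
    change RingHom.ker (j.appLE U' (j ⁻¹ᵁ U') le_rfl).hom = _
    rw [happ]; exact hker
  have h𝔮 := congr($(IsAffineOpen.comap_primeIdealOf_appLE U' hU' (j ⁻¹ᵁ U') hV' le_rfl hyV).1).symm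
  exact SmoothRegQuot.isSmoothAt_of_h1_quotient (A := Γ(S, W)) (B := Γ(X, U'))
    (C := Γ(Y, j ⁻¹ᵁ U')) hsurj r hr hker' _ _ h𝔮 h1

theorem exists_smooth_nhd {X Y S : Scheme.{u}} (f : X ⟶ S) (h : Y ⟶ S)
    [LocallyOfFinitePresentation f] [LocallyOfFinitePresentation h] (j : Y ⟶ X) [IsClosedImmersion j]
    (hj : j ≫ f = h) (y : ↥Y) (hy : ∃ V : Y.Opens, y ∈ V ∧ Smooth (V.ι ≫ h))
    (hreg : ∃ (U : X.Opens) (hU : IsAffineOpen U), j y ∈ U ∧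
      ∃ rs : List Γ(X, U), RingTheory.Sequence.IsRegular Γ(X, U) rs ∧
        j.ker.ideal ⟨U, hU⟩ = Ideal.ofList rs) :
    ∃ U : X.Opens, j y ∈ U ∧ Smooth (U.ι ≫ f) := by
  subst hj
  obtain ⟨V, hyV, hVsm⟩ := hy
  obtain ⟨U, hU, hxU, rs, hrs, hkerU⟩ := hreg
  have hy' : y ∈ (j ≫ f).smoothLocus := by
    have h1 : (V.ι ≫ j ≫ f).smoothLocus = ⊤ := Scheme.Hom.smoothLocus_eq_top_iff.mpr hVsm
    rw [← Scheme.Hom.preimage_smoothLocus_eq] at h1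
    have : (⟨y, hyV⟩ : V) ∈ V.ι ⁻¹ᵁ (j ≫ f).smoothLocus := by rw [h1]; trivial
    exact this
  obtain ⟨_, ⟨W, hW, rfl⟩, hsW, -⟩ := S.isBasis_affineOpens.exists_subset_of_mem_open
    (Set.mem_univ (f (j y))) isOpen_univ
  obtain ⟨g, hgle, hgx⟩ := hU.exists_basicOpen_le (V := f ⁻¹ᵁ W) ⟨j y, hsW⟩ hxU
  have hrs1 : IsH1Regular rs.get := fun a ha =>
    H10KL.h1_of_isZero_homology _ rs
      ((SecReg.isKoszulRegularSeq_of_isWeaklyRegular rs hrs.toIsWeaklyRegular) (-1)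
        (by norm_num)) a ha
  have hkerU' : RingHom.ker (j.app U).hom = Ideal.ofList rs := by
    rw [← Scheme.Hom.ker_apply j ⟨U, hU⟩]; exact hkerU
  obtain ⟨r, hr, hker⟩ := ConormReg.h1_basicOpen j hU rs hrs1 hkerU' g (X.basicOpen g) rfl
  have hmem := mem_smoothLocus_of_h1 f j y hy' hW (hU.basicOpen g) hgle hgx r hr hker
  refine ⟨f.smoothLocus, hmem, ?_⟩
  rw [← Scheme.Hom.smoothLocus_eq_top_iff, ← Scheme.Hom.preimage_smoothLocus_eq]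
  exact Scheme.Opens.ι_preimage_self _

end Groth.Agent.Lib.Helper1.SmoothRegQuotSch
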