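import Mathlib
import Groth.Prelude.Def_Smoothing
open TensorProduct MvPolynomial
universe u
/-! Base change of marked presentations (Smoothing) (helper1). -/
set_option autoImplicit false
namespace Groth.Agent.Lib.Helper1.SmoothingBC
open Smoothing

variable {R A R' : Type u} [CommRing R] [CommRing A] [Algebra R A] [CommRing R'] [Algebra R R']

lemma jacobianMinor_map {n m c : ℕ} (f : Fin m → MvPolynomial (Fin n) R) (rows : Fin c → Fin m)
    (cols : Fin c → Fin n) :
    jacobianMinor (fun j => MvPolynomial.map (algebraMap R R') (f j)) rows cols =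
      MvPolynomial.map (algebraMap R R') (jacobianMinor f rows cols) := by
  unfold jacobianMinor
  rw [RingHom.map_det]
  congr 1
  ext j k : 1
  simp [MvPolynomial.pderiv_map]

lemma hom_eq_aeval (P : MarkedPresentation R A) : P.hom = aeval (fun i => P.hom (X i)) := by
  apply MvPolynomial.algHom_ext
  intro i
  simp

/-- The `Algebra.Presentation` of a marked presentation. -/
noncomputable def pres (P : MarkedPresentation R A) : Algebra.Presentation R A (Fin P.n) (Fin P.m) where
  __ := Algebra.Generators.ofSurjective (fun i => P.hom (X i)) (by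
      rw [← hom_eq_aeval]; exact P.surj)
  relation := P.rel
  span_range_relation_eq_ker := by
    rw [Algebra.Generators.ker_eq_ker_aeval_val, ← P.ker_eq]
    change _ = RingHom.ker (aeval fun i => P.hom (X i))
    rw [← hom_eq_aeval]
    rfl

lemma aeval_bc (P : MarkedPresentation R A) (q : MvPolynomial (Fin P.n) R) :
    aeval ((pres P).baseChange R').val (MvPolynomial.map (algebraMap R R') q) = (1 : R') ⊗ₜ[R] P.hom q := by
  have h1 : ((pres P).baseChange R').val = fun i => (Algebra.TensorProduct.includeRight : A →ₐ[R] R' ⊗[R] A) (P.hom (X i)) := by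
    ext i
    rfl
  rw [h1, MvPolynomial.aeval_map_algebraMap]
  conv_rhs => rw [hom_eq_aeval P]
  exact (MvPolynomial.comp_aeval_apply _ _ _).symm

/-- base change of a marked presentation -/
noncomputable def bc (P : MarkedPresentation R A) : MarkedPresentation R' (R' ⊗[R] A) where
  n := P.n
  m := P.m
  c := P.c
  hcn := P.hcn
  hcm := P.hcm
  rel := fun j => MvPolynomial.map (algebraMap R R') (P.rel j)
  hom := aeval ((pres P).baseChange R').val
  surj := ((pres P).baseChange R').algebraMap_surjective
  ker_eq := by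
    have := ((pres P).baseChange R').span_range_relation_eq_ker
    rw [Algebra.Generators.ker_eq_ker_aeval_val] at this
    exact this.symm


/-- the base-changed relations -/
noncomputable abbrev rel' (P : MarkedPresentation R A) : Fin P.m → MvPolynomial (Fin P.n) R' :=
  fun j => MvPolynomial.map (algebraMap R R') (P.rel j)

lemma killsTail_bc' (P : MarkedPresentation R A) (a : A) (h : KillsTail P a)
    (b' : MvPolynomial (Fin P.n) R')
    (hb' : aeval ((pres P).baseChange R').val b' = (1 : R') ⊗ₜ[R] a) (j : Fin P.m)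
    (hj : P.c ≤ (j : ℕ)) :
    b' * rel' (R' := R') P j ∈ Ideal.span (rel' (R' := R') P '' {j' : Fin P.m | (j' : ℕ) < P.c}) ⊔
      Ideal.span (Set.range (rel' (R' := R') P)) ^ 2 := by
  obtain ⟨a₀, ha₀⟩ := P.surj a
  have h0 := h a₀ ha₀ j hj
  set φ : MvPolynomial (Fin P.n) R →+* MvPolynomial (Fin P.n) R' :=
    MvPolynomial.map (algebraMap R R') with hφ
  -- image of the relation ideal
  have h1 : φ (a₀ * P.rel j) ∈ Ideal.span (rel' (R' := R') P '' {j' : Fin P.m | (j' : ℕ) < P.c}) ⊔
      Ideal.span (Set.range (rel' (R' := R') P)) ^ 2 := by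
    have := Ideal.mem_map_of_mem φ h0
    rw [Ideal.map_sup, Ideal.map_pow, Ideal.map_span, Ideal.map_span, Set.image_image,
      ← Set.range_comp] at this
    exact this
  have h2 : b' - φ a₀ ∈ Ideal.span (Set.range (rel' (R' := R') P)) := by
    have hk : RingHom.ker (aeval ((pres P).baseChange R').val : _ →ₐ[R'] _).toRingHom =
        Ideal.span (Set.range (rel' (R' := R') P)) := (bc (R' := R') P).ker_eq
    rw [← hk, RingHom.mem_ker, map_sub]
    change aeval ((pres P).baseChange R').val b' - aeval ((pres P).baseChange R').val (φ a₀) = 0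
    rw [hb', hφ, aeval_bc, ha₀, sub_self]
  have h3 : (b' - φ a₀) * rel' (R' := R') P j ∈
      Ideal.span (Set.range (rel' (R' := R') P)) ^ 2 := by
    rw [pow_two]
    exact Ideal.mul_mem_mul h2 (Ideal.subset_span ⟨j, rfl⟩)
  have h4 : b' * rel' (R' := R') P j =
      φ (a₀ * P.rel j) + (b' - φ a₀) * rel' (R' := R') P j := by
    rw [map_mul]
    change _ = φ a₀ * φ (P.rel j) + (b' - φ a₀) * φ (P.rel j)
    ring
  rw [h4]
  exact Ideal.add_mem _ h1 (Ideal.mem_sup_right h3)

lemma killsTail_bc (P : MarkedPresentation R A) (a : A) (h : KillsTail P a) :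
    KillsTail (bc (R' := R') P) ((1 : R') ⊗ₜ[R] a) :=
  fun b' hb' j hj => killsTail_bc' P a h b' hb' j hj

lemma hom_bc_minor (P : MarkedPresentation R A) (rows : Fin P.c → Fin P.m) (cols : Fin P.c → Fin P.n) :
    (bc (R' := R') P).hom (jacobianMinor (bc (R' := R') P).rel rows cols) =
      (1 : R') ⊗ₜ[R] P.hom (jacobianMinor P.rel rows cols) := by
  change aeval ((pres P).baseChange R').val (jacobianMinor (rel' (R' := R') P) rows cols) = _
  rw [show rel' (R' := R') P = fun j => MvPolynomial.map (algebraMap R R') (P.rel j) from rfl,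
    jacobianMinor_map, aeval_bc]

theorem isStandard_baseChange [Algebra.FinitePresentation R A] (a : A) :
    (Smoothing.IsElementaryStandard R A a →
        Smoothing.IsElementaryStandard R' (R' ⊗[R] A) ((1 : R') ⊗ₜ[R] a)) ∧
      (Smoothing.IsStrictlyStandard R A a →
        Smoothing.IsStrictlyStandard R' (R' ⊗[R] A) ((1 : R') ⊗ₜ[R] a)) := by
  constructor
  · rintro ⟨P, ⟨a', ha'⟩, hk⟩
    refine ⟨bc P, ⟨(1 : R') ⊗ₜ[R] a', ?_⟩, killsTail_bc P a hk⟩
    have e := hom_bc_minor (R' := R') P (Fin.castLE P.hcm) (Fin.castLE P.hcn)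
    have e2 : (1 : R') ⊗ₜ[R] a = (1 : R') ⊗ₜ[R] a' *
        ((1 : R') ⊗ₜ[R] P.hom (jacobianMinor P.rel (Fin.castLE P.hcm) (Fin.castLE P.hcn))) := by
      rw [Algebra.TensorProduct.tmul_mul_tmul, one_mul, ← ha']
    exact e2.trans (congrArg (fun t => (1 : R') ⊗ₜ[R] a' * t) e.symm)
  · rintro ⟨P, hmem, hk⟩
    refine ⟨bc P, ?_, killsTail_bc P a hk⟩
    -- image of the ideal under `includeRight`
    have := Ideal.mem_map_of_mem (Algebra.TensorProduct.includeRight : A →ₐ[R] R' ⊗[R] A) hmem
    rw [Ideal.map_span, ← Set.range_comp] at this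
    have heq : (fun cols : Fin P.c → Fin P.n =>
        (bc (R' := R') P).hom (jacobianMinor (bc (R' := R') P).rel (Fin.castLE P.hcm) cols)) =
        (⇑(Algebra.TensorProduct.includeRight : A →ₐ[R] R' ⊗[R] A) ∘ fun cols : Fin P.c → Fin P.n =>
          P.hom (jacobianMinor P.rel (Fin.castLE P.hcm) cols)) := by
      funext cols
      exact hom_bc_minor (R' := R') P (Fin.castLE P.hcm) cols
    exact heq ▸ this

end Groth.Agent.Lib.Helper1.SmoothingBC
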