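import Mathlib
import Groth.Agent.Lib.Helper1.ConormReg
import Groth.Agent.Lib.Helper1.KRegIdeal3
import Groth.Agent.Lib.Helper1.KDesc11
import Groth.Agent.Lib.Helper1.RegComp
import Groth.Agent.Lib.Helper10.KoszulLow

/-!
# Koszul-regularity of `j` from a locally split conormal sequence (helper1)
-/

set_option autoImplicit false
set_option linter.style.haveILetI false
universe u
open CategoryTheory CategoryTheory.Limits AlgebraicGeometry TopologicalSpace Opposite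
open Scheme.Modules

namespace Groth.Agent.Lib.Helper1.SplitK

open Groth.Agent.Lib.Helper1 Groth.Agent.Lib.Helper1.PbSect Groth.Agent.Lib.Helper1.ConormReg
  Groth.Agent.Lib.Helper1.ConormMap Groth.Agent.Lib.Helper3

section Basis

variable {Z Y : Scheme.{u}} (j : Z ⟶ Y)

/-- on a good chart on which the kernel is generated by an `H_1`-regular sequence, the classes of
the generators form a basis of the sections of the conormal sheaf -/
theorem basis_on_good [IsImmersion j] [QuasiCompact j] {V : Y.Opens} (hV : IsAffineOpen V)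
    (hVle : V ≤ j.coborderRange) {c : ℕ} (g : Fin c → Γ(Y, V)) (hg : CAlgX.IsH1Regular g)
    (hker : RingHom.ker (j.app V).hom = Ideal.span (Set.range g))
    (s : Fin c → Γ(ClSub.idealMod j.ker, V)) (hsv : ∀ k, IdealMod.val j.ker (s k) = g k) :
    ∃ B : Module.Basis (Fin c) Γ(Z, j ⁻¹ᵁ V) Γ(Omega.conormal j, j ⁻¹ᵁ V),
      ∀ k, B k = OmegaSh.conormalSect j V (s k) := by
  obtain ⟨hjV, hs⟩ := good_of_le_coborderRange j hV hVle
  let e : Fin c → Γ(Omega.conormal j, j ⁻¹ᵁ V) := fun k => OmegaSh.conormalSect j V (s k)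
  have hcomb : ∀ bb : Fin c → Γ(Y, V), ∑ k, j.app V (bb k) • e k =
      OmegaSh.conormalSect j V (∑ k, bb k • s k) := by
    intro bb
    rw [map_sum]
    refine Finset.sum_congr rfl fun k _ => ?_
    rw [Conorm.conormalSect_smul]
  have hli : LinearIndependent Γ(Z, j ⁻¹ᵁ V) e := by
    rw [Fintype.linearIndependent_iff]
    intro cc hcc k
    choose bb hbb using fun k => hs (cc k)
    have h1 : ∑ k, j.app V (bb k) • e k = 0 := by
      simp only [hbb]; exact hcc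
    rw [hcomb] at h1
    have h2 := (Conorm.conormalSect_eq_zero_iff j hV hjV hs _).mp h1
    rw [val_sum] at h2
    simp only [IdealMod.val_smul, hsv] at h2
    rw [hker] at h2
    have h3 := H1Loc.coeff_mem_of_sum_mem_sq g hg bb h2 k
    rw [← hker] at h3
    rw [← hbb k]
    exact h3
  have hsp : ⊤ ≤ Submodule.span Γ(Z, j ⁻¹ᵁ V) (Set.range e) := by
    intro y _
    obtain ⟨t, rfl⟩ := Conorm.conormalSect_surjective j hV hjV hs y
    have ht := Conorm.val_mem_ker j hV t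
    rw [hker] at ht
    obtain ⟨bb, hbb⟩ := (Ideal.mem_span_range_iff_exists_fun).mp ht
    have ht' : t = ∑ k, bb k • s k := by
      apply IdealMod.val_injective j.ker
      rw [val_sum, ← hbb]
      refine Finset.sum_congr rfl fun k _ => ?_
      rw [IdealMod.val_smul, hsv]
    rw [ht', ← hcomb]
    exact Submodule.sum_mem _ fun k _ => Submodule.smul_mem _ _ (Submodule.subset_span ⟨k, rfl⟩)
  exact ⟨Module.Basis.mk hli hsp, fun k => Module.Basis.mk_apply hli hsp k⟩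

end Basis

section Coord

variable {Z Y : Scheme.{u}} (j : Z ⟶ Y) (N : Y.Modules) [N.IsQuasicoherent]

/-- coordinate functionals on the sections of a pullback of a module with a basis -/
theorem exists_coord {V' : Y.Opens} (hV' : IsAffineOpen V') (hW : IsAffineOpen (j ⁻¹ᵁ V'))
    {n : ℕ} (B : Module.Basis (Fin n) Γ(Y, V') Γ(N, V')) :
    ∃ c : Fin n → (Γ((Scheme.Modules.pullback j).obj N, j ⁻¹ᵁ V') →ₗ[Γ(Z, j ⁻¹ᵁ V')]
        Γ(Z, j ⁻¹ᵁ V')),
      ∀ k l, c k (OmegaSh.pullSect j N V' (B l)) = if k = l then 1 else 0 := by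
  letI alg : Algebra Γ(Y, V') Γ(Z, j ⁻¹ᵁ V') := (j.appLE V' (j ⁻¹ᵁ V') le_rfl).hom.toAlgebra
  letI md : Module Γ(Y, V') Γ((Scheme.Modules.pullback j).obj N, j ⁻¹ᵁ V') :=
    Module.compHom _ (j.appLE V' (j ⁻¹ᵁ V') le_rfl).hom
  haveI tw : IsScalarTower Γ(Y, V') Γ(Z, j ⁻¹ᵁ V')
      Γ((Scheme.Modules.pullback j).obj N, j ⁻¹ᵁ V') :=
    ⟨fun a b m => by
      change (((j.appLE V' (j ⁻¹ᵁ V') le_rfl).hom a) * b) • m =
        ((j.appLE V' (j ⁻¹ᵁ V') le_rfl).hom a) • (b • m)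
      rw [mul_smul]⟩
  let l : Γ(N, V') →ₗ[Γ(Y, V')] Γ((Scheme.Modules.pullback j).obj N, j ⁻¹ᵁ V') :=
    { toFun := fun s => pullRes j N (le_refl (j ⁻¹ᵁ V')) s
      map_add' := fun s t => map_add _ s t
      map_smul' := fun a s => pullRes_smul j N (le_refl (j ⁻¹ᵁ V')) a s }
  have hbc : IsBaseChange Γ(Z, j ⁻¹ᵁ V') l :=
    isBaseChange_pullRes j N hV' hW (le_refl (j ⁻¹ᵁ V')) (fun a => rfl) l (fun m => rfl)
  refine ⟨fun k => hbc.lift ((Algebra.linearMap Γ(Y, V') Γ(Z, j ⁻¹ᵁ V')).comp (B.coord k)), ?_⟩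
  intro k l'
  rw [pullSect_eq_pullRes]
  have h1 := hbc.lift_eq ((Algebra.linearMap Γ(Y, V') Γ(Z, j ⁻¹ᵁ V')).comp (B.coord k)) (B l')
  refine h1.trans ?_
  rw [LinearMap.comp_apply, Module.Basis.coord_apply, Module.Basis.repr_self,
    Finsupp.single_apply, Algebra.linearMap_apply]
  split_ifs with h h' h'
  · exact map_one _
  · exact absurd h.symm h'
  · exact absurd h'.symm h
  · exact map_zero _

end Coord

section Lam

theorem le_coborderRange_of_isClosedImmersion {A B : Scheme.{u}} (f : A ⟶ B)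
    [IsClosedImmersion f] (V : B.Opens) : V ≤ f.coborderRange := by
  intro x _
  change x ∈ coborder (Set.range f)
  rw [f.isClosedEmbedding.isClosed_range.coborder_eq]
  trivial

variable {X Y Z : Scheme.{u}} (i : Y ⟶ X) (j : Z ⟶ Y)
  (φ₁ : (Scheme.Modules.pullback j).obj (Omega.conormal i) ⟶ Omega.conormal (j ≫ i))
  (hφ₁ : OmegaSh.IsConormalMap (j ≫ i) i (𝟙 X) j φ₁)

include hφ₁ in
/-- from a retraction of `φ₁` on sections over the chart: functionals on the big kernel dual to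
the generators of the small kernel -/
theorem exists_lam [IsClosedImmersion i] [IsClosedImmersion j]
    {V : X.Opens} (hV : IsAffineOpen V)
    (l : List Γ(X, V)) (hl : CAlgX.IsH1Regular l.get)
    (hker : RingHom.ker (i.app V).hom = Ideal.ofList l)
    (W₀ : Z.Opens) (hW₀ : W₀ = (j ≫ i) ⁻¹ᵁ V)
    (ρ' : Γ(Omega.conormal (j ≫ i), W₀) →+
      Γ((Scheme.Modules.pullback j).obj (Omega.conormal i), W₀))
    (hlin : ∀ (c : Γ(Z, W₀)) (y : Γ(Omega.conormal (j ≫ i), W₀)), ρ' (c • y) = c • ρ' y)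
    (hρ : ∀ x, ρ' (φ₁.app W₀ x) = x) :
    ∃ lam : Fin l.length → (RingHom.ker ((j ≫ i).app V).hom →ₗ[Γ(X, V)]
          Γ(X, V) ⧸ RingHom.ker ((j ≫ i).app V).hom),
      ∀ (k k' : Fin l.length) (hk' : l.get k' ∈ RingHom.ker ((j ≫ i).app V).hom),
        lam k ⟨l.get k', hk'⟩ = if k = k' then 1 else 0 := by
  subst hW₀
  haveI : IsClosedImmersion (j ≫ i) := inferInstance
  have hiV : IsAffineOpen (i ⁻¹ᵁ V) := hV.preimage i
  have hjV : IsAffineOpen (j ⁻¹ᵁ (i ⁻¹ᵁ V)) := hiV.preimage j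
  have hsji : Function.Surjective ((j ≫ i).app V).hom := (j ≫ i).app_surjective V hV
  have hmem : ∀ k : Fin l.length, l.get k ∈ RingHom.ker (i.app V).hom := by
    intro k; rw [hker]; exact Ideal.subset_span (List.get_mem l k)
  choose s hsv using fun k => Conorm.exists_val_eq i hV (l.get k) (hmem k)
  have hker' : RingHom.ker (i.app V).hom = Ideal.span (Set.range l.get) := by
    rw [hker, Set.range_list_get]
  obtain ⟨B, hB⟩ := basis_on_good i hV (le_coborderRange_of_isClosedImmersion i V) l.get hl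
    hker' s hsv
  haveI : (Omega.conormal i).IsQuasicoherent :=
    Groth.Agent.Lib.Helper17.PbStalk.isQuasicoherent_pullback i (ClSub.idealMod i.ker)
  obtain ⟨c, hc⟩ := exists_coord j (Omega.conormal i) hiV hjV B
  obtain ⟨c', hc'add, hc'smul, hc'⟩ : ∃ c' : Fin l.length →
      Γ((Scheme.Modules.pullback j).obj (Omega.conormal i), (j ≫ i) ⁻¹ᵁ V) →
        Γ(Z, (j ≫ i) ⁻¹ᵁ V),
      (∀ k a b, c' k (a + b) = c' k a + c' k b) ∧
      (∀ k (q : Γ(Z, (j ≫ i) ⁻¹ᵁ V)) a, c' k (q • a) = q * c' k a) ∧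
      ∀ k k', c' k (OmegaSh.pullSect j (Omega.conormal i) (i ⁻¹ᵁ V) (B k')) =
        if k = k' then 1 else 0 :=
    ⟨fun k => c k, fun k a b => (c k).map_add a b, fun k q a => (c k).map_smul q a, hc⟩
  choose sec hsec using fun x : RingHom.ker ((j ≫ i).app V).hom =>
    Conorm.exists_val_eq (j ≫ i) hV x.1 x.2
  have hsec_add : ∀ x y : RingHom.ker ((j ≫ i).app V).hom, sec (x + y) = sec x + sec y := by
    intro x y
    apply IdealMod.val_injective (j ≫ i).ker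
    rw [IdealMod.val_add, hsec, hsec, hsec]; rfl
  have hsec_smul : ∀ (r : Γ(X, V)) (x : RingHom.ker ((j ≫ i).app V).hom),
      sec (r • x) = r • sec x := by
    intro r x
    apply IdealMod.val_injective (j ≫ i).ker
    rw [IdealMod.val_smul, hsec, hsec]; rfl
  let ψ : Γ(Z, (j ≫ i) ⁻¹ᵁ V) ≃+* Γ(X, V) ⧸ RingHom.ker ((j ≫ i).app V).hom :=
    (RingHom.quotientKerEquivOfSurjective hsji).symm
  have hψ : ∀ r : Γ(X, V), ψ (((j ≫ i).app V).hom r) = Ideal.Quotient.mk _ r := fun r =>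
    RingHom.quotientKerEquivOfSurjective_symm_apply hsji r
  refine ⟨fun k =>
    { toFun := fun x => ψ (c' k (ρ' (OmegaSh.conormalSect (j ≫ i) V (sec x))))
      map_add' := fun x y => by
        rw [hsec_add, map_add, map_add, hc'add, map_add]
      map_smul' := fun r x => by
        rw [hsec_smul, Conorm.conormalSect_smul, hlin, hc'smul, map_mul]
        have := hψ r
        rw [RingHom.id_apply, Algebra.smul_def, Ideal.Quotient.algebraMap_eq]
        exact congrArg (· * _) this }, ?_⟩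
  intro k k' hk'
  change ψ (c' k (ρ' (OmegaSh.conormalSect (j ≫ i) V (sec ⟨l.get k', hk'⟩)))) = _
  have h1 := ConormTriple.phi1_apply i j φ₁ hφ₁ V (s k') (sec ⟨l.get k', hk'⟩)
    ((hsec _).trans (hsv k').symm)
  have h2 : ρ' (OmegaSh.conormalSect (j ≫ i) V (sec ⟨l.get k', hk'⟩)) =
      OmegaSh.pullSect j (Omega.conormal i) (i ⁻¹ᵁ V) (B k') := by
    rw [hB k']
    exact (congrArg ρ' h1.symm).trans (hρ _)
  rw [h2, hc']
  split_ifs
  · exact map_one ψ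
  · exact map_zero ψ

end Lam

section Main

variable {X Y Z : Scheme.{u}}

theorem isRegularImmersionAt_of_split
    (i : Y ⟶ X) [IsClosedImmersion i] (j : Z ⟶ Y) [IsClosedImmersion j]
    (hi : RegImm.IsRegularImmersion .koszul i)
    (hij : RegImm.IsRegularImmersion .koszul (j ≫ i))
    (φ₁ : (Scheme.Modules.pullback j).obj (Omega.conormal i) ⟶ Omega.conormal (j ≫ i))
    (hφ₁ : OmegaSh.IsConormalMap (j ≫ i) i (𝟙 X) j φ₁)
    (z : Z) (U : Z.Opens) (hzU : z ∈ U)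
    (ρ : (Scheme.Modules.restrictFunctor U.ι).obj (Omega.conormal (j ≫ i)) ⟶
      (Scheme.Modules.restrictFunctor U.ι).obj
        ((Scheme.Modules.pullback j).obj (Omega.conormal i)))
    (hρ : (Scheme.Modules.restrictFunctor U.ι).map φ₁ ≫ ρ = 𝟙 _) :
    RegImm.IsRegularImmersionAt .koszul j z := by
  haveI : IsClosedImmersion (j ≫ i) := inferInstance
  obtain ⟨⟨U₁, hU₁m⟩, hzU₁, hcl₁, rs, hrs, hker⟩ := hi.2 (j z)
  have hU₁ : IsAffineOpen U₁ := hU₁m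
  haveI : IsClosedImmersion (i ∣_ U₁) := hcl₁
  have hrs' : LCI.IsKoszulRegularSeq Γ(X, U₁) rs := hrs
  have hker' : RingHom.ker (i.app U₁).hom = Ideal.ofList rs := hker
  obtain ⟨V₀, hV₀⟩ : ∃ V₀ : X.Opens, (j ≫ i) ⁻¹ᵁ V₀ = U := by
    have hind := (j ≫ i).isClosedEmbedding.isInducing
    obtain ⟨t, ht, htU⟩ := hind.isOpen_iff.mp U.isOpen
    exact ⟨⟨t, ht⟩, Opens.ext htU⟩
  have hzU₁' : (j ≫ i) z ∈ U₁ := hzU₁
  have hzV₀ : (j ≫ i) z ∈ V₀ := by
    have : z ∈ (j ≫ i) ⁻¹ᵁ V₀ := by rw [hV₀]; exact hzU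
    exact this
  obtain ⟨g, hgle, hzg⟩ := hU₁.exists_basicOpen_le (V := V₀) ⟨(j ≫ i) z, hzV₀⟩ hzU₁'
  obtain ⟨hiV, hsi, l, -, hl, hkerl⟩ := RegComp.koszul_basicOpen i hU₁ rs hrs' hker' g
  have hV : IsAffineOpen (X.basicOpen g) := hU₁.basicOpen g
  generalize X.basicOpen g = V at *
  have hlH1 : CAlgX.IsH1Regular l.get := fun a ha =>
    H10KL.h1_of_isZero_homology _ l (hl (-1) (by norm_num)) a ha
  have hjiV : IsAffineOpen ((j ≫ i) ⁻¹ᵁ V) := hV.preimage (j ≫ i)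
  have hsji : Function.Surjective ((j ≫ i).app V) := (j ≫ i).app_surjective V hV
  have hjV : IsAffineOpen (j ⁻¹ᵁ (i ⁻¹ᵁ V)) := hjiV
  have hsj : Function.Surjective (j.app (i ⁻¹ᵁ V)) := j.app_surjective _ hiV
  have hW₀ : U.ι ''ᵁ (U.ι ⁻¹ᵁ ((j ≫ i) ⁻¹ᵁ V)) = (j ≫ i) ⁻¹ᵁ V := by
    rw [Scheme.Hom.image_preimage_eq_opensRange_inf, Scheme.Opens.opensRange_ι]
    exact inf_eq_right.mpr (by rw [← hV₀]; exact (j ≫ i).preimage_mono hgle)
  let ρ' : Γ(Omega.conormal (j ≫ i), U.ι ''ᵁ (U.ι ⁻¹ᵁ ((j ≫ i) ⁻¹ᵁ V))) →+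
      Γ((Scheme.Modules.pullback j).obj (Omega.conormal i),
        U.ι ''ᵁ (U.ι ⁻¹ᵁ ((j ≫ i) ⁻¹ᵁ V))) :=
    (ρ.app (U.ι ⁻¹ᵁ ((j ≫ i) ⁻¹ᵁ V))).hom
  have hlin : ∀ (c : Γ(Z, U.ι ''ᵁ (U.ι ⁻¹ᵁ ((j ≫ i) ⁻¹ᵁ V))))
      (y : Γ(Omega.conormal (j ≫ i), U.ι ''ᵁ (U.ι ⁻¹ᵁ ((j ≫ i) ⁻¹ᵁ V)))),
      ρ' (c • y) = c • ρ' y := by
    intro c y
    have h := Scheme.Modules.Hom.app_smul ρ
      ((U.ι.appIso (U.ι ⁻¹ᵁ ((j ≫ i) ⁻¹ᵁ V))).hom c) y
    have hc : (U.ι.appIso (U.ι ⁻¹ᵁ ((j ≫ i) ⁻¹ᵁ V))).inv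
        ((U.ι.appIso (U.ι ⁻¹ᵁ ((j ≫ i) ⁻¹ᵁ V))).hom c) = c := by
      rw [← CommRingCat.comp_apply, Iso.hom_inv_id]
      rfl
    have h' : ρ' (((U.ι.appIso (U.ι ⁻¹ᵁ ((j ≫ i) ⁻¹ᵁ V))).inv
          ((U.ι.appIso (U.ι ⁻¹ᵁ ((j ≫ i) ⁻¹ᵁ V))).hom c)) • y) =
        ((U.ι.appIso (U.ι ⁻¹ᵁ ((j ≫ i) ⁻¹ᵁ V))).inv
          ((U.ι.appIso (U.ι ⁻¹ᵁ ((j ≫ i) ⁻¹ᵁ V))).hom c)) • ρ' y := h
    rwa [hc] at h'
  have hρ' : ∀ x, ρ' (φ₁.app (U.ι ''ᵁ (U.ι ⁻¹ᵁ ((j ≫ i) ⁻¹ᵁ V))) x) = x := by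
    intro x
    have h := congrArg (fun α => (Scheme.Modules.Hom.app α (U.ι ⁻¹ᵁ ((j ≫ i) ⁻¹ᵁ V))) x) hρ
    exact h
  obtain ⟨lam, hlam⟩ := exists_lam i j φ₁ hφ₁ hV l hlH1 hkerl
    (U.ι ''ᵁ (U.ι ⁻¹ᵁ ((j ≫ i) ⁻¹ᵁ V))) hW₀ ρ' hlin hρ'
  have hKreg : LCI.IsKoszulRegularIdeal (RingHom.ker ((j ≫ i).app V).hom) :=
    KDesc.isKoszulRegularIdeal_ker_of_isRegularImmersion (j ≫ i) hij hV hjiV hsji
  have hlK : ∀ k : Fin l.length, l.get k ∈ RingHom.ker ((j ≫ i).app V).hom := by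
    intro k
    have h1 : i.app V (l.get k) = 0 := by
      have : l.get k ∈ RingHom.ker (i.app V).hom := by
        rw [hkerl]; exact Ideal.subset_span (List.get_mem l k)
      exact this
    change j.app (i ⁻¹ᵁ V) (i.app V (l.get k)) = 0
    rw [h1, map_zero]
  have hofn : (List.ofFn fun k : Fin l.length =>
      ((⟨l.get k, hlK k⟩ : RingHom.ker ((j ≫ i).app V).hom) : Γ(X, V))) = l := List.ofFn_get l
  have hmain := KRegIdeal.isKoszulRegularIdeal_map_of_exchange (i.app V).hom hsi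
    (RingHom.ker ((j ≫ i).app V).hom) l.length (fun k => ⟨l.get k, hlK k⟩)
    (by rw [hofn]; exact hl) (by rw [hofn]; exact hkerl) lam
    (fun a b hab => by rw [hlam a b (hlK b), if_neg (ne_of_gt hab)])
    (fun a => by rw [hlam a a (hlK a), if_pos rfl]) hKreg
  have hmap : (RingHom.ker ((j ≫ i).app V).hom).map (i.app V).hom =
      RingHom.ker (j.app (i ⁻¹ᵁ V)).hom := by
    have : RingHom.ker ((j ≫ i).app V).hom =
        (RingHom.ker (j.app (i ⁻¹ᵁ V)).hom).comap (i.app V).hom := by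
      ext x; rfl
    rw [this, Ideal.map_comap_of_surjective _ hsi]
  rw [hmap] at hmain
  exact KDesc.isRegularImmersionAt_of_isKoszulRegularIdeal j hiV hjV hsj hmain z hzg

end Main

end Groth.Agent.Lib.Helper1.SplitK
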