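import Mathlib
import Groth.Agent.Lib.Helper1.Deform2

open CategoryTheory Limits AlgebraicGeometry TensorProduct

universe u
namespace Groth.Agent.Lib.Helper1.SqSurj

open Groth.Agent.Lib.Helper1

/-- Nakayama: if `⊤ ≤ N ⊔ J • ⊤` and `J ^ n` kills the module then `N = ⊤`. -/
lemma eq_top_of_top_le_sup_smul_of_pow_smul_eq_bot {R M : Type*} [CommRing R] [AddCommGroup M]
    [Module R M] (N : Submodule R M) (J : Ideal R) (n : ℕ)
    (hn : (J ^ n) • (⊤ : Submodule R M) = ⊥)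
    (h : (⊤ : Submodule R M) ≤ N ⊔ J • ⊤) : N = ⊤ := by
  have key : ∀ k : ℕ, (⊤ : Submodule R M) ≤ N ⊔ (J ^ k) • ⊤ := by
    intro k
    induction k with
    | zero => simp
    | succ k ih =>
      calc (⊤ : Submodule R M) ≤ N ⊔ J • ⊤ := h
        _ ≤ N ⊔ J • (N ⊔ (J ^ k) • ⊤) := sup_le_sup_left (Submodule.smul_mono le_rfl ih) _
        _ = N ⊔ (J • N ⊔ J • (J ^ k) • ⊤) := by rw [Submodule.smul_sup]
        _ ≤ N ⊔ (J ^ (k + 1)) • ⊤ := by
          refine sup_le le_sup_left (sup_le (le_sup_of_le_left Submodule.smul_le_right) ?_)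
          rw [← Submodule.mul_smul, ← pow_succ']
          exact le_sup_right
  have := key n
  rw [hn, sup_bot_eq] at this
  exact top_le_iff.mp this

/-- If `φ : A → B`, `𝔟 ⊆ B` a nilpotent ideal, and `A → B → B/𝔟²` is surjective, then `φ` is
surjective. -/
theorem surjective_of_surjective_mod_sq {A B : Type*} [CommRing A] [CommRing B] (φ : A →+* B)
    (𝔟 : Ideal B) (h𝔟 : IsNilpotent 𝔟)
    (h : ∀ b : B, ∃ a : A, b - φ a ∈ 𝔟 ^ 2) : Function.Surjective φ := by
  algebraize [φ]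
  -- `𝔠 = φ⁻¹ 𝔟`
  set 𝔠 : Ideal A := 𝔟.comap φ with h𝔠
  -- step 1 : `𝔟 = 𝔠 B`
  have h1 : 𝔟 ≤ 𝔠.map φ := by
    apply Deform.le_of_le_sup_smul_of_isNilpotent 𝔟 (𝔠.map φ) 𝔟 h𝔟
    intro x hx
    obtain ⟨a, ha⟩ := h x
    have ha' : φ a ∈ 𝔟 := by
      have : φ a = x - (x - φ a) := by ring
      rw [this]
      exact 𝔟.sub_mem hx (Ideal.pow_le_self two_ne_zero ha)
    have : x = φ a + (x - φ a) := by ring
    rw [this]
    refine Submodule.add_mem_sup (Ideal.mem_map_of_mem _ ha') ?_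
    rw [smul_eq_mul, ← pow_two]
    exact ha
  -- step 2 : `B = φ(A) + 𝔠 B`
  obtain ⟨n, hn⟩ := h𝔟
  have h𝔠nil : (𝔠 ^ n) • (⊤ : Submodule A B) = ⊥ := by
    rw [Ideal.smul_top_eq_map, eq_bot_iff]
    intro x hx
    have h3 : (𝔠 ^ n).map (algebraMap A B) ≤ 𝔟 ^ n := by
      rw [Ideal.map_pow]
      exact Ideal.pow_right_mono Ideal.map_comap_le n
    have := h3 hx
    rw [hn] at this
    exact this
  have h2 : (LinearMap.range (Algebra.linearMap A B)) = ⊤ := by
    apply eq_top_of_top_le_sup_smul_of_pow_smul_eq_bot _ 𝔠 n h𝔠nil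
    intro b _
    obtain ⟨a, ha⟩ := h b
    have : b = φ a + (b - φ a) := by ring
    rw [this]
    refine Submodule.add_mem_sup ⟨a, rfl⟩ ?_
    rw [Ideal.smul_top_eq_map]
    exact h1 (Ideal.pow_le_self two_ne_zero ha)
  intro b
  have : b ∈ LinearMap.range (Algebra.linearMap A B) := by rw [h2]; trivial
  exact this

set_option linter.style.haveILetI false

theorem isClosedImmersion_of_sq_subscheme_comp (X Y : Scheme.{u}) (f : X ⟶ Y)
    (I : X.IdealSheafData) (hI : IsNilpotent I)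
    (h : IsClosedImmersion ((I ^ 2).subschemeι ≫ f)) :
    IsClosedImmersion f := by
  obtain ⟨n, hn⟩ := hI
  set ι := (I ^ 2).subschemeι with hι
  -- `ι` is surjective
  have hsupp : (I ^ 2).support = ⊤ := by
    rcases Nat.eq_zero_or_pos n with rfl | hpos
    · -- `I ^ 0 = ⊤ = ⊥`, so everything is empty
      have h1 : (⊤ : X.IdealSheafData) = ⊥ := by
        rw [← Scheme.IdealSheafData.one_eq_top, ← pow_zero I, hn, Scheme.IdealSheafData.zero_eq_bot]
      have h2 : I ^ 2 = ⊥ := by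
        apply le_antisymm _ bot_le
        rw [← h1]; exact le_top
      rw [h2, Scheme.IdealSheafData.support_bot]
    · rw [Scheme.IdealSheafData.support_pow _ _ two_ne_zero,
        ← Scheme.IdealSheafData.support_pow I n hpos.ne', hn, Scheme.IdealSheafData.zero_eq_bot,
        Scheme.IdealSheafData.support_bot]
  have hιsurj : Function.Surjective ι := by
    rw [← Set.range_eq_univ, hι, Scheme.IdealSheafData.range_subschemeι, hsupp]
    rfl
  -- `f` is a closed embedding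
  have hce : Topology.IsClosedEmbedding f := by
    have h2 : Topology.IsClosedEmbedding (ι ≫ f) := Scheme.Hom.isClosedEmbedding _
    refine Topology.IsClosedEmbedding.of_continuous_injective_isClosedMap f.continuous ?_ ?_
    · intro x y hxy
      obtain ⟨a, rfl⟩ := hιsurj x
      obtain ⟨b, rfl⟩ := hιsurj y
      have : (ι ≫ f) a = (ι ≫ f) b := by simpa using hxy
      rw [h2.injective this]
    · intro C hC
      have : f '' C = (ι ≫ f) '' (ι ⁻¹' C) := by
        ext y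
        constructor
        · rintro ⟨x, hx, rfl⟩
          obtain ⟨a, rfl⟩ := hιsurj x
          exact ⟨a, hx, by simp⟩
        · rintro ⟨a, ha, rfl⟩
          exact ⟨ι a, ha, by simp⟩
      rw [this]
      exact h2.isClosedMap _ (hC.preimage ι.continuous)
  haveI : IsAffineHom f := isAffineHom_of_isInducing f hce.isInducing hce.isClosed_range
  rw [isClosedImmersion_iff_isAffineHom]
  refine ⟨inferInstance, fun U hU ↦ ?_⟩
  have hV : IsAffineOpen (f ⁻¹ᵁ U) := hU.preimage f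
  set 𝔟 : Ideal Γ(X, f ⁻¹ᵁ U) := I.ideal ⟨f ⁻¹ᵁ U, hV⟩ with h𝔟
  have h𝔟nil : IsNilpotent 𝔟 := by
    refine ⟨n, ?_⟩
    have := congrArg (fun J : X.IdealSheafData ↦ J.ideal ⟨f ⁻¹ᵁ U, hV⟩) hn
    simpa using this
  refine surjective_of_surjective_mod_sq (f.app U).hom 𝔟 h𝔟nil ?_
  intro b
  have hsurj : Function.Surjective ((ι ≫ f).app U) := (ι ≫ f).app_surjective U hU
  obtain ⟨a, ha⟩ := hsurj (ι.app (f ⁻¹ᵁ U) b)
  refine ⟨a, ?_⟩
  have hker : RingHom.ker (ι.app (f ⁻¹ᵁ U)).hom = 𝔟 ^ 2 := by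
    rw [hι, Scheme.IdealSheafData.ker_subschemeι_app (I ^ 2) ⟨f ⁻¹ᵁ U, hV⟩]
    rfl
  rw [← hker, RingHom.mem_ker, map_sub, sub_eq_zero]
  rw [Scheme.Hom.comp_app] at ha
  exact ha.symm

end Groth.Agent.Lib.Helper1.SqSurj
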