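import Mathlib
import Groth.Agent.Lib.Helper1.StalkIsoSect
set_option autoImplicit false
set_option linter.style.haveILetI false
set_option backward.isDefEq.respectTransparency false
universe u
open CategoryTheory CategoryTheory.Limits AlgebraicGeometry
open Groth.Agent.Lib.Helper12.StalkLim

namespace Groth.Agent.Lib.Helper1.StalkIsoSect

theorem exists_iso_spread
    {X Y S : Scheme.{u}} (sX : X ⟶ S) (sY : Y ⟶ S)
    [LocallyOfFinitePresentation sX] [LocallyOfFinitePresentation sY]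
    {x : X} {y : Y} (e : sX x = sY y)
    (φ : Y.presheaf.stalk y ⟶ X.presheaf.stalk x) [IsIso φ]
    (h : sY.stalkMap y ≫ φ =
      S.presheaf.stalkSpecializes (Inseparable.of_eq e).specializes ≫ sX.stalkMap x) :
    ∃ (U : X.Opens) (hxU : x ∈ U) (V : Y.Opens) (f : U.toScheme ⟶ V.toScheme), IsIso f ∧
      Spec.map φ ≫ Y.fromSpecStalk y = U.fromSpecStalkOfMem x hxU ≫ f ≫ V.ι ∧
        f ≫ V.ι ≫ sY = U.ι ≫ sX := by
  have hb₁ : (Spec.map φ ≫ Y.fromSpecStalk y) ≫ sY = X.fromSpecStalk x ≫ sX := by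
    rw [Category.assoc, ← Scheme.SpecMap_stalkMap_fromSpecStalk, ← Spec.map_comp_assoc, h,
      Spec.map_comp_assoc, Scheme.SpecMap_stalkSpecializes_fromSpecStalk,
      Scheme.SpecMap_stalkMap_fromSpecStalk]
  obtain ⟨W, g, hg1, hg2⟩ := exists_spread sX sY x _ hb₁
  let c : ↥(Spec (X.presheaf.stalk x)) := IsLocalRing.closedPoint (X.presheaf.stalk x)
  have hc : (W.U.fromSpecStalkOfMem x W.mem) c = ⟨x, W.mem⟩ := by
    apply Subtype.ext
    change W.U.ι ((W.U.fromSpecStalkOfMem x W.mem) c) = x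
    rw [← Scheme.Hom.comp_apply, Scheme.Opens.fromSpecStalkOfMem_ι]
    exact Scheme.fromSpecStalk_closedPoint
  have hy : g ⟨x, W.mem⟩ = y := by
    rw [← hc, ← Scheme.Hom.comp_apply, hg1]
    change (Y.fromSpecStalk y) ((Spec.map φ) c) = y
    have h2 : (Spec.map φ) c = IsLocalRing.closedPoint (Y.presheaf.stalk y) := by
      have : IsLocalHom φ.hom := inferInstance
      exact IsLocalRing.comap_closedPoint φ.hom
    rw [h2, Scheme.fromSpecStalk_closedPoint]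
  subst hy
  haveI : LocallyOfFinitePresentation (g ≫ sY) := by rw [hg2]; infer_instance
  haveI : LocallyOfFinitePresentation g := lfp_of_comp g sY
  have hfs : W.U.toScheme.fromSpecStalk ⟨x, W.mem⟩ =
      Spec.map (W.U.ι.stalkMap ⟨x, W.mem⟩) ≫ W.U.fromSpecStalkOfMem x W.mem := by
    rw [Scheme.Opens.fromSpecStalkOfMem, ← Spec.map_comp_assoc, IsIso.inv_hom_id, Spec.map_id,
      Category.id_comp]
  have hstalk : g.stalkMap ⟨x, W.mem⟩ = φ ≫ W.U.ι.stalkMap ⟨x, W.mem⟩ := by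
    apply Spec.map_injective
    rw [← cancel_mono (Y.fromSpecStalk (g ⟨x, W.mem⟩)), Scheme.SpecMap_stalkMap_fromSpecStalk, hfs,
      Category.assoc, hg1, Spec.map_comp, Category.assoc]
  haveI : IsIso (g.stalkMap ⟨x, W.mem⟩) := by rw [hstalk]; infer_instance
  obtain ⟨U₂, hxU₂, hopen⟩ := exists_isOpenImmersion_of_isIso_stalkMap g ⟨x, W.mem⟩
  haveI := hopen
  have hxU : x ∈ W.U.ι ''ᵁ U₂ := ⟨⟨x, W.mem⟩, hxU₂, rfl⟩
  let k : (W.U.ι ''ᵁ U₂).toScheme ⟶ Y := (W.U.ι.isoImage U₂).inv ≫ U₂.ι ≫ g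
  haveI : IsOpenImmersion k := inferInstance
  have hkι : (W.U.ι.isoImage U₂).inv ≫ U₂.ι ≫ W.U.ι = (W.U.ι ''ᵁ U₂).ι :=
    Scheme.Hom.isoImage_inv_ι _ _
  refine ⟨W.U.ι ''ᵁ U₂, hxU, k.opensRange, k.isoOpensRange.hom, inferInstance, ?_, ?_⟩
  · rw [Scheme.Hom.isoOpensRange_hom_ι, ← hg1]
    change _ = _ ≫ (W.U.ι.isoImage U₂).inv ≫ U₂.ι ≫ g
    rw [← Category.assoc, ← Category.assoc]
    congr 1
    rw [← cancel_mono W.U.ι, Scheme.Opens.fromSpecStalkOfMem_ι, Category.assoc, Category.assoc, hkι,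
      Scheme.Opens.fromSpecStalkOfMem_ι]
  · rw [← Category.assoc, Scheme.Hom.isoOpensRange_hom_ι]
    change ((W.U.ι.isoImage U₂).inv ≫ U₂.ι ≫ g) ≫ sY = _
    rw [Category.assoc, Category.assoc, hg2, ← Category.assoc U₂.ι, ← Category.assoc, hkι]

end Groth.Agent.Lib.Helper1.StalkIsoSect
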