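import Groth.Agent.Lib.Helper1.TFIdeal
import Groth.Agent.Lib.Helper1.MaxAnnTF
import Groth.Agent.Lib.Helper17.PbStalk

/-!
# Nonzero coherent modules contain direct images of ideal sheaves of integral closed subschemes
-/

set_option autoImplicit false
set_option linter.style.haveILetI false
universe u
open CategoryTheory CategoryTheory.Limits AlgebraicGeometry Opposite

namespace Groth.Agent.Lib.Helper1.SubPushIdeal

open Groth.Agent.Lib.Helper3 Scheme.Modules
open Groth.Agent.Lib.Helper1.MaxAnn Groth.Agent.Lib.Helper1.MaxAnnInt Groth.Agent.Lib.Helper1.MaxAnnTF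
open Groth.Agent.Lib.Helper17.ClImmUnit Groth.Agent.Lib.Helper1.TFIdeal

variable {X : Scheme.{u}}

theorem isNoetherian_subscheme [IsNoetherian X] (J : X.IdealSheafData) : IsNoetherian J.subscheme := by
  haveI : IsLocallyNoetherian J.subscheme := LocallyOfFiniteType.isLocallyNoetherian J.subschemeι
  haveI : CompactSpace J.subscheme := QuasiCompact.compactSpace_of_compactSpace J.subschemeι
  exact {}

theorem tfBasis_pullback [IsNoetherian X] (G : X.Modules) [G.IsQuasicoherent] [G.IsFiniteType]
    (hG : IsMaxAnn G) :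
    TFBasis ((Scheme.Modules.pullback (annData G).subschemeι).obj G)
      (fun V => ∃ U : X.affineOpens, V = (annData G).subschemeι ⁻¹ᵁ U.1) where
  aff := by
    rintro _ ⟨U, rfl⟩
    exact U.2.preimage _
  basis := by
    intro O x hx
    obtain ⟨O', hO', hOO'⟩ := (annData G).subschemeι.isEmbedding.isInducing.isOpen_iff.mp O.2
    have hx' : (annData G).subschemeι x ∈ O' := by
      have : x ∈ (annData G).subschemeι ⁻¹' O' := by rw [hOO']; exact hx
      exact this
    obtain ⟨U, hU, hxU, hUO⟩ := TopologicalSpace.Opens.isBasis_iff_nbhd.mp X.isBasis_affineOpens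
      (show (annData G).subschemeι x ∈ (⟨O', hO'⟩ : X.Opens) from hx')
    refine ⟨_, ⟨⟨U, hU⟩, rfl⟩, hxU, ?_⟩
    intro y hy
    have : y ∈ (annData G).subschemeι ⁻¹' O' := hUO hy
    rw [hOO'] at this
    exact this
  tf := by
    rintro _ ⟨U, rfl⟩ k hk b hb
    exact tf_pullback G hG U k hk b hb

theorem not_isZero_of_section {Y : Scheme.{u}} (F : Y.Modules) (W : Y.Opens) (s : Γ(F, W)) (hs : s ≠ 0) :
    ¬ IsZero F := by
  intro hz
  apply hs
  have h5 := congrArg (fun ψ => (Scheme.Modules.Hom.app ψ W).hom s)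
    ((IsZero.iff_id_eq_zero _).mp hz)
  exact h5

/-- **Every nonzero coherent module on a Noetherian scheme contains the direct image of a
nonzero quasi-coherent ideal sheaf of an integral closed subscheme.** -/
theorem exists_sub_push_ideal [IsNoetherian X] (N : X.Modules) [N.IsQuasicoherent] [N.IsFiniteType]
    (hN : ¬ IsZero N) :
    ∃ (Z : Scheme.{u}) (i : Z ⟶ X), IsClosedImmersion i ∧ IsIntegral Z ∧
      ∃ (I : Z.Modules) (ι : I ⟶ Coh.structureModule Z), Mono ι ∧ Coh.IsQCoh I ∧ ¬ IsZero I ∧
        ¬ IsZero ((Coh.push i).obj I) ∧ ∃ ψ : (Coh.push i).obj I ⟶ N, Mono ψ := by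
  obtain ⟨G, ιG, hmG, hqG, hfG, hzG, hG⟩ := exists_max_ann N hN
  haveI := hmG
  haveI := hqG
  haveI := hfG
  let i := (annData G).subschemeι
  haveI := isNoetherian_subscheme (annData G)
  haveI hint : IsIntegral (annData G).subscheme := isIntegral_subscheme_annData G hG hzG
  let H := (Scheme.Modules.pullback i).obj G
  haveI : H.IsQuasicoherent := Groth.Agent.Lib.Helper17.PbStalk.isQuasicoherent_pullback i G
  let u := (pullbackPushforwardAdjunction i).unit.app G
  haveI : IsIso u := isIso_unit_annData G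
  have hzH : ¬ IsZero H := by
    intro hz
    apply hzG
    have h1 : IsZero ((pushforward i).obj H) := Functor.map_isZero _ hz
    exact h1.of_iso (asIso u)
  obtain ⟨I, ι, φ, hι, hφ, hqI, W, ⟨U, rfl⟩, s, hs⟩ := (tfBasis_pullback G hG).exists_ideal hzH
  haveI := hφ
  refine ⟨_, i, inferInstance, hint, I, ι, hι, hqI, not_isZero_of_section I _ s hs,
    not_isZero_of_section ((pushforward i).obj I) U.1 s hs,
    (pushforward i).map φ ≫ inv u ≫ ιG, ?_⟩
  haveI : Mono ((pushforward i).map φ) := inferInstance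
  haveI : Mono (inv u ≫ ιG) := mono_comp _ _
  exact mono_comp _ _

end Groth.Agent.Lib.Helper1.SubPushIdeal
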