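import Mathlib
import Groth.Prelude
import Groth.Agent.Lib.Helper1.MinusOneH0
import Groth.Agent.Lib.Helper1.IdealSec
import Groth.Agent.Lib.Helper1.NefPull
import Groth.Agent.Lib.Helper23.GenDiv
import Groth.Agent.Lib.Helper23.CurveH
import Groth.Agent.Lib.Helper23.BCDiv
import Groth.Agent.Lib.Helper6.CurveLift

/-!
# Curves of self-intersection `≤ -2` under the non-speciality hypothesis (helper1, S16564)
-/

set_option autoImplicit false
set_option linter.unusedSectionVars false
set_option linter.style.haveILetI false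
universe u
open CategoryTheory CategoryTheory.Limits AlgebraicGeometry Opposite TopologicalSpace
open Scheme.Modules

namespace Groth.Agent.Lib.Helper1.SurfNeg

open Groth.Agent.Lib.Helper3 Groth.Agent.Lib.Helper3.InvMonoidal Groth.Agent.Lib.Helper3.InvTensor
open Groth.Agent.Lib.Helper3.InvGen Groth.Agent.Lib.Helper3.InvAmple
open Groth.Agent.Lib.Helper3.SubIdeal Groth.Agent.Lib.Helper3.IdealMod
open Groth.Agent.Lib.Helper23 Groth.Agent.Lib.Helper23.Snap Groth.Agent.Lib.Helper23.HilbP
open Groth.Agent.Lib.Helper7.SnapAlt Groth.Agent.Lib.Helper7.SnapFGA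
open Groth.Agent.Lib.Helper7.IntNumPos Groth.Agent.Lib.Helper7.IntNumDiv
open Groth.Agent.Lib.Helper7.SecDeg Groth.Agent.Lib.Helper7.HilbCoeff
open Groth.Agent.Lib.Helper7.SecDegB Groth.Agent.Lib.Helper7.TwFun
open Groth.Agent.Lib.Helper7.SecDegC Groth.Agent.Lib.Helper7.RegSec Groth.Agent.Lib.Helper17
open Groth.Agent.Lib.Helper7.SurfSecC Groth.Agent.Lib.Helper7.SurfIP
open Groth.Agent.Lib.Helper7.SurfRows Groth.Agent.Lib.Helper7.NefCoh
open Groth.Agent.Lib.Helper7.NefTrivA Groth.Agent.Lib.Helper7.NumSec
open Groth.Agent.Lib.Helper7.MinusOne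

section Top

/-- two integral curves, one contained in the other, are equal. -/
theorem eq_of_support_le {X : Scheme.{u}} (E C : X.IdealSheafData)
    (hEi : IsIntegral E.subscheme) (hCi : IsIntegral C.subscheme)
    (hE1 : topologicalKrullDim (E.support : Set X) = 1)
    (hC1 : topologicalKrullDim (C.support : Set X) = 1)
    (hle : (E.support : Set X) ⊆ (C.support : Set X)) : E = C := by
  haveI := hEi
  haveI := hCi
  have hclE := Groth.Agent.Lib.Helper6.CurveLift.closure_generic E
  have hclC := Groth.Agent.Lib.Helper6.CurveLift.closure_generic C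
  obtain ⟨ξE, hξE⟩ : ∃ ξ : X, ξ = E.subschemeι (genericPoint E.subscheme) := ⟨_, rfl⟩
  obtain ⟨ξC, hξC⟩ : ∃ ξ : X, ξ = C.subschemeι (genericPoint C.subscheme) := ⟨_, rfl⟩
  rw [← hξE] at hclE
  rw [← hξC] at hclC
  have hdimC : topologicalKrullDim ↥(closure ({ξC} : Set X)) = 1 := by rw [hclC]; exact hC1
  have hdimE : topologicalKrullDim ↥(closure ({ξE} : Set X)) = 1 := by rw [hclE]; exact hE1
  have hmem : ξE ∈ closure ({ξC} : Set X) := by
    rw [hclC]
    apply hle
    rw [← hclE]
    exact subset_closure rfl
  have heq : ξE = ξC := by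
    by_contra hne
    have hclosed := Groth.Agent.Lib.Helper1.NefPull.isClosed_singleton_of_dim_one ξC hdimC ξE
      hmem hne
    rw [hclosed.closure_eq] at hdimE
    haveI : Subsingleton ↥({ξE} : Set X) :=
      (Set.subsingleton_coe _).mpr Set.subsingleton_singleton
    have h0 : topologicalKrullDim ↥({ξE} : Set X) ≤ 0 := by
      unfold topologicalKrullDim
      haveI : Subsingleton (IrreducibleCloseds ↥({ξE} : Set X)) := by
        refine ⟨fun A B => ?_⟩
        apply IrreducibleCloseds.ext
        have hA := A.isIrreducible'.nonempty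
        have hB := B.isIrreducible'.nonempty
        ext z
        constructor
        · intro _
          obtain ⟨b, hb⟩ := hB
          rwa [Subsingleton.elim z b]
        · intro _
          obtain ⟨a, ha⟩ := hA
          rwa [Subsingleton.elim z a]
      exact Order.krullDim_nonpos_of_subsingleton
    rw [hdimE] at h0
    exact absurd h0 (by norm_num)
  have hsupp : (E.support : Set X) = (C.support : Set X) := by
    rw [← hclE, ← hclC, heq]
  have h1 : E.support ≤ C.support := fun x hx => (Set.ext_iff.mp hsupp x).mp hx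
  have h2 : C.support ≤ E.support := fun x hx => (Set.ext_iff.mp hsupp x).mpr hx
  exact le_antisymm (le_of_support_subset (inferInstance : IsReduced C.subscheme) h2)
    (le_of_support_subset (inferInstance : IsReduced E.subscheme) h1)

end Top

variable (k : Type u) [Field k] [IsAlgClosed k] (X : Scheme.{u})
  [X.Over (Spec (CommRingCat.of k))] [IsProper (X ↘ Spec (CommRingCat.of k))]

theorem globalHom_zero' {Y : Scheme.{u}} (M : Y.Modules) :
    globalHom M (0 : Γ(M, ⊤)) = 0 := by
  have h := globalHom_sec (0 : Coh.structureModule Y ⟶ M)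
  rwa [show sec (0 : Coh.structureModule Y ⟶ M) ⊤ = 0 from rfl] at h

/-- (S16564), for any inverse `N` of the ideal of `C` -/
theorem main_aux [IsIntegral X] [Smooth (X ↘ Spec (CommRingCat.of k))]
    (hdim : topologicalKrullDim X = 2)
    (hconj : ∀ (M : X.Modules), PicF.IsInvertible M →
      (∀ (E : X.IdealSheafData), IsIntegral E.subscheme →
        topologicalKrullDim (E.support : Set X) = 1 →
        Subsingleton (Coh.HH E.subscheme (Coh.structureModule E.subscheme) 1) →
        FGA.intNum k X 2 ![ClSub.idealMod E, ClSub.idealMod E] (Coh.structureModule X) = -1 →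
        -1 ≤ (Curv2.euler k X (CohB1.tensorMod (ClSub.quotMod E) M) -
          Curv2.euler k X (ClSub.quotMod E))) →
      ((Subsingleton (Coh.HH X M 0) ∧ Subsingleton (Coh.HH X M 1)) ∨
        (Subsingleton (Coh.HH X M 0) ∧ Subsingleton (Coh.HH X M 2)) ∨
        (Subsingleton (Coh.HH X M 1) ∧ Subsingleton (Coh.HH X M 2))))
    (C : X.IdealSheafData) (hCi : IsIntegral C.subscheme)
    (hC1 : topologicalKrullDim (C.support : Set X) = 1)
    (hIC : PicF.IsInvertible (ClSub.idealMod C)) (N : X.Modules)
    (eN : CohB1.tensorMod (ClSub.idealMod C) N ≅ Coh.structureModule X) :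
    -1 ≤ FGA.intNum k X 2 ![ClSub.idealMod C, ClSub.idealMod C] (Coh.structureModule X) := by
  haveI := hCi
  have hd : topologicalKrullDim X ≤ ((2 : ℕ) : WithBot ℕ∞) := by
    rw [hdim]
    norm_cast
  have hN : PicF.IsInvertible N := isInvertible_of_inverse hIC ⟨eN⟩
  let e : CohB1.tensorMod N (ClSub.idealMod C) ≅ Coh.structureModule X := braid _ _ ≪≫ eN
  -- degrees on a curve through the pairing
  have hdeg : ∀ (E : X.IdealSheafData), PicF.IsInvertible (ClSub.idealMod E) →
      ∀ M : X.Modules, PicF.IsInvertible M →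
      Curv2.euler k X (CohB1.tensorMod (ClSub.quotMod E) M) - Curv2.euler k X (ClSub.quotMod E) =
        - ip k X (ClSub.idealMod E) M := by
    intro E hIE M hM
    rw [ip_ideal k X hd E hIE M hM]
    ring
  have hCN : ip k X (ClSub.idealMod C) N = - ip k X (ClSub.idealMod C) (ClSub.idealMod C) :=
    ip_neg_right k X hd hIC eN hIC
  -- transfer to the curve
  have htr : ∀ (E : X.IdealSheafData) (M : X.Modules),
      Curv2.euler k X (CohB1.tensorMod (ClSub.quotMod E) M) - Curv2.euler k X (ClSub.quotMod E) =
      @Curv2.euler k _ E.subscheme ⟨E.subschemeι ≫ (X ↘ Spec (CommRingCat.of k))⟩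
          ((Scheme.Modules.pullback E.subschemeι).obj M) -
        @Curv2.euler k _ E.subscheme ⟨E.subschemeι ≫ (X ↘ Spec (CommRingCat.of k))⟩
          (Coh.structureModule E.subscheme) := by
    intro E M
    letI : E.subscheme.Over (Spec (CommRingCat.of k)) :=
      ⟨E.subschemeι ≫ (X ↘ Spec (CommRingCat.of k))⟩
    rw [Groth.Agent.Lib.Helper7.GGNef.euler_quotMod_tensor k X E rfl M,
      Groth.Agent.Lib.Helper7.GGNef.euler_push k X E rfl (Coh.structureModule E.subscheme)]
  -- `O_X` is non-special
  have hO : Subsingleton (Coh.HH X (Coh.structureModule X) 1) ∧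
      Subsingleton (Coh.HH X (Coh.structureModule X) 2) := by
    have h0 : Nontrivial (Coh.HH X (Coh.structureModule X) 0) :=
      Module.nontrivial_of_finrank_pos (R := k)
        (by rw [Groth.Agent.Lib.Helper23.GenDiv.h0_one k X]; exact Nat.one_pos)
    have hc := hconj (Coh.structureModule X) (isInvertible_structureModule X) (by
      intro E _ _ _ _
      rw [FBC.euler_eq_of_iso' k (SecTwist.unitorR (ClSub.quotMod E)), sub_self]
      norm_num)
    rcases hc with ⟨h, -⟩ | ⟨h, -⟩ | h
    · exact absurd h (not_subsingleton _)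
    · exact absurd h (not_subsingleton _)
    · exact h
  -- the canonical section of `N = O(C)`
  let σ : Coh.structureModule X ⟶ N := Groth.Agent.Lib.Helper1.IdealSec.secOfIdeal C e
  have hσc := Groth.Agent.Lib.Helper1.IdealSec.compl_genLocus_secOfIdeal C e hN hIC
  have hσ0 : σ ≠ 0 := by
    intro h0
    have h1 : ((CohB1.genLocus N σ : X.Opens) : Set X)ᶜ = (C.support : Set X) := hσc
    rw [h0, Groth.Agent.Lib.Helper23.BCDiv.genLocus_zero hN] at h1
    have h2 : (C.support : Set X) = Set.univ := by rw [← h1]; simp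
    have h3 : topologicalKrullDim ↥(C.support : Set X) = topologicalKrullDim X := by
      rw [h2]
      exact (Homeomorph.Set.univ X).isHomeomorph.topologicalKrullDim_eq
    rw [hC1, hdim] at h3
    exact absurd h3 (by norm_num)
  -- `N` is non-special
  have hNns : Subsingleton (Coh.HH X N 1) ∧ Subsingleton (Coh.HH X N 2) := by
    have h0 : Nontrivial (Coh.HH X N 0) := by
      by_contra hns
      have hsub : Subsingleton (Coh.HH X N 0) := not_nontrivial_iff_subsingleton.mp hns
      have h1 : T2.H0equiv N ((T2.H0equiv N).symm (sec σ ⊤)) = sec σ ⊤ :=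
        (T2.H0equiv N).apply_symm_apply _
      rw [@Subsingleton.elim _ hsub ((T2.H0equiv N).symm (sec σ ⊤)) 0, map_zero] at h1
      apply hσ0
      rw [← globalHom_sec σ, ← h1]
      exact globalHom_zero' N
    have hc := hconj N hN (by
      intro E hEi hE1 _ hEE
      haveI := hEi
      letI : E.subscheme.Over (Spec (CommRingCat.of k)) :=
        ⟨E.subschemeι ≫ (X ↘ Spec (CommRingCat.of k))⟩
      haveI : IsProper (E.subscheme ↘ Spec (CommRingCat.of k)) := by
        show IsProper (E.subschemeι ≫ (X ↘ Spec (CommRingCat.of k)))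
        infer_instance
      have hdimE : topologicalKrullDim E.subscheme = 1 := by
        rw [← hE1]
        have hemb : Topology.IsEmbedding E.subschemeι :=
          E.subschemeι.isClosedEmbedding.isEmbedding
        have h1 := hemb.toHomeomorph.isHomeomorph.topologicalKrullDim_eq
        rw [h1, E.range_subschemeι]
      by_cases ht : PbBasic.pullHom E.subschemeι σ = 0
      · -- `E ⊆ C`, hence `E = C`
        have hsub : (E.support : Set X) ⊆ (C.support : Set X) := by
          intro x hx
          rw [← hσc]
          intro hxg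
          rw [← E.range_subschemeι] at hx
          obtain ⟨w, rfl⟩ := hx
          have hw : w ∈ CohB1.genLocus ((Scheme.Modules.pullback E.subschemeι).obj N)
              (PbBasic.pullHom E.subschemeι σ) := by
            rw [PbBasic.genLocus_pullHom E.subschemeι hN σ]
            exact hxg
          rw [ht] at hw
          exact notMem_genLocus_zero _ w hw
        have hEC : E = C := eq_of_support_le E C hEi hCi hE1 hC1 hsub
        subst hEC
        rw [hdeg E hIC N hN, hCN]
        have hEE' : ip k X (ClSub.idealMod E) (ClSub.idealMod E) = -1 := hEE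
        rw [hEE']
        norm_num
      · have h1 := Groth.Agent.Lib.Helper7.GGNef.euler_le_of_section k E.subscheme hdimE _
          (PbBasic.isInvertible_pullback E.subschemeι hN) _ ht
        rw [htr E N]
        linarith)
    rcases hc with ⟨h, -⟩ | ⟨h, -⟩ | h
    · exact absurd h (not_subsingleton _)
    · exact absurd h (not_subsingleton _)
    · exact h
  -- the exact sequence
  let S : ShortComplex X.Modules := (ShortComplex.mk (ClSub.idealModι C) (ClSub.toSubscheme C)
    (kernel.condition (ClSub.toSubscheme C))).map (twR N)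
  have hS : S.ShortExact :=
    Groth.Agent.Lib.Helper7.AmpleH1.shortExact_tw hN _ (EffCart.shortExact_ideal C)
  have hH1 : Subsingleton (Coh.HH X (CohB1.tensorMod (ClSub.quotMod C) N) 1) := by
    haveI : Subsingleton (Coh.HH X S.X₂ 1) :=
      @Equiv.subsingleton _ _ (T2.HmapEquiv (unitorL N) 1).toEquiv hNns.1
    haveI : Subsingleton (Coh.HH X S.X₁ 2) :=
      @Equiv.subsingleton _ _ (T2.HmapEquiv eN 2).toEquiv hO.2
    refine ⟨fun x y => ?_⟩
    have hx : ∀ z : Coh.HH X S.X₃ 1, z = 0 := by
      intro z
      obtain ⟨w, hw⟩ := T2.exact₃ S hS 1 z (Subsingleton.elim _ _)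
      rw [← hw, Subsingleton.elim w 0, map_zero]
    exact (hx x).trans (hx y).symm
  -- the Euler characteristics on `C`
  letI : C.subscheme.Over (Spec (CommRingCat.of k)) :=
    ⟨C.subschemeι ≫ (X ↘ Spec (CommRingCat.of k))⟩
  haveI : IsProper (C.subscheme ↘ Spec (CommRingCat.of k)) := by
    show IsProper (C.subschemeι ≫ (X ↘ Spec (CommRingCat.of k)))
    infer_instance
  have hdimC : topologicalKrullDim C.subscheme = 1 := by
    rw [← hC1]
    have hemb : Topology.IsEmbedding C.subschemeι :=
      C.subschemeι.isClosedEmbedding.isEmbedding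
    have h1 := hemb.toHomeomorph.isHomeomorph.topologicalKrullDim_eq
    rw [h1, C.range_subschemeι]
  have hNC := PbBasic.isInvertible_pullback C.subschemeι hN
  have hH1C : Subsingleton (Coh.HH C.subscheme
      ((Scheme.Modules.pullback C.subschemeι).obj N) 1) := by
    let e1 : CohB1.tensorMod (ClSub.quotMod C) N ≅
        (Scheme.Modules.pushforward C.subschemeι).obj
          (CohB1.tensorMod (Coh.structureModule C.subscheme)
            ((Scheme.Modules.pullback C.subschemeι).obj N)) :=
      Groth.Agent.Lib.Helper2.Mon.projIso C.subschemeι _ _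
    let e2 := e1 ≪≫ (Scheme.Modules.pushforward C.subschemeι).mapIso (unitorL _)
    have q1 := (T2.HmapEquiv e2 1).toEquiv
    have q2 := (Groth.Agent.Lib.Helper7.PushLinear.pushEquiv C.subschemeι
      ((Scheme.Modules.pullback C.subschemeι).obj N) 1).toEquiv
    exact @Equiv.subsingleton _ _ (q1.trans q2.symm).symm hH1
  have hcoh : ∀ {M : C.subscheme.Modules}, PicF.IsInvertible M → Coh.IsCoh M := fun hM =>
    ⟨InvCoh.isQuasicoherent_of_isInvertible hM, InvCoh.isFiniteType_of_isInvertible hM⟩
  have hle1 : (1 : ℤ) ≤ 1 := le_rfl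
  have hχN : 0 ≤ Curv2.euler k C.subscheme ((Scheme.Modules.pullback C.subschemeι).obj N) := by
    haveI := hH1C
    rw [Groth.Agent.Lib.Helper23.Curve.euler_eq_h0_sub_h1 k hdimC.le _ (hcoh hNC),
      Module.finrank_zero_of_subsingleton (R := k)
        (M := Coh.HH C.subscheme ((Scheme.Modules.pullback C.subschemeι).obj N) 1)]
    simp
  have hχO : Curv2.euler k C.subscheme (Coh.structureModule C.subscheme) ≤ 1 := by
    rw [Groth.Agent.Lib.Helper23.Curve.euler_eq_h0_sub_h1 k hdimC.le _
      (T2.isCoh_structureModule C.subscheme),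
      Groth.Agent.Lib.Helper23.GenDiv.h0_one k C.subscheme]
    have : (0 : ℤ) ≤ (Module.finrank k
      (Coh.HH C.subscheme (Coh.structureModule C.subscheme) 1) : ℤ) := by positivity
    push_cast
    linarith
  have hfin := hdeg C hIC N hN
  rw [htr C N, hCN] at hfin
  change -1 ≤ ip k X (ClSub.idealMod C) (ClSub.idealMod C)
  linarith

/-- (S16564) -/
theorem main [IsIntegral X] [Smooth (X ↘ Spec (CommRingCat.of k))]
    (hdim : topologicalKrullDim X = 2)
    (hconj : ∀ (M : X.Modules), PicF.IsInvertible M →
      (∀ (E : X.IdealSheafData), IsIntegral E.subscheme →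
        topologicalKrullDim (E.support : Set X) = 1 →
        Subsingleton (Coh.HH E.subscheme (Coh.structureModule E.subscheme) 1) →
        FGA.intNum k X 2 ![ClSub.idealMod E, ClSub.idealMod E] (Coh.structureModule X) = -1 →
        -1 ≤ (Curv2.euler k X (CohB1.tensorMod (ClSub.quotMod E) M) -
          Curv2.euler k X (ClSub.quotMod E))) →
      ((Subsingleton (Coh.HH X M 0) ∧ Subsingleton (Coh.HH X M 1)) ∨
        (Subsingleton (Coh.HH X M 0) ∧ Subsingleton (Coh.HH X M 2)) ∨
        (Subsingleton (Coh.HH X M 1) ∧ Subsingleton (Coh.HH X M 2))))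
    (C : X.IdealSheafData) (hCi : IsIntegral C.subscheme)
    (hC1 : topologicalKrullDim (C.support : Set X) = 1) :
    -1 ≤ FGA.intNum k X 2 ![ClSub.idealMod C, ClSub.idealMod C] (Coh.structureModule X) := by
  have hCc := Groth.Agent.Lib.Helper7.CurveCartier.isEffCartierIdeal_of_smooth k hdim C hCi hC1
  have hIC : PicF.IsInvertible (ClSub.idealMod C) :=
    (EffCartMod.isInvertible_idealMod_iff C).mpr hCc
  obtain ⟨eN⟩ := Groth.Agent.Lib.Helper23.Inverse.tensor_dual_iso hIC
  exact main_aux k X hdim hconj C hCi hC1 hIC _ eN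

end Groth.Agent.Lib.Helper1.SurfNeg
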