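import Mathlib

/-!
# Totally disconnected locally compact abelian groups

* `exists_open_compact_subgroup` (van Dantzig): open compact subgroups form a neighbourhood basis
  of `0` in a Hausdorff t.d.l.c. topological additive group.
* `residuallyFinite_of_fg`: finitely generated abelian groups are residually finite.
* `fg_quotient_of_compact_generated`: `B/H` is finitely generated when `B` is generated by a
  compact set and `H` is an open subgroup.
-/

set_option autoImplicit false

namespace Groth.Agent.Lib.Helper1.TDLC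

open Topology Pointwise Set Filter

section vanDantzig

variable {B : Type*} [AddCommGroup B] [TopologicalSpace B] [IsTopologicalAddGroup B]

/-- the subgroup of elements translating `W` into itself in both directions -/
def stab (W : Set B) : AddSubgroup B where
  carrier := {g | (∀ w ∈ W, w + g ∈ W) ∧ (∀ w ∈ W, w - g ∈ W)}
  zero_mem' := by simp
  add_mem' := by
    intro a b ha hb
    refine ⟨fun w hw => ?_, fun w hw => ?_⟩
    · rw [← add_assoc]; exact hb.1 _ (ha.1 w hw)
    · rw [sub_add_eq_sub_sub]; exact hb.2 _ (ha.2 w hw)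
  neg_mem' := by
    intro a ha
    refine ⟨fun w hw => ?_, fun w hw => ?_⟩
    · rw [← sub_eq_add_neg]; exact ha.2 w hw
    · rw [sub_neg_eq_add]; exact ha.1 w hw

lemma stab_subset {W : Set B} (h0 : (0 : B) ∈ W) : (stab W : Set B) ⊆ W := by
  intro g hg
  have := hg.1 0 h0
  rwa [zero_add] at this

lemma exists_nhds_add_subset {W : Set B} (hWc : IsCompact W) (hWo : IsOpen W) :
    ∃ T ∈ 𝓝 (0 : B), W + T ⊆ W := by
  apply hWc.induction_on (p := fun S ↦ ∃ T ∈ 𝓝 (0 : B), S + T ⊆ W)
    ⟨Set.univ, by simp⟩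
    (fun _ _ huv ⟨T, hT, mem⟩ ↦ ⟨T, hT, (Set.add_subset_add_right huv).trans mem⟩)
    fun U V ⟨T₁, hT₁, mem1⟩ ⟨T₂, hT₂, mem2⟩ ↦ ⟨T₁ ∩ T₂, Filter.inter_mem hT₁ hT₂, by
      rw [Set.union_add]
      exact Set.union_subset (Set.add_subset_add_left Set.inter_subset_left |>.trans mem1)
        (Set.add_subset_add_left Set.inter_subset_right |>.trans mem2)⟩
  intro x memW
  have : (x, (0 : B)) ∈ (fun p : B × B ↦ p.1 + p.2) ⁻¹' W := by simp [memW]
  rcases isOpen_prod_iff.mp (continuous_add.isOpen_preimage W hWo) x 0 this with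
    ⟨U, V, Uopen, Vopen, xmemU, zmemV, prodsub⟩
  have h6 : U + V ⊆ W := Set.add_subset_iff.mpr (fun _ hx _ hy ↦ prodsub (Set.mk_mem_prod hx hy))
  exact ⟨U ∩ W, ⟨U, Uopen.mem_nhds xmemU, W, fun _ a ↦ a, rfl⟩,
    V, Vopen.mem_nhds zmemV, fun _ a ↦ h6 ((Set.add_subset_add_right Set.inter_subset_left) a)⟩

lemma isOpen_stab {W : Set B} (hWc : IsCompact W) (hWo : IsOpen W) : IsOpen (stab W : Set B) := by
  obtain ⟨T, hT, hWT⟩ := exists_nhds_add_subset hWc hWo
  apply AddSubgroup.isOpen_of_mem_nhds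
  have hT' : -T ∈ 𝓝 (0 : B) := by
    have := neg_mem_nhds_zero B hT
    simpa using this
  refine Filter.mem_of_superset (Filter.inter_mem hT hT') ?_
  rintro g ⟨hg1, hg2⟩
  refine ⟨fun w hw => hWT (Set.add_mem_add hw hg1), fun w hw => ?_⟩
  rw [sub_eq_add_neg]
  exact hWT (Set.add_mem_add hw (by simpa using hg2))

/-- van Dantzig: every open neighbourhood of `0` contains an open compact subgroup. -/
theorem exists_open_compact_subgroup [T2Space B] [LocallyCompactSpace B]
    [TotallyDisconnectedSpace B] {O : Set B} (hO : IsOpen O) (h0 : (0 : B) ∈ O) :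
    ∃ H : AddSubgroup B, IsOpen (H : Set B) ∧ IsCompact (H : Set B) ∧ (H : Set B) ⊆ O := by
  obtain ⟨K, hKc, h0K, hKO⟩ := exists_compact_subset hO h0
  obtain ⟨V, hVclopen, h0V, hVK⟩ :=
    (loc_compact_Haus_tot_disc_of_zero_dim (H := B)).mem_nhds_iff.1
      (isOpen_interior.mem_nhds h0K)
  have hVc : IsCompact V :=
    hKc.of_isClosed_subset hVclopen.isClosed (hVK.trans interior_subset)
  refine ⟨stab V, isOpen_stab hVc hVclopen.isOpen, ?_, ?_⟩
  · exact hVc.of_isClosed_subset
      (AddSubgroup.isClosed_of_isOpen _ (isOpen_stab hVc hVclopen.isOpen)) (stab_subset h0V)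
  · exact (stab_subset h0V).trans (hVK.trans (interior_subset.trans hKO))

end vanDantzig

section ResFin

/-- finitely generated abelian groups are residually finite -/
theorem exists_finiteIndex_not_mem {G : Type*} [AddCommGroup G] [AddGroup.FG G] {x : G}
    (hx : x ≠ 0) : ∃ F : AddSubgroup G, F.FiniteIndex ∧ x ∉ F := by
  classical
  obtain ⟨n, ι, _, p, hp, e, ⟨φ⟩⟩ := AddCommGroup.equiv_free_prod_directSum_zmod G
  haveI : ∀ i, NeZero (p i ^ e i) := fun i => ⟨pow_ne_zero _ (hp i).ne_zero⟩
  by_cases hf : (φ x).1 = 0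
  · -- torsion part is non-zero
    let ψ : G →+ DirectSum ι (fun i => ZMod (p i ^ e i)) := (AddMonoidHom.snd _ _).comp φ.toAddMonoidHom
    haveI : Finite (DirectSum ι (fun i => ZMod (p i ^ e i))) := by
      unfold DirectSum
      infer_instance
    refine ⟨ψ.ker, inferInstance, ?_⟩
    intro hmem
    rw [AddMonoidHom.mem_ker] at hmem
    apply hx
    apply φ.injective
    rw [map_zero]
    exact Prod.ext hf hmem
  · obtain ⟨j, hj⟩ : ∃ j, (φ x).1 j ≠ 0 := by
      by_contra hcon
      push Not at hcon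
      exact hf (Finsupp.ext hcon)
    set N : ℕ := ((φ x).1 j).natAbs + 1 with hN
    haveI : NeZero N := ⟨by omega⟩
    let ψ : G →+ ZMod N :=
      ((Int.castAddHom (ZMod N)).comp (Finsupp.applyAddHom j)).comp
        ((AddMonoidHom.fst _ _).comp φ.toAddMonoidHom)
    refine ⟨ψ.ker, inferInstance, ?_⟩
    intro hmem
    rw [AddMonoidHom.mem_ker] at hmem
    have h1 : (((φ x).1 j : ℤ) : ZMod N) = 0 := hmem
    rw [ZMod.intCast_zmod_eq_zero_iff_dvd] at h1
    have h2 := Int.natAbs_dvd_natAbs.mpr h1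
    rw [Int.natAbs_natCast] at h2
    have h3 : ((φ x).1 j).natAbs ≠ 0 := Int.natAbs_ne_zero.mpr hj
    have h4 := Nat.le_of_dvd (Nat.pos_of_ne_zero h3) h2
    omega

/-- a finite set in a f.g. abelian group meets some finite-index subgroup at most in `0` -/
theorem exists_finiteIndex_inter_finite {G : Type*} [AddCommGroup G] [AddGroup.FG G] {S : Set G}
    (hS : S.Finite) : ∃ F : AddSubgroup G, F.FiniteIndex ∧ ∀ y ∈ S, y ∈ F → y = 0 := by
  induction S, hS using Set.Finite.induction_on with
  | empty => exact ⟨⊤, inferInstance, fun y hy => absurd hy (Set.notMem_empty y)⟩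
  | insert ha hs ih =>
    rename_i a s
    obtain ⟨F, hF, hFs⟩ := ih
    by_cases ha0 : a = 0
    · refine ⟨F, hF, ?_⟩
      intro y hy hyF
      rcases hy with rfl | hy
      · exact ha0
      · exact hFs y hy hyF
    · obtain ⟨F', hF', haF'⟩ := exists_finiteIndex_not_mem ha0
      refine ⟨F ⊓ F', inferInstance, ?_⟩
      intro y hy hyF
      rcases hy with rfl | hy
      · exact absurd hyF.2 haF'
      · exact hFs y hy hyF.1

end ResFin

section FG

variable {B : Type*} [AddCommGroup B] [TopologicalSpace B] [IsTopologicalAddGroup B]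

/-- `B/H` is finitely generated when `B` is generated by a compact set and `H` is open. -/
theorem fg_quotient_of_compact_generated {K : Set B} (hK : IsCompact K)
    (hgen : AddSubgroup.closure K = ⊤) (H : AddSubgroup B) (hH : IsOpen (H : Set B)) :
    AddGroup.FG (B ⧸ H) := by
  classical
  -- cover `K` by finitely many cosets
  have hcover : K ⊆ ⋃ k : B, (fun b => k + b) '' (H : Set B) := by
    intro k _
    exact Set.mem_iUnion.mpr ⟨k, 0, H.zero_mem, add_zero k⟩
  obtain ⟨t, ht⟩ := hK.elim_finite_subcover (fun k : B => (fun b => k + b) '' (H : Set B))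
    (fun k => by
      have : (fun b => k + b) '' (H : Set B) = (Homeomorph.addLeft k) '' (H : Set B) := rfl
      rw [this]
      exact (Homeomorph.addLeft k).isOpenMap _ hH) hcover
  rw [AddGroup.fg_iff]
  refine ⟨(t.image (QuotientAddGroup.mk : B → B ⧸ H) : Finset (B ⧸ H)), ?_, Finset.finite_toSet _⟩
  rw [eq_top_iff]
  rintro x -
  obtain ⟨b, rfl⟩ := QuotientAddGroup.mk_surjective x
  have hb : b ∈ AddSubgroup.closure K := by rw [hgen]; trivial
  have hmap : (QuotientAddGroup.mk' H) b ∈
      (AddSubgroup.closure K).map (QuotientAddGroup.mk' H) := ⟨b, hb, rfl⟩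
  rw [AddMonoidHom.map_closure] at hmap
  refine AddSubgroup.closure_mono ?_ hmap
  rintro _ ⟨k, hk, rfl⟩
  obtain ⟨k', hk', hmem⟩ := Set.mem_iUnion₂.mp (ht hk)
  obtain ⟨h, hh, rfl⟩ := hmem
  simp only [Finset.coe_image, Set.mem_image, Finset.mem_coe]
  refine ⟨k', hk', ?_⟩
  change (QuotientAddGroup.mk k' : B ⧸ H) = QuotientAddGroup.mk (k' + h)
  rw [QuotientAddGroup.mk_add]
  have : (QuotientAddGroup.mk h : B ⧸ H) = 0 := (QuotientAddGroup.eq_zero_iff h).mpr hh
  rw [this, add_zero]

end FG

end Groth.Agent.Lib.Helper1.TDLC
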