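import Groth.Agent.Lib.Helper3.ModBasis
import Groth.Agent.Lib.Helper1.CycExt
import Groth.Agent.Lib.Helper1.SplitSupp

/-!
# A torsion-free quasi-coherent module on an integral scheme contains a nonzero ideal sheaf
-/

set_option autoImplicit false
set_option linter.style.haveILetI false
universe u
open CategoryTheory CategoryTheory.Limits AlgebraicGeometry Opposite

namespace Groth.Agent.Lib.Helper1.TFIdeal

open Groth.Agent.Lib.Helper3 Scheme.Modules Groth.Agent.Lib.Helper1.CycExt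

variable {Z : Scheme.{u}}

/-- a basis of affine opens on which `H` is torsion-free. -/
structure TFBasis (H : Z.Modules) (ℬ : Z.Opens → Prop) : Prop where
  aff : ∀ V, ℬ V → IsAffineOpen V
  basis : ∀ (O : Z.Opens) (x : Z), x ∈ O → ∃ V, ℬ V ∧ x ∈ V ∧ V ≤ O
  tf : ∀ V, ℬ V → ∀ k : Γ(H, V), k ≠ 0 → ∀ b : Γ(Z, V), b • k = 0 → b = 0

variable {H : Z.Modules} {ℬ : Z.Opens → Prop}

theorem TFBasis.eq_zero_of_res [H.IsQuasicoherent] (h : TFBasis H ℬ) {W V : Z.Opens} (hW : ℬ W)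
    (hVW : V ≤ W) (hne : ∃ x, x ∈ V) (k : Γ(H, W)) (hk : QCSec.res H hVW k = 0) : k = 0 := by
  by_contra hk0
  obtain ⟨x, hx⟩ := hne
  obtain ⟨f, hfV, hxf⟩ := (h.aff W hW).exists_basicOpen_le ⟨x, hx⟩ (hVW hx)
  have hloc := QCSec.isLocSec_of_isQuasicoherent H (h.aff W hW) f (Z.basicOpen f) rfl
    (Z.basicOpen_le f)
  have h1 : QCSec.res H (Z.basicOpen_le f) k = 0 := by
    have h2 : QCSec.res H hfV (QCSec.res H hVW k) = QCSec.res H (Z.basicOpen_le f) k :=
      ModBasic.map_map_apply H hfV hVW k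
    rw [← h2, hk, QCSec.res_zero]
  obtain ⟨n, hn⟩ := hloc.inj k h1
  have h3 : f ^ (n + 1) = 0 := by
    rw [pow_succ, h.tf W hW k hk0 (f ^ n) hn, zero_mul]
  have h4 : Z.basicOpen (f ^ (n + 1)) = Z.basicOpen f := Z.basicOpen_pow f (Nat.succ_pos n)
  rw [h3, Scheme.basicOpen_zero] at h4
  rw [← h4] at hxf
  exact hxf

theorem TFBasis.eq_zero_of_res_open [H.IsQuasicoherent] [IrreducibleSpace Z] (h : TFBasis H ℬ)
    {O V : Z.Opens} (hVO : V ≤ O) (hne : ∃ x, x ∈ V) (s : Γ(H, O))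
    (hs : QCSec.res H hVO s = 0) : s = 0 := by
  refine ModBasis.eq_zero_of_locally_zero H O s (fun x hx => ?_)
  obtain ⟨B, hB, hxB, hBO⟩ := h.basis O x hx
  refine ⟨B, hBO, hxB, ?_⟩
  obtain ⟨y, hy⟩ := hne
  have hne' : ((B : Set Z) ∩ (V : Set Z)).Nonempty :=
    nonempty_preirreducible_inter B.2 V.2 ⟨x, hxB⟩ ⟨y, hy⟩
  obtain ⟨z, hzB, hzV⟩ := hne'
  refine h.eq_zero_of_res hB (inf_le_left : B ⊓ V ≤ B) ⟨z, hzB, hzV⟩ _ ?_
  have h1 : QCSec.res H (inf_le_left : B ⊓ V ≤ B) (QCSec.res H hBO s) =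
      QCSec.res H (inf_le_right : B ⊓ V ≤ V) (QCSec.res H hVO s) :=
    (ModBasic.map_map_apply H _ hBO s).trans (ModBasic.map_map_apply H _ hVO s).symm
  rw [h1, hs, QCSec.res_zero]

/-- the unit `H ⟶ j_* j^* H` is a monomorphism for a nonempty open `W`. -/
theorem TFBasis.mono_unit [H.IsQuasicoherent] [IrreducibleSpace Z] (h : TFBasis H ℬ)
    (W : Z.Opens) (hne : ∃ x, x ∈ W) : Mono ((restrictAdjunction W.ι).unit.app H) := by
  rw [QCProps.mono_iff_app_injective]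
  intro O
  rw [injective_iff_map_eq_zero]
  intro s hs
  obtain ⟨y, hy⟩ := hne
  by_cases hO : ∃ x, x ∈ O
  · obtain ⟨x, hx⟩ := hO
    have hne' : ((O : Set Z) ∩ (W : Set Z)).Nonempty :=
      nonempty_preirreducible_inter O.2 W.2 ⟨x, hx⟩ ⟨y, hy⟩
    obtain ⟨z, hzO, hzW⟩ := hne'
    have hle : W.ι ''ᵁ (W.ι ⁻¹ᵁ O) ≤ O := W.ι.image_preimage_le O
    refine h.eq_zero_of_res_open hle ⟨z, ?_⟩ s hs
    rw [Scheme.Hom.image_preimage_eq_opensRange_inf, Scheme.Opens.opensRange_ι]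
    exact ⟨hzW, hzO⟩
  · refine ModBasis.eq_zero_of_locally_zero H O s (fun x hx => ?_)
    exact absurd ⟨x, hx⟩ hO

section Alpha
variable (W : Z.Opens) (H)

/-- `j_* j^* H`. -/
noncomputable abbrev T : Z.Modules := (pushforward W.ι).obj ((restrictFunctor W.ι).obj H)

/-- sections of `j_* j^* H` as sections of `H`. -/
def asH (O : Z.Opens) (y : Γ(T H W, O)) : Γ(H, W.ι ''ᵁ (W.ι ⁻¹ᵁ O)) := y

theorem asH_smul (O : Z.Opens) (r : Γ(Z, O)) (y : Γ(T H W, O)) :
    asH H W O (r • y) = QCSec.rres Z (W.ι.image_preimage_le O) r • asH H W O y := by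
  have h1 : asH H W O (r • y) =
      ((W.ι.appIso (W.ι ⁻¹ᵁ O)).inv ((W.ι.app O) r)) • asH H W O y := rfl
  rw [h1]
  congr 1
  exact congr($(W.ι.app_appIso_inv O) r)

theorem asH_res {A B : Z.Opens} (hAB : A ≤ B) (y : Γ(T H W, B)) :
    asH H W A (QCSec.res (T H W) hAB y) =
      QCSec.res H (Scheme.Hom.image_mono _ (Scheme.Hom.preimage_mono _ hAB)) (asH H W B y) := rfl

end Alpha

section Alpha2
variable (W : Z.Opens) (H)

/-- the section of `j_* j^* H` over `⊤` attached to a section of `H` over `W`. -/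
noncomputable def kTop (k : Γ(H, W)) : Γ(T H W, ⊤) :=
  QCSec.res H (W.ι_image_le (W.ι ⁻¹ᵁ ⊤)) k

/-- the morphism `O_Z ⟶ j_* j^* H` attached to a section of `H` over `W`. -/
noncomputable def α (k : Γ(H, W)) : Coh.structureModule Z ⟶ T H W := secHom (T H W) (kTop H W k)

theorem asH_α_app (k : Γ(H, W)) (O : Z.Opens) (r : Γ(Z, O)) :
    asH H W O ((α H W k).app O r) =
      QCSec.rres Z (W.ι.image_preimage_le O) r • QCSec.res H (W.ι_image_le (W.ι ⁻¹ᵁ O)) k := by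
  have h1 := ModBasic.unit_hom_app_apply (α H W k) O r
  rw [α, secHom_spec] at h1
  rw [α, h1, asH_smul]
  congr 1
  have h2 := asH_res H W (le_top : O ≤ ⊤) (kTop H W k)
  refine h2.trans ?_
  exact ModBasic.map_map_apply H _ _ k

variable {H}

theorem mono_α [H.IsQuasicoherent] [IsIntegral Z] (h : TFBasis H ℬ) (hW : ℬ W) (k : Γ(H, W))
    (hk : k ≠ 0) : Mono (α H W k) := by
  apply ModBasis.mono_of_injective_on_basis
  intro O x hx
  refine ⟨O, hx, le_rfl, ?_⟩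
  intro (r : Γ(Z, O)) hr
  -- `O ∩ W` is nonempty
  have hWne : ∃ y, y ∈ W := by
    by_contra hcon
    apply hk
    refine ModBasis.eq_zero_of_locally_zero H W k (fun y hy => absurd ⟨y, hy⟩ hcon)
  obtain ⟨y, hy⟩ := hWne
  obtain ⟨z, hzO, hzW⟩ := nonempty_preirreducible_inter O.2 W.2 ⟨x, hx⟩ ⟨y, hy⟩
  have hzc : z ∈ W.ι ''ᵁ (W.ι ⁻¹ᵁ O) := by
    rw [Scheme.Hom.image_preimage_eq_opensRange_inf, Scheme.Opens.opensRange_ι]
    exact ⟨hzW, hzO⟩
  obtain ⟨B, hB, hzB, hBc⟩ := h.basis _ z hzc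
  have hBO : B ≤ O := hBc.trans (W.ι.image_preimage_le O)
  have hBW : B ≤ W := hBc.trans (W.ι_image_le _)
  have h1 := asH_α_app H W k O r
  have hr' : (α H W k).app O r = 0 := hr
  rw [hr'] at h1
  have h2 := congrArg (QCSec.res H hBc) h1
  rw [QCSec.res_smul, QCSec.rres_rres] at h2
  have h3 : QCSec.res H hBc (QCSec.res H (W.ι_image_le (W.ι ⁻¹ᵁ O)) k) = QCSec.res H hBW k :=
    ModBasic.map_map_apply H _ _ k
  rw [h3] at h2
  have h4 : QCSec.res H hBW k ≠ 0 := fun h0 => hk (h.eq_zero_of_res hW hBW ⟨z, hzB⟩ k h0)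
  have h5 : QCSec.rres Z hBO r = 0 := by
    apply h.tf B hB _ h4
    rw [← h2]
    exact QCSec.res_zero H hBc
  haveI : Nonempty B := ⟨⟨z, hzB⟩⟩
  apply map_injective_of_isIntegral Z (homOfLE hBO)
  refine h5.trans (map_zero _).symm

theorem TFBasis.exists_section (h : TFBasis H ℬ) (hz : ¬ IsZero H) :
    ∃ (W : Z.Opens) (_ : ℬ W) (k : Γ(H, W)), k ≠ 0 := by
  by_contra hcon
  push Not at hcon
  apply hz
  apply Groth.Agent.Lib.Helper1.SplitSupp.isZero_of_sections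
  intro O
  refine ⟨fun a b => ?_⟩
  have h0 : ∀ s : Γ(H, O), s = 0 := by
    intro s
    refine ModBasis.eq_zero_of_locally_zero H O s (fun x hx => ?_)
    obtain ⟨B, hB, hxB, hBO⟩ := h.basis O x hx
    exact ⟨B, hBO, hxB, hcon B hB _⟩
  rw [h0 a, h0 b]

theorem TFBasis.exists_ideal [H.IsQuasicoherent] [IsIntegral Z] [IsNoetherian Z]
    (h : TFBasis H ℬ) (hz : ¬ IsZero H) :
    ∃ (I : Z.Modules) (ι : I ⟶ Coh.structureModule Z) (φ : I ⟶ H), Mono ι ∧ Mono φ ∧
      I.IsQuasicoherent ∧ ∃ (W : Z.Opens) (_ : ℬ W) (s : Γ(I, W)), s ≠ 0 := by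
  obtain ⟨W, hW, k, hk⟩ := h.exists_section hz
  have hWne : ∃ y, y ∈ W := by
    by_contra hcon
    apply hk
    refine ModBasis.eq_zero_of_locally_zero H W k (fun y hy => absurd ⟨y, hy⟩ hcon)
  let β : H ⟶ T H W := (restrictAdjunction W.ι).unit.app H
  haveI hβ : Mono β := h.mono_unit W hWne
  haveI hα : Mono (α H W k) := mono_α W h hW k hk
  haveI : ((restrictFunctor W.ι).obj H).IsQuasicoherent :=
    Scheme.Modules.isQuasicoherent_restrictFunctor W.ι H
  haveI : (T H W).IsQuasicoherent := QCSec.isQuasicoherent_pushforward W.ι _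
  haveI : (cokernel β).IsQuasicoherent := QCProps.isQuasicoherent_cokernel β
  haveI : (Coh.structureModule Z).IsQuasicoherent := inferInstance
  let γ : Coh.structureModule Z ⟶ cokernel β := α H W k ≫ cokernel.π β
  haveI : (kernel γ).IsQuasicoherent := QCProps.isQuasicoherent_kernel γ
  -- the lift to `H`
  have hker : IsLimit (KernelFork.ofι β (cokernel.condition β)) := Abelian.monoIsKernelOfCokernel _
    (colimit.isColimit _)
  have hcomp : (kernel.ι γ ≫ α H W k) ≫ cokernel.π β = 0 := by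
    rw [Category.assoc]; exact kernel.condition γ
  let φ : kernel γ ⟶ H := hker.lift (KernelFork.ofι (kernel.ι γ ≫ α H W k) hcomp)
  have hφ : φ ≫ β = kernel.ι γ ≫ α H W k := hker.fac _ WalkingParallelPair.zero
  refine ⟨kernel γ, kernel.ι γ, φ, equalizer.ι_mono, ?_, inferInstance, W, hW, ?_⟩
  · haveI : Mono (kernel.ι γ) := equalizer.ι_mono
    haveI : Mono (φ ≫ β) := by rw [hφ]; infer_instance
    exact mono_of_mono φ β
  · -- `1 ∈ Γ(O, W)` lies in the kernel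
    have h1 : γ.app W (1 : Γ(Z, W)) = 0 := by
      have h2 : (α H W k).app W (1 : Γ(Z, W)) = β.app W k := by
        have h3 := asH_α_app H W k W (1 : Γ(Z, W))
        have h3' : QCSec.rres Z (W.ι.image_preimage_le W) (1 : Γ(Z, W)) = 1 := map_one _
        rw [h3', one_smul] at h3
        exact h3
      show (cokernel.π β).app W ((α H W k).app W (1 : Γ(Z, W))) = 0
      rw [h2]
      have h4 := congrArg (fun ψ => (Scheme.Modules.Hom.app ψ W).hom k) (cokernel.condition β)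
      exact h4
    have hex : (ShortComplex.mk (kernel.ι γ) γ (kernel.condition γ)).Exact :=
      ShortComplex.exact_kernel _
    haveI : Mono (ShortComplex.mk (kernel.ι γ) γ (kernel.condition γ)).f := equalizer.ι_mono
    obtain ⟨s, hs⟩ := QCExact.exact_sections _ hex W (1 : Γ(Z, W)) h1
    refine ⟨s, fun hs0 => ?_⟩
    rw [hs0] at hs
    have h6 : (1 : Γ(Z, W)) = 0 := hs.symm.trans (map_zero _)
    apply hk
    rw [← one_smul Γ(Z, W) k, h6, zero_smul]

end Alpha2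

end Groth.Agent.Lib.Helper1.TFIdeal
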