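import Mathlib
import Groth.Agent.Lib.Helper1.K0Loc4
import Groth.Agent.Lib.Helper1.PowIso
import Groth.Agent.Lib.Helper13.ProjFormulaLF
import Groth.Agent.Lib.Helper17.LocFreeRank
import Groth.Agent.Lib.Helper17.LocConstRank
import Groth.Agent.Lib.Helper3.SecLoc
import Groth.Agent.Lib.Helper17.TensorSec
import Groth.Agent.Lib.Helper2.Aff.TensorQCoh

/-!
# Nilpotence of `[V] ⊗ − − r` on `K₀(Coh)`: preliminaries
-/

set_option autoImplicit false
set_option linter.style.haveILetI false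
universe u

open CategoryTheory CategoryTheory.Limits AlgebraicGeometry TopologicalSpace Opposite
  Scheme.Modules

namespace Groth.Agent.Lib.Helper1.ThetaNil

open Groth.Agent.Lib.Helper17 Groth.Agent.Lib.Helper1.K0Loc KZero H10K0
  Groth.Agent.Lib.Helper13.ProjFormulaLF

variable {X : Scheme.{u}}

theorem clSub_pow (A : X.Modules) (hA : Coh.IsCoh A) :
    ∀ n : ℕ, clSub (CohQ X) (DevPow.pow A n) = n • clSub (CohQ X) A
  | 0 => by
    rw [zero_smul]
    exact clSub_isZero (CohQ X) (DevPow.isZero_pow_zero A)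
      (DevBasic.isCoh_of_isZero (DevPow.isZero_pow_zero A))
  | n + 1 => by
    have h := clSub_ses (CohQ X) _ (DevPow.shortExact_biprod A (DevPow.pow A n)) hA
      (DevPow.isCoh_biprod A _ hA (DevPow.isCoh_pow A hA n)) (DevPow.isCoh_pow A hA n)
    rw [succ_nsmul, ← clSub_pow A hA n]
    exact h.trans (add_comm _ _)

theorem isCoh_sigma (A : X.Modules) (hA : Coh.IsCoh A) (n : ℕ) :
    Coh.IsCoh (∐ fun _ : Fin n => A) := by
  obtain ⟨e⟩ := Groth.Agent.Lib.Helper1.PowIso.nonempty_iso A n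
  exact DevBasic.isCoh_of_iso e (DevPow.isCoh_pow A hA n)

theorem clSub_sigma (A : X.Modules) (hA : Coh.IsCoh A) (n : ℕ) :
    clSub (CohQ X) (∐ fun _ : Fin n => A) = n • clSub (CohQ X) A := by
  obtain ⟨e⟩ := Groth.Agent.Lib.Helper1.PowIso.nonempty_iso A n
  rw [← clSub_pow A hA n]
  exact (clSub_coh_iso e (DevPow.isCoh_pow A hA n)).symm

/-- Tensoring with a finite locally free module preserves coherence. -/
theorem isCoh_TL (E : X.Modules) {r : ℕ} (hE : FlatMod.IsFinLocFreeOfRank r E) (N : X.Modules)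
    (hN : Coh.IsCoh N) : Coh.IsCoh ((TL E).obj N) := by
  have hEq : E.IsQuasicoherent := Groth.Agent.Lib.Helper3.SecLoc.isQuasicoherent_of_isFinLocFreeOfRank hE
  haveI := hEq
  have hEf : FlatMod.IsFinLocFree E := fun x => by
    obtain ⟨U, hxU, h⟩ := hE x
    exact ⟨U, r, hxU, h⟩
  haveI : E.IsFiniteType := LocConstRank.isFiniteType_of_isFinLocFree E hEf
  haveI := hN.1
  haveI := hN.2
  exact ⟨Groth.Agent.Lib.Helper2.Mon.isQCoh_tensor E N hEq hN.1,
    TensorSec.isFiniteType_tensorMod E N⟩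

end Groth.Agent.Lib.Helper1.ThetaNil
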