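import Mathlib
import Groth.Agent.Lib.Helper1.ThetaNil1
import Groth.Agent.Lib.Helper13.ClImmPush
import Groth.Agent.S0019

/-!
# Nilpotence of `[V] ⊗ − − r` on `K₀(Coh)`: the operator and its compatibilities
-/

set_option autoImplicit false
set_option linter.style.haveILetI false
universe u

open CategoryTheory CategoryTheory.Limits AlgebraicGeometry TopologicalSpace Opposite
  Scheme.Modules

namespace Groth.Agent.Lib.Helper1.ThetaNil

open Groth.Agent.Lib.Helper17 Groth.Agent.Lib.Helper1.K0Loc KZero H10K0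
  Groth.Agent.Lib.Helper13.ProjFormulaLF Groth.Agent.Lib.Helper3

variable {X : Scheme.{u}}

theorem finLocFree_of_rank {E : X.Modules} {r : ℕ} (hE : FlatMod.IsFinLocFreeOfRank r E) :
    FlatMod.IsFinLocFree E := fun x => by
  obtain ⟨U, hxU, h⟩ := hE x
  exact ⟨U, r, hxU, h⟩

/-- The operator `[E] ⊗ − − r` on `K₀(Coh X)`. -/
noncomputable def theta (E : X.Modules) (r : ℕ) (hE : FlatMod.IsFinLocFreeOfRank r E) :
    K0sub (CohQ X) →+ K0sub (CohQ X) :=
  haveI := pfl_TL E (finLocFree_of_rank hE)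
  SGA6.mapSub (TL E) (CohQ X) (CohQ X) (fun M hM => isCoh_TL E hE M hM) -
    r • AddMonoidHom.id (K0sub (CohQ X))

theorem theta_clSub (E : X.Modules) (r : ℕ) (hE : FlatMod.IsFinLocFreeOfRank r E)
    (N : X.Modules) (hN : Coh.IsCoh N) :
    theta E r hE (clSub (CohQ X) N) =
      clSub (CohQ X) ((TL E).obj N) - r • clSub (CohQ X) N := by
  haveI := pfl_TL E (finLocFree_of_rank hE)
  unfold theta
  rw [AddMonoidHom.sub_apply, AddMonoidHom.smul_apply, AddMonoidHom.id_apply,
    mapSub_clSub _ _ _ _ N hN]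

/-- Over a trivializing open, `E ⊗ N` is `r` copies of `N`. -/
theorem clSub_restrict_TL (E : X.Modules) (r : ℕ) (U : X.Opens)
    (φ : (restrictFunctor U.ι).obj E ≅ FlatMod.freeMod (↑U) r) (N : X.Modules)
    (hN : Coh.IsCoh N) :
    clSub (CohQ (U : Scheme.{u})) ((restrictFunctor U.ι).obj ((TL E).obj N)) =
      r • clSub (CohQ (U : Scheme.{u})) ((restrictFunctor U.ι).obj N) := by
  have hNU : Coh.IsCoh ((restrictFunctor U.ι).obj N) := isCoh_restrict' U.ι N hN
  let e : (restrictFunctor U.ι).obj ((TL E).obj N) ≅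
      ∐ fun _ : Fin r => (restrictFunctor U.ι).obj N :=
    (Groth.Agent.Lib.Helper2.Mon.resTensorIso' U.ι E N).symm ≪≫
      ((DCoh.tensorBi (X := (U : Scheme.{u}))).mapIso φ).app _ ≪≫
      freeTensorIso (U : Scheme.{u}) r _
  rw [← clSub_sigma _ hNU r]
  exact (clSub_coh_iso e.symm (isCoh_sigma _ hNU r)).symm

theorem mapSub_restrict_theta (E : X.Modules) (r : ℕ) (hE : FlatMod.IsFinLocFreeOfRank r E)
    (U : X.Opens) (φ : (restrictFunctor U.ι).obj E ≅ FlatMod.freeMod (↑U) r)
    (hj : ∀ M : X.Modules, Coh.IsCoh M → Coh.IsCoh ((restrictFunctor U.ι).obj M))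
    (N : X.Modules) (hN : Coh.IsCoh N) :
    SGA6.mapSub (restrictFunctor U.ι) (CohQ X) (CohQ (U : Scheme.{u})) hj
      (theta E r hE (clSub (CohQ X) N)) = 0 := by
  rw [theta_clSub E r hE N hN, map_sub, map_nsmul, mapSub_clSub _ _ _ hj _ (isCoh_TL E hE N hN),
    mapSub_clSub _ _ _ hj N hN, clSub_restrict_TL E r U φ N hN, sub_self]

section push

variable {X' : Scheme.{u}} (i : X' ⟶ X) [IsClosedImmersion i]

instance : PreservesFiniteLimits (pushforward i) := by
  haveI := Groth.Agent.Lib.Helper13.ClImmPush.preservesHomology_pushforward i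
  exact (pushforward i).preservesFiniteLimits_of_preservesHomology

instance : PreservesFiniteColimits (pushforward i) := by
  haveI := Groth.Agent.Lib.Helper13.ClImmPush.preservesHomology_pushforward i
  exact (pushforward i).preservesFiniteColimits_of_preservesHomology

theorem isCoh_pushforward [IsLocallyNoetherian X] (M : X'.Modules) (hM : Coh.IsCoh M) :
    Coh.IsCoh ((pushforward i).obj M) :=
  Groth.Agent.S0019.result i M hM

/-- Projection formula on `K₀`: `θ_X ∘ i_* = i_* ∘ θ_{X'}`. -/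
theorem theta_push [IsLocallyNoetherian X] (E : X.Modules) (r : ℕ)
    (hE : FlatMod.IsFinLocFreeOfRank r E)
    (hi : ∀ M : X'.Modules, Coh.IsCoh M → Coh.IsCoh ((pushforward i).obj M))
    (y : K0sub (CohQ X')) :
    theta E r hE (SGA6.mapSub (pushforward i) (CohQ X') (CohQ X) hi y) =
      SGA6.mapSub (pushforward i) (CohQ X') (CohQ X) hi
        (theta ((Scheme.Modules.pullback i).obj E) r
          (LocFreeRank.isFinLocFreeOfRank_pullback i E r hE) y) := by
  have hE' := LocFreeRank.isFinLocFreeOfRank_pullback i E r hE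
  have key : (theta E r hE).comp (SGA6.mapSub (pushforward i) (CohQ X') (CohQ X) hi) =
      (SGA6.mapSub (pushforward i) (CohQ X') (CohQ X) hi).comp
        (theta ((Scheme.Modules.pullback i).obj E) r hE') := by
    apply K0sub_hom_ext
    intro N hN
    rw [AddMonoidHom.comp_apply, AddMonoidHom.comp_apply, mapSub_clSub _ _ _ hi N hN,
      theta_clSub E r hE _ (hi N hN), theta_clSub _ r hE' N hN, map_sub, map_nsmul,
      mapSub_clSub _ _ _ hi N hN, mapSub_clSub _ _ _ hi _ (isCoh_TL _ hE' N hN)]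
    congr 1
    exact clSub_coh_iso ((projNatIsoL i E (finLocFree_of_rank hE)).app N)
      (isCoh_TL E hE _ (hi N hN))
  exact DFunLike.congr_fun key y

end push

end Groth.Agent.Lib.Helper1.ThetaNil
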