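import Mathlib
import Groth.Agent.Lib.Helper1.ThetaNil2

/-!
# Nilpotence of `[V] ⊗ − − r` on `K₀(Coh)`: the induction
-/

set_option autoImplicit false
set_option linter.style.haveILetI false
universe u

open CategoryTheory CategoryTheory.Limits AlgebraicGeometry TopologicalSpace Opposite
  Scheme.Modules

namespace Groth.Agent.Lib.Helper1.ThetaNil

open Groth.Agent.Lib.Helper17 Groth.Agent.Lib.Helper1.K0Loc KZero H10K0
  Groth.Agent.Lib.Helper13.ProjFormulaLF Groth.Agent.Lib.Helper3

theorem isNoetherian_of_closedImmersion {X' W : Scheme.{u}} [IsNoetherian W] (i : X' ⟶ W)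
    [IsClosedImmersion i] : IsNoetherian X' := by
  haveI : IsLocallyNoetherian X' := LocallyOfFiniteType.isLocallyNoetherian i
  haveI : CompactSpace X' := QuasiCompact.compactSpace_of_compactSpace i
  exact {}

theorem mapSub_push_comp {X'' X' W : Scheme.{u}} (i' : X'' ⟶ X') (i : X' ⟶ W)
    [IsClosedImmersion i'] [IsClosedImmersion i]
    (hi' : ∀ M : X''.Modules, Coh.IsCoh M → Coh.IsCoh ((pushforward i').obj M))
    (hi : ∀ M : X'.Modules, Coh.IsCoh M → Coh.IsCoh ((pushforward i).obj M))
    (hii : ∀ M : X''.Modules, Coh.IsCoh M → Coh.IsCoh ((pushforward (i' ≫ i)).obj M))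
    (y : K0sub (CohQ X'')) :
    SGA6.mapSub (pushforward i) (CohQ X') (CohQ W) hi
        (SGA6.mapSub (pushforward i') (CohQ X'') (CohQ X') hi' y) =
      SGA6.mapSub (pushforward (i' ≫ i)) (CohQ X'') (CohQ W) hii y := by
  have key : (SGA6.mapSub (pushforward i) (CohQ X') (CohQ W) hi).comp
      (SGA6.mapSub (pushforward i') (CohQ X'') (CohQ X') hi') =
      SGA6.mapSub (pushforward (i' ≫ i)) (CohQ X'') (CohQ W) hii := by
    apply K0sub_hom_ext
    intro N hN
    rw [AddMonoidHom.comp_apply, mapSub_clSub _ _ _ hi' N hN, mapSub_clSub _ _ _ hi _ (hi' N hN),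
      mapSub_clSub _ _ _ hii N hN]
    exact clSub_coh_iso ((pushforwardComp i' i).app N) (hi _ (hi' N hN))
  exact DFunLike.congr_fun key y

theorem eq_zero_of_isEmpty {X' : Scheme.{u}} [IsEmpty X'] (y : K0sub (CohQ X')) : y = 0 := by
  refine K0sub_induction (motive := fun y => y = 0) (CohQ X') y rfl ?_ ?_ ?_
  · intro N hN
    exact clSub_isZero (CohQ X') (DevBasic.isZero_of_support_eq_empty (Set.eq_empty_of_isEmpty _)) hN
  · intro N hN
    rw [clSub_isZero (CohQ X') (DevBasic.isZero_of_support_eq_empty (Set.eq_empty_of_isEmpty _)) hN,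
      neg_zero]
  · intro a b ha hb
    rw [ha, hb, add_zero]

theorem nilp_aux {W : Scheme.{u}} [IsNoetherian W] (V : W.Modules) (r : ℕ)
    (hV : FlatMod.IsFinLocFreeOfRank r V) (Z : Closeds W) :
    ∀ (X' : Scheme.{u}) (i : X' ⟶ W) [IsClosedImmersion i]
      (hi : ∀ M : X'.Modules, Coh.IsCoh M → Coh.IsCoh ((pushforward i).obj M)),
      Set.range i ⊆ (Z : Set W) →
      ∃ n : ℕ, ∀ y : K0sub (CohQ X'),
        (⇑(theta V r hV))^[n] (SGA6.mapSub (pushforward i) (CohQ X') (CohQ W) hi y) = 0 := by
  induction Z using WellFoundedLT.induction with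
  | ind Z IH =>
    intro X' i _ hi hsub
    by_cases hne : Nonempty X'
    · obtain ⟨x'⟩ := hne
      obtain ⟨U, hzU, ⟨φ⟩⟩ := hV (i x')
      haveI : IsNoetherian X' := isNoetherian_of_closedImmersion i
      -- the closed complement of the trivializing open in `X'`
      let U' : X'.Opens := i ⁻¹ᵁ U
      have hx'U' : x' ∈ U' := hzU
      let Z₁' : Closeds X' := ⟨(U' : Set X')ᶜ, U'.2.isClosed_compl⟩
      let J : X'.IdealSheafData := Scheme.IdealSheafData.vanishingIdeal Z₁'
      have hrange' : Set.range J.subschemeι = (U' : Set X')ᶜ := by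
        rw [Scheme.IdealSheafData.range_subschemeι, Scheme.IdealSheafData.coe_support_vanishingIdeal]
        rfl
      let Z₁ : Closeds W := ⟨i '' (Z₁' : Set X'), i.isClosedEmbedding.isClosedMap _ Z₁'.isClosed⟩
      have hlt : Z₁ < Z := by
        refine lt_of_le_of_ne ?_ ?_
        · rintro _ ⟨w, -, rfl⟩
          exact hsub ⟨w, rfl⟩
        · intro heq
          have h1 : i x' ∈ (Z₁ : Set W) := by rw [heq]; exact hsub ⟨x', rfl⟩
          obtain ⟨w, hw, hwe⟩ := h1
          have : w = x' := i.isClosedEmbedding.injective hwe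
          exact hw (this ▸ hx'U')
      have hii : ∀ M : (J.subscheme).Modules, Coh.IsCoh M →
          Coh.IsCoh ((pushforward (J.subschemeι ≫ i)).obj M) :=
        fun M hM => isCoh_pushforward (J.subschemeι ≫ i) M hM
      have hi' : ∀ M : (J.subscheme).Modules, Coh.IsCoh M →
          Coh.IsCoh ((pushforward J.subschemeι).obj M) :=
        fun M hM => isCoh_pushforward J.subschemeι M hM
      have hsub₁ : Set.range (J.subschemeι ≫ i) ⊆ (Z₁ : Set W) := by
        rintro _ ⟨w, rfl⟩
        refine ⟨J.subschemeι w, ?_, rfl⟩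
        show J.subschemeι w ∈ (U' : Set X')ᶜ
        rw [← hrange']
        exact ⟨w, rfl⟩
      obtain ⟨n₁, hn₁⟩ := IH Z₁ hlt J.subscheme (J.subschemeι ≫ i) hii hsub₁
      refine ⟨n₁ + 1, fun y => ?_⟩
      have hV' := LocFreeRank.isFinLocFreeOfRank_pullback i V r hV
      obtain ⟨φ'⟩ := LocFreeRank.restrict_pullback_free i V U r φ
      have hj : ∀ M : X'.Modules, Coh.IsCoh M → Coh.IsCoh ((restrictFunctor U'.ι).obj M) :=
        fun M hM => isCoh_restrict' U'.ι M hM
      have hU' : Set.range U'.ι = (Set.range J.subschemeι)ᶜ := by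
        rw [hrange', compl_compl]
        exact Scheme.Opens.range_ι U'
      obtain ⟨-, hker⟩ := K0Loc.main J.subschemeι U'.ι hU' hi' hj
      refine K0sub_induction (motive := fun y => (⇑(theta V r hV))^[n₁ + 1]
        (SGA6.mapSub (pushforward i) (CohQ X') (CohQ W) hi y) = 0) (CohQ X') y ?_ ?_ ?_ ?_
      · rw [map_zero, iterate_map_zero]
      · intro N hN
        rw [Function.iterate_succ_apply, theta_push i V r hV hi]
        have h0 := mapSub_restrict_theta ((Scheme.Modules.pullback i).obj V) r hV' U' φ' hj N hN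
        have hmem : theta ((Scheme.Modules.pullback i).obj V) r hV' (clSub (CohQ X') N) ∈
            (SGA6.mapSub (pushforward J.subschemeι) (CohQ J.subscheme) (CohQ X') hi').range := by
          rw [← hker]
          exact AddMonoidHom.mem_ker.mpr h0
        obtain ⟨y'', hy''⟩ := hmem
        rw [← hy'', mapSub_push_comp J.subschemeι i hi' hi hii]
        exact hn₁ y''
      · intro N hN
        rw [map_neg, iterate_map_neg, neg_eq_zero, Function.iterate_succ_apply,
          theta_push i V r hV hi]
        have h0 := mapSub_restrict_theta ((Scheme.Modules.pullback i).obj V) r hV' U' φ' hj N hN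
        have hmem : theta ((Scheme.Modules.pullback i).obj V) r hV' (clSub (CohQ X') N) ∈
            (SGA6.mapSub (pushforward J.subschemeι) (CohQ J.subscheme) (CohQ X') hi').range := by
          rw [← hker]
          exact AddMonoidHom.mem_ker.mpr h0
        obtain ⟨y'', hy''⟩ := hmem
        rw [← hy'', mapSub_push_comp J.subschemeι i hi' hi hii]
        exact hn₁ y''
      · intro a b ha hb
        rw [map_add, iterate_map_add, ha, hb, add_zero]
    · haveI : IsEmpty X' := not_nonempty_iff.mp hne
      refine ⟨0, fun y => ?_⟩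
      rw [eq_zero_of_isEmpty y, map_zero]
      rfl

end Groth.Agent.Lib.Helper1.ThetaNil
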