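import Mathlib
import Groth.Prelude
import Groth.Agent.Lib.Helper15.ThickEq
import Groth.Agent.Lib.Helper6.SysAdic
import Groth.Agent.Lib.Helper6.IdealComap

/-!
# Morphisms from a proper scheme over a complete base agreeing on all thickenings are equal
(helper1)
-/
set_option autoImplicit false
universe u
open CategoryTheory CategoryTheory.Limits AlgebraicGeometry TopologicalSpace Opposite

namespace Groth.Agent.Lib.Helper1.ThickEqAll

theorem subschemeι_comp_eq_of_ker_eq {Z X Y : Scheme.{u}} (i : Z ⟶ X) [IsClosedImmersion i]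
    (φ ψ : X ⟶ Y) (h : i ≫ φ = i ≫ ψ) (K : X.IdealSheafData) (hK : i.ker = K) :
    K.subschemeι ≫ φ = K.subschemeι ≫ ψ := by
  subst hK
  haveI : IsIso i.toImage := inferInstance
  rw [← cancel_epi i.toImage]
  have e : i.toImage ≫ i.ker.subschemeι = i := i.toImage_imageι
  rw [← Category.assoc, ← Category.assoc, e]
  exact h

variable (A : Type u) [CommRing A] (I : Ideal A)

theorem mem_range_specMap_mk (x : PrimeSpectrum A) :
    x ∈ Set.range (PrimeSpectrum.comap (Ideal.Quotient.mk I)) ↔ I ≤ x.asIdeal := by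
  rw [_root_.range_comap_of_surjective _ (Ideal.Quotient.mk I) Ideal.Quotient.mk_surjective,
    Ideal.mk_ker]
  exact PrimeSpectrum.mem_zeroLocus _ _

theorem mem_support_idealSpec (x : Spec (CommRingCat.of A)) :
    x ∈ (FSch.idealSpec A I).support ↔ I ≤ x.asIdeal := by
  unfold FSch.idealSpec
  have h1 : ((Spec.map (CommRingCat.ofHom (Ideal.Quotient.mk I))).ker.support : Set _) =
      closure (Set.range (Spec.map (CommRingCat.ofHom (Ideal.Quotient.mk I)))) :=
    Scheme.Hom.support_ker _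
  haveI : IsClosedImmersion (Spec.map (CommRingCat.ofHom (Ideal.Quotient.mk I))) :=
    IsClosedImmersion.spec_of_surjective _ Ideal.Quotient.mk_surjective
  have hcl : IsClosed (Set.range (Spec.map (CommRingCat.ofHom (Ideal.Quotient.mk I)))) :=
    (Spec.map (CommRingCat.ofHom (Ideal.Quotient.mk I))).isClosedEmbedding.isClosed_range
  change x ∈ ((Spec.map (CommRingCat.ofHom (Ideal.Quotient.mk I))).ker.support : Set _) ↔ _
  rw [h1, hcl.closure_eq]
  exact mem_range_specMap_mk A I x

/-- a closed subset of `Spec A` missing `V(I)` is empty when `I` is in the Jacobson radical. -/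
theorem eq_empty_of_isClosed_of_disjoint (hI : I ≤ (⊥ : Ideal A).jacobson)
    (T : Set (PrimeSpectrum A)) (hT : IsClosed T)
    (h : ∀ x ∈ T, ¬ I ≤ x.asIdeal) : T = ∅ := by
  obtain ⟨K, rfl⟩ := (PrimeSpectrum.isClosed_iff_zeroLocus_ideal T).1 hT
  by_contra hne
  have hK : K ≠ ⊤ := by
    rintro rfl
    apply hne
    simp
  obtain ⟨m, hm, hKm⟩ := Ideal.exists_le_maximal K hK
  refine h ⟨m, hm.isPrime⟩ ?_ ?_
  · exact (PrimeSpectrum.mem_zeroLocus _ _).2 hKm
  · refine hI.trans ?_
    exact sInf_le ⟨bot_le, hm⟩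

theorem eq_of_forall_thick [IsNoetherianRing A] [IsAdicComplete I A] {X Y : Scheme.{u}}
    (f : X ⟶ Spec (CommRingCat.of A)) [IsProper f] (φ ψ : X ⟶ Y)
    (e : ∀ n : ℕ, CohB1.thickι f I n ≫ φ = CohB1.thickι f I n ≫ ψ) : φ = ψ := by
  haveI : IsLocallyNoetherian X := LocallyOfFiniteType.isLocallyNoetherian f
  haveI hci : ∀ n, IsClosedImmersion (CohB1.specQuot I n) := fun n =>
    IsClosedImmersion.spec_of_surjective _ Ideal.Quotient.mk_surjective
  have hker : ∀ n, (CohB1.thickι f I n).ker = ((FSch.idealSpec A I).comap f) ^ (n + 1) := by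
    intro n
    change (pullback.fst f (CohB1.specQuot I n)).ker = _
    rw [Scheme.IdealSheafData.ker_fst_of_isClosedImmersion]
    change (FSch.idealSpec A (I ^ (n + 1))).comap f = _
    rw [Groth.Agent.Lib.Helper6.SysAdic.idealSpec_pow,
      Groth.Agent.Lib.Helper6.IdealComap.comap_pow]
  haveI hci' : ∀ n, IsClosedImmersion (CohB1.thickι f I n) := fun n =>
    (inferInstance : IsClosedImmersion (pullback.fst f (CohB1.specQuot I n)))
  have h : ∀ n, (((FSch.idealSpec A I).comap f) ^ (n + 1)).subschemeι ≫ φ =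
      (((FSch.idealSpec A I).comap f) ^ (n + 1)).subschemeι ≫ ψ := fun n =>
    subschemeι_comp_eq_of_ker_eq (CohB1.thickι f I n) φ ψ (e n) _ (hker n)
  obtain ⟨U, hU, hUeq⟩ :=
    Groth.Agent.Lib.Helper15.TE.eq_on_nhd_of_forall_thickening_eq φ ψ _ h
  have hUtop : U = ⊤ := by
    have hcl : IsClosed (f '' (U : Set X)ᶜ) := f.isClosedMap _ U.isOpen.isClosed_compl
    have hempty := eq_empty_of_isClosed_of_disjoint A I (IsAdicComplete.le_jacobson_bot I) _ hcl ?_
    · rw [eq_top_iff]
      intro x _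
      by_contra hx
      have hx' : f x ∈ f '' (U : Set X)ᶜ := ⟨x, hx, rfl⟩
      rw [hempty] at hx'
      exact hx'
    · rintro _ ⟨z, hz, rfl⟩ hI
      apply hz
      apply hU
      rw [Scheme.IdealSheafData.support_comap]
      exact (mem_support_idealSpec A I (f z)).2 hI
  subst hUtop
  haveI : IsIso (⊤ : X.Opens).ι := by
    rw [isIso_iff_isOpenImmersion_and_surjective]
    refine ⟨inferInstance, ⟨fun x => ⟨⟨x, trivial⟩, rfl⟩⟩⟩
  exact (cancel_epi (⊤ : X.Opens).ι).1 hUeq

end Groth.Agent.Lib.Helper1.ThickEqAll
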