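import Mathlib
import Groth.Agent.Lib.Helper1.NilSurj

open CategoryTheory AlgebraicGeometry

universe u

namespace Groth.Agent.Lib.Helper1.ThickFT

open Groth.Agent.Lib.Helper1

/-- `φ : A → B`, `π : B ↠ B₀` surjective with f.g. nilpotent kernel, `π ∘ φ` of finite type ⇒ `φ` of
finite type. -/
theorem finiteType_of_comp_surjective_nilpotent {A B B₀ : Type*} [CommRing A] [CommRing B]
    [CommRing B₀] (φ : A →+* B) (π : B →+* B₀) (hπ : Function.Surjective π)
    (hnil : IsNilpotent (RingHom.ker π)) (hfg : (RingHom.ker π).FG)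
    (h : (π.comp φ).FiniteType) : φ.FiniteType := by
  classical
  algebraize [φ, π.comp φ]
  obtain ⟨t, ht⟩ := (Algebra.FiniteType.out : (⊤ : Subalgebra A B₀).FG)
  obtain ⟨s, hs⟩ := hfg
  choose l hl using hπ
  let T : Finset B := t.image l ∪ s
  let C : Subalgebra A B := Algebra.adjoin A (T : Set B)
  suffices hC : C = ⊤ from ⟨⟨T, hC⟩⟩
  have hsC : ∀ g ∈ s, g ∈ C := fun g hg ↦
    Algebra.subset_adjoin (by simp [T, hg])
  let πA : B →ₐ[A] B₀ := { π with commutes' := fun a ↦ rfl }
  have hπA : ∀ b, πA b = π b := fun _ ↦ rfl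
  have hmap : C.map πA = ⊤ := by
    rw [eq_top_iff, ← ht, AlgHom.map_adjoin]
    apply Algebra.adjoin_mono
    intro x hx
    refine ⟨l x, ?_, hl x⟩
    simp only [T, Finset.coe_union, Finset.coe_image, Set.mem_union, Set.mem_image]
    exact Or.inl ⟨x, hx, rfl⟩
  -- B is a C-module
  let N : Submodule C B := LinearMap.range (Algebra.linearMap C B)
  let J : Ideal C := Ideal.span {c : C | (c : B) ∈ s}
  have hJnil : IsNilpotent J := by
    obtain ⟨n, hn⟩ := hnil
    refine ⟨n, ?_⟩
    have h1 : J.map (algebraMap C B) ≤ RingHom.ker π := by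
      rw [Ideal.map_span, ← hs]
      apply Ideal.span_mono
      rintro _ ⟨c, hc, rfl⟩
      exact hc
    have h2 : (J ^ n).map (algebraMap C B) = ⊥ := by
      rw [Ideal.map_pow, eq_bot_iff, ← Ideal.zero_eq_bot, ← hn]
      exact Ideal.pow_right_mono h1 n
    rw [Ideal.zero_eq_bot, eq_bot_iff]
    intro x hx
    have : algebraMap C B x ∈ (J ^ n).map (algebraMap C B) := Ideal.mem_map_of_mem _ hx
    rw [h2, Ideal.mem_bot] at this
    rw [Ideal.mem_bot]
    exact Subtype.ext this
  have hker : ∀ x ∈ RingHom.ker π, x ∈ (J • ⊤ : Submodule C B) := by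
    intro x hx
    rw [← hs] at hx
    induction hx using Submodule.span_induction with
    | mem g hg =>
      have : g = (⟨g, hsC g hg⟩ : C) • (1 : B) := by
        rw [Algebra.smul_def, mul_one]; rfl
      rw [this]
      exact Submodule.smul_mem_smul (Ideal.subset_span hg) Submodule.mem_top
    | zero => exact zero_mem _
    | add x y _ _ hx hy => exact add_mem hx hy
    | smul b x _ hx =>
      refine Submodule.smul_induction_on hx ?_ ?_
      · intro r hr m _
        rw [smul_comm]
        exact Submodule.smul_mem_smul hr Submodule.mem_top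
      · intro x y hx hy
        rw [smul_add]; exact add_mem hx hy
  have hN : N = ⊤ := by
    apply NilSurj.eq_top_of_top_le_sup_smul_of_isNilpotent N J hJnil
    intro b _
    have hb : π b ∈ C.map πA := by rw [hmap]; trivial
    obtain ⟨c, hc, hcb⟩ := hb
    have : b = c + (b - c) := by ring
    rw [this]
    refine Submodule.add_mem_sup ⟨⟨c, hc⟩, rfl⟩ (hker _ ?_)
    rw [RingHom.mem_ker, map_sub, ← hcb]
    exact sub_self _
  rw [eq_top_iff]
  intro b _
  have : b ∈ N := by rw [hN]; trivial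
  obtain ⟨c, rfl⟩ := this
  exact c.2

theorem locallyOfFiniteType_of_thickening {Y Y₀ X : Scheme.{u}} (F : Y ⟶ X) (i : Y₀ ⟶ Y)
    [IsClosedImmersion i]
    (hinil : ∀ U : Y.affineOpens, IsNilpotent (i.ker.ideal U))
    (hfg : ∀ U : Y.affineOpens, (i.ker.ideal U).FG)
    [LocallyOfFiniteType (i ≫ F)] : LocallyOfFiniteType F := by
  rw [HasRingHomProperty.iff_appLE (P := @LocallyOfFiniteType)]
  intro U V e
  have h := HasRingHomProperty.appLE (P := @LocallyOfFiniteType) (i ≫ F) inferInstance U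
    ⟨i ⁻¹ᵁ V.1, V.2.preimage i⟩ (by
      intro x hx
      exact e hx)
  rw [← Scheme.Hom.appLE_comp_appLE i F U V.1 (i ⁻¹ᵁ V.1) e le_rfl, Scheme.Hom.appLE_eq_app,
    CommRingCat.hom_comp] at h
  refine finiteType_of_comp_surjective_nilpotent _ (i.app V.1).hom (i.app_surjective V.1 V.2) ?_ ?_ h
  · rw [← Scheme.Hom.ker_apply]; exact hinil V
  · rw [← Scheme.Hom.ker_apply]; exact hfg V

end Groth.Agent.Lib.Helper1.ThickFT
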