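import Mathlib
import Groth.Agent.Lib.Helper1.ThickSq
import Groth.Agent.Lib.Helper1.Thickening

open CategoryTheory Limits AlgebraicGeometry

universe u
namespace Groth.Agent.Lib.Helper1.ThickImm
open Groth.Agent.Lib.Helper1

set_option linter.style.haveILetI false

theorem isImmersion_of_isPullback {X X' Y Y' : Scheme.{u}} {iX : X ⟶ X'} {iY : Y ⟶ Y'}
    {f : X ⟶ Y} {f' : X' ⟶ Y'} (hY : MoreMor.IsThickening iY) (hc : IsPullback iX f f' iY)
    [LocallyOfFiniteType f'] [IsImmersion f] : IsImmersion f' := by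
  haveI := hY.1
  haveI := hY.2
  have hX : MoreMor.IsThickening iX :=
    ⟨MorphismProperty.of_isPullback hc.flip hY.1, MorphismProperty.of_isPullback hc.flip hY.2⟩
  haveI := hX.1
  haveI := hX.2
  have hhom := Thickening.isHomeomorph hY
  let W : Y.Opens := f.coborderRange
  let W' : Y'.Opens := ⟨iY '' W, hhom.isOpenMap _ W.2⟩
  have hWW' : iY ⁻¹ᵁ W' = W := by
    ext y
    change iY y ∈ iY '' (W : Set Y) ↔ y ∈ W
    exact hhom.injective.mem_set_image
  -- f' factors through W'
  have hr : Set.range f' ⊆ Set.range W'.ι := by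
    rintro _ ⟨x', rfl⟩
    obtain ⟨x, rfl⟩ := iX.surjective x'
    rw [Scheme.Opens.range_ι]
    have h2 : f' (iX x) = iY (f x) := by
      rw [← Scheme.Hom.comp_apply, ← Scheme.Hom.comp_apply, hc.w]
    rw [h2]
    refine ⟨f x, ?_, rfl⟩
    have : f x = f.coborderRange.ι (f.liftCoborder x) := by
      rw [← Scheme.Hom.comp_apply, f.liftCoborder_ι]
    rw [this]
    exact (f.liftCoborder x).2
  let f'' : X' ⟶ W' := IsOpenImmersion.lift W'.ι f' hr
  have hf'' : f'' ≫ W'.ι = f' := IsOpenImmersion.lift_fac _ _ _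
  let f₀ : X ⟶ (iY ⁻¹ᵁ W') := f.liftCoborder ≫ (Y.isoOfEq hWW'.symm).hom
  have hf₀ : f₀ ≫ (iY ⁻¹ᵁ W').ι = f := by
    simp only [f₀, Category.assoc, Scheme.isoOfEq_hom_ι]
    exact f.liftCoborder_ι
  haveI : IsClosedImmersion f₀ := by
    dsimp only [f₀]; infer_instance
  have hsq : IsPullback iX f₀ f'' (iY ∣_ W') := by
    refine IsPullback.of_bot ?_ ?_ (isPullback_morphismRestrict iY W')
    · rw [hf₀, hf'']; exact hc
    · rw [← cancel_mono W'.ι]
      simp only [Category.assoc, hf'', morphismRestrict_ι, reassoc_of% hf₀]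
      exact hc.w
  haveI : LocallyOfFiniteType f'' := by
    haveI : LocallyOfFiniteType (f'' ≫ W'.ι) := by rw [hf'']; infer_instance
    exact locallyOfFiniteType_of_comp f'' W'.ι
  haveI : IsClosedImmersion (pullback.snd f'' (iY ∣_ W')) := by
    have : pullback.snd f'' (iY ∣_ W') = hsq.isoPullback.inv ≫ f₀ := by
      rw [Iso.eq_inv_comp]; exact hsq.isoPullback_hom_snd
    rw [this]; infer_instance
  have hsurj : Function.Surjective (iY ∣_ W') := by
    have : Surjective (iY ∣_ W') := IsZariskiLocalAtTarget.restrict ‹Surjective iY› W'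
    exact this.surj
  haveI : IsClosedImmersion f'' := NilSurj.isClosedImmersion_of_pullback f'' (iY ∣_ W') hsurj
  rw [← hf'']
  infer_instance

end Groth.Agent.Lib.Helper1.ThickImm
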