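import Mathlib
import Groth.Agent.Lib.Helper1.ThickSq

open CategoryTheory Limits AlgebraicGeometry TensorProduct

universe u
namespace Groth.Agent.Lib.Helper1.ThickMono

open Groth.Agent.Lib.Helper1.ThickSq

set_option linter.style.haveILetI false

lemma isNilpotent_ker_of_isPullback {T₀ T S S' : Scheme.{u}} {i' : T₀ ⟶ T} {g₀ : T₀ ⟶ S}
    {g : T ⟶ S'} {iS : S ⟶ S'} (hc : IsPullback i' g₀ g iS) [IsClosedImmersion iS]
    (h : IsNilpotent iS.ker) : IsNilpotent i'.ker := by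
  haveI : IsClosedImmersion i' := MorphismProperty.of_isPullback hc.flip ‹_›
  obtain ⟨n, hn⟩ := h
  refine ⟨n, ?_⟩
  rw [Scheme.IdealSheafData.zero_eq_bot] at hn ⊢
  apply le_antisymm _ bot_le
  let ι := {W : T.affineOpens // ∃ U : S'.affineOpens, W.1 ≤ g ⁻¹ᵁ U.1}
  refine Scheme.IdealSheafData.le_of_iSup_eq_top (ι := ι) (fun W ↦ W.1) ?_ ?_
  · rw [eq_top_iff]
    intro x _
    obtain ⟨_, ⟨U, hU, rfl⟩, hxU, -⟩ :=
      S'.isBasis_affineOpens.exists_subset_of_mem_open (Set.mem_univ (g x)) isOpen_univ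
    obtain ⟨_, ⟨W, hW, rfl⟩, hxW, hWU : W ≤ g ⁻¹ᵁ U⟩ :=
      T.isBasis_affineOpens.exists_subset_of_mem_open hxU (g ⁻¹ᵁ U).isOpen
    exact TopologicalSpace.Opens.mem_iSup.mpr ⟨⟨⟨W, hW⟩, ⟨U, hU⟩, hWU⟩, hxW⟩
  · rintro ⟨W, U, e⟩
    have e' := preimage_le_of_isPullback hc e
    have hpo := isPushout_appLE hc U.2 W.2 e e'
    have hk := ker_eq_map_of_isPushout hpo (iS.app_surjective U.1 U.2)
    simp only [Scheme.IdealSheafData.ideal_pow, Pi.pow_apply, Scheme.Hom.ker_apply,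
      Scheme.IdealSheafData.ideal_bot, Pi.bot_apply]
    rw [hk, ← Ideal.map_pow]
    have : RingHom.ker (iS.app U.1).hom ^ n = ⊥ := by
      have := congrArg (fun I ↦ I.ideal U) hn
      simpa using this
    rw [this, Ideal.map_bot]

theorem mono_of_isPullback_of_isNilpotent {X X' S S' : Scheme.{u}} {iX : X ⟶ X'} {iS : S ⟶ S'}
    {f : X ⟶ S} {f' : X' ⟶ S'} (hc : IsPullback iX f f' iS) [IsClosedImmersion iS]
    (hnil : IsNilpotent iS.ker) [Mono f] : Mono f' := by
  haveI : IsIso (pullback.diagonal f) := inferInstance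
  haveI : FormallyUnramified f := inferInstance
  haveI : FormallyUnramified f' :=
    formallyUnramified_of_isPullback_of_isNilpotent hc
      (fun U ↦ isNilpotent_ker_app_of_isNilpotent_ker iS hnil U)
  refine ⟨fun {T} a b hab ↦ ?_⟩
  let i' : pullback (a ≫ f') iS ⟶ T := pullback.fst _ _
  have hpb : IsPullback i' (pullback.snd (a ≫ f') iS) (a ≫ f') iS := IsPullback.of_hasPullback _ _
  haveI : IsClosedImmersion i' := MorphismProperty.of_isPullback hpb.flip ‹_›
  have hn' : IsNilpotent i'.ker := isNilpotent_ker_of_isPullback hpb hnil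
  have ha : (i' ≫ a) ≫ f' = pullback.snd (a ≫ f') iS ≫ iS := by
    rw [Category.assoc]; exact pullback.condition
  have hb : (i' ≫ b) ≫ f' = pullback.snd (a ≫ f') iS ≫ iS := by
    rw [Category.assoc, ← hab]; exact pullback.condition
  have hab0 : hc.lift (i' ≫ a) _ ha = hc.lift (i' ≫ b) _ hb := by
    rw [← cancel_mono f]
    simp
  have hig : i' ≫ a = i' ≫ b := by
    rw [← hc.lift_fst (i' ≫ a) _ ha, hab0, hc.lift_fst]
  exact FormallyUnramified.hom_ext i' hn' f' hig hab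

end Groth.Agent.Lib.Helper1.ThickMono
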