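import Mathlib
import Groth.Prelude.Def_FlatCA
import Groth.Prelude.Def_CurvBase
import Groth.Agent.Lib.Helper3.WeakAssPush

set_option autoImplicit false
universe u
open CategoryTheory CategoryTheory.Limits AlgebraicGeometry

open Groth.Agent.Lib.Helper3

namespace Groth.Agent.Lib.Helper1.TildeWeakAss

variable (A : CommRingCat.{u}) (M : ModuleCat.{u} A)

theorem primeIdealOf_top (p : Spec A) :
    ((isAffineOpen_top (Spec A)).primeIdealOf ⟨p, trivial⟩).asIdeal =
      Ideal.comap (Scheme.ΓSpecIso A).hom.hom p.asIdeal := by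
  ext c
  have h := mem_basicOpen_iff_notMem_primeIdealOf (isAffineOpen_top (Spec A)) p trivial c
  rw [basicOpen_eq_of_affine'] at h
  rw [Ideal.mem_comap]
  rw [← not_iff_not]
  exact h.symm

theorem toOpen_top_smul (a' : Γ(Spec A, ⊤)) (m : M) :
    a' • (show Γ(tilde M, ⊤) from (tilde.toOpen M ⊤).hom m) =
      (show Γ(tilde M, ⊤) from (tilde.toOpen M ⊤).hom ((Scheme.ΓSpecIso A).hom.hom a' • m)) := by
  rw [map_smul]
  have := Scheme.Modules.smul_Spec_def (M := tilde M) (U := ⊤) ((Scheme.ΓSpecIso A).hom.hom a')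
    (show Γ(tilde M, ⊤) from (tilde.toOpen M ⊤).hom m)
  refine Eq.trans ?_ this.symm
  congr 1
  have h1 : (Scheme.ΓSpecIso A).inv.hom ((Scheme.ΓSpecIso A).hom.hom a') = a' := by
    rw [← CommRingCat.comp_apply, Iso.hom_inv_id]; rfl
  rw [h1]
  have h2 : (Spec A).presheaf.map (⊤ : (Spec A).Opens).leTop.op = 𝟙 _ := (Spec A).presheaf.map_id _
  rw [h2]; rfl

theorem main (p : Spec A) :
    p.asIdeal ∈ FlatCA.weakAss A M ↔ Curv2.IsWeakAssPoint (tilde M) p := by
  have : (tilde M).IsQuasicoherent := inferInstance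
  have hU := isAffineOpen_top (Spec A)
  have hφ : Function.Bijective (Scheme.ΓSpecIso A).hom.hom :=
    ConcreteCategory.bijective_of_isIso (Scheme.ΓSpecIso A).hom
  have hε : Function.Bijective (tilde.toOpen M ⊤).hom :=
    ConcreteCategory.bijective_of_isIso (tilde.toOpen M ⊤)
  have key : ∀ m : M, LinearMap.ker (LinearMap.toSpanSingleton Γ(Spec A, ⊤) Γ(tilde M, ⊤)
      (show Γ(tilde M, ⊤) from (tilde.toOpen M ⊤).hom m)) =
      Ideal.comap (Scheme.ΓSpecIso A).hom.hom (Submodule.span A {m}).annihilator := by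
    intro m
    ext a'
    rw [LinearMap.mem_ker, LinearMap.toSpanSingleton_apply, Ideal.mem_comap,
      Submodule.mem_annihilator_span_singleton, toOpen_top_smul]
    exact map_eq_zero_iff _ hε.1
  have hmin : ∀ I : Ideal A, (hU.primeIdealOf ⟨p, trivial⟩).asIdeal ∈
      (Ideal.comap (Scheme.ΓSpecIso A).hom.hom I).minimalPrimes ↔ p.asIdeal ∈ I.minimalPrimes := by
    intro I
    rw [Ideal.comap_minimalPrimes_eq_of_surjective hφ.2, primeIdealOf_top]
    constructor
    · rintro ⟨q, hq, hqp⟩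
      have : q = p.asIdeal := Ideal.comap_injective_of_surjective _ hφ.2 hqp
      rwa [← this]
    · intro h
      exact ⟨_, h, rfl⟩
  constructor
  · rintro ⟨m, hm⟩
    exact QS.isWeakAssPoint_of_mem_minimalPrimes (tilde M) hU p trivial _
      (by rw [key, hmin]; exact hm)
  · intro h
    obtain ⟨t, ht⟩ := QS.exists_mem_minimalPrimes_of_isWeakAssPoint (tilde M) hU p trivial h
    obtain ⟨m, rfl⟩ := hε.2 t
    rw [key, hmin] at ht
    exact ⟨m, ht⟩

end Groth.Agent.Lib.Helper1.TildeWeakAss
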