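import Mathlib
import Groth.Agent.Lib.Helper1.MLGen2

/-! Transfinite inverse limits of acyclic complexes of abelian groups (helper1). -/
set_option autoImplicit false
set_option linter.unnecessarySimpa false
open CategoryTheory CategoryTheory.Limits Opposite HomologicalComplex
universe w

namespace Groth.Agent.Lib.Helper1.TransLim

variable {I : Type w} [LinearOrder I] [WellFoundedLT I]
  (K : Iᵒᵖ ⥤ CochainComplex AddCommGrpCat.{w} ℤ)

/-- transition maps -/
noncomputable abbrev r {γ γ' : I} (h : γ ≤ γ') (n : ℤ) :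
    (K.obj (op γ')).X n →+ (K.obj (op γ)).X n :=
  ((K.map (homOfLE h).op).f n).hom

/-- differentials -/
noncomputable abbrev dd (γ : I) (i j : ℤ) : (K.obj (op γ)).X i →+ (K.obj (op γ)).X j :=
  ((K.obj (op γ)).d i j).hom

lemma r_r {γ γ' γ'' : I} (h : γ ≤ γ') (h' : γ' ≤ γ'') (n : ℤ) (x : (K.obj (op γ'')).X n) :
    r K h n (r K h' n x) = r K (h.trans h') n x := by
  have : (homOfLE (h.trans h')).op = (homOfLE h').op ≫ (homOfLE h).op := rfl
  simp only [r]
  rw [this, K.map_comp]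
  rfl

lemma r_refl (γ : I) (n : ℤ) (x : (K.obj (op γ)).X n) : r K (le_refl γ) n x = x := by
  have : (homOfLE (le_refl γ)).op = 𝟙 (op γ) := rfl
  simp only [r]
  rw [this, K.map_id]
  rfl

lemma r_dd {γ γ' : I} (h : γ ≤ γ') (i j : ℤ) (x : (K.obj (op γ')).X i) :
    r K h j (dd K γ' i j x) = dd K γ i j (r K h i x) := by
  change ((K.obj (op γ')).d i j ≫ (K.map (homOfLE h).op).f j).hom x
    = ((K.map (homOfLE h).op).f i ≫ (K.obj (op γ)).d i j).hom x
  rw [(K.map (homOfLE h).op).comm i j]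

lemma dd_dd (γ : I) (i j k : ℤ) (x : (K.obj (op γ)).X i) : dd K γ j k (dd K γ i j x) = 0 := by
  change ((K.obj (op γ)).d i j ≫ (K.obj (op γ)).d j k).hom x = 0
  rw [(K.obj (op γ)).d_comp_d]
  rfl

/-- families over a lower set given by a predicate -/
abbrev Fam (S : I → Prop) (n : ℤ) : Type w := ∀ γ : I, S γ → (K.obj (op γ)).X n

def Compat {S : I → Prop} (hS : ∀ ⦃γ γ'⦄, γ ≤ γ' → S γ' → S γ) {n : ℤ} (x : Fam K S n) : Prop :=
  ∀ ⦃γ γ'⦄ (h : γ ≤ γ') (h' : S γ'), r K h n (x γ' h') = x γ (hS h h')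

/-- acyclicity of the limit over the lower set `S`, elementwise -/
def P (S : I → Prop) (hS : ∀ ⦃γ γ'⦄, γ ≤ γ' → S γ' → S γ) : Prop :=
  ∀ (i j k : ℤ), i + 1 = j → j + 1 = k → ∀ z : Fam K S j, Compat K hS z →
    (∀ γ h, dd K γ j k (z γ h) = 0) →
    ∃ y : Fam K S i, Compat K hS y ∧ ∀ γ h, dd K γ i j (y γ h) = z γ h

lemma hS_lt (β : I) : ∀ ⦃γ γ' : I⦄, γ ≤ γ' → γ' < β → γ < β := fun _ _ h h' => lt_of_le_of_lt h h'

variable (hac : ∀ (β : I) (i j k : ℤ), i + 1 = j → j + 1 = k → ∀ x : (K.obj (op β)).X j,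
    dd K β j k x = 0 → ∃ y, dd K β i j y = x)
  (hsurj : ∀ (β : I) (n : ℤ) (x : Fam K (· < β) n), Compat K (hS_lt β) x →
    ∃ y : (K.obj (op β)).X n, ∀ γ (h : γ < β), r K h.le n y = x γ h)

include hac hsurj in
/-- the extension step -/
lemma ext_step (β : I) (hP : P K (· < β) (hS_lt β)) (i j k : ℤ) (hij : i + 1 = j) (hjk : j + 1 = k)
    (zβ : (K.obj (op β)).X j) (hz : dd K β j k zβ = 0)
    (y : Fam K (· < β) i) (hy : Compat K (hS_lt β) y)
    (hdy : ∀ γ (h : γ < β), dd K γ i j (y γ h) = r K h.le j zβ) :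
    ∃ yβ : (K.obj (op β)).X i, (∀ γ (h : γ < β), r K h.le i yβ = y γ h) ∧ dd K β i j yβ = zβ := by
  obtain ⟨y', hy'⟩ := hsurj β i y hy
  set c := zβ - dd K β i j y' with hc
  have hdc : dd K β j k c = 0 := by rw [hc, map_sub, hz, dd_dd, sub_zero]
  have hrc : ∀ γ (h : γ < β), r K h.le j c = 0 := by
    intro γ h
    rw [hc, map_sub, r_dd, hy' γ h, hdy γ h, sub_self]
  obtain ⟨w', hw'⟩ := hac β i j k hij hjk c hdc
  -- the family of restrictions of w'
  let W : Fam K (· < β) i := fun γ h => r K h.le i w'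
  have hW : Compat K (hS_lt β) W := by
    intro γ γ' h h'
    exact r_r K h h'.le i w'
  have hdW : ∀ γ h, dd K γ i j (W γ h) = 0 := by
    intro γ h
    change dd K γ i j (r K h.le i w') = 0
    rw [← r_dd, hw', hrc γ h]
  obtain ⟨u, hu, hdu⟩ := hP (i - 1) i j (by ring) hij W hW hdW
  obtain ⟨u', hu'⟩ := hsurj β (i - 1) u hu
  refine ⟨y' + (w' - dd K β (i - 1) i u'), ?_, ?_⟩
  · intro γ h
    rw [map_add, map_sub, hy' γ h, r_dd, hu' γ h, hdu γ h]
    change y γ h + (r K h.le i w' - r K h.le i w') = y γ h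
    rw [sub_self, add_zero]
  · rw [map_add, map_sub, dd_dd, sub_zero, hw', hc]
    abel

lemma P_congr {S S' : I → Prop} (hS : ∀ ⦃γ γ'⦄, γ ≤ γ' → S γ' → S γ)
    (hS' : ∀ ⦃γ γ'⦄, γ ≤ γ' → S' γ' → S' γ) (h : ∀ γ, S γ ↔ S' γ) (hP : P K S hS) :
    P K S' hS' := by
  have : S = S' := funext fun γ => propext (h γ)
  subst this
  exact hP

include hac hsurj in
lemma P_of_forall_lt (S : I → Prop) (hS : ∀ ⦃γ γ'⦄, γ ≤ γ' → S γ' → S γ)
    (hPS : ∀ β, S β → P K (· < β) (hS_lt β)) : P K S hS := by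
  classical
  intro i j k hij hjk z hz hdz
  let Good : ∀ β, S β → (∀ γ, γ < β → (K.obj (op γ)).X i) → Prop := fun β hβ prev =>
    (∀ ⦃γ γ'⦄ (h : γ ≤ γ') (h' : γ' < β), r K h i (prev γ' h') = prev γ (lt_of_le_of_lt h h')) ∧
    (∀ γ (h : γ < β), dd K γ i j (prev γ h) = z γ (hS h.le hβ))
  have hext : ∀ β (hβ : S β) (prev : ∀ γ, γ < β → (K.obj (op γ)).X i), Good β hβ prev →
      ∃ yβ : (K.obj (op β)).X i, (∀ γ (h : γ < β), r K h.le i yβ = prev γ h) ∧
        dd K β i j yβ = z β hβ := by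
    intro β hβ prev hg
    apply ext_step K hac hsurj β (hPS β hβ) i j k hij hjk (z β hβ) (hdz β hβ) prev hg.1
    intro γ h
    rw [hg.2 γ h, hz h.le hβ]
  let step : ∀ β, (∀ γ, γ < β → (K.obj (op γ)).X i) → (K.obj (op β)).X i := fun β prev =>
    if h : ∃ hβ : S β, Good β hβ prev then (hext β h.1 prev h.2).choose else 0
  let y : ∀ β, (K.obj (op β)).X i := wellFounded_lt.fix step
  have hy_eq : ∀ β, y β = step β (fun γ _ => y γ) := fun β => wellFounded_lt.fix_eq step β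
  have main : ∀ β (hβ : S β),
      (∀ γ (h : γ ≤ β), r K h i (y β) = y γ) ∧ dd K β i j (y β) = z β hβ := by
    intro β
    induction β using WellFoundedLT.induction with
    | ind β IH =>
    intro hβ
    have hg : Good β hβ (fun γ _ => y γ) := by
      constructor
      · intro γ γ' h h'
        exact (IH γ' h' (hS h'.le hβ)).1 γ h
      · intro γ h
        exact (IH γ h (hS h.le hβ)).2
    have hex : ∃ hβ : S β, Good β hβ (fun γ _ => y γ) := ⟨hβ, hg⟩
    have hyβ : y β = (hext β hex.1 _ hex.2).choose := by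
      rw [hy_eq β]
      exact dif_pos hex
    obtain ⟨h1, h2⟩ := (hext β hex.1 _ hex.2).choose_spec
    rw [← hyβ] at h1 h2
    refine ⟨fun γ h => ?_, h2⟩
    rcases h.lt_or_eq with h' | rfl
    · exact h1 γ h'
    · exact r_refl K _ _ _
  refine ⟨fun γ _ => y γ, ?_, ?_⟩
  · intro γ γ' h h'
    exact (main γ' h').1 γ h
  · intro γ h
    exact (main γ h).2

include hac hsurj in
theorem P_all (b : WithTop I) : P K (fun γ => (γ : WithTop I) < b)
    (fun _ _ h h' => lt_of_le_of_lt (WithTop.coe_le_coe.2 h) h') := by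
  induction b using WellFoundedLT.induction with
  | ind b IH =>
  apply P_of_forall_lt K hac hsurj
  intro β hβ
  exact P_congr K _ _ (fun γ => WithTop.coe_lt_coe) (IH (β : WithTop I) hβ)

include hac hsurj in
theorem P_top : P K (fun _ => True) (fun _ _ _ _ => trivial) :=
  P_congr K _ _ (fun γ => ⟨fun _ => trivial, fun _ => WithTop.coe_lt_top γ⟩) (P_all K hac hsurj ⊤)

open Groth.Agent.Lib.Helper1.MLGen in
/-- S0992 -/
theorem limit_exactAt
    (hac0 : ∀ (β : I) (n : ℤ), (K.obj (op β)).ExactAt n)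
    (hsurj0 : ∀ (β : I) (n : ℤ) (x : ∀ γ : {γ : I // γ < β}, (K.obj (op γ.1)).X n),
      (∀ (γ γ' : {γ : I // γ < β}) (h : γ.1 ≤ γ'.1),
        ((K.map (homOfLE h).op).f n).hom (x γ') = x γ) →
      ∃ y : (K.obj (op β)).X n, ∀ γ : {γ : I // γ < β},
        ((K.map (homOfLE γ.2.le).op).f n).hom y = x γ)
    (n : ℤ) : (limit K).ExactAt n := by
  have hac : ∀ (β : I) (i j k : ℤ), i + 1 = j → j + 1 = k → ∀ x : (K.obj (op β)).X j,
      dd K β j k x = 0 → ∃ y, dd K β i j y = x := by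
    intro β i j k hij hjk x hx
    have h := hac0 β j
    rw [exactAt_iff' _ i j k (by subst hij; simp) (by subst hjk; simp),
      ShortComplex.ab_exact_iff] at h
    exact h x hx
  have hsurj : ∀ (β : I) (n : ℤ) (x : Fam K (· < β) n), Compat K (hS_lt β) x →
      ∃ y : (K.obj (op β)).X n, ∀ γ (h : γ < β), r K h.le n y = x γ h := by
    intro β n x hx
    obtain ⟨y, hy⟩ := hsurj0 β n (fun γ => x γ.1 γ.2) (fun γ γ' h => hx h γ'.2)
    exact ⟨y, fun γ h => hy ⟨γ, h⟩⟩
  rw [exactAt_iff' _ (n - 1) n (n + 1) (by simp) (by simp), ShortComplex.ab_exact_iff]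
  intro x hx
  have hx' : ((limit K).d n (n + 1)).hom x = 0 := hx
  let z : Fam K (fun _ => True) n := fun γ _ => ((limit.π K (op γ)).f n).hom x
  have hz : Compat K (fun _ _ _ _ => trivial) z := by
    intro γ γ' h h'
    exact π_compat K n (homOfLE h).op x
  have hdz : ∀ γ h, dd K γ n (n + 1) (z γ h) = 0 := by
    intro γ h
    change ((K.obj (op γ)).d n (n + 1)).hom (((limit.π K (op γ)).f n).hom x) = 0
    rw [← π_d, hx', map_zero]
  obtain ⟨y, hy, hdy⟩ := P_top K hac hsurj (n - 1) n (n + 1) (by ring) rfl z hz hdz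
  let ys : (XF K (n - 1) ⋙ CategoryTheory.forget AddCommGrpCat).sections :=
    ⟨fun j => y j.unop trivial, by
      intro j j' f
      have h : j'.unop ≤ j.unop := leOfHom f.unop
      have hf : f = (homOfLE h).op := Subsingleton.elim _ _
      subst hf
      exact hy h trivial⟩
  obtain ⟨y', hy'⟩ := mkX K (n - 1) ys
  refine ⟨y', ?_⟩
  apply extX
  intro j
  change ((limit.π K j).f n).hom (((limit K).d (n - 1) n).hom y') = _
  rw [π_d, hy']
  exact hdy j.unop trivial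

end Groth.Agent.Lib.Helper1.TransLim
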