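import Mathlib

/-! Finiteness of the (co)structured arrow categories of the truncated simplex category (helper1):
pointwise Kan extensions along `(Truncated.inclusion m).op` exist when finite (co)limits do. -/
set_option autoImplicit false
set_option linter.unusedVariables false
open CategoryTheory CategoryTheory.Limits Opposite Functor
universe v u

namespace Groth.Agent.Lib.Helper1.TruncKan

instance finTrunc (m : ℕ) : Finite (SimplexCategory.Truncated m) :=
  Finite.of_injective (fun x => (⟨x.obj.len, Nat.lt_succ_of_le x.property⟩ : Fin (m+1)))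
    (by
      intro x y h
      simp only [Fin.mk.injEq] at h
      apply ObjectProperty.FullSubcategory.ext
      exact SimplexCategory.ext h)

instance finTruncOp (m : ℕ) : Finite (SimplexCategory.Truncated m)ᵒᵖ :=
  Finite.of_injective (fun x => x.unop) (fun x y h => Opposite.unop_injective h)

instance finTruncHom (m : ℕ) (x y : SimplexCategory.Truncated m) : Finite (x ⟶ y) :=
  Finite.of_injective (fun f => f.hom) (fun f g h => by ext1; exact congrArg _ h)

instance finTruncOpHom (m : ℕ) (x y : (SimplexCategory.Truncated m)ᵒᵖ) : Finite (x ⟶ y) :=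
  Finite.of_injective (fun f => f.unop) (fun _ _ h => Quiver.Hom.unop_inj h)

instance finSimplexOpHom (x y : SimplexCategoryᵒᵖ) : Finite (x ⟶ y) :=
  Finite.of_injective (fun f => f.unop) (fun _ _ h => Quiver.Hom.unop_inj h)

noncomputable instance finSA (m : ℕ) (Y : SimplexCategoryᵒᵖ) :
    FinCategory (StructuredArrow Y (SimplexCategory.Truncated.inclusion m).op) := by
  classical
  haveI : Finite (StructuredArrow Y (SimplexCategory.Truncated.inclusion m).op) := by
    let φ : StructuredArrow Y (SimplexCategory.Truncated.inclusion m).op →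
        Σ (r : (SimplexCategory.Truncated m)ᵒᵖ), (Y ⟶ (SimplexCategory.Truncated.inclusion m).op.obj r) :=
      fun a => ⟨a.right, a.hom⟩
    refine Finite.of_injective φ ?_
    rintro ⟨⟨⟨⟩⟩, r, f⟩ ⟨⟨⟨⟩⟩, r', f'⟩ h
    simp only [φ, Sigma.mk.injEq] at h
    obtain ⟨rfl, h⟩ := h
    simp at h
    subst h
    rfl
  haveI : ∀ a b : StructuredArrow Y (SimplexCategory.Truncated.inclusion m).op, Finite (a ⟶ b) := by
    intro a b
    refine Finite.of_injective (fun f => f.right) ?_
    intro f g h
    ext
    exact h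
  exact { fintypeObj := Fintype.ofFinite _, fintypeHom := fun _ _ => Fintype.ofFinite _ }

noncomputable instance finCSA (m : ℕ) (Y : SimplexCategoryᵒᵖ) :
    FinCategory (CostructuredArrow (SimplexCategory.Truncated.inclusion m).op Y) := by
  classical
  haveI : Finite (CostructuredArrow (SimplexCategory.Truncated.inclusion m).op Y) := by
    let φ : CostructuredArrow (SimplexCategory.Truncated.inclusion m).op Y →
        Σ (r : (SimplexCategory.Truncated m)ᵒᵖ), ((SimplexCategory.Truncated.inclusion m).op.obj r ⟶ Y) :=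
      fun a => ⟨a.left, a.hom⟩
    refine Finite.of_injective φ ?_
    rintro ⟨r, ⟨⟨⟩⟩, f⟩ ⟨r', ⟨⟨⟩⟩, f'⟩ h
    simp only [φ, Sigma.mk.injEq] at h
    obtain ⟨rfl, h⟩ := h
    simp at h
    subst h
    rfl
  haveI : ∀ a b : CostructuredArrow (SimplexCategory.Truncated.inclusion m).op Y, Finite (a ⟶ b) := by
    intro a b
    refine Finite.of_injective (fun f => f.left) ?_
    intro f g h
    ext
    exact h
  exact { fintypeObj := Fintype.ofFinite _, fintypeHom := fun _ _ => Fintype.ofFinite _ }

theorem hasPointwiseRightKanExtension {C : Type u} [Category.{v} C] [HasFiniteLimits C] (m : ℕ)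
    (U : (SimplexCategory.Truncated m)ᵒᵖ ⥤ C) :
    (SimplexCategory.Truncated.inclusion m).op.HasPointwiseRightKanExtension U := by
  intro Y
  unfold Functor.HasPointwiseRightKanExtensionAt
  infer_instance

theorem hasPointwiseLeftKanExtension {C : Type u} [Category.{v} C] [HasFiniteColimits C] (m : ℕ)
    (U : (SimplexCategory.Truncated m)ᵒᵖ ⥤ C) :
    (SimplexCategory.Truncated.inclusion m).op.HasPointwiseLeftKanExtension U := by
  intro Y
  unfold Functor.HasPointwiseLeftKanExtensionAt
  infer_instance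


variable {A B D C : Type*} [Category A] [Category B] [Category D] [Category C]

lemma coneAt_mk_id_π_app (L : B ⥤ D) (X : D ⥤ C) (d : D) (g : StructuredArrow d L) :
    ((RightExtension.mk X (𝟙 (L ⋙ X))).coneAt d).π.app g = X.map g.hom := by
  change X.map g.hom ≫ 𝟙 _ = _
  rw [Category.comp_id]

/-- Elementary form of "pointwise right Kan extension of own restriction along `L`". -/
structure IsPRKE (L : B ⥤ D) (X : D ⥤ C) : Prop where
  exists_lift : ∀ (d : D) (Z : C) (π : ∀ g : StructuredArrow d L, Z ⟶ X.obj (L.obj g.right)),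
    (∀ (g₁ g₂ : StructuredArrow d L) (φ : g₁ ⟶ g₂), π g₁ ≫ X.map (L.map φ.right) = π g₂) →
      ∃ l : Z ⟶ X.obj d, ∀ g, l ≫ X.map g.hom = π g
  hom_ext : ∀ (d : D) {Z : C} (f₁ f₂ : Z ⟶ X.obj d),
      (∀ g : StructuredArrow d L, f₁ ≫ X.map g.hom = f₂ ≫ X.map g.hom) → f₁ = f₂

lemma IsPRKE.of_isPointwise (L : B ⥤ D) (X : D ⥤ C)
    (h : (RightExtension.mk X (𝟙 (L ⋙ X))).IsPointwiseRightKanExtension) : IsPRKE L X := by
  have h' : ∀ d, IsLimit ((RightExtension.mk X (𝟙 (L ⋙ X))).coneAt d) := h
  constructor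
  · intro d Z π hπ
    let s : Cone (StructuredArrow.proj d L ⋙ L ⋙ X) :=
      { pt := Z
        π := { app := π
               naturality := fun g₁ g₂ φ => (Category.id_comp _).trans (hπ g₁ g₂ φ).symm } }
    refine ⟨(h' d).lift s, fun g => ?_⟩
    have := (h' d).fac s g
    rwa [coneAt_mk_id_π_app] at this
  · intro d Z f₁ f₂ hf
    apply (h' d).hom_ext
    intro g
    rw [coneAt_mk_id_π_app]
    exact hf g

lemma IsPRKE.isPointwise_nonempty (L : B ⥤ D) (X : D ⥤ C) (h : IsPRKE L X) :
    Nonempty (RightExtension.mk X (𝟙 (L ⋙ X))).IsPointwiseRightKanExtension := by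
  suffices ∀ d, Nonempty (IsLimit ((RightExtension.mk X (𝟙 (L ⋙ X))).coneAt d)) from
    ⟨fun d => (this d).some⟩
  intro d
  refine ⟨IsLimit.ofExistsUnique (fun s => ?_)⟩
  obtain ⟨l, hl⟩ := h.exists_lift d s.pt (fun g => s.π.app g) (fun g₁ g₂ φ => by
    have := s.π.naturality φ
    exact (this.symm.trans (Category.id_comp _)))
  refine ⟨l, fun g => ?_, fun l' hl' => ?_⟩
  · rw [coneAt_mk_id_π_app]; exact hl g
  · apply h.hom_ext d
    intro g
    have := hl' g
    rw [coneAt_mk_id_π_app] at this
    exact this.trans (hl g).symm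

/-- If `X` is the pointwise right Kan extension of its restriction along `L₁ ⋙ L₂` and `L₂` is full,
then `X` is the pointwise right Kan extension of its restriction along `L₂`. -/
lemma IsPRKE.of_comp (L₁ : A ⥤ B) (L₂ : B ⥤ D) [L₂.Full] (X : D ⥤ C)
    (h : IsPRKE (L₁ ⋙ L₂) X) : IsPRKE L₂ X := by
  constructor
  · intro d Z π hπ
    obtain ⟨l, hl⟩ := h.exists_lift d Z (fun g => π ((StructuredArrow.pre d L₁ L₂).obj g))
      (fun g₁ g₂ φ => hπ _ _ ((StructuredArrow.pre d L₁ L₂).map φ))
    refine ⟨l, fun g => ?_⟩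
    apply h.hom_ext (L₂.obj g.right)
    intro k
    obtain ⟨k', hk'⟩ := L₂.map_surjective k.hom
    have h1 := hl (StructuredArrow.mk (Y := k.right) (f := g.hom ≫ k.hom))
    have h2 := hπ g ((StructuredArrow.pre d L₁ L₂).obj
      (StructuredArrow.mk (Y := k.right) (f := g.hom ≫ k.hom)))
      (StructuredArrow.homMk k' (by simp [hk']))
    dsimp at h1 h2
    rw [Category.assoc, ← X.map_comp, h1, ← h2, hk']
  · intro d Z f₁ f₂ hf
    apply h.hom_ext d
    intro g
    exact hf ((StructuredArrow.pre d L₁ L₂).obj g)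

end Groth.Agent.Lib.Helper1.TruncKan


namespace Groth.Agent.Lib.Helper1.TruncKan

open SimplexCategory in
/-- `n`-coskeletal ⇒ `m`-coskeletal for `n ≤ m` (finite limits). -/
theorem isCoskeletal_of_le {C : Type u} [Category.{v} C] [HasFiniteLimits C] (U : SimplicialObject C)
    {n m : ℕ} (h : n ≤ m) [U.IsCoskeletal n] : U.IsCoskeletal m := by
  haveI := hasPointwiseRightKanExtension n ((Truncated.inclusion n).op ⋙ U)
  have h1 := isPointwiseRightKanExtensionOfIsRightKanExtension U
    (𝟙 ((Truncated.inclusion n).op ⋙ U))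
  have h2 := IsPRKE.of_isPointwise _ _ h1
  have h3 : IsPRKE ((Truncated.incl n m h).op ⋙ (Truncated.inclusion m).op) U := h2
  have h4 := IsPRKE.of_comp _ _ _ h3
  obtain ⟨h5⟩ := h4.isPointwise_nonempty
  exact ⟨h5.isRightKanExtension⟩

end Groth.Agent.Lib.Helper1.TruncKan
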