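import Mathlib
import Groth.Prelude.Def_FlatCA

/-!
# Weakly associated primes under flat base change: pure tensors, and free extensions with
integral fibres
-/

set_option autoImplicit false
universe u
open TensorProduct

namespace Groth.Agent.Lib.Helper1.WeakBC

/-- For `B` flat over `A`: the annihilator of `1 ⊗ m` is the extension of the annihilator of `m`. -/
theorem mem_map_of_smul_tmul_eq_zero {A B : Type u} [CommRing A] [CommRing B] [Algebra A B]
    [Module.Flat A B] {M : Type u} [AddCommGroup M] [Module A M] (m : M) (b : B)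
    (hb : b • ((1 : B) ⊗ₜ[A] m) = 0) :
    b ∈ ((Submodule.span A {m}).annihilator).map (algebraMap A B) := by
  set I : Ideal A := (Submodule.span A {m}).annihilator with hI
  have hker : I ≤ LinearMap.ker (LinearMap.toSpanSingleton A M m) := by
    intro a ha
    rw [LinearMap.mem_ker, LinearMap.toSpanSingleton_apply]
    exact (Submodule.mem_annihilator_span_singleton m a).mp ha
  let φ : (A ⧸ I) →ₗ[A] M := Submodule.liftQ I (LinearMap.toSpanSingleton A M m) hker
  have hφinj : Function.Injective φ := by
    rw [← LinearMap.ker_eq_bot, Submodule.ker_liftQ_eq_bot']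
    apply le_antisymm hker
    intro a ha
    rw [LinearMap.mem_ker, LinearMap.toSpanSingleton_apply] at ha
    exact (Submodule.mem_annihilator_span_singleton m a).mpr ha
  have hinj := Module.Flat.lTensor_preserves_injective_linearMap (M := B) φ hφinj
  have h1 : (φ.lTensor B) (b ⊗ₜ[A] (Submodule.Quotient.mk (1 : A) : A ⧸ I)) = 0 := by
    rw [LinearMap.lTensor_tmul]
    have : φ (Submodule.Quotient.mk (1 : A)) = m := by
      show Submodule.liftQ I _ hker (Submodule.Quotient.mk 1) = m
      rw [Submodule.liftQ_apply, LinearMap.toSpanSingleton_apply, one_smul]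
    rw [this]
    have h2 : b • ((1 : B) ⊗ₜ[A] m) = b ⊗ₜ[A] m := by
      rw [TensorProduct.smul_tmul', smul_eq_mul, mul_one]
    rw [← h2]; exact hb
  have h3 : b ⊗ₜ[A] (Submodule.Quotient.mk (1 : A) : A ⧸ I) = 0 := hinj (by rw [h1, map_zero])
  have h4 : Algebra.TensorProduct.quotIdealMapEquivTensorQuot B I
      (Ideal.Quotient.mk (I.map (algebraMap A B)) b) = 0 := by
    rw [Algebra.TensorProduct.quotIdealMapEquivTensorQuot_mk]
    exact h3
  have h5 : Ideal.Quotient.mk (I.map (algebraMap A B)) b = 0 :=
    (Algebra.TensorProduct.quotIdealMapEquivTensorQuot B I).injective (by rw [h4, map_zero])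
  exact Ideal.Quotient.eq_zero_iff_mem.mp h5

/-- Lemma A: along a flat ring map, if `q` is minimal over the annihilator of `1 ⊗ m` then its
contraction is minimal over the annihilator of `m`. -/
theorem comap_mem_minimalPrimes_of_flat {A B : Type u} [CommRing A] [CommRing B] [Algebra A B]
    [Module.Flat A B] {M : Type u} [AddCommGroup M] [Module A M] (m : M) (q : Ideal B)
    (hq : q ∈ (Submodule.span B {(1 : B) ⊗ₜ[A] m}).annihilator.minimalPrimes) :
    q.comap (algebraMap A B) ∈ (Submodule.span A {m}).annihilator.minimalPrimes := by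
  haveI hqp : q.IsPrime := hq.1.1
  set p := q.comap (algebraMap A B) with hp
  haveI : p.IsPrime := Ideal.comap_isPrime _ _
  haveI : q.LiesOver p := ⟨rfl⟩
  refine ⟨⟨inferInstance, ?_⟩, ?_⟩
  · intro a ha
    rw [hp, Ideal.mem_comap]
    apply hq.1.2
    rw [Submodule.mem_annihilator_span_singleton]
    rw [Submodule.mem_annihilator_span_singleton] at ha
    rw [algebraMap_smul, ← TensorProduct.tmul_smul, ha, TensorProduct.tmul_zero]
  · rintro p' ⟨hp'prime, hp'le⟩ hp'p
    haveI := hp'prime
    obtain ⟨q', hq'q, hq'prime, hq'over⟩ :=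
      Ideal.exists_ideal_le_liesOver_of_le (p := p') (q := p) q hp'p
    have hJ : (Submodule.span B {(1 : B) ⊗ₜ[A] m}).annihilator ≤ q' := by
      intro b hb
      rw [Submodule.mem_annihilator_span_singleton] at hb
      have h1 := mem_map_of_smul_tmul_eq_zero m b hb
      have h2 : ((Submodule.span A {m}).annihilator).map (algebraMap A B) ≤ q' := by
        rw [Ideal.map_le_iff_le_comap]
        intro a ha
        have := hp'le ha
        rw [hq'over.over] at this
        exact this
      exact h2 h1
    have hqq' : q ≤ q' := hq.2 ⟨hq'prime, hJ⟩ hq'q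
    intro a ha
    have h1 : algebraMap A B a ∈ q' := hqq' ha
    have : a ∈ q'.under A := h1
    rw [← hq'over.over] at this
    exact this

/-- A prime `q'` over `P` contains the kernel of `S → S ⊗ κ(P)`. -/
theorem mem_of_tmul_one_eq_zero {R S : Type u} [CommRing R] [CommRing S] [Algebra R S]
    (P : Ideal R) [P.IsPrime] (q' : Ideal S) [q'.IsPrime] [q'.LiesOver P] (g : S)
    (hg : g ⊗ₜ[R] (1 : P.ResidueField) = 0) : g ∈ q' := by
  have hf : P = q'.comap (Algebra.ofId R S).toRingHom := q'.over_def P
  let φ := Algebra.TensorProduct.productMap (IsScalarTower.toAlgHom R S q'.ResidueField)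
    (Ideal.ResidueField.mapₐ P q' (Algebra.ofId R S) hf)
  have h1 : φ (g ⊗ₜ 1) = algebraMap S q'.ResidueField g := by simp [φ]
  rw [hg, map_zero] at h1
  exact Ideal.algebraMap_residueField_eq_zero.mp h1.symm

/-- Lemma B: if `S` is free over `R` and all fibre rings `S ⊗ κ(P)` are domains, then weakly
associated primes of `S ⊗ M` contract to weakly associated primes of `M`. -/
theorem comap_mem_weakAss_of_basis {R S : Type u} [CommRing R] [CommRing S] [Algebra R S]
    {ι : Type*} (bS : Module.Basis ι R S)
    (hdom : ∀ (P : Ideal R) [P.IsPrime], IsDomain (S ⊗[R] P.ResidueField))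
    (M : Type u) [AddCommGroup M] [Module R M] (q : Ideal S) [q.IsPrime]
    (hq : q ∈ FlatCA.weakAss S (S ⊗[R] M)) :
    q.comap (algebraMap R S) ∈ FlatCA.weakAss R M := by
  classical
  haveI : Module.Free R S := Module.Free.of_basis bS
  obtain ⟨z, hz⟩ := hq
  obtain ⟨c, hc⟩ := TensorProduct.eq_repr_basis_left bS z
  set p := q.comap (algebraMap R S) with hp
  haveI : p.IsPrime := Ideal.comap_isPrime _ _
  haveI : q.LiesOver p := ⟨rfl⟩
  set N : Submodule R M := Submodule.span R (c '' (c.support : Set ι)) with hN
  have hmem : ∀ i, c i ∈ N := by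
    intro i
    by_cases hi : i ∈ c.support
    · exact Submodule.subset_span ⟨i, hi, rfl⟩
    · rw [Finsupp.notMem_support_iff.mp hi]; exact N.zero_mem
  haveI : Module.Finite R N :=
    Module.Finite.span_of_finite R ((c.support.finite_toSet).image c)
  set I : Ideal R := c.support.inf (fun i => (Submodule.span R {c i}).annihilator) with hI
  have hzsum : z = ∑ i ∈ c.support, bS i ⊗ₜ[R] c i := by rw [← hc]; rfl
  have hJ : ∀ g : S, g ∈ (Submodule.span S {z}).annihilator ↔ g • z = 0 := fun g =>
    Submodule.mem_annihilator_span_singleton z g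
  -- (1)
  have hIp : I ≤ p := by
    intro a ha
    rw [hp, Ideal.mem_comap]
    apply hz.1.2
    rw [hJ, algebraMap_smul, hzsum, Finset.smul_sum]
    apply Finset.sum_eq_zero
    intro i hi
    have h1 : a ∈ (Submodule.span R {c i}).annihilator := (Finset.inf_le hi : I ≤ _) ha
    rw [Submodule.mem_annihilator_span_singleton] at h1
    rw [← TensorProduct.tmul_smul, h1, TensorProduct.tmul_zero]
  -- (2)
  have h2 : ∀ (P : Ideal R) [P.IsPrime], I ≤ P → ∀ g : S, g • z = 0 →
      g ⊗ₜ[R] (1 : P.ResidueField) = 0 := by
    intro P _ hIP g hg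
    have hAnn : Module.annihilator R N ≤ P := by
      intro a ha
      apply hIP
      rw [hI, Submodule.mem_finsetInf]
      intro i hi
      rw [Submodule.mem_annihilator_span_singleton]
      have := Module.mem_annihilator.mp ha ⟨c i, hmem i⟩
      exact congrArg Subtype.val this
    haveI hnt : Nontrivial (P.ResidueField ⊗[R] N) :=
      (Module.mem_support_iff_nontrivial_residueField_tensorProduct ⟨P, inferInstance⟩).mp
        (Module.mem_support_iff_of_finite.mpr hAnn)
    have hex : ∃ i0 ∈ c.support, (1 : P.ResidueField) ⊗ₜ[R] (⟨c i0, hmem i0⟩ : N) ≠ 0 := by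
      by_contra hcon
      push Not at hcon
      have hall : ∀ (m : M) (hm : m ∈ N), (1 : P.ResidueField) ⊗ₜ[R] (⟨m, hm⟩ : N) = 0 := by
        intro m hm
        induction hm using Submodule.span_induction with
        | mem x hx =>
          obtain ⟨i, hi, rfl⟩ := hx
          exact hcon i hi
        | zero => exact TensorProduct.tmul_zero _ _
        | add x y hx hy hx' hy' =>
          have : (⟨x + y, N.add_mem hx hy⟩ : N) = ⟨x, hx⟩ + ⟨y, hy⟩ := rfl
          rw [this, TensorProduct.tmul_add, hx', hy', add_zero]
        | smul a x hx hx' =>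
          have : (⟨a • x, N.smul_mem a hx⟩ : N) = a • ⟨x, hx⟩ := rfl
          rw [this, TensorProduct.tmul_smul, hx', smul_zero]
      have hsub : ∀ x : P.ResidueField ⊗[R] N, x = 0 := by
        intro x
        induction x using TensorProduct.induction_on with
        | zero => rfl
        | tmul a n =>
          have : a ⊗ₜ[R] n = a • ((1 : P.ResidueField) ⊗ₜ[R] n) := by
            rw [TensorProduct.smul_tmul', smul_eq_mul, mul_one]
          rw [this, hall n.1 n.2, smul_zero]
        | add x y hx hy => rw [hx, hy, add_zero]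
      obtain ⟨x, y, hxy⟩ := hnt
      exact hxy ((hsub x).trans (hsub y).symm)
    obtain ⟨i0, hi0, hne⟩ := hex
    obtain ⟨ℓ, hℓ⟩ := Module.Projective.exists_dual_ne_zero P.ResidueField hne
    let ψ : N →ₗ[R] P.ResidueField :=
      (ℓ.restrictScalars R) ∘ₗ (TensorProduct.mk R P.ResidueField N 1)
    have hψ : ∀ n : N, ψ n = ℓ ((1 : P.ResidueField) ⊗ₜ[R] n) := fun n => rfl
    let zN : S ⊗[R] N := ∑ i ∈ c.support, bS i ⊗ₜ[R] (⟨c i, hmem i⟩ : N)
    have hzN : (N.subtype.baseChange S) zN = z := by
      rw [hzsum, map_sum]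
      apply Finset.sum_congr rfl
      intro i hi
      rw [LinearMap.baseChange_tmul]
      rfl
    have hinj : Function.Injective (N.subtype.baseChange S) := by
      have := Module.Flat.lTensor_preserves_injective_linearMap (M := S) N.subtype
        N.injective_subtype
      rwa [← LinearMap.baseChange_eq_ltensor] at this
    have hgzN : g • zN = 0 := hinj (by rw [map_smul, hzN, hg, map_zero])
    let d : ι →₀ P.ResidueField := Finsupp.onFinset c.support (fun i => ψ ⟨c i, hmem i⟩) (by
      intro i hi
      by_contra hns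
      apply hi
      have h0 : c i = 0 := Finsupp.notMem_support_iff.mp hns
      have : (⟨c i, hmem i⟩ : N) = 0 := Subtype.ext h0
      rw [this, map_zero])
    have hΨ : (ψ.baseChange S) zN = d.sum (fun i x => bS i ⊗ₜ[R] x) := by
      rw [Finsupp.onFinset_sum _ (fun a => TensorProduct.tmul_zero _ _), map_sum]
      apply Finset.sum_congr rfl
      intro i hi
      rw [LinearMap.baseChange_tmul]
    have hw : (ψ.baseChange S) zN ≠ 0 := by
      intro h0
      rw [hΨ] at h0
      have hd : d = 0 := TensorProduct.sum_tmul_basis_left_eq_zero bS d h0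
      have : d i0 = 0 := by rw [hd]; rfl
      rw [Finsupp.onFinset_apply, hψ] at this
      exact hℓ this
    have h3 : g • (ψ.baseChange S) zN = 0 := by rw [← map_smul, hgzN, map_zero]
    haveI := hdom P
    rw [Algebra.smul_def, Algebra.TensorProduct.algebraMap_apply, Algebra.algebraMap_self,
      RingHom.id_apply] at h3
    exact (mul_eq_zero.mp h3).resolve_right hw
  -- (3)
  have h3 : ∀ (P : Ideal R) [P.IsPrime], I ≤ P → P ≤ p → p ≤ P := by
    intro P _ hIP hPp
    obtain ⟨q', hq'q, hq'prime, hq'over⟩ :=
      Ideal.exists_ideal_le_liesOver_of_le (p := P) (q := p) q hPp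
    have hJq' : (Submodule.span S {z}).annihilator ≤ q' := by
      intro g hg
      rw [hJ] at hg
      exact mem_of_tmul_one_eq_zero P q' g (h2 P hIP g hg)
    have hqq' : q ≤ q' := hz.2 ⟨hq'prime, hJq'⟩ hq'q
    intro a ha
    have h1 : algebraMap R S a ∈ q' := hqq' ha
    have : a ∈ q'.under R := h1
    rw [← hq'over.over] at this
    exact this
  -- (4)
  obtain ⟨i, hi, hile⟩ := (Ideal.IsPrime.inf_le' (s := c.support)
    (f := fun i => (Submodule.span R {c i}).annihilator) (P := p) inferInstance).mp hIp
  refine ⟨c i, ⟨inferInstance, hile⟩, ?_⟩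
  rintro P ⟨hPprime, hPle⟩ hPp
  haveI := hPprime
  exact h3 P ((Finset.inf_le hi : I ≤ _).trans hPle) hPp

end Groth.Agent.Lib.Helper1.WeakBC
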