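import Mathlib
import Groth.Agent.Lib.Helper1.WeakBC1

/-!
# Purely transcendental extensions have integral fibres
-/

set_option autoImplicit false
universe u
open TensorProduct

namespace Groth.Agent.Lib.Helper1.WeakBC

/-- If `A ⊗ κ` is a domain and `F = Frac A`, then `F ⊗ κ` is a domain. -/
theorem isDomain_tensor_of_isFractionRing {k A F κ : Type*} [Field k] [CommRing A] [Algebra k A]
    [Field F] [Algebra k F] [Algebra A F] [IsScalarTower k A F] [IsFractionRing A F] [Field κ]
    [Algebra k κ] [IsDomain (A ⊗[k] κ)] : IsDomain (F ⊗[k] κ) := by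
  letI : Algebra (A ⊗[k] κ) (F ⊗[k] κ) :=
    (Algebra.TensorProduct.map (IsScalarTower.toAlgHom k A F) (AlgHom.id k κ)).toRingHom.toAlgebra
  haveI : IsScalarTower A (A ⊗[k] κ) (F ⊗[k] κ) := IsScalarTower.of_algebraMap_eq' (by
    ext a
    simp [RingHom.algebraMap_toAlgebra, Algebra.TensorProduct.algebraMap_apply])
  have H : (algebraMap (A ⊗[k] κ) (F ⊗[k] κ)).comp
      (Algebra.TensorProduct.includeRight (R := k) (A := A) (B := κ)).toRingHom =
      (Algebra.TensorProduct.includeRight (R := k) (A := F) (B := κ)).toRingHom := by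
    ext a
    simp [RingHom.algebraMap_toAlgebra]
  haveI := IsLocalization.tensorProduct_tensorProduct k κ (nonZeroDivisors A) F H
  refine IsLocalization.isDomain_of_le_nonZeroDivisors (F ⊗[k] κ)
    (M := Algebra.algebraMapSubmonoid (A ⊗[k] κ) (nonZeroDivisors A)) ?_
  haveI : IsDomain A := Function.Injective.isDomain (algebraMap A F) (IsFractionRing.injective A F)
  rintro _ ⟨a, ha, rfl⟩
  apply mem_nonZeroDivisors_of_ne_zero
  have hinj : Function.Injective (Algebra.TensorProduct.includeLeft (R := k) (S := k) (A := A) (B := κ)) :=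
    Algebra.TensorProduct.includeLeft_injective (algebraMap k κ).injective
  intro h0
  exact (nonZeroDivisors.ne_zero ha) (hinj (by rw [map_zero]; exact h0))

instance isDomain_mvPolynomial_tensor {k κ ι : Type*} [Field k] [Field κ] [Algebra k κ] :
    IsDomain (MvPolynomial ι k ⊗[k] κ) :=
  MulEquiv.isDomain (MvPolynomial ι κ)
    ((Algebra.TensorProduct.comm k (MvPolynomial ι k) κ).toRingEquiv.trans
      (MvPolynomial.algebraTensorAlgEquiv k κ).toRingEquiv).toMulEquiv

/-- Adjoining an algebraically independent family gives an extension with integral fibres. -/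
theorem isDomain_adjoin_tensor {k K κ ι : Type*} [Field k] [Field K] [Algebra k K] [Field κ]
    [Algebra k κ] (x : ι → K) (hx : AlgebraicIndependent k x) :
    IsDomain (↥(IntermediateField.adjoin k (Set.range x)) ⊗[k] κ) := by
  haveI : IsDomain (FractionRing (MvPolynomial ι k) ⊗[k] κ) :=
    isDomain_tensor_of_isFractionRing (A := MvPolynomial ι k)
  exact MulEquiv.isDomain (FractionRing (MvPolynomial ι k) ⊗[k] κ)
    (Algebra.TensorProduct.congr hx.aevalEquivField.symm (AlgEquiv.refl (R := k) (A₁ := κ))).toMulEquiv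

end Groth.Agent.Lib.Helper1.WeakBC
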