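import Mathlib
import Groth.Agent.Lib.Helper1.WeakBC2

/-!
# Weakly associated primes under base field extension: plumbing of towers
-/

set_option autoImplicit false
universe u
open TensorProduct

namespace Groth.Agent.Lib.Helper1.WeakBC

attribute [local instance] Algebra.TensorProduct.rightAlgebra

/-- Fibres of `R → R ⊗ L` are domains if `L ⊗ κ` always is; hence Lemma B applies. -/
theorem comap_mem_weakAss_tensor_of_domain_fibres {k : Type u} [Field k] {L : Type u} [Field L]
    [Algebra k L] (hL : ∀ (κ : Type u) [Field κ] [Algebra k κ], IsDomain (L ⊗[k] κ))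
    (R : Type u) [CommRing R] [Algebra k R] (M : Type u) [AddCommGroup M] [Module R M]
    (q : Ideal (R ⊗[k] L)) [q.IsPrime]
    (hq : q ∈ FlatCA.weakAss (R ⊗[k] L) ((R ⊗[k] L) ⊗[R] M)) :
    q.comap (algebraMap R (R ⊗[k] L)) ∈ FlatCA.weakAss R M := by
  apply comap_mem_weakAss_of_basis ((Module.Free.chooseBasis k L).baseChange R) ?_ M q hq
  intro P _
  haveI := hL P.ResidueField
  exact MulEquiv.isDomain (L ⊗[k] P.ResidueField)
    ((Algebra.TensorProduct.comm R (R ⊗[k] L) P.ResidueField).toRingEquiv.trans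
      ((Algebra.TensorProduct.cancelBaseChange k R P.ResidueField P.ResidueField L).toRingEquiv.trans
        (Algebra.TensorProduct.comm k P.ResidueField L).toRingEquiv)).toMulEquiv

section Plumb

variable {k L K : Type u} [CommRing k] [CommRing L] [CommRing K] [Algebra k L] [Algebra L K]
  [Algebra k K] [IsScalarTower k L K]
  {R : Type u} [CommRing R] [Algebra k R]
  {RK : Type u} [CommRing RK] [Algebra k RK] [Algebra K RK] [Algebra R RK]
  [IsScalarTower k K RK] [IsScalarTower k R RK]
  [Algebra L RK] [IsScalarTower L K RK] [IsScalarTower k L RK]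
  [Algebra (R ⊗[k] L) RK]

theorem plumb_towers
    (h : ∀ x, algebraMap (R ⊗[k] L) RK x =
      Algebra.TensorProduct.productMap (IsScalarTower.toAlgHom k R RK)
        (IsScalarTower.toAlgHom k L RK) x) :
    IsScalarTower R (R ⊗[k] L) RK ∧ IsScalarTower L (R ⊗[k] L) RK ∧
      IsScalarTower k (R ⊗[k] L) RK := by
  refine ⟨IsScalarTower.of_algebraMap_eq fun r => ?_, IsScalarTower.of_algebraMap_eq fun l => ?_,
    IsScalarTower.of_algebraMap_eq fun c => ?_⟩
  · rw [h]; simp [Algebra.TensorProduct.algebraMap_apply]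
  · rw [h]; simp [RingHom.algebraMap_toAlgebra]
  · rw [h]; simp [Algebra.TensorProduct.algebraMap_apply]

theorem plumb_isPushout [Algebra.IsPushout k K R RK]
    [IsScalarTower R (R ⊗[k] L) RK] [IsScalarTower L (R ⊗[k] L) RK]
    [IsScalarTower k (R ⊗[k] L) RK] :
    Algebra.IsPushout L K (R ⊗[k] L) RK :=
  (Algebra.IsPushout.comp_iff k L R (R ⊗[k] L) (T := K) (T' := RK)).mp inferInstance

end Plumb

end Groth.Agent.Lib.Helper1.WeakBC
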