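import Mathlib
import Groth.Agent.Lib.Helper1.WeakBC3
import Groth.Agent.S1232

/-!
# Weakly associated primes under base field extension: descent property, algebraic case
-/

set_option autoImplicit false
universe u
open TensorProduct

namespace Groth.Agent.Lib.Helper1.WeakBC

attribute [local instance] Algebra.TensorProduct.rightAlgebra

/-- weakly associated primes are invariant under linear equivalences. -/
theorem weakAss_congr {B : Type u} [CommRing B] {M M' : Type u} [AddCommGroup M] [Module B M]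
    [AddCommGroup M'] [Module B M'] (e : M ≃ₗ[B] M') :
    FlatCA.weakAss B M = FlatCA.weakAss B M' := by
  have key : ∀ {N N' : Type u} [AddCommGroup N] [Module B N] [AddCommGroup N'] [Module B N']
      (e : N ≃ₗ[B] N'), FlatCA.weakAss B N ⊆ FlatCA.weakAss B N' := by
    intro N N' _ _ _ _ e p hp
    obtain ⟨m, hm⟩ := hp
    refine ⟨e m, ?_⟩
    have : (Submodule.span B {e m}).annihilator = (Submodule.span B {m}).annihilator := by
      ext r
      rw [Submodule.mem_annihilator_span_singleton, Submodule.mem_annihilator_span_singleton,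
        ← map_smul, LinearEquiv.map_eq_zero_iff]
    rw [this]; exact hm
  exact Set.Subset.antisymm (key e) (key e.symm)

/-- The descent property of a ring map for weakly associated primes. -/
def Desc (A B : Type u) [CommRing A] [CommRing B] [Algebra A B] : Prop :=
  ∀ (M : Type u) [AddCommGroup M] [Module A M] (q : Ideal B) [q.IsPrime],
    q ∈ FlatCA.weakAss B (B ⊗[A] M) → q.comap (algebraMap A B) ∈ FlatCA.weakAss A M

theorem Desc.trans {A B C : Type u} [CommRing A] [CommRing B] [CommRing C] [Algebra A B]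
    [Algebra B C] [Algebra A C] [IsScalarTower A B C] (h1 : Desc A B) (h2 : Desc B C) :
    Desc A C := by
  intro M _ _ q _ hq
  rw [weakAss_congr (TensorProduct.AlgebraTensorModule.cancelBaseChange A B C C M).symm] at hq
  have h3 := h2 (B ⊗[A] M) q hq
  haveI : (q.comap (algebraMap B C)).IsPrime := Ideal.comap_isPrime _ _
  have h4 := h1 M _ h3
  rwa [Ideal.comap_comap, ← IsScalarTower.algebraMap_eq] at h4

theorem desc_of_finite_flat (A B : Type u) [CommRing A] [CommRing B] [Algebra A B]
    [Module.Finite A B] [Module.Flat A B] : Desc A B := by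
  intro M _ _ q _ hq
  haveI : (q.comap (algebraMap A B)).IsPrime := Ideal.comap_isPrime _ _
  haveI : q.LiesOver (q.comap (algebraMap A B)) := ⟨rfl⟩
  exact (Groth.Agent.S1232.result M (q.comap (algebraMap A B)) q).mp hq

section Alg

variable {k K : Type u} [Field k] [Field K] [Algebra k K]
  {R : Type u} [CommRing R] [Algebra k R]
  {RK : Type u} [CommRing RK] [Algebra k RK] [Algebra K RK] [Algebra R RK]
  [IsScalarTower k K RK] [IsScalarTower k R RK]

/-- every element of the pushout involves only finitely many algebraic scalars. -/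
theorem exists_finite_intermediate [Algebra.IsPushout k K R RK] [Algebra.IsAlgebraic k K]
    (s : RK) : ∃ E : IntermediateField k K, FiniteDimensional k E ∧
      s ∈ Submodule.span R ((algebraMap K RK) '' (E : Set K)) := by
  have hbc : IsBaseChange R (IsScalarTower.toAlgHom k K RK).toLinearMap :=
    (Algebra.IsPushout.symm (inferInstance : Algebra.IsPushout k K R RK)).out
  refine hbc.inductionOn s _ ?_ ?_ ?_ ?_
  · exact ⟨⊥, inferInstance, Submodule.zero_mem _⟩
  · intro l
    refine ⟨IntermediateField.adjoin k {l},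
      IntermediateField.adjoin.finiteDimensional (Algebra.IsIntegral.isIntegral l), ?_⟩
    apply Submodule.subset_span
    exact ⟨l, IntermediateField.mem_adjoin_simple_self k l, rfl⟩
  · rintro r n ⟨E, hE, hn⟩
    exact ⟨E, hE, Submodule.smul_mem _ r hn⟩
  · rintro n₁ n₂ ⟨E₁, hE₁, h₁⟩ ⟨E₂, hE₂, h₂⟩
    refine ⟨E₁ ⊔ E₂, IntermediateField.finiteDimensional_sup E₁ E₂, ?_⟩
    apply Submodule.add_mem
    · exact Submodule.span_mono (Set.image_mono (by exact_mod_cast (le_sup_left : E₁ ≤ E₁ ⊔ E₂))) h₁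
    · exact Submodule.span_mono (Set.image_mono (by exact_mod_cast (le_sup_right : E₂ ≤ E₁ ⊔ E₂))) h₂

/-- the span of the pure tensors with scalars from `E`. -/
def TE (R : Type u) [CommRing R] [Algebra k R] (RK : Type u) [CommRing RK] [Algebra k RK]
    [Algebra K RK] [Algebra R RK] (E : IntermediateField k K) (M : Type u) [AddCommGroup M]
    [Module R M] : Submodule R (RK ⊗[R] M) :=
  Submodule.span R {x | ∃ l ∈ E, ∃ m : M, x = (algebraMap K RK l) ⊗ₜ[R] m}

theorem exists_finite_intermediate_tensor [Algebra.IsPushout k K R RK] [Algebra.IsAlgebraic k K]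
    (M : Type u) [AddCommGroup M] [Module R M] (z : RK ⊗[R] M) :
    ∃ E : IntermediateField k K, FiniteDimensional k E ∧ z ∈ TE R RK E M := by
  induction z using TensorProduct.induction_on with
  | zero => exact ⟨⊥, inferInstance, Submodule.zero_mem _⟩
  | tmul s m =>
    obtain ⟨E, hE, hs⟩ := exists_finite_intermediate (k := k) (K := K) (R := R) s
    refine ⟨E, hE, ?_⟩
    have h := Submodule.apply_mem_span_image_of_mem_span ((TensorProduct.mk R RK M).flip m) hs
    refine Submodule.span_mono ?_ h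
    rintro _ ⟨_, ⟨l, hl, rfl⟩, rfl⟩
    exact ⟨l, hl, m, rfl⟩
  | add x y hx hy =>
    obtain ⟨E₁, hE₁, h₁⟩ := hx
    obtain ⟨E₂, hE₂, h₂⟩ := hy
    refine ⟨E₁ ⊔ E₂, IntermediateField.finiteDimensional_sup E₁ E₂, ?_⟩
    apply Submodule.add_mem
    · refine Submodule.span_mono ?_ h₁
      rintro _ ⟨l, hl, m, rfl⟩
      exact ⟨l, (le_sup_left : E₁ ≤ E₁ ⊔ E₂) hl, m, rfl⟩
    · refine Submodule.span_mono ?_ h₂
      rintro _ ⟨l, hl, m, rfl⟩
      exact ⟨l, (le_sup_right : E₂ ≤ E₁ ⊔ E₂) hl, m, rfl⟩

/-- The algebraic case. -/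
theorem desc_algebraic [Algebra.IsPushout k K R RK] [Algebra.IsAlgebraic k K] : Desc R RK := by
  intro M _ _ q _ hq
  obtain ⟨z, hz⟩ := hq
  obtain ⟨E, hE, hzE⟩ := exists_finite_intermediate_tensor (k := k) (K := K) M z
  haveI := hE
  haveI : IsScalarTower E K RK := inferInstance
  haveI : IsScalarTower k E RK := IsScalarTower.of_algebraMap_eq fun c => by
    rw [IsScalarTower.algebraMap_apply E K RK, ← IsScalarTower.algebraMap_apply k E K,
      ← IsScalarTower.algebraMap_apply k K RK]
  letI : Algebra (R ⊗[k] E) RK := (Algebra.TensorProduct.productMap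
    (IsScalarTower.toAlgHom k R RK) (IsScalarTower.toAlgHom k E RK)).toRingHom.toAlgebra
  obtain ⟨t1, t2, t3⟩ := plumb_towers (k := k) (L := E) (R := R) (RK := RK)
    (fun x => rfl)
  haveI := t1
  haveI := t2
  haveI := t3
  haveI hpo : Algebra.IsPushout E K (R ⊗[k] E) RK := plumb_isPushout
  haveI : Module.Flat (R ⊗[k] E) RK :=
    Module.Flat.isBaseChange E (R ⊗[k] E) K RK (Algebra.IsPushout.symm hpo).out
  let e := TensorProduct.AlgebraTensorModule.cancelBaseChange R (R ⊗[k] E) RK RK M
  let Φ : (R ⊗[k] E) ⊗[R] M →ₗ[R] RK ⊗[R] M := (e.toLinearMap.restrictScalars R) ∘ₗ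
    ((TensorProduct.mk (R ⊗[k] E) RK ((R ⊗[k] E) ⊗[R] M) 1).restrictScalars R)
  have hΦ : ∀ z', Φ z' = e (1 ⊗ₜ z') := fun _ => rfl
  have hrange : TE R RK E M ≤ LinearMap.range Φ := by
    apply Submodule.span_le.mpr
    rintro _ ⟨l, hl, m, rfl⟩
    refine ⟨((1 : R) ⊗ₜ[k] (⟨l, hl⟩ : E)) ⊗ₜ[R] m, ?_⟩
    rw [hΦ, TensorProduct.AlgebraTensorModule.cancelBaseChange_tmul]
    congr 1
    rw [Algebra.smul_def, mul_one, RingHom.algebraMap_toAlgebra]
    simp [IsScalarTower.algebraMap_apply E K RK]
  obtain ⟨z', hz'⟩ := hrange hzE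
  have hann : (Submodule.span RK {(1 : RK) ⊗ₜ[R ⊗[k] E] z'}).annihilator =
      (Submodule.span RK {z}).annihilator := by
    ext r
    rw [Submodule.mem_annihilator_span_singleton, Submodule.mem_annihilator_span_singleton,
      ← hz', hΦ, ← map_smul, LinearEquiv.map_eq_zero_iff]
  have h1 := comap_mem_minimalPrimes_of_flat (A := R ⊗[k] E) (B := RK) z' q
    (by rw [hann]; exact hz)
  have h2 : q.comap (algebraMap (R ⊗[k] E) RK) ∈
      FlatCA.weakAss (R ⊗[k] E) ((R ⊗[k] E) ⊗[R] M) := ⟨z', h1⟩
  haveI hprime := h1.1.1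
  have h3 := desc_of_finite_flat R (R ⊗[k] ↥E) M _ h2
  rwa [Ideal.comap_comap, ← IsScalarTower.algebraMap_eq] at h3

end Alg

end Groth.Agent.Lib.Helper1.WeakBC
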