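import Mathlib
import Groth.Agent.Lib.Helper1.WeakBC4

/-!
# Weakly associated primes under base field extension: the general case
-/

set_option autoImplicit false
universe u
open TensorProduct

namespace Groth.Agent.Lib.Helper1.WeakBC

attribute [local instance] Algebra.TensorProduct.rightAlgebra

theorem desc_field {k K : Type u} [Field k] [Field K] [Algebra k K]
    {R : Type u} [CommRing R] [Algebra k R]
    {RK : Type u} [CommRing RK] [Algebra k RK] [Algebra K RK] [Algebra R RK]
    [IsScalarTower k K RK] [IsScalarTower k R RK] [Algebra.IsPushout k K R RK] : Desc R RK := by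
  obtain ⟨ι, x, hx⟩ := exists_isTranscendenceBasis' k K
  let L := IntermediateField.adjoin k (Set.range x)
  haveI : Algebra.IsAlgebraic L K := hx.isAlgebraic_field
  haveI : IsScalarTower L K RK := inferInstance
  haveI : IsScalarTower k L RK := IsScalarTower.of_algebraMap_eq fun c => by
    rw [IsScalarTower.algebraMap_apply L K RK, ← IsScalarTower.algebraMap_apply k L K,
      ← IsScalarTower.algebraMap_apply k K RK]
  letI : Algebra (R ⊗[k] L) RK := (Algebra.TensorProduct.productMap
    (IsScalarTower.toAlgHom k R RK) (IsScalarTower.toAlgHom k L RK)).toRingHom.toAlgebra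
  obtain ⟨t1, t2, t3⟩ := plumb_towers (k := k) (L := L) (R := R) (RK := RK) (fun x => rfl)
  haveI := t1
  haveI := t2
  haveI := t3
  haveI hpo : Algebra.IsPushout L K (R ⊗[k] L) RK := plumb_isPushout
  have h1 : Desc R (R ⊗[k] L) := fun M _ _ q _ hq =>
    comap_mem_weakAss_tensor_of_domain_fibres
      (fun κ _ _ => isDomain_adjoin_tensor x hx.1) R M q hq
  have h2 : Desc (R ⊗[k] L) RK := desc_algebraic (k := L) (K := K)
  exact h1.trans h2

theorem main9592 {k K R : Type u} [Field k] [Field K] [Algebra k K] [CommRing R] [Algebra k R]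
    (RK : Type u) [CommRing RK] [Algebra k RK] [Algebra K RK] [Algebra R RK]
    [IsScalarTower k K RK] [IsScalarTower k R RK] [Algebra.IsPushout k K R RK]
    (M : Type u) [AddCommGroup M] [Module R M] (MK : Type u) [AddCommGroup MK] [Module RK MK]
    [Module R MK] [IsScalarTower R RK MK] (f : M →ₗ[R] MK) (hf : IsBaseChange RK f)
    (q : Ideal RK) [q.IsPrime] (hq : q ∈ FlatCA.weakAss RK MK) :
    q.comap (algebraMap R RK) ∈ FlatCA.weakAss R M := by
  have h := desc_field (k := k) (K := K) (R := R) (RK := RK)
  have hq' : q ∈ FlatCA.weakAss RK (RK ⊗[R] M) := by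
    rw [weakAss_congr hf.equiv]; exact hq
  exact h M q hq'

end Groth.Agent.Lib.Helper1.WeakBC
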