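import Mathlib
import Groth.Agent.Lib.Helper1.WeakBC5
import Groth.Agent.Lib.Helper12.BaseChange
import Groth.Agent.Lib.Helper17.PbStalk
import Groth.Agent.Lib.Helper3.WeakAssPush

/-!
# Weakly associated points under base field extension (scheme version)
-/

set_option autoImplicit false
universe u
open CategoryTheory CategoryTheory.Limits AlgebraicGeometry TensorProduct

namespace Groth.Agent.Lib.Helper1.WeakBC

open Groth.Agent.Lib.Helper3 Groth.Agent.Lib.Helper17 Groth.Agent.Lib.Helper12.BaseChange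
  Groth.Agent.Lib.Helper12.SchemeDimFT

theorem ker_toSpanSingleton_eq {R M : Type*} [CommRing R] [AddCommGroup M] [Module R M] (t : M) :
    LinearMap.ker (LinearMap.toSpanSingleton R M t) = (Submodule.span R {t}).annihilator := by
  ext a
  rw [LinearMap.mem_ker, LinearMap.toSpanSingleton_apply, Submodule.mem_annihilator_span_singleton]

attribute [local instance] bcOver

theorem main8900 (k : Type u) [Field k] (K : Type u) [Field K] [Algebra k K] (X : Scheme.{u})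
    [X.Over (Spec (CommRingCat.of k))] (F : X.Modules) (hF : Coh.IsQCoh F)
    (y : ↥(Curv2.bc k X K))
    (hy : Curv2.IsWeakAssPoint ((Scheme.Modules.pullback (Curv2.bcFst k X K)).obj F) y) :
    Curv2.IsWeakAssPoint F (Curv2.bcFst k X K y) := by
  haveI : F.IsQuasicoherent := hF
  haveI : ((Scheme.Modules.pullback (Curv2.bcFst k X K)).obj F).IsQuasicoherent :=
    PbStalk.isQuasicoherent_pullback (Curv2.bcFst k X K) F
  obtain ⟨_, ⟨U, hU, rfl⟩, hxU, -⟩ := X.isBasis_affineOpens.exists_subset_of_mem_open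
    (Set.mem_univ (Curv2.bcFst k X K y)) isOpen_univ
  haveI := isAffineHom_bcFst k X K
  have hV : IsAffineOpen ((Curv2.bcFst k X K) ⁻¹ᵁ U) := hU.preimage (Curv2.bcFst k X K)
  have hyV : y ∈ (Curv2.bcFst k X K) ⁻¹ᵁ U := hxU
  obtain ⟨t, ht⟩ := QS.exists_mem_minimalPrimes_of_isWeakAssPoint _ hV y hyV hy
  letI := secAlgebra k X U
  letI : Algebra K Γ(Curv2.bc k X K, (Curv2.bcFst k X K) ⁻¹ᵁ U) :=
    secAlgebra K (Curv2.bc k X K) ((Curv2.bcFst k X K) ⁻¹ᵁ U)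
  letI : Algebra Γ(X, U) Γ(Curv2.bc k X K, (Curv2.bcFst k X K) ⁻¹ᵁ U) :=
    ((Curv2.bcFst k X K).appLE U ((Curv2.bcFst k X K) ⁻¹ᵁ U) le_rfl).hom.toAlgebra
  letI : Algebra k Γ(Curv2.bc k X K, (Curv2.bcFst k X K) ⁻¹ᵁ U) :=
    ((algebraMap Γ(X, U) Γ(Curv2.bc k X K, (Curv2.bcFst k X K) ⁻¹ᵁ U)).comp
      (algebraMap k Γ(X, U))).toAlgebra
  haveI : IsScalarTower k Γ(X, U) Γ(Curv2.bc k X K, (Curv2.bcFst k X K) ⁻¹ᵁ U) :=
    IsScalarTower.of_algebraMap_eq' rfl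
  have hpo := isPushout_sec k X K U hU
  have happ : ((Curv2.bcFst k X K).appLE U ((Curv2.bcFst k X K) ⁻¹ᵁ U) le_rfl) =
      (Curv2.bcFst k X K).app U := Scheme.Hom.appLE_eq_app _
  haveI : IsScalarTower k K Γ(Curv2.bc k X K, (Curv2.bcFst k X K) ⁻¹ᵁ U) :=
    IsScalarTower.of_algebraMap_eq fun c => by
      have := congr($(hpo.w).hom c)
      rw [RingHom.algebraMap_toAlgebra, RingHom.comp_apply, RingHom.algebraMap_toAlgebra, happ]
      exact this
  haveI hPO : Algebra.IsPushout k K Γ(X, U) Γ(Curv2.bc k X K, (Curv2.bcFst k X K) ⁻¹ᵁ U) := by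
    apply Algebra.IsPushout.symm
    apply CommRingCat.isPushout_iff_isPushout.mp
    rw [← happ] at hpo
    exact hpo
  letI : Module Γ(X, U)
      Γ((Scheme.Modules.pullback (Curv2.bcFst k X K)).obj F, (Curv2.bcFst k X K) ⁻¹ᵁ U) :=
    Module.compHom _ ((Curv2.bcFst k X K).appLE U ((Curv2.bcFst k X K) ⁻¹ᵁ U) le_rfl).hom
  obtain ⟨hst, β, hβ⟩ := PbStalk.exists_isBaseChange_sections (Curv2.bcFst k X K) F hU hV le_rfl
  haveI := hst
  haveI : (hV.primeIdealOf ⟨y, hyV⟩).asIdeal.IsPrime := (hV.primeIdealOf ⟨y, hyV⟩).isPrime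
  have h1 := main9592 (k := k) (K := K) (R := Γ(X, U))
    Γ(Curv2.bc k X K, (Curv2.bcFst k X K) ⁻¹ᵁ U) Γ(F, U)
    Γ((Scheme.Modules.pullback (Curv2.bcFst k X K)).obj F, (Curv2.bcFst k X K) ⁻¹ᵁ U) β hβ
    (hV.primeIdealOf ⟨y, hyV⟩).asIdeal ⟨t, by rw [← ker_toSpanSingleton_eq]; exact ht⟩
  have h2 := IsAffineOpen.comap_primeIdealOf_appLE (f := Curv2.bcFst k X K) (x := y) U hU
    ((Curv2.bcFst k X K) ⁻¹ᵁ U) hV le_rfl hxU
  obtain ⟨m, hm⟩ := h1
  refine QS.isWeakAssPoint_of_mem_minimalPrimes F hU _ hxU m ?_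
  rw [ker_toSpanSingleton_eq, ← h2]
  exact hm

end Groth.Agent.Lib.Helper1.WeakBC
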