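import Mathlib

open TensorProduct AlgebraicGeometry CategoryTheory Limits IntermediateField

namespace Groth.Agent.Lib.Helper1.WeaklyEtale

variable {R S : Type*} [CommRing R] [CommRing S] [Algebra R S]

/-- If `f : A → B` is a surjective flat ring hom then `ker f` is a pure ideal. -/
lemma pure_ker_of_flat_of_surjective {A B : Type*} [CommRing A] [CommRing B] (f : A →+* B)
    (hf : Function.Surjective f) (hflat : f.Flat) : (RingHom.ker f).Pure := by
  algebraize [f]
  have : Module.Flat A B := hflat
  let e : (A ⧸ RingHom.ker f) ≃ₐ[A] B :=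
    Ideal.quotientKerAlgEquivOfSurjective (f := Algebra.ofId A B) hf
  exact Module.Flat.of_linearEquiv e.toLinearEquiv

theorem formallyUnramified_of_weaklyEtale [Algebra.WeaklyEtale R S] :
    Algebra.FormallyUnramified R S := by
  have hflat := Algebra.WeaklyEtale.flat_lmul' R S
  have hsurj : Function.Surjective (Algebra.TensorProduct.lmul' R (S := S)).toRingHom :=
    fun x ↦ ⟨1 ⊗ₜ x, by simp⟩
  have hp : (KaehlerDifferential.ideal R S).Pure :=
    pure_ker_of_flat_of_surjective _ hsurj hflat
  have : IsIdempotentElem (KaehlerDifferential.ideal R S) := Ideal.isIdempotentElem_of_pure _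
  have : Subsingleton Ω[S⁄R] := (Ideal.cotangent_subsingleton_iff _).mpr this
  exact ⟨this⟩

universe u

set_option backward.isDefEq.respectTransparency.types false in
/-- For affine schemes: weakly étale `Spec S ⟶ Spec R` gives a weakly étale algebra. -/
lemma algebra_weaklyEtale_of_SpecMap {R S : CommRingCat.{u}} (φ : R ⟶ S)
    [WeaklyEtale (Spec.map φ)] :
    letI := φ.hom.toAlgebra
    Algebra.WeaklyEtale R S := by
  algebraize [φ.hom]
  have h1 : Flat (Spec.map φ) := inferInstance
  have h2 : Flat (pullback.diagonal (Spec.map φ)) := inferInstance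
  rw [HasRingHomProperty.Spec_iff (P := @Flat)] at h1
  let F := (Algebra.TensorProduct.lmul' R (S := S)).toRingHom
  have : Flat (Spec.map (CommRingCat.ofHom F)) := by
    rwa [← MorphismProperty.cancel_right_of_respectsIso (P := @Flat) _
      (pullbackSpecIso R S S).inv, ← AlgebraicGeometry.diagonal_SpecMap R S]
  rw [HasRingHomProperty.Spec_iff (P := @Flat)] at this
  exact ⟨h1, this⟩

set_option backward.isDefEq.respectTransparency.types false in
theorem formallyUnramified_of_weaklyEtale_scheme {X Y : Scheme.{u}} (f : X ⟶ Y) [WeaklyEtale f] :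
    FormallyUnramified f := by
  wlog hY : ∃ R, Y = Spec R
  · rw [IsZariskiLocalAtTarget.iff_of_openCover (P := @FormallyUnramified) Y.affineCover]
    intro i
    exact this (pullback.snd _ _) ⟨_, rfl⟩
  obtain ⟨R, rfl⟩ := hY
  wlog hX : ∃ S, X = Spec S generalizing X
  · rw [IsZariskiLocalAtSource.iff_of_openCover (P := @FormallyUnramified) X.affineCover]
    intro i
    exact this (_ ≫ _) ⟨_, rfl⟩
  obtain ⟨S, rfl⟩ := hX
  obtain ⟨φ, rfl : Spec.map φ = f⟩ := Spec.homEquiv.symm.surjective f
  rw [HasRingHomProperty.Spec_iff (P := @FormallyUnramified)]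
  have := algebra_weaklyEtale_of_SpecMap φ
  algebraize [φ.hom]
  exact formallyUnramified_of_weaklyEtale


/-- Flatness descends along a faithfully flat overring: if `R → B → C`, `C` is `R`-flat
and `C` is faithfully flat over `B`, then `B` is `R`-flat. -/
lemma flat_of_flat_of_faithfullyFlat (R B C : Type*) [CommRing R] [CommRing B] [CommRing C]
    [Algebra R B] [Algebra B C] [Algebra R C] [IsScalarTower R B C]
    [Module.Flat R C] [Module.FaithfullyFlat B C] : Module.Flat R B := by
  rw [Module.Flat.iff_lTensor_preserves_injective_linearMap]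
  intro N P _ _ _ _ f hf
  have h1 : Function.Injective (f.baseChange B) := by
    rw [← Module.FaithfullyFlat.lTensor_injective_iff_injective B C]
    have : LinearMap.lTensor C (f.baseChange B) =
        ((AlgebraTensorModule.cancelBaseChange R B C C P).symm.toLinearMap.restrictScalars B) ∘ₗ
          ((f.baseChange C).restrictScalars B) ∘ₗ
          ((AlgebraTensorModule.cancelBaseChange R B C C N).toLinearMap.restrictScalars B) := by
      ext
      simp
    rw [this]
    have h2 : Function.Injective (f.baseChange C) :=
      Module.Flat.lTensor_preserves_injective_linearMap f hf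
    simpa using h2
  exact h1

/-- Weak étaleness descends to a subalgebra `B` of `C` when `C` is faithfully flat over `B`
and `B` is flat over `A`. -/
lemma weaklyEtale_of_faithfullyFlat (A B C : Type*) [CommRing A] [CommRing B] [CommRing C]
    [Algebra A B] [Algebra B C] [Algebra A C] [IsScalarTower A B C]
    [Module.Flat A B] [Module.FaithfullyFlat B C] [Algebra.WeaklyEtale A C] :
    Algebra.WeaklyEtale A B := by
  refine ⟨inferInstance, ?_⟩
  let ι : B →ₐ[A] C := IsScalarTower.toAlgHom A B C
  have hι : ι.Flat := by
    change (algebraMap B C).Flat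
    rw [RingHom.flat_algebraMap_iff]
    infer_instance
  have h1 : (Algebra.TensorProduct.map ι ι).Flat := RingHom.Flat.tensorProductMap hι hι
  have h2 : ((Algebra.TensorProduct.lmul' A (S := C)).toRingHom.comp
      (Algebra.TensorProduct.map ι ι).toRingHom).Flat :=
    RingHom.Flat.comp h1 (Algebra.WeaklyEtale.flat_lmul' A C)
  algebraize [(Algebra.TensorProduct.lmul' A (S := B)).toRingHom,
    ((Algebra.TensorProduct.lmul' A (S := C)).toRingHom.comp
      (Algebra.TensorProduct.map ι ι).toRingHom)]
  have : IsScalarTower (B ⊗[A] B) B C := by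
    refine IsScalarTower.of_algebraMap_eq' ?_
    simp only [RingHom.algebraMap_toAlgebra]
    have : (Algebra.TensorProduct.lmul' A (S := C)).comp (Algebra.TensorProduct.map ι ι) =
        ι.comp (Algebra.TensorProduct.lmul' A (S := B)) := by
      ext <;> simp
    exact congrArg AlgHom.toRingHom this
  have : Module.Flat (B ⊗[A] B) C := h2
  exact flat_of_flat_of_faithfullyFlat (B ⊗[A] B) B C

theorem isSeparable_of_weaklyEtale_field {K L : Type*} [Field K] [Field L] [Algebra K L]
    [Algebra.WeaklyEtale K L] : Algebra.IsSeparable K L := by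
  refine ⟨fun x ↦ ?_⟩
  rw [← IntermediateField.isSeparable_adjoin_simple_iff_isSeparable]
  have : Algebra.WeaklyEtale K K⟮x⟯ := weaklyEtale_of_faithfullyFlat K K⟮x⟯ L
  have : Algebra.FormallyUnramified K K⟮x⟯ := formallyUnramified_of_weaklyEtale
  have : Algebra.EssFiniteType K K⟮x⟯ := by
    rw [IntermediateField.essFiniteType_iff]
    exact ⟨{x}, by simp⟩
  exact Algebra.FormallyUnramified.isSeparable K K⟮x⟯

end Groth.Agent.Lib.Helper1.WeaklyEtale
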