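import Mathlib
import Groth.Prelude.Def_RedSub

set_option autoImplicit false
open Function Set

namespace Groth.Agent.Lib.Helper1.WeylInv

variable {idx M N : Type} [AddCommGroup M] [AddCommGroup N]
variable (P : RootPairing idx ℤ M N) (b : P.Base)

/-- the positive cone -/
abbrev C : AddSubmonoid M := AddSubmonoid.closure (P.root '' (b.support : Set idx))

lemma exists_nat_coeff {m : M} (hm : m ∈ C P b) :
    ∃ f : idx → ℕ, m = ∑ j ∈ b.support, f j • P.root j := by
  classical
  refine AddSubmonoid.closure_induction ?_ ⟨0, by simp⟩ ?_ hm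
  · rintro - ⟨j, hj, rfl⟩
    refine ⟨Pi.single j 1, ?_⟩
    rw [Finset.sum_eq_single_of_mem j hj]
    · simp
    · intro k _ hk
      simp [hk]
  · intro _ _ _ _ ⟨f, hf⟩ ⟨g, hg⟩
    exact ⟨f + g, by simp [hf, hg, add_smul, Finset.sum_add_distrib]⟩

lemma height_pos_of_mem {a : idx} (h : P.root a ∈ C P b) : 0 < b.height a := by
  obtain ⟨f, hf⟩ := exists_nat_coeff P b h
  have h1 : P.root a = ∑ j ∈ b.support, ((f j : ℤ)) • P.root j := by
    rw [hf]; simp
  have h2 := RootPairing.Base.height_eq_sum (b := b) h1
  have h3 := b.height_ne_zero a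
  have h4 : 0 ≤ b.height a := by
    rw [h2]; exact Finset.sum_nonneg (fun j _ => Int.natCast_nonneg _)
  omega

lemma height_neg_of_neg_mem {a : idx} (h : -P.root a ∈ C P b) : b.height a < 0 := by
  obtain ⟨f, hf⟩ := exists_nat_coeff P b h
  have h1 : P.root a = ∑ j ∈ b.support, (-(f j : ℤ)) • P.root j := by
    rw [← neg_neg (P.root a), hf]; simp
  have h2 := RootPairing.Base.height_eq_sum (b := b) h1
  have h3 := b.height_ne_zero a
  have h4 : b.height a ≤ 0 := by
    rw [h2]; exact Finset.sum_nonpos (fun j _ => by simp)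
  omega

/-- F2 -/
lemma not_pos_and_neg {a : idx} (h : P.root a ∈ C P b) (h' : -P.root a ∈ C P b) : False := by
  have := height_pos_of_mem P b h
  have := height_neg_of_neg_mem P b h'
  omega

/-- a permutation of the roots induced by a linear automorphism -/
def Lin (w : Equiv.Perm idx) : Prop :=
  ∃ W : M ≃+ M, ∀ a, P.root (w a) = W (P.root a)

lemma lin_one : Lin P (1 : Equiv.Perm idx) := ⟨AddEquiv.refl M, fun _ => rfl⟩

lemma lin_reflection_mul (i : idx) {w : Equiv.Perm idx} (hw : Lin P w) :
    Lin P (P.reflectionPerm i * w) := by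
  obtain ⟨W, hW⟩ := hw
  refine ⟨W.trans (P.reflection i).toAddEquiv, fun a => ?_⟩
  simp only [Equiv.Perm.mul_apply, P.root_reflectionPerm, hW]
  rfl

lemma lin_wordPerm (l : List idx) : Lin P (RedSub.wordPerm P l) := by
  induction l with
  | nil => exact lin_one P
  | cons i l ih =>
    have : RedSub.wordPerm P (i :: l) = P.reflectionPerm i * RedSub.wordPerm P l := by
      simp [RedSub.wordPerm]
    rw [this]
    exact lin_reflection_mul P i ih

/-- inversion set -/
def Inv (w : Equiv.Perm idx) : Set idx :=
  {a | a ∈ RedSub.posRoots P b ∧ w a ∈ RedSub.negRoots P b}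

lemma root_refl (c x : idx) :
    P.root (P.reflectionPerm c x) = P.root x - P.pairing x c • P.root c := by
  rw [P.root_reflectionPerm, P.reflection_apply_root]

theorem ncard_lt [Finite idx] {w : Equiv.Perm idx} (hw : Lin P w) (c : idx)
    (hc : c ∈ RedSub.posRoots P b) (hd : w⁻¹ c ∈ RedSub.posRoots P b) :
    (Inv P b w).ncard < (Inv P b (P.reflectionPerm c * w)).ncard := by
  classical
  obtain ⟨W, hW⟩ := hw
  set t := P.reflectionPerm c with ht
  set d := w⁻¹ c with hd_def
  have hwd : w d = c := by simp [d]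
  have hC : P.root c ∈ C P b := hc
  have hD : P.root d ∈ C P b := hd
  -- linear action of w⁻¹
  have hW' : ∀ x, P.root (w⁻¹ x) = W.symm (P.root x) := by
    intro x
    rw [AddEquiv.eq_symm_apply, ← hW]
    simp
  set σ : idx → idx := fun a => w⁻¹ (t (w a)) with hσ
  have hσσ : ∀ a, σ (σ a) = a := by
    intro a
    simp [σ, t]
  have hσroot : ∀ a, P.root (σ a) = P.root a - P.pairing (w a) c • P.root d := by
    intro a
    simp only [σ]
    rw [hW', ht, root_refl, map_sub, map_zsmul, ← hW', ← hW', ← hd_def]
    simp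
  have htroot : ∀ a, P.root (t (w a)) = P.root (w a) - P.pairing (w a) c • P.root c := by
    intro a
    rw [ht, root_refl]
  -- the map θ
  set θ : idx → idx := fun a => if σ a ∈ RedSub.posRoots P b then σ a else a with hθ
  have hdmem : d ∈ Inv P b (t * w) := by
    refine ⟨hd, ?_⟩
    change -P.root ((t * w) d) ∈ C P b
    rw [Equiv.Perm.mul_apply, hwd, ht, root_refl, P.pairing_same]
    have : -(P.root c - (2 : ℤ) • P.root c) = P.root c := by
      rw [two_smul]; abel
    rw [this]; exact hC
  have hmaps : ∀ a ∈ Inv P b w, θ a ∈ Inv P b (t * w) \ {d} := by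
    rintro a ⟨hapos, haneg⟩
    have hA : P.root a ∈ C P b := hapos
    have hA' : -P.root (w a) ∈ C P b := haneg
    by_cases hpos : σ a ∈ RedSub.posRoots P b
    · have : θ a = σ a := by simp [θ, hpos]
      rw [this]
      refine ⟨⟨hpos, ?_⟩, ?_⟩
      · change -P.root ((t * w) (σ a)) ∈ C P b
        have : (t * w) (σ a) = w a := by simp [σ, t]
        rw [this]; exact hA'
      · intro hσd
        have hσd' : σ a = d := hσd
        -- t (w a) = c
        have h1 : t (w a) = c := by
          have := congrArg w hσd'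
          simpa [σ, hwd] using this
        have h2 : w a = t c := by
          rw [← h1, ht]; simp
        have h3 : P.root (w a) = -P.root c := by
          rw [h2, ht, root_refl, P.pairing_same, two_smul]; abel
        have h4 : P.root a = -P.root d := by
          have : a = w⁻¹ (w a) := by simp
          rw [this, hW', h3, map_neg, ← hW']
        exact not_pos_and_neg P b hD (by rw [← h4]; exact hA)
    · have : θ a = a := by simp [θ, hpos]
      rw [this]
      have hn : 0 < P.pairing (w a) c := by
        by_contra hle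
        push Not at hle
        obtain ⟨k, hk⟩ := Int.eq_ofNat_of_zero_le (neg_nonneg.2 hle)
        apply hpos
        change P.root (σ a) ∈ C P b
        rw [hσroot, sub_eq_add_neg, ← neg_smul, hk, natCast_zsmul]
        exact (C P b).add_mem hA ((C P b).nsmul_mem hD k)
      obtain ⟨k, hk⟩ := Int.eq_ofNat_of_zero_le hn.le
      refine ⟨⟨hapos, ?_⟩, ?_⟩
      · change -P.root ((t * w) a) ∈ C P b
        rw [Equiv.Perm.mul_apply, htroot, neg_sub, sub_eq_add_neg, hk, natCast_zsmul]
        exact (C P b).add_mem ((C P b).nsmul_mem hC k) hA'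
      · intro had
        have had' : a = d := had
        rw [had', hwd] at hA'
        exact not_pos_and_neg P b hC hA'
  have hinj : Set.InjOn θ (Inv P b w) := by
    intro a₁ h₁ a₂ h₂ h
    by_cases hp1 : σ a₁ ∈ RedSub.posRoots P b <;> by_cases hp2 : σ a₂ ∈ RedSub.posRoots P b
    · have e1 : θ a₁ = σ a₁ := by simp [θ, hp1]
      have e2 : θ a₂ = σ a₂ := by simp [θ, hp2]
      rw [e1, e2] at h
      have := congrArg σ h
      rwa [hσσ, hσσ] at this
    · have e1 : θ a₁ = σ a₁ := by simp [θ, hp1]
      have e2 : θ a₂ = a₂ := by simp [θ, hp2]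
      rw [e1, e2] at h
      exfalso; apply hp2
      rw [← h, hσσ]; exact h₁.1
    · have e1 : θ a₁ = a₁ := by simp [θ, hp1]
      have e2 : θ a₂ = σ a₂ := by simp [θ, hp2]
      rw [e1, e2] at h
      exfalso; apply hp1
      rw [h, hσσ]; exact h₂.1
    · have e1 : θ a₁ = a₁ := by simp [θ, hp1]
      have e2 : θ a₂ = a₂ := by simp [θ, hp2]
      rw [e1, e2] at h
      exact h
  calc (Inv P b w).ncard ≤ (Inv P b (t * w) \ {d}).ncard :=
        Set.ncard_le_ncard_of_injOn θ hmaps hinj (Set.toFinite _)
    _ < (Inv P b (t * w)).ncard := Set.ncard_sdiff_singleton_lt_of_mem hdmem (Set.toFinite _)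

end Groth.Agent.Lib.Helper1.WeylInv
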