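import Groth.Agent.Lib.Helper1.FFFinal
import Groth.Agent.Lib.Helper3.InvGen
import Groth.Prelude.Def_ClSub2

/-!
# Zariski connectedness, part 1: sections of modules killed by a power of `I`
-/
set_option autoImplicit false
universe u
open CategoryTheory CategoryTheory.Limits AlgebraicGeometry Opposite TopologicalSpace
open Groth.Agent.Lib.Helper3 Groth.Agent.Lib.Helper3.QCSec Groth.Agent.Lib.Helper3.InvGen
open Formal

noncomputable section

namespace Groth.Agent.Lib.Helper1.ZC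

open FFIM

variable {A : Type u} [CommRing A] {X : Scheme.{u}} [X.Over (Spec (CommRingCat.of A))]

/-- the closed subset `V(I O_X)` of `X`. -/
def X0 (I : Ideal A) : Set X :=
  (X ↘ Spec (CommRingCat.of A)).base ⁻¹' (PrimeSpectrum.zeroLocus (I : Set A))

/-- the global function attached to `a : A`. -/
def gA (a : A) : Γ(X, ⊤) := Coh.toGlobal (X ↘ Spec (CommRingCat.of A)) a

lemma resA_eq (U : X.Opens) (a : A) : resA U a = rres X (le_top : U ≤ ⊤) (gA (X := X) a) := rfl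

lemma exists_unit_of_notMem_X0 (I : Ideal A) (x : X) (hx : x ∉ X0 (X := X) I) :
    ∃ a ∈ I, x ∈ X.basicOpen (gA (X := X) a) := by
  have h1 : ¬ ((I : Set A) ⊆ ((X ↘ Spec (CommRingCat.of A)).base x).asIdeal) := fun h =>
    hx ((PrimeSpectrum.mem_zeroLocus _ _).mpr h)
  obtain ⟨a, haI, ha⟩ := Set.not_subset.mp h1
  refine ⟨a, haI, ?_⟩
  have h2 : (X ↘ Spec (CommRingCat.of A)).base x ∈ PrimeSpectrum.basicOpen a := ha
  have h3 : x ∈ (X ↘ Spec (CommRingCat.of A)) ⁻¹ᵁ
      (Spec (CommRingCat.of A)).basicOpen ((Scheme.ΓSpecIso (CommRingCat.of A)).inv a) := by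
    rw [basicOpen_eq_of_affine (R := CommRingCat.of A) a]
    exact h2
  rw [Scheme.preimage_basicOpen] at h3
  exact h3

/-- sections of a module killed by a power of `I` vanish off `V(I O_X)`. -/
theorem sec_eq_zero_of_disjoint (I : Ideal A) (M : X.Modules) (k : ℕ)
    (hM : ∀ b ∈ I ^ k, smulMod A M b = 0) (V : X.Opens) (hV : Disjoint (V : Set X) (X0 I))
    (s : Γ(M, V)) : s = 0 := by
  have hloc : ∀ x : V, ∃ (W : X.Opens) (hW : W ≤ V), x.1 ∈ W ∧ res M hW s = 0 := by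
    intro x
    have hx : x.1 ∉ X0 (X := X) I := fun h => Set.disjoint_left.mp hV x.2 h
    obtain ⟨a, haI, hxa⟩ := exists_unit_of_notMem_X0 I x.1 hx
    refine ⟨V ⊓ X.basicOpen (gA a), inf_le_left, ⟨x.2, hxa⟩, ?_⟩
    have h1 : (smulMod A M (a ^ k)).app (V ⊓ X.basicOpen (gA a)) (res M inf_le_left s) = 0 := by
      rw [hM (a ^ k) (Ideal.pow_mem_pow haI k)]
      rfl
    rw [smulMod_app, resA_eq] at h1
    have hu : IsUnit (rres X (le_top : V ⊓ X.basicOpen (gA a) ≤ ⊤) (gA (X := X) (a ^ k))) := by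
      have h2 : gA (X := X) (a ^ k) = gA (X := X) a ^ k := map_pow _ a k
      rw [h2, rres_pow]
      apply IsUnit.pow
      have h3 := RingedSpace.isUnit_res_basicOpen X.toRingedSpace (gA (X := X) a)
      have h4 : rres X (le_top : V ⊓ X.basicOpen (gA a) ≤ ⊤) (gA (X := X) a) =
          rres X (inf_le_right : V ⊓ X.basicOpen (gA a) ≤ X.basicOpen (gA a))
            (rres X (le_top : X.basicOpen (gA a) ≤ ⊤) (gA (X := X) a)) := (rres_rres _ _ _).symm
      rw [h4]
      exact rres_isUnit _ h3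
    obtain ⟨c, hc⟩ := hu.exists_left_inv
    have h5 := congrArg (fun t => c • t) h1
    simp only [smul_zero] at h5
    rw [← mul_smul, hc, one_smul] at h5
    exact h5
  choose W hW hxW hres using hloc
  have := sec_eq_of_locally_eq M W V hW (fun x hx => Opens.mem_iSup.mpr ⟨⟨x, hx⟩, hxW _⟩)
    s 0 (fun i => by rw [hres i, res_zero])
  exact this

omit [X.Over (Spec (CommRingCat.of A))] in
/-- gluing over a cover by two opens whose intersection carries no sections. -/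
theorem exists_glue₂ (M : X.Modules) (U₁ U₂ : X.Opens) (hcov : U₁ ⊔ U₂ = ⊤)
    (h0 : ∀ V : X.Opens, V ≤ U₁ → V ≤ U₂ → ∀ s : Γ(M, V), s = 0)
    (s₁ : Γ(M, U₁)) (s₂ : Γ(M, U₂)) :
    ∃ s : Γ(M, ⊤), res M le_top s = s₁ ∧ res M le_top s = s₂ := by
  let W : ULift.{u} Bool → X.Opens := fun i => Bool.rec U₂ U₁ i.down
  let a : ∀ i, Γ(M, W i) := fun i => match i with
    | ⟨true⟩ => s₁
    | ⟨false⟩ => s₂
  have hc : (⊤ : X.Opens) ≤ ⨆ i, W i := by
    rw [← hcov]
    apply sup_le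
    · exact le_iSup W ⟨true⟩
    · exact le_iSup W ⟨false⟩
  obtain ⟨b, hb⟩ := sec_glue M W ⊤ (fun _ => le_top) hc a (by
    rintro ⟨i⟩ ⟨j⟩
    cases i <;> cases j
    · rfl
    · rw [h0 (W ⟨false⟩ ⊓ W ⟨true⟩) inf_le_right inf_le_left (res M _ (a ⟨false⟩)),
        h0 (W ⟨false⟩ ⊓ W ⟨true⟩) inf_le_right inf_le_left (res M _ (a ⟨true⟩))]
    · rw [h0 (W ⟨true⟩ ⊓ W ⟨false⟩) inf_le_left inf_le_right (res M _ (a ⟨false⟩)),
        h0 (W ⟨true⟩ ⊓ W ⟨false⟩) inf_le_left inf_le_right (res M _ (a ⟨true⟩))]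
    · rfl)
  exact ⟨b, hb ⟨true⟩, hb ⟨false⟩⟩

omit [X.Over (Spec (CommRingCat.of A))] in
theorem eq_of_res₂ (M : X.Modules) (U₁ U₂ : X.Opens) (hcov : U₁ ⊔ U₂ = ⊤)
    (s t : Γ(M, ⊤)) (h₁ : res M (le_top : U₁ ≤ ⊤) s = res M le_top t)
    (h₂ : res M (le_top : U₂ ≤ ⊤) s = res M le_top t) : s = t := by
  let W : ULift.{u} Bool → X.Opens := fun i => Bool.rec U₂ U₁ i.down
  have hc : (⊤ : X.Opens) ≤ ⨆ i, W i := by
    rw [← hcov]
    apply sup_le
    · exact le_iSup W ⟨true⟩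
    · exact le_iSup W ⟨false⟩
  refine sec_eq_of_locally_eq M W ⊤ (fun _ => le_top) hc s t ?_
  rintro ⟨i⟩
  cases i
  · exact h₂
  · exact h₁

/-- detection: if `g : O ⟶ N` with `N` killed by `I` and `g(1)` nonzero near `x`, then for `b` a
unit at `x`, the class of `b` in `O/IO` is nonzero on every neighbourhood of `x`. -/
theorem π_ne_zero_of_test (I : Ideal A) (N : X.Modules) (hN : ∀ a ∈ I, smulMod A N a = 0)
    (g : Coh.structureModule X ⟶ N) (x : X)
    (hg : ∀ U : X.Opens, x ∈ U → g.app U (ofFun U 1) ≠ 0)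
    (U : X.Opens) (b : Γ(X, U)) (hb : x ∈ X.basicOpen b) :
    (modPowπ I 1 (Coh.structureModule X)).app U (ofFun U b) ≠ 0 := by
  intro h0
  have hcond : smulFamily (I ^ 1) (Coh.structureModule X) ≫ g = 0 := by
    apply Sigma.hom_ext
    intro a
    have e : Sigma.ι (fun _ : ↥(I ^ 1) => Coh.structureModule X) a ≫
        smulFamily (I ^ 1) (Coh.structureModule X) = smulMod A (Coh.structureModule X) (a : A) := by
      simp [smulFamily]
    rw [← Category.assoc, e, comp_zero, ← smulMod_naturality, hN _ (by simpa using a.2), comp_zero]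
  let gbar : modPow I 1 (Coh.structureModule X) ⟶ N :=
    cokernel.desc (smulFamily (I ^ 1) (Coh.structureModule X)) g hcond
  have hfac : modPowπ I 1 (Coh.structureModule X) ≫ gbar = g := cokernel.π_desc _ _ _
  have hle : X.basicOpen b ≤ U := X.basicOpen_le b
  have hu : IsUnit (rres X hle b) := RingedSpace.isUnit_res_basicOpen X.toRingedSpace b
  obtain ⟨c, hc⟩ := hu.exists_left_inv
  have h1 : ofFun (X.basicOpen b) (1 : Γ(X, X.basicOpen b)) =
      c • res (Coh.structureModule X) hle (ofFun U b) := by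
    rw [res_ofFun, smul_ofFun, hc]
  have h2 : (modPowπ I 1 (Coh.structureModule X)).app (X.basicOpen b)
      (ofFun (X.basicOpen b) 1) = 0 := by
    rw [h1, Scheme.Modules.Hom.app_smul, QCExact.app_res', h0, res_zero, smul_zero]
  apply hg (X.basicOpen b) hb
  rw [← hfac, FFCoh.app_comp_apply, h2]
  exact map_zero _

section test

variable {Z : Scheme.{u}} (i : Z ⟶ X) (I : Ideal A)

lemma smulMod_push_eq_zero (hI : ∀ a ∈ I, i.appTop.hom (gA (X := X) a) = 0) (a : A) (ha : a ∈ I) :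
    smulMod A ((Scheme.Modules.pushforward i).obj (Coh.structureModule Z)) a = 0 := by
  apply Scheme.Modules.hom_ext
  intro U
  ext m
  change (smulMod A ((Scheme.Modules.pushforward i).obj (Coh.structureModule Z)) a).app U m = 0
  rw [smulMod_app, resA_eq]
  have h1 : (i.app U).hom (rres X (le_top : U ≤ ⊤) (gA (X := X) a)) = 0 := by
    have hnat := congrArg (fun φ => φ.hom (gA (X := X) a)) (i.naturality (homOfLE (le_top : U ≤ ⊤)).op)
    have h2 : (i.app U).hom (rres X (le_top : U ≤ ⊤) (gA (X := X) a)) =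
        (Z.presheaf.map (homOfLE (show i ⁻¹ᵁ U ≤ i ⁻¹ᵁ ⊤ from le_top)).op).hom
          (i.appTop.hom (gA (X := X) a)) := hnat
    rw [h2, hI a ha]
    exact map_zero _
  change (i.app U).hom (rres X (le_top : U ≤ ⊤) (gA (X := X) a)) • (show Γ(Z, i ⁻¹ᵁ U) from m) = 0
  rw [h1, zero_smul]

omit [X.Over (Spec (CommRingCat.of A))] in
lemma unitToPush_one_ne_zero (z : Z) (U : X.Opens) (hz : i z ∈ U) :
    (ClSub.unitToPush i).app U (ofFun U 1) ≠ 0 := by
  haveI : Nonempty (i ⁻¹ᵁ U) := ⟨⟨z, hz⟩⟩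
  have h1 : (ClSub.unitToPush i).app U (ofFun U 1) = (show Γ(Z, i ⁻¹ᵁ U) from 1) :=
    map_one (i.app U).hom
  rw [h1]
  exact one_ne_zero (α := Γ(Z, i ⁻¹ᵁ U))

end test

end Groth.Agent.Lib.Helper1.ZC
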