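import Groth.Agent.Lib.Helper1.ZC1
import Groth.Agent.Lib.Helper24.ClopenIdem

/-!
# Zariski connectedness, part 2: lifting a clopen decomposition of `V(I O_X)` (complete base)
-/
set_option autoImplicit false
universe u
open CategoryTheory CategoryTheory.Limits AlgebraicGeometry Opposite TopologicalSpace
open Groth.Agent.Lib.Helper3 Groth.Agent.Lib.Helper3.QCSec Groth.Agent.Lib.Helper3.InvGen
open Formal

noncomputable section

namespace Groth.Agent.Lib.Helper1.ZC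

open FFIM

variable {A : Type u} [CommRing A] {X : Scheme.{u}} [X.Over (Spec (CommRingCat.of A))]

/-- `H⁰` and global sections. -/
abbrev h0Equiv (M : X.Modules) : Coh.HH X M 0 ≃+ Γ(M, ⊤) :=
  Sheaf.H.equiv₀ (Coh.toAb M) (isTerminalTop : IsTerminal (⊤ : X.Opens))

lemma h0Equiv_naturality {M N : X.Modules} (φ : M ⟶ N) (x : Coh.HH X M 0) :
    h0Equiv N (Sheaf.H.map ((SheafOfModules.toSheaf _).map φ) 0 x) = φ.app ⊤ (h0Equiv M x) :=
  (Sheaf.H.equiv₀_naturality (isTerminalTop : IsTerminal (⊤ : X.Opens))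
    ((SheafOfModules.toSheaf _).map φ) x).symm

lemma h0Equiv_symm_naturality {M N : X.Modules} (φ : M ⟶ N) (s : Γ(M, ⊤)) :
    Sheaf.H.map ((SheafOfModules.toSheaf _).map φ) 0 ((h0Equiv M).symm s) =
      (h0Equiv N).symm (φ.app ⊤ s) :=
  Sheaf.H.equiv₀_symm_naturality (isTerminalTop : IsTerminal (⊤ : X.Opens))
    ((SheafOfModules.toSheaf _).map φ) s

section main

variable [IsNoetherianRing A] (I : Ideal A) [IsAdicComplete I A]
  [IsProper (X ↘ Spec (CommRingCat.of A))]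

local notation "𝒪" => Coh.structureModule X

omit [IsNoetherianRing A] [IsAdicComplete I A] [IsProper (X ↘ Spec (CommRingCat.of A))] in
lemma π_app_smul (n : ℕ) (U : X.Opens) (b c : Γ(X, U)) :
    (modPowπ I n 𝒪).app U (ofFun U (b * c)) = b • (modPowπ I n 𝒪).app U (ofFun U c) := by
  rw [← smul_ofFun, Scheme.Modules.Hom.app_smul]

theorem exists_idem (T₁ T₂ : Set X) (h₁ : IsClosed T₁) (h₂ : IsClosed T₂)
    (hdisj : Disjoint T₁ T₂) (hunion : T₁ ∪ T₂ = X0 I) :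
    ∃ b : Γ(X, ⊤), b * b = b ∧
      (modPowπ I 1 𝒪).app ⟨T₁ᶜ, h₁.isOpen_compl⟩
        (ofFun _ (rres X (le_top : (⟨T₁ᶜ, h₁.isOpen_compl⟩ : X.Opens) ≤ ⊤) b)) = 0 ∧
      (modPowπ I 1 𝒪).app ⟨T₂ᶜ, h₂.isOpen_compl⟩
        (ofFun _ (rres X (le_top : (⟨T₂ᶜ, h₂.isOpen_compl⟩ : X.Opens) ≤ ⊤) (1 - b))) = 0 := by
  have hO : Coh.IsCoh 𝒪 := ⟨inferInstance, inferInstance⟩
  let U₁ : X.Opens := ⟨T₂ᶜ, h₂.isOpen_compl⟩
  let U₂ : X.Opens := ⟨T₁ᶜ, h₁.isOpen_compl⟩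
  have hcov : U₁ ⊔ U₂ = ⊤ := by
    apply le_antisymm le_top
    intro x _
    by_cases hx : x ∈ T₂
    · exact Or.inr (fun hx1 => Set.disjoint_left.mp hdisj hx1 hx)
    · exact Or.inl hx
  have h0 : ∀ n, ∀ V : X.Opens, V ≤ U₁ → V ≤ U₂ → ∀ s : Γ(modPow I (n + 1) 𝒪, V), s = 0 := by
    intro n V hV₁ hV₂ s
    refine sec_eq_zero_of_disjoint I _ (n + 1) (smulMod_modPow I 𝒪 (n + 1)) V ?_ s
    rw [Set.disjoint_left]
    intro x hxV hx0
    rw [← hunion] at hx0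
    rcases hx0 with hx | hx
    · exact hV₂ hxV hx
    · exact hV₁ hxV hx
  have hex : ∀ n, ∃ s : Γ(modPow I (n + 1) 𝒪, ⊤),
      res _ (le_top : U₁ ≤ ⊤) s =
        res _ (le_top : U₁ ≤ ⊤) ((modPowπ I (n + 1) 𝒪).app ⊤ (ofFun ⊤ 1)) ∧
      res _ (le_top : U₂ ≤ ⊤) s = 0 := fun n => exists_glue₂ _ U₁ U₂ hcov (h0 n) _ _
  choose e he₁ he₂ using hex
  -- compatibility
  have hcompat : ∀ n, (modPowTrans I (n + 1) 𝒪).app ⊤ (e (n + 1)) = e n := by
    intro n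
    apply eq_of_res₂ _ U₁ U₂ hcov
    · rw [← QCExact.app_res', he₁, QCExact.app_res', ← FFCoh.app_comp_apply, modPowπ_trans, he₁]
    · rw [← QCExact.app_res', he₂, he₂]
      exact map_zero _
  let y : ∀ n, HHmodPow I 𝒪 0 n := fun n => (h0Equiv (modPow I (n + 1) 𝒪)).symm (e n)
  have hy : y ∈ HHlim I 𝒪 0 := by
    intro n
    change HHmodPowTrans I 𝒪 0 n (y (n + 1)) = y n
    unfold HHmodPowTrans
    rw [h0Equiv_symm_naturality, hcompat]
  obtain ⟨β, hβ⟩ := (FFFinal.s0003 A I 𝒪 0 hO).2 ⟨y, hy⟩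
  obtain ⟨b, hbdef⟩ : ∃ b : Γ(X, ⊤), b = toFun ⊤ (h0Equiv 𝒪 β) := ⟨_, rfl⟩
  have hb : ∀ n, (modPowπ I (n + 1) 𝒪).app ⊤ (ofFun ⊤ b) = e n := by
    intro n
    have h1 : toHHmodPow I 𝒪 0 n β = y n := congrArg (fun z => z.1 n) hβ
    have h2 := h0Equiv_naturality (modPowπ I (n + 1) 𝒪) β
    rw [hbdef]
    change (modPowπ I (n + 1) 𝒪).app ⊤ (h0Equiv 𝒪 β) = e n
    rw [← h2]
    change h0Equiv _ (toHHmodPow I 𝒪 0 n β) = e n
    rw [h1]
    exact AddEquiv.apply_symm_apply _ _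
  have hbe : ∀ n, b • e n = e n := by
    intro n
    apply eq_of_res₂ _ U₁ U₂ hcov
    · rw [res_smul, he₁, ← res_smul, ← π_app_smul, mul_one, hb]
      exact he₁ n
    · rw [res_smul, he₂, smul_zero]
  have hidem : b * b = b := by
    have h1 : (h0Equiv 𝒪).symm (ofFun ⊤ (b * b - b)) = 0 := by
      apply (FFFinal.s0003 A I 𝒪 0 hO).1
      rw [map_zero]
      apply Subtype.ext
      funext n
      change toHHmodPow I 𝒪 0 n _ = 0
      unfold toHHmodPow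
      rw [h0Equiv_symm_naturality]
      have h2 : (modPowπ I (n + 1) 𝒪).app ⊤ (ofFun ⊤ (b * b - b)) = 0 := by
        have h3 : ofFun ⊤ (b * b - b) = ofFun (X := X) ⊤ (b * b) - ofFun ⊤ b := rfl
        rw [h3, map_sub, π_app_smul, hb, hbe, sub_self]
      rw [h2, map_zero]
    have h4 : ofFun (X := X) ⊤ (b * b - b) = 0 := by
      have := congrArg (h0Equiv 𝒪) h1
      rw [AddEquiv.apply_symm_apply, map_zero] at this
      exact this
    exact sub_eq_zero.mp (ofFun_injective ⊤ h4)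
  refine ⟨b, hidem, ?_, ?_⟩
  · change (modPowπ I 1 𝒪).app U₂ (ofFun U₂ (rres X (le_top : U₂ ≤ ⊤) b)) = 0
    rw [← res_ofFun, QCExact.app_res']
    have := hb 0
    rw [this, he₂]
  · change (modPowπ I 1 𝒪).app U₁ (ofFun U₁ (rres X (le_top : U₁ ≤ ⊤) (1 - b))) = 0
    rw [← res_ofFun, QCExact.app_res']
    have h3 : ofFun ⊤ (1 - b) = ofFun (X := X) ⊤ 1 - ofFun ⊤ b := rfl
    rw [h3, map_sub, res_sub]
    have := hb 0
    rw [this, he₁, sub_self]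

end main

end Groth.Agent.Lib.Helper1.ZC
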