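import Groth.Agent.Lib.Helper1.ZC2
import Groth.Agent.Lib.Helper15.NoethTop

/-!
# Zariski connectedness, part 3: connected components of a proper scheme over a complete base
-/
set_option autoImplicit false
universe u
open CategoryTheory CategoryTheory.Limits AlgebraicGeometry Opposite TopologicalSpace
open Groth.Agent.Lib.Helper3 Groth.Agent.Lib.Helper3.QCSec Groth.Agent.Lib.Helper3.InvGen
open Formal

noncomputable section

namespace Groth.Agent.Lib.Helper1.ZC

open FFIM

variable {A : Type u} [CommRing A] {X : Scheme.{u}} [X.Over (Spec (CommRingCat.of A))]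

section main

variable [IsNoetherianRing A] (I : Ideal A) [IsAdicComplete I A]
  [IsProper (X ↘ Spec (CommRingCat.of A))]

local notation "𝒪" => Coh.structureModule X

theorem exists_clopen (T₁ T₂ : Set X) (h₁ : IsClosed T₁) (h₂ : IsClosed T₂)
    (hdisj : Disjoint T₁ T₂) (hunion : T₁ ∪ T₂ = X0 I)
    (htest : ∀ x ∈ X0 (X := X) I, ∃ (N : X.Modules) (g : 𝒪 ⟶ N),
      (∀ a ∈ I, smulMod A N a = 0) ∧ ∀ U : X.Opens, x ∈ U → g.app U (ofFun U 1) ≠ 0) :
    ∃ W : Set X, IsClopen W ∧ T₁ ⊆ W ∧ Disjoint T₂ W := by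
  obtain ⟨b, hidem, hb₂, hb₁⟩ := exists_idem I T₁ T₂ h₁ h₂ hdisj hunion
  refine ⟨X.basicOpen b, Groth.Agent.Lib.Helper24.ClopenIdem.isClopen_basicOpen (Y := X) (e := b) hidem, ?_, ?_⟩
  · intro x hx
    by_contra hxb
    have hx0 : x ∈ X0 (X := X) I := hunion ▸ Or.inl hx
    obtain ⟨N, g, hN, hg⟩ := htest x hx0
    have hxU : x ∈ (⟨T₂ᶜ, h₂.isOpen_compl⟩ : X.Opens) := fun h => Set.disjoint_left.mp hdisj hx h
    have hx1 : x ∈ X.basicOpen (1 - b) := by
      rw [X.mem_basicOpen_top]
      rw [SetLike.mem_coe, X.mem_basicOpen_top] at hxb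
      have := IsLocalRing.isUnit_or_isUnit_one_sub_self (X.presheaf.germ ⊤ x trivial b)
      rcases this with h | h
      · exact absurd h hxb
      · rw [map_sub, map_one]
        exact h
    refine π_ne_zero_of_test I N hN g x hg _ _ ?_ hb₁
    rw [Scheme.basicOpen_res]
    exact ⟨hxU, hx1⟩
  · rw [Set.disjoint_left]
    intro x hx hxb
    have hx0 : x ∈ X0 (X := X) I := hunion ▸ Or.inr hx
    obtain ⟨N, g, hN, hg⟩ := htest x hx0
    have hxU : x ∈ (⟨T₁ᶜ, h₁.isOpen_compl⟩ : X.Opens) := fun h => Set.disjoint_left.mp hdisj h hx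
    refine π_ne_zero_of_test I N hN g x hg _ _ ?_ hb₂
    rw [Scheme.basicOpen_res]
    exact ⟨hxU, hxb⟩

end main

section pb

variable (A : Type u) [CommRing A] (I : Ideal A)
  {X : Scheme.{u}} (f : X ⟶ Spec (CommRingCat.of A))

/-- the closed fibre `X ×_A A/I`. -/
abbrev Xz : Scheme.{u} := pullback f (Spec.map (CommRingCat.ofHom (Ideal.Quotient.mk I)))

/-- its closed immersion into `X`. -/
abbrev iz : Xz A I f ⟶ X := pullback.fst f (Spec.map (CommRingCat.ofHom (Ideal.Quotient.mk I)))

lemma range_iz :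
    letI : X.Over (Spec (CommRingCat.of A)) := ⟨f⟩
    Set.range (iz A I f).base = X0 (X := X) I := by
  letI : X.Over (Spec (CommRingCat.of A)) := ⟨f⟩
  have h1 := Scheme.Pullback.range_fst f (Spec.map (CommRingCat.ofHom (Ideal.Quotient.mk I)))
  have h2 : Set.range (Spec.map (CommRingCat.ofHom (Ideal.Quotient.mk I))).base =
      PrimeSpectrum.zeroLocus (I : Set A) := by
    have := _root_.range_comap_of_surjective (A ⧸ I) (Ideal.Quotient.mk I)
      Ideal.Quotient.mk_surjective
    rw [Ideal.mk_ker] at this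
    exact this
  rw [h2] at h1
  exact h1

lemma appTop_gA (a : A) (ha : a ∈ I) :
    letI : X.Over (Spec (CommRingCat.of A)) := ⟨f⟩
    (iz A I f).appTop.hom (gA (X := X) a) = 0 := by
  letI : X.Over (Spec (CommRingCat.of A)) := ⟨f⟩
  have hcond : iz A I f ≫ f =
      pullback.snd f (Spec.map (CommRingCat.ofHom (Ideal.Quotient.mk I))) ≫
        Spec.map (CommRingCat.ofHom (Ideal.Quotient.mk I)) := pullback.condition
  have h1 : (iz A I f).appTop.hom (gA (X := X) a) =
      (iz A I f ≫ f).appTop.hom ((Scheme.ΓSpecIso (CommRingCat.of A)).inv.hom a) := by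
    rw [Scheme.Hom.comp_appTop]
    rfl
  rw [h1, hcond, Scheme.Hom.comp_appTop]
  have h2 : (Spec.map (CommRingCat.ofHom (Ideal.Quotient.mk I))).appTop.hom
      ((Scheme.ΓSpecIso (CommRingCat.of A)).inv.hom a) =
      (Scheme.ΓSpecIso (CommRingCat.of (A ⧸ I))).inv.hom (Ideal.Quotient.mk I a) := by
    have := congrArg (fun φ => φ.hom a)
      (Scheme.ΓSpecIso_inv_naturality (CommRingCat.ofHom (Ideal.Quotient.mk I)))
    exact this.symm
  change (pullback.snd f _).appTop.hom
    ((Spec.map (CommRingCat.ofHom (Ideal.Quotient.mk I))).appTop.hom _) = 0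
  rw [h2, Ideal.Quotient.eq_zero_iff_mem.mpr ha, map_zero, map_zero]

end pb

section final

variable (A : Type u) [CommRing A] [IsNoetherianRing A] (I : Ideal A) [IsAdicComplete I A]
  {X : Scheme.{u}} (f : X ⟶ Spec (CommRingCat.of A)) [IsProper f]

instance : IsClosedImmersion (Spec.map (CommRingCat.ofHom (Ideal.Quotient.mk I))) :=
  IsClosedImmersion.spec_of_surjective _ Ideal.Quotient.mk_surjective

theorem exists_clopen_lift (Z : Set (Xz A I f)) (hZ : IsClopen Z) :
    ∃ W : Set X, IsClopen W ∧ (iz A I f).base ⁻¹' W = Z := by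
  letI : X.Over (Spec (CommRingCat.of A)) := ⟨f⟩
  haveI : IsProper (X ↘ Spec (CommRingCat.of A)) := ‹IsProper f›
  have hemb : Topology.IsClosedEmbedding (iz A I f).base := (iz A I f).isClosedEmbedding
  obtain ⟨W, hW, h1, h2⟩ := exists_clopen I ((iz A I f).base '' Z) ((iz A I f).base '' Zᶜ)
    (hemb.isClosedMap _ hZ.isClosed) (hemb.isClosedMap _ hZ.compl.isClosed)
    ((Set.disjoint_image_iff hemb.injective).mpr disjoint_compl_right)
    (by rw [← Set.image_union, Set.union_compl_self, Set.image_univ]; exact range_iz A I f)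
    (by
      intro x hx
      rw [← range_iz A I f] at hx
      obtain ⟨z, rfl⟩ := hx
      exact ⟨(Scheme.Modules.pushforward (iz A I f)).obj (Coh.structureModule (Xz A I f)),
        ClSub.unitToPush (iz A I f),
        smulMod_push_eq_zero (iz A I f) I (appTop_gA A I f),
        fun U hU => unitToPush_one_ne_zero (iz A I f) z U hU⟩)
  refine ⟨W, hW, ?_⟩
  ext z
  constructor
  · intro hz
    by_contra hzZ
    exact Set.disjoint_left.mp h2 ⟨z, hzZ, rfl⟩ hz
  · intro hz
    exact h1 ⟨z, hz, rfl⟩

theorem connectedComponentsMap_bijective :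
    Function.Bijective (Continuous.connectedComponentsMap (iz A I f).continuous) := by
  have hemb : Topology.IsClosedEmbedding (iz A I f).base := (iz A I f).isClosedEmbedding
  haveI : IsLocallyNoetherian X := LocallyOfFiniteType.isLocallyNoetherian f
  haveI : CompactSpace X := QuasiCompact.compactSpace_of_compactSpace f
  haveI : IsNoetherian X := {}
  haveI : NoetherianSpace (Xz A I f) := hemb.isInducing.noetherianSpace
  constructor
  · intro c c' h
    obtain ⟨z, rfl⟩ := ConnectedComponents.surjective_coe c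
    obtain ⟨z', rfl⟩ := ConnectedComponents.surjective_coe c'
    rw [Continuous.connectedComponentsMap_mk, Continuous.connectedComponentsMap_mk] at h
    obtain ⟨W, hW, hWZ⟩ := exists_clopen_lift A I f (connectedComponent z)
      ⟨isClosed_connectedComponent,
        Groth.Agent.Lib.Helper15.NT.isOpen_connectedComponent_of_noetherianSpace z⟩
    have h1 : (iz A I f).base z ∈ W := by
      have : z ∈ (iz A I f).base ⁻¹' W := hWZ ▸ mem_connectedComponent
      exact this
    have h2 : (iz A I f).base z' ∈ connectedComponent ((iz A I f).base z) :=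
      ConnectedComponents.coe_eq_coe'.mp h.symm
    have h3 : (iz A I f).base z' ∈ W := hW.connectedComponent_subset h1 h2
    have h4 : z' ∈ connectedComponent z := by
      rw [← hWZ]
      exact h3
    exact (ConnectedComponents.coe_eq_coe'.mpr h4).symm
  · intro c
    obtain ⟨x, rfl⟩ := ConnectedComponents.surjective_coe c
    letI : X.Over (Spec (CommRingCat.of A)) := ⟨f⟩
    have hcl : IsClosed (f.base '' connectedComponent x) :=
      f.isClosedMap _ isClosed_connectedComponent
    -- a maximal ideal in the image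
    obtain ⟨m, hm, hpm⟩ := Ideal.exists_le_maximal (f.base x).asIdeal (f.base x).2.ne_top
    let pm : PrimeSpectrum A := ⟨m, hm.isPrime⟩
    have hspec : f.base x ⤳ pm := (PrimeSpectrum.le_iff_specializes (f.base x) pm).mp hpm
    have hmem : pm ∈ f.base '' connectedComponent x :=
      hspec.mem_closed hcl ⟨x, mem_connectedComponent, rfl⟩
    obtain ⟨x', hx'C, hx'⟩ := hmem
    have hx0 : x' ∈ X0 (X := X) I := by
      change f.base x' ∈ PrimeSpectrum.zeroLocus (I : Set A)
      rw [hx']
      exact (PrimeSpectrum.mem_zeroLocus pm (I : Set A)).mpr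
        ((IsAdicComplete.le_jacobson_bot I).trans (sInf_le ⟨bot_le, hm⟩))
    rw [← range_iz A I f] at hx0
    obtain ⟨z, hz⟩ := hx0
    refine ⟨(z : _root_.ConnectedComponents (Xz A I f)), ?_⟩
    rw [Continuous.connectedComponentsMap_mk]
    change ((iz A I f).base z : _root_.ConnectedComponents X) = x
    rw [hz]
    exact ConnectedComponents.coe_eq_coe'.mpr hx'C

end final

end Groth.Agent.Lib.Helper1.ZC
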