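import Mathlib
import Groth.Prelude
import Groth.Agent.Lib.Helper7.GrowthC

/-!
# Zariski–Fujita, cohomological part (helper1)

For an effective Cartier divisor `D` on a proper `k`-scheme with `L ⊗ I_D ≅ O` and
`H¹(O_D ⊗ L^m) = 0` for `m ≫ 0`, the restriction maps `H⁰(X, L^m) → H⁰(X, O_D ⊗ L^m)` are
surjective for `m ≫ 0` (the dimensions `h¹(L^m)` are eventually non-increasing, hence stabilise).
-/

set_option autoImplicit false
set_option linter.unusedSectionVars false
set_option linter.style.haveILetI false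
universe u
open CategoryTheory CategoryTheory.Limits AlgebraicGeometry Opposite TopologicalSpace
open Scheme.Modules

namespace Groth.Agent.Lib.Helper1.ZarFujA

open Groth.Agent.Lib.Helper3 Groth.Agent.Lib.Helper3.InvMonoidal Groth.Agent.Lib.Helper3.InvTensor
open Groth.Agent.Lib.Helper3.InvGen
open Groth.Agent.Lib.Helper23 Groth.Agent.Lib.Helper23.HilbP Groth.Agent.Lib.Helper23.Snap
open Groth.Agent.Lib.Helper7.SnapFGA Groth.Agent.Lib.Helper7.TwFun
open Groth.Agent.Lib.Helper7.SecDeg Groth.Agent.Lib.Helper7.RegSec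
open Groth.Agent.Lib.Helper7.VolMono Groth.Agent.Lib.Helper7.GrowthA
open Groth.Agent.Lib.Helper7.GrowthB Groth.Agent.Lib.Helper7.GrowthC
open Groth.Agent.Lib.Helper17

/-- an eventually non-increasing sequence of natural numbers is eventually constant. -/
theorem exists_stable (h : ℕ → ℕ) : ∀ (n m₀ : ℕ), h m₀ ≤ n →
    (∀ m, m₀ ≤ m → h (m + 1) ≤ h m) →
    ∃ m₁, m₀ ≤ m₁ ∧ ∀ m, m₁ ≤ m → h (m + 1) = h m := by
  intro n
  induction n using Nat.strong_induction_on with
  | _ n ih =>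
    intro m₀ hn hmono
    by_cases hall : ∀ m, m₀ ≤ m → h (m + 1) = h m
    · exact ⟨m₀, le_rfl, hall⟩
    · push Not at hall
      obtain ⟨m, hm, hne⟩ := hall
      have hanti : ∀ j, h (m₀ + j) ≤ h m₀ := by
        intro j
        induction j with
        | zero => simp
        | succ j ihj => exact (hmono (m₀ + j) (by omega)).trans ihj
      have h1 : h (m + 1) < h m := lt_of_le_of_ne (hmono m hm) hne
      have h2 : h m ≤ h m₀ := by
        obtain ⟨j, rfl⟩ := Nat.exists_eq_add_of_le hm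
        exact hanti j
      obtain ⟨m₁, hm₁, hst⟩ := ih (h (m + 1)) (by omega) (m + 1) le_rfl
        (fun m' hm' => hmono m' (by omega))
      exact ⟨m₁, by omega, hst⟩

section LES

variable {X : Scheme.{u}}

/-- if `H¹(f)` is injective, global sections of the middle term surject onto those of the
quotient. -/
theorem surjective_app_top_of_H1_injective (S : ShortComplex X.Modules) (hS : S.ShortExact)
    (hinj : Function.Injective (T2.Hmap S.f 1)) : Function.Surjective (S.g.app ⊤) := by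
  intro y
  let x₃ : Coh.HH X S.X₃ 0 := (T2.H0equiv S.X₃).symm y
  have h0 : T2.Hδ S hS 0 x₃ = 0 := by
    apply hinj
    exact (T2.Hmap_f_Hδ S hS 0 x₃).trans (map_zero _).symm
  obtain ⟨x₂, hx₂⟩ := T2.exact₃ S hS 0 x₃ h0
  refine ⟨T2.H0equiv S.X₂ x₂, ?_⟩
  have h := T2.H0equiv_naturality S.g x₂
  rw [hx₂] at h
  exact h.symm.trans ((T2.H0equiv S.X₃).apply_symm_apply y)

end LES

theorem exists_surjective (k : Type u) [Field k] (X : Scheme.{u})
    [X.Over (Spec (CommRingCat.of k))] [IsProper (X ↘ Spec (CommRingCat.of k))]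
    (D : X.IdealSheafData) (L : X.Modules) (hL : PicF.IsInvertible L)
    (hI : PicF.IsInvertible (ClSub.idealMod D))
    (e : CohB1.tensorMod L (ClSub.idealMod D) ≅ Coh.structureModule X)
    (hvan : ∃ m₀ : ℕ, ∀ m, m₀ ≤ m →
      Subsingleton (Coh.HH X (CohB1.tensorMod (ClSub.quotMod D) (CohB1.tensorPow L m)) 1)) :
    ∃ m₁ : ℕ, ∀ m, m₁ ≤ m →
      Function.Surjective
        (((twR (CohB1.tensorPow L m)).map (ClSub.toSubscheme D)).app ⊤) := by
  haveI : IsNoetherian X := isNoetherian_of_isProper k X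
  obtain ⟨m₀, hm₀⟩ := hvan
  have coh : ∀ {M : X.Modules}, PicF.IsInvertible M → Coh.IsCoh M := fun hM =>
    ⟨InvCoh.isQuasicoherent_of_isInvertible hM, InvCoh.isFiniteType_of_isInvertible hM⟩
  have hO := T2.isCoh_structureModule X
  have hID := coh hI
  let S : ShortComplex X.Modules := ShortComplex.mk (ClSub.idealModι D) (ClSub.toSubscheme D)
    (kernel.condition (ClSub.toSubscheme D))
  have hS : S.ShortExact := EffCart.shortExact_ideal D
  let Sm : ℕ → ShortComplex X.Modules := fun m => S.map (twR (CohB1.tensorPow L m))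
  have hSm : ∀ m : ℕ, (Sm m).ShortExact := fun m => shortExact_twist X hL S hS m
  let h : ℕ → ℕ := fun m => Module.finrank k (Coh.HH X (CohB1.tensorPow L m) 1)
  let a : ∀ m : ℕ, CohB1.tensorMod (ClSub.idealMod D) (CohB1.tensorPow L (m + 1)) ≅
      CohB1.tensorPow L m := fun m =>
    braid _ _ ≪≫ assoc (CohB1.tensorPow L m) L (ClSub.idealMod D) ≪≫
      tensorMapIso (Iso.refl _) e ≪≫ SecTwist.unitorR _
  have hX3 : ∀ m, m₀ ≤ m → Subsingleton (Coh.HH X (Sm m).X₃ 1) := fun m hm => hm₀ m hm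
  have hfin1 : ∀ m : ℕ, Module.Finite k (Coh.HH X (Sm m).X₁ 1) := fun m =>
    T2.finite_HH k _ (isCoh_twist X hL hID m) 1
  have hfin2 : ∀ m : ℕ, Module.Finite k (Coh.HH X (Sm m).X₂ 1) := fun m =>
    T2.finite_HH k _ (isCoh_twist X hL hO m) 1
  have hr1 : ∀ m : ℕ, Module.finrank k (Coh.HH X (Sm (m + 1)).X₁ 1) = h m :=
    fun m => (FBC.HmapEquivK k (a m) 1).finrank_eq
  have hr2 : ∀ m : ℕ, Module.finrank k (Coh.HH X (Sm m).X₂ 1) = h m :=
    fun m => (FBC.HmapEquivK k (unitorL (CohB1.tensorPow L m)) 1).finrank_eq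
  -- surjectivity of `H¹(f)` for large twists
  have hsurj : ∀ m, m₀ ≤ m → Function.Surjective (FBC.HmapK k (Sm m).f 1) := by
    intro m hm x
    obtain ⟨y, hy⟩ := T2.exact₂ (Sm m) (hSm m) 1 x (@Subsingleton.elim _ (hX3 m hm) _ _)
    exact ⟨y, hy⟩
  have hmono : ∀ m, m₀ ≤ m → h (m + 1) ≤ h m := by
    intro m hm
    haveI := hfin1 (m + 1)
    have := LinearMap.finrank_le_finrank_of_surjective (hsurj (m + 1) (by omega))
    rwa [hr1, hr2] at this
  obtain ⟨m₁, hm₁, hst⟩ := exists_stable h (h m₀) m₀ le_rfl hmono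
  refine ⟨m₁ + 1, fun m hm => ?_⟩
  obtain ⟨j, rfl⟩ : ∃ j, m = j + 1 := ⟨m - 1, by omega⟩
  have hj : m₁ ≤ j := by omega
  haveI := hfin1 (j + 1)
  haveI := hfin2 (j + 1)
  have heq : Module.finrank k (Coh.HH X (Sm (j + 1)).X₁ 1) =
      Module.finrank k (Coh.HH X (Sm (j + 1)).X₂ 1) := by
    rw [hr1, hr2, hst j hj]
  have hinjK : Function.Injective (FBC.HmapK k (Sm (j + 1)).f 1) :=
    (LinearMap.injective_iff_surjective_of_finrank_eq_finrank heq).mpr
      (hsurj (j + 1) (by omega))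
  exact surjective_app_top_of_H1_injective (Sm (j + 1)) (hSm (j + 1)) hinjK

end Groth.Agent.Lib.Helper1.ZarFujA
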