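import Mathlib
import Groth.Prelude
import Groth.Agent.Lib.Helper7.GrowthC
import Groth.Agent.Lib.Helper7.AmpleSerre
import Groth.Agent.Lib.Helper3.GlobGen
import Groth.Agent.Lib.Helper20.SpannedPush

/-!
# Zariski–Fujita: consequences of ampleness of `L|_D` seen on `X` (helper1)

For a closed subscheme `D` of a proper `k`-scheme `X` and an invertible `L` with `L|_D` ample:
`H¹(X, O_D ⊗ L^m) = 0` and `O_D ⊗ L^m` is spanned by global sections for `m ≫ 0`.
-/

set_option autoImplicit false
set_option linter.unusedSectionVars false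
set_option linter.style.haveILetI false
universe u
open CategoryTheory CategoryTheory.Limits AlgebraicGeometry Opposite TopologicalSpace
open Scheme.Modules

namespace Groth.Agent.Lib.Helper1.ZarFujB

open Groth.Agent.Lib.Helper3 Groth.Agent.Lib.Helper3.InvMonoidal Groth.Agent.Lib.Helper3.InvTensor
open Groth.Agent.Lib.Helper3.InvGen
open Groth.Agent.Lib.Helper23 Groth.Agent.Lib.Helper23.HilbP
open Groth.Agent.Lib.Helper7.SnapFGA Groth.Agent.Lib.Helper7.TwFun
open Groth.Agent.Lib.Helper17

/-- `O_D ⊗ L^m ≅ i_*(O_D ⊗ (L|_D)^m)`. -/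
noncomputable def quotTwistIso {X : Scheme.{u}} (J : X.IdealSheafData) (L : X.Modules)
    (hL : PicF.IsInvertible L) (m : ℕ) :
    CohB1.tensorMod (ClSub.quotMod J) (CohB1.tensorPow L m) ≅
      (Scheme.Modules.pushforward J.subschemeι).obj
        (CohB1.tensorMod (Coh.structureModule J.subscheme)
          (CohB1.tensorPow ((Scheme.Modules.pullback J.subschemeι).obj L) m)) :=
  Groth.Agent.Lib.Helper2.Mon.projIso J.subschemeι _ _ ≪≫
    (Scheme.Modules.pushforward J.subschemeι).mapIso
      (tensorMapIso (Iso.refl _) (PbTensor.pbPowIso J.subschemeι L hL m))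

theorem exists_isSpanned {X : Scheme.{u}} (J : X.IdealSheafData) [CompactSpace J.subscheme]
    [QuasiSeparatedSpace J.subscheme] (L : X.Modules)
    (hL : PicF.IsInvertible L)
    (hample : CohB1.IsAmple ((Scheme.Modules.pullback J.subschemeι).obj L)) :
    ∃ n₀ : ℕ, ∀ n, n₀ ≤ n →
      GlobGen.IsSpanned (CohB1.tensorMod (ClSub.quotMod J) (CohB1.tensorPow L n)) := by
  haveI : (Coh.structureModule J.subscheme).IsQuasicoherent :=
    (T2.isCoh_structureModule J.subscheme).1
  haveI : (Coh.structureModule J.subscheme).IsFiniteType :=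
    (T2.isCoh_structureModule J.subscheme).2
  obtain ⟨n₀, h⟩ := GlobGen.exists_isSpanned_twist hample (Coh.structureModule J.subscheme)
  refine ⟨n₀, fun n hn => ?_⟩
  haveI := InvCoh.isQuasicoherent_tensorMod (Coh.structureModule J.subscheme) _
    (isInvertible_tensorPow hample.1 n)
  exact GlobGen.IsSpanned.of_iso (quotTwistIso J L hL n).symm
    (Groth.Agent.Lib.Helper20.SpannedPush.isSpanned_pushforward J.subschemeι _ (h n hn))

theorem exists_vanishing (k : Type u) [Field k] (X : Scheme.{u})
    [X.Over (Spec (CommRingCat.of k))] [IsProper (X ↘ Spec (CommRingCat.of k))]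
    (J : X.IdealSheafData) (L : X.Modules) (hL : PicF.IsInvertible L)
    (hample : CohB1.IsAmple ((Scheme.Modules.pullback J.subschemeι).obj L)) :
    ∃ m₀ : ℕ, ∀ m, m₀ ≤ m →
      Subsingleton (Coh.HH X (CohB1.tensorMod (ClSub.quotMod J) (CohB1.tensorPow L m)) 1) := by
  letI : J.subscheme.Over (Spec (CommRingCat.of k)) :=
    ⟨J.subschemeι ≫ (X ↘ Spec (CommRingCat.of k))⟩
  have hov : J.subscheme ↘ Spec (CommRingCat.of k) =
      J.subschemeι ≫ (X ↘ Spec (CommRingCat.of k)) := rfl
  haveI : IsProper (J.subschemeι ≫ (X ↘ Spec (CommRingCat.of k))) := inferInstance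
  obtain ⟨m₀, h⟩ := Groth.Agent.Lib.Helper7.AmpleSerre.serre_vanishing_of_isAmple k
    (J.subschemeι ≫ (X ↘ Spec (CommRingCat.of k))) hample (Coh.structureModule J.subscheme)
    (T2.isCoh_structureModule J.subscheme)
  refine ⟨m₀, fun m hm => ?_⟩
  haveI := h m hm 1 Nat.one_pos
  have e1 := (T2.HmapEquiv (quotTwistIso J L hL m) 1).toEquiv
  have e2 := (Groth.Agent.Lib.Helper7.PushLinear.pushEquiv J.subschemeι
    (CohB1.tensorMod (Coh.structureModule J.subscheme)
      (CohB1.tensorPow ((Scheme.Modules.pullback J.subschemeι).obj L) m)) 1).toEquiv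
  exact (e1.trans e2.symm).subsingleton

end Groth.Agent.Lib.Helper1.ZarFujB
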